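import Cfsg.Agent.OddHalf.D6.QThree.Facts

/-!
# ODD half, D6, `q = 3`: transport of the facts along an isomorphism (helper618)
-/

set_option autoImplicit false

namespace Cfsg.Agent.OddHalf.D6.QThree.Facts

open Subgroup

variable {K L : Type*} [Group K] [Group L]

section

variable (e : K ≃* L)

theorem tr_comm {a b : K} : e a * e b = e b * e a ↔ a * b = b * a := by
  rw [← map_mul, ← map_mul, e.injective.eq_iff]

theorem tr_mem {R : Subgroup K} {x : K} : e x ∈ R.map e.toMonoidHom ↔ x ∈ R := by
  constructor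
  · rintro ⟨y, hy, h⟩
    have : y = x := e.injective h
    rwa [← this]
  · intro h
    exact ⟨x, h, rfl⟩

theorem tr_conj (a b : K) : e a * e b * (e a)⁻¹ = e (a * b * a⁻¹) := by
  rw [map_mul, map_mul, map_inv]

theorem tr_conj' (a b : K) : (e a)⁻¹ * e b * e a = e (a⁻¹ * b * a) := by
  rw [map_mul, map_mul, map_inv]

theorem tr_order (a : K) : orderOf (e a) = orderOf a :=
  orderOf_injective e.toMonoidHom e.injective a

/-- closures of sets given by a property -/
theorem tr_closure {p : K → Prop} {q : L → Prop} (h : ∀ x, p x ↔ q (e x)) {x : K} :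
    e x ∈ closure {y | q y} ↔ x ∈ closure {y | p y} := by
  have h1 : (closure {y | p y}).map e.toMonoidHom = closure {y | q y} := by
    rw [MonoidHom.map_closure]
    congr 1
    ext y
    constructor
    · rintro ⟨x, hx, rfl⟩
      exact (h x).1 hx
    · intro hy
      obtain ⟨x, rfl⟩ := e.surjective y
      exact ⟨x, (h x).2 hy, rfl⟩
  rw [← h1, tr_mem]

end

theorem Base.map {z : K} {R : Subgroup K} (h : Base z R) (e : K ≃* L) : Base (e z) (R.map e.toMonoidHom) where
  zz := by rw [← map_mul, h.zz, map_one]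
  z1 := fun h1 => h.z1 (e.injective (h1.trans (map_one e).symm))
  odd := by
    have h1 : centralizer ({e z} : Set L) = (centralizer ({z} : Set K)).map (e : K →* L) := by
      ext y
      obtain ⟨x, rfl⟩ := e.surjective y
      constructor
      · intro hx
        exact ⟨x, mem_centralizer_singleton_iff.2 ((tr_comm e).1 (mem_centralizer_singleton_iff.1 hx)), rfl⟩
      · intro hx
        have h2 : x ∈ centralizer ({z} : Set K) := (tr_mem e).1 hx
        exact mem_centralizer_singleton_iff.2 ((tr_comm e).2 (mem_centralizer_singleton_iff.1 h2))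
    rw [h1, index_map_equiv]
    exact h.odd
  zR := (tr_mem e).2 h.zR
  pR := h.pR.map _
  RP := by
    rintro _ ⟨r, hr, rfl⟩
    exact (tr_comm e).2 (h.RP r hr)
  nR := by
    rintro g hg _ ⟨r, hr, rfl⟩
    obtain ⟨g, rfl⟩ := e.surjective g
    have h1 := h.nR g ((tr_comm e).1 hg) r hr
    have h2 := tr_conj e g r
    exact h2 ▸ (tr_mem e).2 h1
  max := by
    intro N hN hNz hNn n hn
    obtain ⟨n, rfl⟩ := e.surjective n
    apply (tr_mem e).2
    refine h.max (N.comap e.toMonoidHom) (hN.comap_of_injective _ e.injective) ?_ ?_ hn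
    · intro m hm
      exact (tr_comm e).1 (hNz _ hm)
    · intro g hg m hm
      show e (g * m * g⁻¹) ∈ N
      rw [← tr_conj]
      exact hNn _ ((tr_comm e).2 hg) _ hm
  cR := by
    intro g hg hgR
    obtain ⟨g, rfl⟩ := e.surjective g
    rcases h.cR g ((tr_comm e).1 hg) (fun r hr => (tr_comm e).1 (hgR _ ((tr_mem e).2 hr))) with h1 | h1
    · left; rw [h1, map_one]
    · right; rw [h1]
  ab := by
    intro B hB hBc hBn b hb
    obtain ⟨b, rfl⟩ := e.surjective b
    rcases h.ab (B.comap e.toMonoidHom) (fun x hx => (tr_mem e).1 (hB hx))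
      (fun x hx y hy => (tr_comm e).1 (hBc _ hx _ hy)) (fun g hg x hx => by
        show e (g * x * g⁻¹) ∈ B
        rw [← tr_conj]
        exact hBn _ ((tr_comm e).2 hg) _ hx) b hb with h1 | h1
    · left; rw [h1, map_one]
    · right; rw [h1]
  oz := by
    refine (tr_closure e (p := fun x => x * z = z * x ∧ Odd (orderOf x)) ?_).2 h.oz
    intro x
    rw [tr_comm, tr_order]

theorem One.map {z : K} {R : Subgroup K} (h : One z R) (e : K ≃* L) : One (e z) (R.map e.toMonoidHom) where
  toBase := h.toBase.map e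
  ex := by
    obtain ⟨v, k, h1, h2, h3, h4, h5, h6⟩ := h.ex
    have h7 : ∀ x, (∀ d, d * e z = e z * d → orderOf d = 3 → e x * d * (e x)⁻¹ * d ∈ R.map e.toMonoidHom) ↔
        (∀ d, d * z = z * d → orderOf d = 3 → x * d * x⁻¹ * d ∈ R) := by
      intro x
      constructor
      · intro h d hd hd3
        have h8 := h (e d) ((tr_comm e).2 hd) (by rw [tr_order, hd3])
        rw [tr_conj, ← map_mul] at h8
        exact (tr_mem e).1 h8
      · intro h d hd hd3
        obtain ⟨d, rfl⟩ := e.surjective d
        rw [tr_conj, ← map_mul]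
        exact (tr_mem e).2 (h d ((tr_comm e).1 hd) (by rwa [tr_order] at hd3))
    refine ⟨e v, e k, by rw [← map_mul, h1, map_one], (tr_comm e).2 h2, by rw [tr_conj, h3], ?_, (h7 v).2 h5, ?_⟩
    · rw [tr_conj']
      exact fun h8 => h4 ((tr_mem e).1 h8)
    · intro p hp hpp hpi
      obtain ⟨p, rfl⟩ := e.surjective p
      obtain ⟨c, hc, hcp⟩ := h6 p ((tr_comm e).1 hp)
        (e.injective (by rw [map_mul, hpp, map_one])) ((h7 p).1 hpi)
      exact ⟨e c, (tr_comm e).2 hc, by rw [tr_conj, hcp]⟩

theorem Two.map {z : K} {R : Subgroup K} (h : Two z R) (e : K ≃* L) : Two (e z) (R.map e.toMonoidHom) where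
  toBase := h.toBase.map e
  one := by
    intro p hp hp1
    obtain ⟨p, rfl⟩ := e.surjective p
    obtain ⟨k, hk⟩ := h.one p (e.injective (by rw [map_mul, hp, map_one])) (fun h1 => hp1 (by rw [h1, map_one]))
    exact ⟨e k, by rw [tr_conj, hk]⟩
  gen := by
    intro g hg
    obtain ⟨g, rfl⟩ := e.surjective g
    refine (tr_closure e (p := fun x => x * z = z * x ∧ x * x = 1) ?_).2 (h.gen g ((tr_comm e).1 hg))
    intro x
    rw [tr_comm, ← map_mul, ← map_one e, e.injective.eq_iff]
  ex := by
    obtain ⟨v, k, h1, h2, h3, h4, h5⟩ := h.ex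
    refine ⟨e v, e k, by rw [← map_mul, h1, map_one], (tr_comm e).2 h2, by rw [tr_conj, h3], ?_, ?_⟩
    · rw [tr_conj']
      exact fun h8 => h4 ((tr_mem e).1 h8)
    · rintro _ ⟨r, hr, rfl⟩ hvr
      obtain ⟨c, hc, hcv⟩ := h5 r hr (e.injective (by
        rw [map_one, ← hvr]
        show e (v * r * (v * r)) = e v * e r * (e v * e r)
        rw [map_mul, map_mul]))
      refine ⟨e c, (tr_comm e).2 hc, ?_⟩
      show e c * (e v * e r) * (e c)⁻¹ = e v
      rw [← map_mul, tr_conj, hcv]

theorem Three.map {z : K} {R : Subgroup K} (h : Three z R) (e : K ≃* L) :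
    Three (e z) (R.map e.toMonoidHom) where
  toBase := h.toBase.map e
  irr := by
    intro N hN hNn
    rcases h.irr (N.comap e.toMonoidHom) (fun x hx => (tr_mem e).1 (hN hx)) (fun g hg x hx => by
        show e (g * x * g⁻¹) ∈ N
        rw [← tr_conj]
        exact hNn _ ((tr_comm e).2 hg) _ hx) with h1 | h1
    · left
      intro n hn
      obtain ⟨n, rfl⟩ := e.surjective n
      rcases h1 n hn with h2 | h2
      · left; rw [h2, map_one]
      · right; rw [h2]
    · right
      apply le_antisymm hN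
      rintro _ ⟨r, hr, rfl⟩
      rw [← h1] at hr
      exact hr
  classes := by
    intro w hw hw1
    obtain ⟨w, rfl⟩ := e.surjective w
    rcases h.classes w (e.injective (by rw [map_mul, hw, map_one])) (fun h1 => hw1 (by rw [h1, map_one])) with
      ⟨k, hk⟩ | h1
    · exact Or.inl ⟨e k, by rw [tr_conj, hk]⟩
    · right
      intro N hN hNw hNn a ha b hb
      obtain ⟨a, rfl⟩ := e.surjective a
      obtain ⟨b, rfl⟩ := e.surjective b
      refine (tr_comm e).2 (h1 (N.comap e.toMonoidHom) (hN.comap_of_injective _ e.injective) ?_ ?_ a ha b hb)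
      · intro m hm
        exact (tr_comm e).1 (hNw _ hm)
      · intro g hg m hm
        show e (g * m * g⁻¹) ∈ N
        rw [← tr_conj]
        exact hNn _ ((tr_comm e).2 hg) _ hm
  ex := by
    obtain ⟨v, k, h1, h2, h3, h4, h5, h6, h7, h8⟩ := h.ex
    have hcl : ∀ x, e x ∈ closure {x : L | x * e z = e z * x ∧ Odd (orderOf x)} ↔
        x ∈ closure {x : K | x * z = z * x ∧ Odd (orderOf x)} := by
      intro x
      refine tr_closure e (p := fun x => x * z = z * x ∧ Odd (orderOf x)) fun x => ?_
      rw [tr_comm, tr_order]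
    refine ⟨e v, e k, by rw [← map_mul, h1, map_one], (tr_comm e).2 h2, by rw [tr_conj, h3], ?_,
      fun h9 => h5 ((tr_mem e).1 h9), ?_, ?_, ?_⟩
    · rw [tr_conj']
      exact fun h8 => h4 ((tr_mem e).1 h8)
    · rintro _ ⟨r, hr, rfl⟩ hvr
      obtain ⟨c, hc, hcv⟩ := h6 r hr (e.injective (by
        rw [map_one, ← hvr]
        show e (v * r * (v * r)) = e v * e r * (e v * e r)
        rw [map_mul, map_mul]))
      refine ⟨e c, (tr_mem e).2 hc, ?_⟩
      rcases hcv with hcv | hcv
      · left
        show e c * (e v * e r) * (e c)⁻¹ = e v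
        rw [← map_mul, tr_conj, hcv]
      · right
        show e c * (e v * e r) * (e c)⁻¹ = e v * e z
        rw [← map_mul, tr_conj, hcv, map_mul]
    · intro g hg
      obtain ⟨g, rfl⟩ := e.surjective g
      rcases h7 g ((tr_comm e).1 hg) with h9 | h9
      · exact Or.inl ((hcl g).2 h9)
      · right
        rw [← map_mul]
        exact (hcl _).2 h9
    · intro p hp hpp hpn
      obtain ⟨p, rfl⟩ := e.surjective p
      obtain ⟨c, hc, hcp⟩ := h8 p ((tr_comm e).1 hp)
        (e.injective (by rw [map_mul, hpp, map_one])) (fun h9 => hpn ((hcl p).2 h9))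
      refine ⟨e c, (tr_comm e).2 hc, ?_⟩
      rcases hcp with hcp | hcp
      · left; rw [tr_conj, hcp]
      · right; rw [tr_conj, hcp, map_mul]

end Cfsg.Agent.OddHalf.D6.QThree.Facts
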