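import Mathlib

/-!
# ODD half, D6, the family `q = 3`: the facts on `K` (helper143, after helper135 #7766)

`K` is one of `PSp₄(3)`, `G₂(3)`, `L₄(3)`, `U₄(3)`; `z` a 2-central involution of `K`, `P = C_K(z)`,
`R = O₂(P) = Q₈ * Q₈`, `D = O²(P) = SL₂(3) * SL₂(3)`.

* `Base`: common to all;
* `One`: `G₂(3)`, `L₄(3)`;
* `Two`: `U₄(3)` (and `G₂(3)`);
* `Three`: `PSp₄(3)`.
-/

set_option autoImplicit false

namespace Cfsg.Agent.OddHalf.D6.QThree.Facts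

open Subgroup

variable {K : Type*} [Group K]

/-- the facts common to all the groups: `P = C_K(z)`, `R = O₂(P)` -/
structure Base (z : K) (R : Subgroup K) : Prop where
  zz : z * z = 1
  z1 : z ≠ 1
  /-- `z` is 2-central -/
  odd : Odd (centralizer ({z} : Set K)).index
  zR : z ∈ R
  pR : IsPGroup 2 R
  RP : ∀ r ∈ R, r * z = z * r
  /-- `R` is normal in `P` -/
  nR : ∀ g, g * z = z * g → ∀ r ∈ R, g * r * g⁻¹ ∈ R
  /-- `R = O₂(P)` -/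
  max : ∀ N : Subgroup K, IsPGroup 2 N → (∀ n ∈ N, n * z = z * n) →
    (∀ g, g * z = z * g → ∀ n ∈ N, g * n * g⁻¹ ∈ N) → N ≤ R
  /-- `C_P(R) = ⟨z⟩` -/
  cR : ∀ g, g * z = z * g → (∀ r ∈ R, g * r = r * g) → g = 1 ∨ g = z
  /-- abelian subgroups of `R` normal in `P` are contained in `⟨z⟩` -/
  ab : ∀ B : Subgroup K, B ≤ R → (∀ a ∈ B, ∀ b ∈ B, a * b = b * a) →
    (∀ g, g * z = z * g → ∀ b ∈ B, g * b * g⁻¹ ∈ B) → ∀ b ∈ B, b = 1 ∨ b = z
  /-- `z ∈ O²(P)` -/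
  oz : z ∈ closure {x : K | x * z = z * x ∧ Odd (orderOf x)}

/-- `G₂(3)`, `L₄(3)`: the involutions of `P` inverting `O²(P) / R` are conjugate in `P` -/
structure One (z : K) (R : Subgroup K) : Prop extends Base z R where
  ex : ∃ v k : K, v * v = 1 ∧ v * z = z * v ∧ k * z * k⁻¹ = v ∧ k⁻¹ * z * k ∉ R ∧
    (∀ d, d * z = z * d → orderOf d = 3 → v * d * v⁻¹ * d ∈ R) ∧
    ∀ p, p * z = z * p → p * p = 1 →
      (∀ d, d * z = z * d → orderOf d = 3 → p * d * p⁻¹ * d ∈ R) →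
      ∃ h, h * z = z * h ∧ h * p * h⁻¹ = v

/-- `U₄(3)` (and `G₂(3)`): one class of involutions, `P` generated by involutions, the involutions of one coset
`v R` are conjugate in `P` -/
structure Two (z : K) (R : Subgroup K) : Prop extends Base z R where
  one : ∀ p : K, p * p = 1 → p ≠ 1 → ∃ k, k * z * k⁻¹ = p
  gen : ∀ g, g * z = z * g → g ∈ closure {p : K | p * z = z * p ∧ p * p = 1}
  ex : ∃ v k : K, v * v = 1 ∧ v * z = z * v ∧ k * z * k⁻¹ = v ∧ k⁻¹ * z * k ∉ R ∧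
    ∀ r ∈ R, v * r * (v * r) = 1 → ∃ h, h * z = z * h ∧ h * (v * r) * h⁻¹ = v

/-- `PSp₄(3)`: the involutions of `P` outside `D = O²(P)` are conjugate to `v` or `v z`; the involutions of
`K` not conjugate to `z` have abelian `O₂(C(w))` -/
structure Three (z : K) (R : Subgroup K) : Prop extends Base z R where
  /-- `P` is irreducible on `R / ⟨z⟩` -/
  irr : ∀ N : Subgroup K, N ≤ R → (∀ g, g * z = z * g → ∀ n ∈ N, g * n * g⁻¹ ∈ N) →
    (∀ n ∈ N, n = 1 ∨ n = z) ∨ N = R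
  classes : ∀ w : K, w * w = 1 → w ≠ 1 → (∃ k, k * z * k⁻¹ = w) ∨
    ∀ N : Subgroup K, IsPGroup 2 N → (∀ n ∈ N, n * w = w * n) →
      (∀ g, g * w = w * g → ∀ n ∈ N, g * n * g⁻¹ ∈ N) → ∀ a ∈ N, ∀ b ∈ N, a * b = b * a
  ex : ∃ v k : K, v * v = 1 ∧ v * z = z * v ∧ k * z * k⁻¹ = v ∧ k⁻¹ * z * k ∉ R ∧ v ∉ R ∧
    (∀ r ∈ R, v * r * (v * r) = 1 → ∃ h ∈ R, h * (v * r) * h⁻¹ = v ∨ h * (v * r) * h⁻¹ = v * z) ∧
    (∀ g, g * z = z * g → g ∈ closure {x : K | x * z = z * x ∧ Odd (orderOf x)} ∨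
      v * g ∈ closure {x : K | x * z = z * x ∧ Odd (orderOf x)}) ∧
    ∀ p, p * z = z * p → p * p = 1 → p ∉ closure {x : K | x * z = z * x ∧ Odd (orderOf x)} →
      ∃ h, h * z = z * h ∧ (h * p * h⁻¹ = v ∨ h * p * h⁻¹ = v * z)

end Cfsg.Agent.OddHalf.D6.QThree.Facts
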