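import Cfsg.Agent.OddHalf.D6.QThree.Facts

/-!
# ODD half, D6, the family `q = 3`: the facts on `K` for the outer part (helper143)

* `Aut`: `G₂(3)`, `PSp₄(3)` (not `L₄(3)`: a graph automorphism centralises `O²(C_K(z))`);
* `Cls`: `G₂(3)`, `U₄(3)`: one class of involutions;
* `Sp`: `PSp₄(3)` (besides `Aut`).
-/

set_option autoImplicit false

namespace Cfsg.Agent.OddHalf.D6.QThree.FactsOut

open Subgroup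

variable {K : Type*} [Group K]

/-- the facts on `Aut(K)`; `P = C_K(z)`, `R = O₂(P)` -/
structure Aut (z : K) (R : Subgroup K) : Prop where
  /-- `|Out(K)| ≤ 2` -/
  out : (MulAut.conj : K →* MulAut K).range.index ∣ 2
  /-- `C_Aut(O²(P)) = ⟨z⟩` -/
  a1 : ∀ α : MulAut K, α z = z → (∀ x, x * z = z * x → Odd (orderOf x) → α x = x) →
    α = 1 ∨ α = MulAut.conj z
  /-- the 2-elements trivial on `O²(P) R / R` are inner, from `R` -/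
  a2 : ∀ α : MulAut K, IsPGroup 2 (zpowers α) → α z = z →
    (∀ x, x * z = z * x → Odd (orderOf x) → α x * x⁻¹ ∈ R) → ∃ r ∈ R, α = MulAut.conj r

/-- one class of involutions (`G₂(3)`, `U₄(3)`) -/
structure Cls (z : K) (R : Subgroup K) : Prop extends Facts.Base z R where
  one : ∀ p : K, p * p = 1 → p ≠ 1 → ∃ k, k * z * k⁻¹ = p
  inv : ∃ w ∈ R, w * w = 1 ∧ w ≠ 1 ∧ w ≠ z
  ex : ∃ v k : K, v * v = 1 ∧ v * z = z * v ∧ k * z * k⁻¹ = v ∧ k⁻¹ * z * k ∉ R ∧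
    ∀ r ∈ R, v * r * (v * r) = 1 → ∃ h, h * z = z * h ∧ h * (v * r) * h⁻¹ = v

/-- the subgroup generated by the elements of odd order of `C_K(z)` -/
def OD (z : K) : Subgroup K := closure {x : K | x * z = z * x ∧ Odd (orderOf x)}

/-- `PSp₄(3)`: `z` in the class 2A of length 45, `P = C_K(z)` of order 576, `R = O₂(P) = 2^{1+4}`,
`D = O²(P) = OD z` of index 2 in `P`, `D / R` elementary abelian of order 9 -/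
structure Sp (z : K) (R : Subgroup K) : Prop extends Facts.Three z R where
  /-- `R' ≤ ⟨z⟩` -/
  rr : ∀ a ∈ R, ∀ b ∈ R, a * b * a⁻¹ * b⁻¹ = 1 ∨ a * b * a⁻¹ * b⁻¹ = z
  /-- `R ≤ D` -/
  RD : R ≤ OD z
  /-- `D / R` is abelian -/
  dd : ∀ a ∈ OD z, ∀ b ∈ OD z, a * b * a⁻¹ * b⁻¹ ∈ R
  /-- `z^K ∩ R = {z}` -/
  zR1 : ∀ k, k * z * k⁻¹ ∈ R → k * z * k⁻¹ = z
  /-- the product of two commuting involutions of the class 2A is not in the class 2A -/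
  p2 : ∀ k k', (k * z * k⁻¹) * z = z * (k * z * k⁻¹) → k * z * k⁻¹ ≠ z → k' * z * k'⁻¹ ≠ k * z * k⁻¹ * z
  /-- every element of `R - ⟨z⟩` commutes with a `P`-conjugate outside `r⟨z⟩` -/
  p4 : ∀ r ∈ R, r ≠ 1 → r ≠ z → ∃ p, p * z = z * p ∧ (p * r * p⁻¹) * r = r * (p * r * p⁻¹) ∧
    p * r * p⁻¹ ≠ r ∧ p * r * p⁻¹ ≠ r * z
  /-- the frame `z₁, z₂, z₃, z₄, z` (commuting involutions of the class 2A with product 1); the involutions of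
  `R - ⟨z⟩` are conjugate in `P` to `z₁ z₂` -/
  frame : ∃ z₁ z₂ z₃ z₄ k₁ k₂ c₃ c₄ : K, k₁ * z * k₁⁻¹ = z₁ ∧ k₂ * z * k₂⁻¹ = z₂ ∧ c₃ * z * c₃⁻¹ = z₃ ∧
    c₄ * z * c₄⁻¹ = z₄ ∧ z₁ * z = z * z₁ ∧ z₂ * z = z * z₂ ∧ z₃ * z = z * z₃ ∧ z₄ * z = z * z₄ ∧
    z₁ * z₂ = z₂ * z₁ ∧ z₁ * z₃ = z₃ * z₁ ∧ z₂ * z₄ = z₄ * z₂ ∧ z₁ ≠ z₂ ∧ z₁ ≠ z₃ ∧ z₂ ≠ z₄ ∧
    z₃ * z₁ ≠ z ∧ (z₃ * z₁) * z = z₄ * z₂ ∧
    c₃ * (z₁ * z₂) = (z₁ * z₂) * c₃ ∧ c₄ * (z₁ * z₂) = (z₁ * z₂) * c₄ ∧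
    ∀ r ∈ R, r * r = 1 → r ≠ 1 → r ≠ z → ∃ p, p * z = z * p ∧ p * r * p⁻¹ = z₁ * z₂
  /-- the action of `v ∈ P - D` on `D / R` -/
  delta : ∃ v d e : K, v * v = 1 ∧ v * z = z * v ∧ v ∉ OD z ∧ (∀ g, g * z = z * g → g ∈ OD z ∨ v * g ∈ OD z) ∧
    d ∈ OD z ∧ e ∈ OD z ∧ d ∉ R ∧ e ∉ R ∧ v * d * v⁻¹ * d⁻¹ ∈ R ∧ v * e * v⁻¹ * e ∈ R ∧
    (∀ x ∈ OD z, v * x * v⁻¹ * x⁻¹ ∈ R → x ∈ R ∨ x * d⁻¹ ∈ R ∨ x * d ∈ R) ∧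
    (∀ x ∈ OD z, v * x * v⁻¹ * x ∈ R → x ∈ R ∨ x * e⁻¹ ∈ R ∨ x * e ∈ R) ∧
    OD z ≤ closure ({d, e} ∪ (R : Set K))

end Cfsg.Agent.OddHalf.D6.QThree.FactsOut
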