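import Cfsg.Agent.OddHalf.D6.QThree.FactsOut
import Cfsg.Agent.OddHalf.D6.QThree.Transport

/-!
# ODD half, D6, `q = 3`: transport of the outer facts (`Aut`, `Cls`) along an isomorphism (helper931)
-/

set_option autoImplicit false

namespace Cfsg.Agent.OddHalf.D6.QThree.FactsOut

open Subgroup Facts

variable {K L : Type*} [Group K] [Group L]

theorem congr_apply' (e : K ≃* L) (α : MulAut K) (x : K) : MulAut.congr e α (e x) = e (α x) := by
  show e (α (e.symm (e x))) = _
  rw [e.symm_apply_apply]

theorem congr_conj (e : K ≃* L) (g : K) : MulAut.congr e (MulAut.conj g) = MulAut.conj (e g) := by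
  ext y
  obtain ⟨x, rfl⟩ := e.surjective y
  rw [congr_apply', MulAut.conj_apply, MulAut.conj_apply, tr_conj]

theorem Aut.map {z : K} {R : Subgroup K} (h : Aut z R) (e : K ≃* L) : Aut (e z) (R.map e.toMonoidHom) where
  out := by
    have h1 : (MulAut.conj : L →* MulAut L).range =
        (MulAut.conj : K →* MulAut K).range.map (MulAut.congr e : MulAut K →* MulAut L) := by
      ext β
      constructor
      · rintro ⟨y, rfl⟩
        obtain ⟨x, rfl⟩ := e.surjective y
        exact ⟨MulAut.conj x, ⟨x, rfl⟩, congr_conj e x⟩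
      · rintro ⟨_, ⟨x, rfl⟩, rfl⟩
        exact ⟨e x, (congr_conj e x).symm⟩
    rw [h1, index_map_equiv]
    exact h.out
  a1 := by
    intro β hβz hβ
    obtain ⟨α, rfl⟩ := (MulAut.congr e).surjective β
    rw [congr_apply'] at hβz
    rcases h.a1 α (e.injective hβz) (fun x hx hxo => by
      have h1 := hβ (e x) ((tr_comm e).2 hx) (by rwa [tr_order])
      rw [congr_apply'] at h1
      exact e.injective h1) with h1 | h1
    · left; rw [h1, map_one]
    · right; rw [h1, congr_conj]
  a2 := by
    intro β hβ2 hβz hβ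
    obtain ⟨α, rfl⟩ := (MulAut.congr e).surjective β
    rw [congr_apply'] at hβz
    obtain ⟨r, hr, h1⟩ := h.a2 α (by
      have h2 : (zpowers α).map (MulAut.congr e : MulAut K →* MulAut L) = zpowers (MulAut.congr e α) :=
        MonoidHom.map_zpowers _ α
      rw [← h2] at hβ2
      exact hβ2.of_equiv ((zpowers α).equivMapOfInjective (MulAut.congr e : MulAut K →* MulAut L)
        (MulAut.congr e).injective).symm) (e.injective hβz) (fun x hx hxo => by
      have h1 := hβ (e x) ((tr_comm e).2 hx) (by rwa [tr_order])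
      rw [congr_apply', ← map_inv, ← map_mul] at h1
      exact (tr_mem e).1 h1)
    exact ⟨e r, (tr_mem e).2 hr, by rw [h1, congr_conj]⟩

theorem Cls.map {z : K} {R : Subgroup K} (h : Cls z R) (e : K ≃* L) : Cls (e z) (R.map e.toMonoidHom) where
  toBase := h.toBase.map e
  one := by
    intro p hp hp1
    obtain ⟨p, rfl⟩ := e.surjective p
    obtain ⟨k, hk⟩ := h.one p (e.injective (by rw [map_mul, hp, map_one])) (fun h1 => hp1 (by rw [h1, map_one]))
    exact ⟨e k, by rw [tr_conj, hk]⟩
  inv := by
    obtain ⟨w, hw, h1, h2, h3⟩ := h.inv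
    exact ⟨e w, (tr_mem e).2 hw, by rw [← map_mul, h1, map_one],
      fun h4 => h2 (e.injective (h4.trans (map_one e).symm)), fun h4 => h3 (e.injective h4)⟩
  ex := by
    obtain ⟨v, k, h1, h2, h3, h4, h5⟩ := h.ex
    refine ⟨e v, e k, by rw [← map_mul, h1, map_one], (tr_comm e).2 h2, by rw [tr_conj, h3], ?_, ?_⟩
    · rw [tr_conj']
      exact fun h8 => h4 ((tr_mem e).1 h8)
    · rintro _ ⟨r, hr, rfl⟩ hvr
      obtain ⟨c, hc, hcv⟩ := h5 r hr (e.injective (by
        rw [map_one, ← hvr]
        show e (v * r * (v * r)) = e v * e r * (e v * e r)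
        rw [map_mul, map_mul]))
      refine ⟨e c, (tr_comm e).2 hc, ?_⟩
      show e c * (e v * e r) * (e c)⁻¹ = e v
      rw [← map_mul, tr_conj, hcv]

end Cfsg.Agent.OddHalf.D6.QThree.FactsOut
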