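import Cfsg.Agent.OddHalf.D6.QThree.G23AutDec

/-!
# `G₂(3)`: the automorphisms fixing an involution `z` (helper618)

They either normalise or exchange the two factors `⟨i, j⟩`, `⟨k, l⟩` of `Q = O₂(C(z))` (`dich`); in the first case they
are, up to an inner automorphism from `C(z)`, trivial on `i, j, x₁` and either trivial on `k, x₂` or `k ↦ l z`,
`x₂ ↦ x₂⁻¹` (`normal_form`).
-/

set_option autoImplicit false

namespace Cfsg.Agent.OddHalf.D6.QThree.G23Aut

open Cfsg.Agent.Co2Type.Quad Cfsg.Agent.LargeExtra.Model Cfsg.Agent.LargeExtra.Pres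
open Cfsg.Agent.LargeExtra.W2 Cfsg.Agent.LargeExtra.W2.PlusHom
open Cfsg.Agent.GTwoThree.Cent
open Cfsg.Agent.OddHalf.D6.QThree.G23Abs

variable {G : Type*} [Group G] {Q : Subgroup G} {z i j k l x₁ x₂ y : G}

/-- `g ∈ ⟨i, j⟩` -/
def P1 (Q : Subgroup G) (k l g : G) : Prop := g ∈ Q ∧ g * k = k * g ∧ g * l = l * g

theorem P1_hom (h : Case9c Q z i j k l x₁ x₂ y) (m : M) : P1 Q k l (hom h.toPlus m) ↔ c1 m := by
  unfold P1 c1
  have e1 : hom h.toPlus m * k = k * hom h.toPlus m ↔ m * mk = mk * m := by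
    rw [← hom_eq_iff h.toPlus, map_mul, map_mul, hom_k]
  have e2 : hom h.toPlus m * l = l * hom h.toPlus m ↔ m * ml = ml * m := by
    rw [← hom_eq_iff h.toPlus, map_mul, map_mul, hom_l]
  rw [e1, e2]
  exact ⟨fun h => h.2, fun h' => ⟨hom_mem _ _, h'⟩⟩

theorem P2_hom (h : Case9c Q z i j k l x₁ x₂ y) (m : M) : P1 Q i j (hom h.toPlus m) ↔ c2 m := by
  unfold P1 c2
  have e1 : hom h.toPlus m * i = i * hom h.toPlus m ↔ m * mi = mi * m := by
    rw [← hom_eq_iff h.toPlus, map_mul, map_mul, hom_i]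
  have e2 : hom h.toPlus m * j = j * hom h.toPlus m ↔ m * mj = mj * m := by
    rw [← hom_eq_iff h.toPlus, map_mul, map_mul, hom_j]
  rw [e1, e2]
  exact ⟨fun h => h.2, fun h' => ⟨hom_mem _ _, h'⟩⟩

/-- the automorphism normalises the factors -/
def NS (Q : Subgroup G) (i j k l : G) (α : MulAut G) : Prop :=
  P1 Q i j (α k) ∧ P1 Q i j (α l) ∧ P1 Q k l (α i) ∧ P1 Q k l (α j)

/-- the automorphism exchanges the factors -/
def SW (Q : Subgroup G) (i j k l : G) (α : MulAut G) : Prop :=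
  P1 Q k l (α k) ∧ P1 Q k l (α l) ∧ P1 Q i j (α i) ∧ P1 Q i j (α j)

theorem map_Q (h : Case9c Q z i j k l x₁ x₂ y) (hy : y * y = 1)
    (hodd : Odd (Subgroup.centralizer ({z} : Set G)).index) {α : MulAut G} (hz : α z = z) {q : G} (hq : q ∈ Q) :
    α q ∈ Q := by
  have hb := base h hy hodd
  have h1 : Q.map α.toMonoidHom ≤ Q := by
    refine hb.max _ ((isPGroup_Q h).map _) ?_ ?_
    · rintro _ ⟨r, hr, rfl⟩
      show α r * z = z * α r
      rw [← hz, ← map_mul, ← map_mul, h.large.comm_z r hr]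
    · rintro g hg _ ⟨r, hr, rfl⟩
      obtain ⟨g, rfl⟩ := α.surjective g
      have hg' : g * z = z * g := by
        apply α.injective
        rw [map_mul, map_mul, hz]; exact hg
      refine ⟨g * r * g⁻¹, h.large.conj_mem g hg' r hr, ?_⟩
      show α (g * r * g⁻¹) = α g * α r * (α g)⁻¹
      rw [map_mul, map_mul, map_inv]
  exact h1 ⟨q, hq, rfl⟩

section

variable (h : Case9c Q z i j k l x₁ x₂ y) (hy : y * y = 1)
  (hodd : Odd (Subgroup.centralizer ({z} : Set G)).index)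

include h

/-- two noncommuting elements of the second factor determine the first factor -/
theorem P1_of {a b c : G} (ha : P1 Q i j a) (hb : P1 Q i j b) (hab : a * b ≠ b * a) (hc : c ∈ Q)
    (hca : c * a = a * c) (hcb : c * b = b * c) : P1 Q k l c := by
  obtain ⟨a, rfl⟩ := exists_hom h.toPlus ha.1
  obtain ⟨b, rfl⟩ := exists_hom h.toPlus hb.1
  obtain ⟨c, rfl⟩ := exists_hom h.toPlus hc
  rw [← map_mul, ← map_mul, hom_eq_iff] at hca hcb
  rw [← map_mul, ← map_mul, Ne, hom_eq_iff] at hab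
  rw [P1_hom h]
  exact dC a ((P2_hom h a).1 ha) b ((P2_hom h b).1 hb) hab c hca hcb

theorem P2_of {a b c : G} (ha : P1 Q k l a) (hb : P1 Q k l b) (hab : a * b ≠ b * a) (hc : c ∈ Q)
    (hca : c * a = a * c) (hcb : c * b = b * c) : P1 Q i j c := by
  obtain ⟨a, rfl⟩ := exists_hom h.toPlus ha.1
  obtain ⟨b, rfl⟩ := exists_hom h.toPlus hb.1
  obtain ⟨c, rfl⟩ := exists_hom h.toPlus hc
  rw [← map_mul, ← map_mul, hom_eq_iff] at hca hcb
  rw [← map_mul, ← map_mul, Ne, hom_eq_iff] at hab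
  rw [P2_hom h]
  exact dC' a ((P1_hom h a).1 ha) b ((P1_hom h b).1 hb) hab c hca hcb

theorem lk_ne (α : MulAut G) : α k * α l ≠ α l * α k := by
  intro e
  rw [← map_mul, ← map_mul, h.lk] at e
  have := α.injective e
  apply h.large.z_ne
  simpa using this

theorem ji_ne (α : MulAut G) : α i * α j ≠ α j * α i := by
  intro e
  rw [← map_mul, ← map_mul, h.ji] at e
  have := α.injective e
  apply h.large.z_ne
  simpa using this

theorem x1_ne : x₁ ≠ 1 := by
  intro e
  have : toG h kx = toG h k1 := by rw [toG_kx, toG_k1, e]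
  rw [toG_inj] at this
  exact absurd this (by decide)

include hy

theorem comm_iff_code {u v : K} : toG h u * toG h v = toG h v * toG h u ↔ mul false u v = mul false v u := by
  rw [← toG_inj h, mulG h hy, mulG h hy]

include hodd

/-- the code of `α x₁` decides -/
theorem dich_code {α : MulAut G} (hz : α z = z) {u : K} (hu : toG h u = α x₁) :
    u.2.2.2 = 0 ∧ ((u.2.1 ≠ 0 ∧ u.2.2.1 = 0 ∧ NS Q i j k l α) ∨ (u.2.1 = 0 ∧ SW Q i j k l α)) := by
  have hαQ : ∀ q ∈ Q, α q ∈ Q := fun q hq => map_Q h hy hodd hz hq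
  have h3 : mul false (mul false u u) u = k1 := by
    rw [← toG_inj h, mulG h hy, mulG h hy, hu, toG_k1, ← map_mul, ← map_mul, ← pow_two, ← pow_succ, h.x₁3, map_one]
  have he : u.2.2.2 = 0 := dthree u.2 (congrArg Prod.snd h3)
  refine ⟨he, ?_⟩
  obtain ⟨m, a, b, e⟩ := u
  have he' : e = 0 := he
  subst he'
  -- elements of `Q` commuting with `α x₁`
  have key : ∀ n : M, α x₁ * hom h.toPlus n = hom h.toPlus n * α x₁ → m * act a b 0 n = n * m := by
    intro n hn
    rw [← hu, ← toG_kq h, comm_iff_code h hy] at hn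
    have h4 := congrArg Prod.fst hn
    have h5 : m * act a b 0 n * 1 = n * m * 1 := h4
    simpa using h5
  have hk : α x₁ * α k = α k * α x₁ := by
    rw [← map_mul, ← map_mul]
    congr 1
    have := h.x₁_act.k
    rwa [mul_inv_eq_iff_eq_mul] at this
  have hl : α x₁ * α l = α l * α x₁ := by
    rw [← map_mul, ← map_mul]
    congr 1
    have := h.x₁_act.l
    rwa [mul_inv_eq_iff_eq_mul] at this
  obtain ⟨nk, hnk⟩ := exists_hom h.toPlus (hαQ k (mem_k h.toPlus))
  obtain ⟨nl, hnl⟩ := exists_hom h.toPlus (hαQ l (mem_l h.toPlus))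
  have hne := lk_ne h α
  have ki : α i * α k = α k * α i := by rw [← map_mul, ← map_mul, h.ki]
  have li : α i * α l = α l * α i := by rw [← map_mul, ← map_mul, h.li]
  have kj : α j * α k = α k * α j := by rw [← map_mul, ← map_mul, h.kj]
  have lj : α j * α l = α l * α j := by rw [← map_mul, ← map_mul, h.lj]
  have hai := hαQ i (mem_i h.toPlus)
  have haj := hαQ j (mem_j h.toPlus)
  by_cases ha : a = 0
  · right
    refine ⟨ha, ?_⟩
    subst ha
    by_cases hb : b = 0
    · exfalso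
      subst hb
      have h6 : toG h (m, 0, 0, 0) ∈ Q := (mem_Q h).2 rfl
      rw [hu] at h6
      have h7 : α x₁ ^ 3 = 1 := by rw [← map_pow, h.x₁3, map_one]
      have h8 : α x₁ ^ 4 = 1 := by
        have e4 : α x₁ ^ 4 = α x₁ * α x₁ * (α x₁ * α x₁) := by
          simp only [pow_succ, pow_zero, one_mul, mul_assoc]
        rw [e4]
        rcases h.large.sq _ h6 with h9 | h9 <;> rw [h9]
        · exact one_mul _
        · exact h.large.z_sq
      have h9 : α x₁ = 1 := by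
        rw [pow_succ, h7, one_mul] at h8
        exact h8
      exact x1_ne h (α.injective (by rw [h9, map_one]))
    · have hPk : P1 Q k l (α k) := by
        rw [← hnk, P1_hom h]
        exact dB' b hb m nk (key nk (by rw [hnk]; exact hk))
      have hPl : P1 Q k l (α l) := by
        rw [← hnl, P1_hom h]
        exact dB' b hb m nl (key nl (by rw [hnl]; exact hl))
      exact ⟨hPk, hPl, P2_of h hPk hPl hne hai ki li, P2_of h hPk hPl hne haj kj lj⟩
  · left
    have hb : b = 0 := by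
      by_contra hb
      have h6 := dA a b ha hb m nk (key nk (by rw [hnk]; exact hk))
      apply hne
      rw [← hnk]
      rcases h6 with rfl | rfl
      · rw [map_one, one_mul, mul_one]
      · rw [hom_zz, h.large.comm_z _ (hαQ l (mem_l h.toPlus))]
    subst hb
    have hPk : P1 Q i j (α k) := by
      rw [← hnk, P2_hom h]
      exact dB a ha m nk (key nk (by rw [hnk]; exact hk))
    have hPl : P1 Q i j (α l) := by
      rw [← hnl, P2_hom h]
      exact dB a ha m nl (key nl (by rw [hnl]; exact hl))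
    exact ⟨ha, rfl, hPk, hPl, P1_of h hPk hPl hne hai ki li, P1_of h hPk hPl hne haj kj lj⟩

omit hy hodd in
theorem exists_u (α : MulAut G) (hz : α z = z) {x : G} (hx : x * z = z * x) : ∃ u, toG h u = α x := by
  apply exists_code h
  rw [← hz, ← map_mul, ← map_mul, hx]

theorem dich {α : MulAut G} (hz : α z = z) : NS Q i j k l α ∨ SW Q i j k l α := by
  obtain ⟨u, hu⟩ := exists_u h α hz (x1_z h)
  rcases (dich_code h hy hodd hz hu).2 with ⟨-, -, h1⟩ | ⟨-, h1⟩
  · exact Or.inl h1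
  · exact Or.inr h1

/-- two exchanging automorphisms -/
theorem comp {α β : MulAut G} (hz : α z = z) (hz' : β z = z) (ha : SW Q i j k l α) (hb : SW Q i j k l β) :
    NS Q i j k l (β * α) := by
  have hzz : (β * α) z = z := by
    show β (α z) = z
    rw [hz, hz']
  rcases dich h hy hodd hzz with h1 | h1
  · exact h1
  · exfalso
    -- `β (α k)` lies in both factors
    have h2 : P1 Q k l (β (α k)) := h1.1
    have h3 : P1 Q i j (β (α k)) := by
      refine P2_of h hb.1 hb.2.1 (lk_ne h β) h2.1 ?_ ?_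
      · rw [← map_mul, ← map_mul, ha.1.2.1]
      · rw [← map_mul, ← map_mul, ha.1.2.2]
    obtain ⟨n, hn⟩ := exists_hom h.toPlus h2.1
    rw [← hn, P1_hom h] at h2
    rw [← hn, P2_hom h] at h3
    have h4 := lk_ne h (β * α)
    apply h4
    show β (α k) * β (α l) = β (α l) * β (α k)
    rw [← hn]
    rcases dZ n h2 h3 with rfl | rfl
    · rw [map_one, one_mul, mul_one]
    · rw [hom_zz, h.large.comm_z _ (map_Q h hy hodd hz' (map_Q h hy hodd hz (mem_l h.toPlus)))]

omit hy hodd in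
/-- elements of order 3 do not lie in `Q` -/
theorem Q_three {g : G} (hg : g ∈ Q) (h3 : g ^ 3 = 1) : g = 1 := by
  have h8 : g ^ 4 = 1 := by
    have e4 : g ^ 4 = g * g * (g * g) := by
      simp only [pow_succ, pow_zero, one_mul, mul_assoc]
    rw [e4]
    rcases h.large.sq _ hg with h9 | h9 <;> rw [h9]
    · exact one_mul _
    · exact h.large.z_sq
  rw [pow_succ, h3, one_mul] at h8
  exact h8

omit hy hodd in
theorem x2_ne : x₂ ≠ 1 := by
  intro e
  have : toG h (kx2) = toG h k1 := by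
    rw [toG_k1]
    simp [toG, kx2, e]
  rw [toG_inj] at this
  exact absurd this (by decide)

omit hy hodd in
theorem toG_kx2 : toG h kx2 = x₂ := by simp [toG, kx2]

/-- the restriction to the second factor is surjective -/
theorem exists_pre {α : MulAut G} (hz : α z = z) (hn : NS Q i j k l α) {g : G} (hg : P1 Q i j g) :
    ∃ g', P1 Q i j g' ∧ α g' = g := by
  have hfin : Finite Q := Nat.finite_of_card_ne_zero (by rw [h.card]; norm_num)
  have hfin2 : Finite {g : G // P1 Q i j g} :=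
    Finite.of_injective (fun g : {g : G // P1 Q i j g} => (⟨g.1, g.2.1⟩ : Q)) (by
      intro a b hab
      exact Subtype.ext (Subtype.mk.inj hab))
  have hmap : ∀ g, P1 Q i j g → P1 Q i j (α g) := by
    intro g hg
    refine P2_of h hn.2.2.1 hn.2.2.2 (ji_ne h α) (map_Q h hy hodd hz hg.1) ?_ ?_
    · rw [← map_mul, ← map_mul, hg.2.1]
    · rw [← map_mul, ← map_mul, hg.2.2]
  have hinj : Function.Injective (fun g : {g : G // P1 Q i j g} => (⟨α g.1, hmap g.1 g.2⟩ : {g : G // P1 Q i j g})) := by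
    intro a b hab
    exact Subtype.ext (α.injective (Subtype.mk.inj hab))
  obtain ⟨g', hg'⟩ := (Finite.surjective_of_injective hinj) ⟨g, hg⟩
  exact ⟨g'.1, g'.2, congrArg Subtype.val hg'⟩

omit hy hodd in
theorem x1_P2 {g : G} (hg : P1 Q i j g) : x₁ * g = g * x₁ := by
  obtain ⟨n, rfl⟩ := exists_hom h.toPlus hg.1
  rw [P2_hom h] at hg
  rw [x1_hom h, dX n hg]

omit hy hodd in
theorem P2_k : P1 Q i j k := ⟨mem_k h.toPlus, h.ki, h.kj⟩

omit hy hodd in
theorem P2_l : P1 Q i j l := ⟨mem_l h.toPlus, h.li, h.lj⟩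

theorem step1 {α : MulAut G} (hz : α z = z) (hn : NS Q i j k l α) :
    ∃ c, c * z = z * c ∧ c * x₁ * c⁻¹ = α x₁ ∧ c * i * c⁻¹ = α i := by
  obtain ⟨u, hu⟩ := exists_u h α hz (x1_z h)
  have hcomm : ∀ g, P1 Q i j g → toG h u * g = g * toG h u := by
    intro g hg
    obtain ⟨g', hg', e⟩ := exists_pre h hy hodd hz hn hg
    rw [hu, ← e, ← map_mul, ← map_mul, x1_P2 h hg']
  have hk : toG h u * toG h (kq mk) = toG h (kq mk) * toG h u := by
    rw [toG_kq, hom_k]; exact hcomm k (P2_k h)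
  have hl : toG h u * toG h (kq ml) = toG h (kq ml) * toG h u := by
    rw [toG_kq, hom_l]; exact hcomm l (P2_l h)
  rw [comm_iff_code h hy] at hk hl
  obtain ⟨hc1, hb, he⟩ := d1 u hk hl
  have ha : u.2.1 ≠ 0 := by
    rcases (dich_code h hy hodd hz hu).2 with ⟨h1, -, -⟩ | ⟨-, h1⟩
    · exact h1
    · exfalso
      -- both factors
      obtain ⟨n, hn'⟩ := exists_hom h.toPlus h1.1.1
      have h2 := h1.1
      have h3 := hn.1
      rw [← hn', P1_hom h] at h2
      rw [← hn', P2_hom h] at h3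
      apply lk_ne h α
      rw [← hn']
      rcases dZ n h2 h3 with rfl | rfl
      · rw [map_one, one_mul, mul_one]
      · rw [hom_zz, h.large.comm_z _ (map_Q h hy hodd hz (mem_l h.toPlus))]
  obtain ⟨m, a, b, e⟩ := u
  have hb' : b = 0 := hb
  have he' : e = 0 := he
  subst hb' he'
  obtain ⟨n, hni⟩ := exists_hom h.toPlus hn.2.2.1.1
  obtain ⟨n', hnj⟩ := exists_hom h.toPlus hn.2.2.2.1
  have c1n : c1 n := by rw [← P1_hom h, hni]; exact hn.2.2.1
  have c1n' : c1 n' := by rw [← P1_hom h, hnj]; exact hn.2.2.2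
  have hnn : n * n = zz := by
    rw [← hom_eq_iff h.toPlus, map_mul, hni, hom_zz, ← map_mul, h.ii, hz]
  have r1 : mul false (m, a, 0, 0) (kq n) = mul false (kq n') (m, a, 0, 0) := by
    rw [← toG_inj h, mulG h hy, mulG h hy, toG_kq, toG_kq, hu, hni, hnj, ← map_mul, ← map_mul]
    congr 1
    have := h.x₁_act.i
    rwa [mul_inv_eq_iff_eq_mul] at this
  have r2 : mul false (m, a, 0, 0) (kq n') = mul false (kq (n * n')) (m, a, 0, 0) := by
    rw [← toG_inj h, mulG h hy, mulG h hy, toG_kq, toG_kq, map_mul, hu, hni, hnj, ← map_mul, ← map_mul, ← map_mul]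
    congr 1
    have := h.x₁_act.j
    rwa [mul_inv_eq_iff_eq_mul] at this
  have r3 : mul false (mul false (m, a, 0, 0) (m, a, 0, 0)) (m, a, 0, 0) = k1 := by
    rw [← toG_inj h, mulG h hy, mulG h hy, hu, toG_k1, ← map_mul, ← map_mul, ← pow_two, ← pow_succ, h.x₁3, map_one]
  obtain ⟨r, -, b, e, h1, h2⟩ := dec1 m (mem_LI m hc1) a ha n (mem_LI n c1n) hnn n' (mem_LI n' c1n') r1 r2 r3
  refine ⟨toG h (r, b, 0, e), toG_comm h _, ?_, ?_⟩
  · rw [← toG_inj h, mulG h hy, mulG h hy, hu, toG_kx] at h1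
    rw [h1, mul_inv_cancel_right]
  · rw [← toG_inj h, mulG h hy, mulG h hy, toG_kq, toG_kq, hom_i, hni] at h2
    rw [h2, mul_inv_cancel_right]

omit hy hodd in
theorem j_eq : x₁ * i * x₁⁻¹ = j := h.x₁_act.i

omit hodd in
theorem step2 {β : MulAut G} (hz : β z = z) (hx : β x₁ = x₁) (hi : β i = i)
    (hQ : ∀ q ∈ Q, β q ∈ Q) :
    ∃ c, c * z = z * c ∧ c * x₁ = x₁ * c ∧ c * i = i * c ∧
      ((c * x₂ * c⁻¹ = β x₂ ∧ c * k * c⁻¹ = β k) ∨ (c * x₂⁻¹ * c⁻¹ = β x₂ ∧ c * (l * z) * c⁻¹ = β k)) := by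
  have hj : β j = j := by rw [← j_eq h, map_mul, map_mul, map_inv, hx, hi]
  obtain ⟨u, hu⟩ := exists_u h β hz (x2_z h)
  have x2i : x₂ * i = i * x₂ := by
    have := h.x₂_act.i
    rwa [mul_inv_eq_iff_eq_mul] at this
  have x2j : x₂ * j = j * x₂ := by
    have := h.x₂_act.j
    rwa [mul_inv_eq_iff_eq_mul] at this
  have hui : mul false u (kq mi) = mul false (kq mi) u := by
    rw [← comm_iff_code h hy, toG_kq, hom_i, hu]
    conv_lhs => rw [← hi]
    conv_rhs => rw [← hi]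
    rw [← map_mul, ← map_mul, x2i]
  have huj : mul false u (kq mj) = mul false (kq mj) u := by
    rw [← comm_iff_code h hy, toG_kq, hom_j, hu]
    conv_lhs => rw [← hj]
    conv_rhs => rw [← hj]
    rw [← map_mul, ← map_mul, x2j]
  obtain ⟨hc2, ha, he⟩ := d2 u hui huj
  obtain ⟨m, a, b, e⟩ := u
  have ha' : a = 0 := ha
  have he' : e = 0 := he
  subst ha' he'
  have h3 : β x₂ ^ 3 = 1 := by rw [← map_pow, h.x₂3, map_one]
  have hb : b ≠ 0 := by
    rintro rfl
    have h1 : toG h (m, 0, 0, 0) ∈ Q := (mem_Q h).2 rfl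
    rw [hu] at h1
    have h2 := Q_three h h1 h3
    exact x2_ne h (β.injective (by rw [h2, map_one]))
  obtain ⟨n, hnk⟩ := exists_hom h.toPlus (hQ k (mem_k h.toPlus))
  obtain ⟨n', hnl⟩ := exists_hom h.toPlus (hQ l (mem_l h.toPlus))
  have c2n : c2 n := by
    rw [← P2_hom h, hnk]
    refine ⟨hQ k (mem_k h.toPlus), ?_, ?_⟩
    · conv_lhs => rw [← hi]
      conv_rhs => rw [← hi]
      rw [← map_mul, ← map_mul, h.ki]
    · conv_lhs => rw [← hj]
      conv_rhs => rw [← hj]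
      rw [← map_mul, ← map_mul, h.kj]
  have c2n' : c2 n' := by
    rw [← P2_hom h, hnl]
    refine ⟨hQ l (mem_l h.toPlus), ?_, ?_⟩
    · conv_lhs => rw [← hi]
      conv_rhs => rw [← hi]
      rw [← map_mul, ← map_mul, h.li]
    · conv_lhs => rw [← hj]
      conv_rhs => rw [← hj]
      rw [← map_mul, ← map_mul, h.lj]
  have hnn : n * n = zz := by
    rw [← hom_eq_iff h.toPlus, map_mul, hnk, hom_zz, ← map_mul, h.kk, hz]
  have r1 : mul false (m, 0, b, 0) (kq n) = mul false (kq n') (m, 0, b, 0) := by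
    rw [← toG_inj h, mulG h hy, mulG h hy, toG_kq, toG_kq, hu, hnk, hnl, ← map_mul, ← map_mul]
    congr 1
    have := h.x₂_act.k
    rwa [mul_inv_eq_iff_eq_mul] at this
  have r2 : mul false (m, 0, b, 0) (kq n') = mul false (kq (n * n')) (m, 0, b, 0) := by
    rw [← toG_inj h, mulG h hy, mulG h hy, toG_kq, toG_kq, map_mul, hu, hnk, hnl, ← map_mul, ← map_mul, ← map_mul]
    congr 1
    have := h.x₂_act.l
    rwa [mul_inv_eq_iff_eq_mul] at this
  have r3 : mul false (mul false (m, 0, b, 0) (m, 0, b, 0)) (m, 0, b, 0) = k1 := by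
    rw [← toG_inj h, mulG h hy, mulG h hy, hu, toG_k1, ← pow_two, ← pow_succ, h3]
  obtain ⟨r, hr, a, h1⟩ := dec2 m (mem_LK m hc2) b hb n (mem_LK n c2n) hnn n' (mem_LK n' c2n') r1 r2 r3
  obtain ⟨h4, h5⟩ := dec3 r hr a
  have h6 : x₂⁻¹ = x₂ * x₂ := by
    have := h.x₂3
    rw [inv_eq_iff_mul_eq_one, ← mul_assoc, ← pow_two, ← pow_succ]
    exact this
  refine ⟨toG h (r, 0, a, 0), toG_comm h _, ?_, ?_, ?_⟩
  · rw [← toG_inj h, mulG h hy, mulG h hy, toG_kx] at h5
    exact h5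
  · rw [← toG_inj h, mulG h hy, mulG h hy, toG_kq, hom_i] at h4
    exact h4
  · rcases h1 with ⟨h1, h2⟩ | ⟨h1, h2⟩
    · left
      rw [← toG_inj h, mulG h hy, mulG h hy, hu, toG_kx2] at h1
      rw [← toG_inj h, mulG h hy, mulG h hy, toG_kq, toG_kq, hom_k, hnk] at h2
      rw [h1, h2, mul_inv_cancel_right, mul_inv_cancel_right]
      exact ⟨rfl, rfl⟩
    · right
      rw [← toG_inj h, mulG h hy, mulG h hy, mulG h hy, hu, toG_kx2] at h1
      rw [← toG_inj h, mulG h hy, mulG h hy, toG_kq, toG_kq, map_mul, hom_l, hom_zz, hnk] at h2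
      rw [h6, h1, h2, mul_inv_cancel_right, mul_inv_cancel_right]
      exact ⟨rfl, rfl⟩

/-- the normal form of a non-exchanging automorphism -/
theorem normal_form {α : MulAut G} (hz : α z = z) (hn : NS Q i j k l α) :
    ∃ c, c * z = z * c ∧ ∃ γ : MulAut G, α = MulAut.conj c * γ ∧ γ z = z ∧ γ x₁ = x₁ ∧ γ i = i ∧ γ j = j ∧
      ((γ x₂ = x₂ ∧ γ k = k ∧ γ l = l) ∨ (γ x₂ = x₂⁻¹ ∧ γ k = l * z ∧ γ l = k * z)) := by
  obtain ⟨c, hcz, hcx, hci⟩ := step1 h hy hodd hz hn
  set β : MulAut G := (MulAut.conj c)⁻¹ * α with hβ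
  have hβ1 : ∀ g, β g = c⁻¹ * α g * c := by
    intro g
    rw [hβ, ← map_inv]
    show MulAut.conj c⁻¹ (α g) = _
    rw [MulAut.conj_apply, inv_inv]
  have hcz' : c⁻¹ * z * c = z := by
    rw [mul_assoc, ← hcz, inv_mul_cancel_left]
  have hβz : β z = z := by rw [hβ1, hz, hcz']
  have hβx : β x₁ = x₁ := by rw [hβ1, ← hcx]; group
  have hβi : β i = i := by rw [hβ1, ← hci]; group
  have hβQ : ∀ q ∈ Q, β q ∈ Q := fun q hq => map_Q h hy hodd hβz hq
  obtain ⟨d, hdz, hdx, hdi, hd⟩ := step2 h hy hβz hβx hβi hβQ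
  set γ : MulAut G := (MulAut.conj d)⁻¹ * β with hγ
  have hγ1 : ∀ g, γ g = d⁻¹ * β g * d := by
    intro g
    rw [hγ, ← map_inv]
    show MulAut.conj d⁻¹ (β g) = _
    rw [MulAut.conj_apply, inv_inv]
  have hγz : γ z = z := by rw [hγ1, hβz, mul_assoc, ← hdz, inv_mul_cancel_left]
  have hγx : γ x₁ = x₁ := by rw [hγ1, hβx, mul_assoc, ← hdx, inv_mul_cancel_left]
  have hγi : γ i = i := by rw [hγ1, hβi, mul_assoc, ← hdi, inv_mul_cancel_left]
  have hγj : γ j = j := by rw [← j_eq h, map_mul, map_mul, map_inv, hγx, hγi]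
  have el : x₂ * k * x₂⁻¹ = l := h.x₂_act.k
  refine ⟨c * d, ?_, γ, ?_, hγz, hγx, hγi, hγj, ?_⟩
  · rw [mul_assoc, hdz, ← mul_assoc, hcz, mul_assoc]
  · rw [map_mul, hγ, hβ]; group
  · rcases hd with ⟨h1, h2⟩ | ⟨h1, h2⟩
    · left
      have e1 : γ x₂ = x₂ := by rw [hγ1, ← h1]; group
      have e2 : γ k = k := by rw [hγ1, ← h2]; group
      exact ⟨e1, e2, by rw [← el, map_mul, map_mul, map_inv, e1, e2]⟩
    · right
      have e1 : γ x₂ = x₂⁻¹ := by rw [hγ1, ← h1]; group
      have e2 : γ k = l * z := by rw [hγ1, ← h2]; group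
      refine ⟨e1, e2, ?_⟩
      have e3 : x₂⁻¹ * l * x₂ = k := by rw [← el]; group
      calc γ l = γ x₂ * γ k * (γ x₂)⁻¹ := by rw [← map_inv, ← map_mul, ← map_mul, el]
        _ = x₂⁻¹ * (l * z) * x₂ := by rw [e1, e2, inv_inv]
        _ = x₂⁻¹ * l * (z * x₂) := by group
        _ = x₂⁻¹ * l * x₂ * z := by rw [← x2_z h]; group
        _ = k * z := by rw [e3]

end

end Cfsg.Agent.OddHalf.D6.QThree.G23Aut
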