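import Cfsg.Agent.GTwoThree.Fusion
import Cfsg.Agent.OddHalf.D6.QThree.Facts

/-!
# The facts `One` for a group with `Case9c` (`G₂(3)`) (helper618)
-/

set_option autoImplicit false

namespace Cfsg.Agent.OddHalf.D6.QThree.G23Abs

open Cfsg.Agent.Co2Type.Quad Cfsg.Agent.LargeExtra.Model Cfsg.Agent.LargeExtra.Pres
open Cfsg.Agent.LargeExtra.W2 Cfsg.Agent.LargeExtra.W2.PlusHom
open Cfsg.Agent.GTwoThree.Cent

/-- the product of the second parts of codes -/
def mul2 (u v : Fin 3 × Fin 3 × Fin 2) : Fin 3 × Fin 3 × Fin 2 :=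
  (u.1 + sg u.2.2 v.1, u.2.1 + sg u.2.2 v.2.1, u.2.2 + v.2.2)

theorem mul_two (t : Bool) (u v : K) : (mul t u v).2 = mul2 u.2 v.2 := rfl

/-- the code of `x₁` -/
def kx : K := (1, 1, 0, 0)

theorem dec_sq : ∀ w : Fin 3 × Fin 3 × Fin 2, w.2.2 = 0 → w ≠ (0, 0, 0) →
    (mul2 w w).2.2 = 0 ∧ mul2 w w ≠ (0, 0, 0) := by decide +kernel

theorem dec_out : ∀ w : Fin 3 × Fin 3 × Fin 2, w.2.2 ≠ 0 →
    (mul2 w (mul2 (mul2 (1, 0, 0) w) (mul2 (1, 0, 0) (1, 0, 0)))).2.2 = 0 ∧
    mul2 w (mul2 (mul2 (1, 0, 0) w) (mul2 (1, 0, 0) (1, 0, 0))) ≠ (0, 0, 0) := by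
  decide +kernel

set_option maxRecDepth 100000 in
theorem dec_ab : ∀ m : M, m * s1 m = s1 m * m → m * s2 m = s2 m * m → m = 1 ∨ m = zz := by decide +kernel

theorem dec_three : ∀ w : Fin 3 × Fin 3 × Fin 2, mul2 (mul2 w w) w = (0, 0, 0) →
    mul2 (mul2 (mul2 (0, 0, 1) w) (0, 0, 1)) w = (0, 0, 0) := by decide +kernel

theorem dec_inner : mul2 (mul2 (mul2 (0, 0, 0) (1, 0, 0)) (0, 0, 0)) (1, 0, 0) ≠ (0, 0, 0) := by
  decide +kernel

theorem dec_z : (mi * mj) * (mi * mj) = (zz : M) := by decide +kernel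

section

variable {G : Type*} [Group G] {Q : Subgroup G} {z i j k l x₁ x₂ y : G}

theorem mulG (h : Case9c Q z i j k l x₁ x₂ y) (hy : y * y = 1) (u v : K) :
    toG h (mul false u v) = toG h u * toG h v :=
  toG_mul h (t := false) (by simpa [Twist] using hy) u v

theorem toG_kx (h : Case9c Q z i j k l x₁ x₂ y) : toG h kx = x₁ := by
  simp [toG, kx]

theorem mem_Q (h : Case9c Q z i j k l x₁ x₂ y) {u : K} : toG h u ∈ Q ↔ u.2 = (0, 0, 0) := by
  constructor
  · intro hu
    obtain ⟨m, hm⟩ := exists_hom h.toPlus hu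
    rw [← toG_kq h, toG_inj h] at hm
    rw [← hm]
    rfl
  · intro hu
    have : u = kq u.1 := by
      obtain ⟨m, v⟩ := u
      have hv : v = (0, 0, 0) := hu
      rw [hv]; rfl
    rw [this, toG_kq]
    exact hom_mem _ _

theorem x1_inv (h : Case9c Q z i j k l x₁ x₂ y) : x₁⁻¹ = x₁ * x₁ := by
  have := h.x₁3
  rw [inv_eq_iff_mul_eq_one, ← mul_assoc, ← pow_two, ← pow_succ]
  exact this

/-- 2-elements with trivial last coordinate lie in `Q` -/
theorem mem_Q_of_two (h : Case9c Q z i j k l x₁ x₂ y) (hy : y * y = 1) {N : Subgroup G} (hN : IsPGroup 2 N)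
    {u : K} (hn : toG h u ∈ N) (he : u.2.2.2 = 0) : u.2 = (0, 0, 0) := by
  by_contra hu
  have key : ∀ m : ℕ, ∃ v : K, toG h v = toG h u ^ 2 ^ m ∧ v.2.2.2 = 0 ∧ v.2 ≠ (0, 0, 0) := by
    intro m
    induction m with
    | zero => exact ⟨u, by rw [pow_zero, pow_one], he, hu⟩
    | succ m ih =>
      obtain ⟨v, h1, h2, h3⟩ := ih
      refine ⟨mul false v v, ?_, ?_, ?_⟩
      · rw [mulG h hy, h1, pow_succ 2 m, pow_mul, pow_two (toG h u ^ 2 ^ m)]
      · exact (dec_sq v.2 h2 h3).1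
      · exact (dec_sq v.2 h2 h3).2
  obtain ⟨m, hm⟩ := hN ⟨toG h u, hn⟩
  obtain ⟨v, h1, h2, h3⟩ := key m
  have h4 : toG h u ^ 2 ^ m = 1 := congrArg Subtype.val hm
  rw [h4, ← toG_k1 h, toG_inj] at h1
  rw [h1] at h3
  exact h3 rfl

theorem isPGroup_Q (h : Case9c Q z i j k l x₁ x₂ y) : IsPGroup 2 Q := by
  rintro ⟨x, hx⟩
  refine ⟨2, Subtype.ext ?_⟩
  show x ^ 4 = 1
  have h1 : x ^ 4 = x * x * (x * x) := by
    simp only [pow_succ, pow_zero, one_mul, mul_assoc]
  rw [h1]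
  rcases h.large.sq x hx with h2 | h2 <;> rw [h2]
  · rw [one_mul]
  · exact h.large.z_sq

theorem z_eq (h : Case9c Q z i j k l x₁ x₂ y) : (i * j) * (i * j) = z := by
  have h1 := congrArg (hom h.toPlus) dec_z
  rwa [map_mul, map_mul, hom_i, hom_j, hom_zz] at h1

theorem odd_three {g : G} (hg : g ^ 3 = 1) : Odd (orderOf g) := by
  rcases (Nat.dvd_prime Nat.prime_three).mp (orderOf_dvd_of_pow_eq_one hg) with h | h <;> rw [h] <;> decide

/-- the facts common to all cases -/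
theorem base (h : Case9c Q z i j k l x₁ x₂ y) (hy : y * y = 1)
    (hodd : Odd (Subgroup.centralizer ({z} : Set G)).index) : Facts.Base z Q where
  zz := h.large.z_sq
  z1 := h.large.z_ne
  odd := hodd
  zR := h.large.z_mem
  pR := isPGroup_Q h
  RP := h.large.comm_z
  nR := fun g hg r hr => h.large.conj_mem g hg r hr
  max := by
    intro N hN hNz hNn n hn
    obtain ⟨u, rfl⟩ := exists_code h (hNz n hn)
    by_cases he : u.2.2.2 = 0
    · exact (mem_Q h).2 (mem_Q_of_two h hy hN hn he)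
    · exfalso
      have h1 : toG h (mul false u (mul false (mul false kx u) (mul false kx kx))) ∈ N := by
        rw [mulG h hy, mulG h hy, mulG h hy, mulG h hy, toG_kx, ← x1_inv h]
        exact N.mul_mem hn (hNn x₁ (x1_z h) _ hn)
      exact (dec_out u.2 he).2 (mem_Q_of_two h hy hN h1 (dec_out u.2 he).1)
  cR := fun g hg hgR => h.large.cent g (h.large.self g hg hgR) hgR
  ab := by
    intro B hB hBc hBn b hb
    obtain ⟨m, rfl⟩ := exists_hom h.toPlus (hB hb)
    have h1 : hom h.toPlus (s1 m) ∈ B := by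
      have := hBn x₁ (x1_z h) _ hb
      rwa [x1_hom h, mul_inv_cancel_right] at this
    have h2 : hom h.toPlus (s2 m) ∈ B := by
      have := hBn x₂ (x2_z h) _ hb
      rwa [x2_hom h, mul_inv_cancel_right] at this
    have h3 := hBc _ hb _ h1
    have h4 := hBc _ hb _ h2
    rw [← map_mul, ← map_mul, hom_eq_iff] at h3 h4
    rcases dec_ab m h3 h4 with rfl | rfl
    · left; rw [map_one]
    · right; rw [hom_zz]
  oz := by
    have hi := h.large.comm_z _ (mem_i h.toPlus)
    have hx := x1_z h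
    have h1 : x₁ ∈ {x : G | x * z = z * x ∧ Odd (orderOf x)} := ⟨hx, odd_three h.x₁3⟩
    have h2 : i * x₁⁻¹ * i⁻¹ ∈ {x : G | x * z = z * x ∧ Odd (orderOf x)} := by
      constructor
      · have c1 : Commute i z := hi
        have c2 : Commute x₁ z := hx
        exact ((c1.mul_left c2.inv_left).mul_left c1.inv_left).eq
      · apply odd_three
        have e : i * x₁⁻¹ * i⁻¹ = MulAut.conj i x₁⁻¹ := rfl
        rw [e, ← map_pow, inv_pow, h.x₁3, inv_one, map_one]
    have h3 : x₁ * (i * x₁⁻¹ * i⁻¹) = j * i⁻¹ := by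
      calc x₁ * (i * x₁⁻¹ * i⁻¹) = (x₁ * i * x₁⁻¹) * i⁻¹ := by group
        _ = j * i⁻¹ := by rw [h.x₁_act.i]
    have h4 : z = x₁ * (i * x₁⁻¹ * i⁻¹) * (x₁ * (i * x₁⁻¹ * i⁻¹)) := by
      have h5 : i⁻¹ = i * z := by
        rw [inv_eq_iff_mul_eq_one, ← mul_assoc, h.ii, h.large.z_sq]
      have h6 : j * i⁻¹ = i * j := by
        rw [h5, ← mul_assoc, h.ji, mul_assoc, h.large.z_sq, mul_one]
      rw [h3, h6, z_eq h]
    have h5 := Subgroup.mul_mem _ (Subgroup.subset_closure h1) (Subgroup.subset_closure h2)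
    have h6 := Subgroup.mul_mem _ h5 h5
    rwa [← h4] at h6

/-- the facts `One` -/
theorem one (h : Case9c Q z i j k l x₁ x₂ y) (hy : y * y = 1)
    (hodd : Odd (Subgroup.centralizer ({z} : Set G)).index) {g : G} (hg : g * z * g⁻¹ = y)
    (hg' : g⁻¹ * z * g = z * y) : Facts.One z Q where
  toBase := base h hy hodd
  ex := by
    refine ⟨y, g, hy, y_z h, hg, ?_, ?_, ?_⟩
    · rw [hg']
      intro h1
      have h2 : toG h (mul false (kq zz) ky) = z * y := by
        rw [mulG h hy, toG_kq, toG_ky, hom_zz]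
      rw [← h2, mem_Q] at h1
      exact absurd h1 (by decide +kernel)
    · intro d hd hd3
      obtain ⟨u, rfl⟩ := exists_code h hd
      have h0 : toG h u ^ 3 = 1 := by rw [← hd3]; exact pow_orderOf_eq_one _
      have h1 : mul false (mul false u u) u = k1 := by
        rw [← toG_inj h, mulG h hy, mulG h hy, toG_k1, ← pow_two, ← pow_succ]
        exact h0
      have h2 : y⁻¹ = y := inv_eq_of_mul_eq_one_left hy
      have h3 : toG h (mul false (mul false (mul false ky u) ky) u) ∈ Q :=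
        (mem_Q h).2 (dec_three u.2 (congrArg Prod.snd h1))
      rw [mulG h hy, mulG h hy, mulG h hy, toG_ky] at h3
      rwa [h2]
    · intro p hp hpp hpi
      by_cases hpQ : p ∈ Q
      · exfalso
        obtain ⟨m, rfl⟩ := exists_hom h.toPlus hpQ
        have h1 : x₁ ≠ 1 := by
          intro e
          have : toG h kx = toG h k1 := by rw [toG_kx, toG_k1, e]
          rw [toG_inj] at this
          exact absurd this (by decide)
        have h2 := hpi x₁ (x1_z h) (orderOf_eq_prime h.x₁3 h1)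
        have h3 : (hom h.toPlus m)⁻¹ = hom h.toPlus m := inv_eq_of_mul_eq_one_left hpp
        have h4 : toG h (mul false (mul false (mul false (kq m) kx) (kq m)) kx) =
            hom h.toPlus m * x₁ * (hom h.toPlus m)⁻¹ * x₁ := by
          rw [mulG h hy, mulG h hy, mulG h hy, toG_kx, toG_kq, h3]
        rw [← h4, mem_Q] at h2
        exact dec_inner h2
      · obtain ⟨c, hc, hcp⟩ := Cfsg.Agent.GTwoThree.Fusion.exists_outer_conj h hy hpp hp hpQ
        refine ⟨c⁻¹, ?_, ?_⟩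
        · have : Commute c z := hc
          exact this.inv_left.eq
        · rw [← hcp]; group

end

end Cfsg.Agent.OddHalf.D6.QThree.G23Abs
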