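import Cfsg.Agent.OddHalf.D6.QThree.G23Words
import Cfsg.Agent.OddHalf.D6.QThree.G23Abs
import Cfsg.Agent.OddHalf.D6.QThree.Transport
import Cfsg.Agent.OddHalf.Small.G23

/-!
# ODD half, D6, `q = 3`: the facts for `G₂(3)` (helper618)

`case9c`: the coordinates of the centralizer of the involution `z = h₆(-1)` of `G₂(3)`; `facts`: the structure
`Facts.One` for every group isomorphic to `G₂(3)`.
-/

set_option autoImplicit false
set_option maxRecDepth 10000

namespace Cfsg.Agent.OddHalf.D6.QThree.G23Facts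

open Cfsg.Lie
open Cfsg.Agent.Co2Type.Quad Cfsg.Agent.LargeExtra.Model Cfsg.Agent.LargeExtra.Pres
open Cfsg.Agent.LargeExtra.W2 Cfsg.Agent.LargeExtra.W2.PlusHom
open Cfsg.Agent.OddHalf.Small.G23Data Cfsg.Agent.OddHalf.Small.G23Check
open Cfsg.Agent.OddHalf.D6.QThree.G23Words
open Cfsg.Agent.GTwoThree.Model (wx)

/-- words for the elements of a group, and the shape of `C(z)` -/
structure WM {G : Type*} [Group G] (v : List ℕ → G) : Prop where
  app : ∀ a b, v (a ++ b) = v a * v b
  nil : v [] = 1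
  eq : ∀ a b, eqc a b = true → v a = v b
  ne : ∀ a b, nec a b = true → v a ≠ v b
  card : Nat.card G = 2 ^ 6 * 66339
  cent : ∀ g, g * v wz = v wz * g → ∃ a d : Fin 3, ∃ i ∈ NZ, ∃ a' d' a'' d'' : Fin 3,
    g = v (wx 6 a.val ++ wx 9 d.val) * v (NL.getD i []) * v (wx 6 a'.val ++ wx 9 d'.val) ∧
    v (wx 6 a'.val ++ wx 9 d'.val) * v (wx 6 a.val ++ wx 9 d.val) = v (wx 6 a''.val ++ wx 9 d''.val)
  two : 2 ^ 6 ∣ Nat.card (Subgroup.closure {x | ∃ k < 5, x = v (PG.getD k [])})

/-- `O₂(C(z))` -/
def R {G : Type*} [Group G] (v : List ℕ → G) : Subgroup G := Subgroup.closure {v wi, v wj, v wk, v wl}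

/-- the generators of `C(z)` -/
def S {G : Type*} (v : List ℕ → G) : Set G := {v wi, v wj, v wk, v wl, v w1, v w2, v wy}

theorem norm_closure {G : Type*} [Group G] {S : Set G} {g : G}
    (h : ∀ s ∈ S, g * s * g⁻¹ ∈ Subgroup.closure S) :
    ∀ x ∈ Subgroup.closure S, g * x * g⁻¹ ∈ Subgroup.closure S := by
  have : Subgroup.closure S ≤ (Subgroup.closure S).comap (MulAut.conj g).toMonoidHom :=
    (Subgroup.closure_le _).2 h
  intro x hx
  exact this hx

theorem normalizer_of {G : Type*} [Group G] [Finite G] {R : Subgroup G} {g : G} (h : ∀ r ∈ R, g * r * g⁻¹ ∈ R) :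
    g ∈ Subgroup.normalizer (R : Set G) := by
  have h1 : R.map (MulAut.conj g).toMonoidHom ≤ R := by
    rintro _ ⟨r, hr, rfl⟩
    exact h r hr
  have h2 : R.map (MulAut.conj g).toMonoidHom = R := by
    apply Subgroup.eq_of_le_of_card_ge h1
    exact (Nat.card_congr (R.equivMapOfInjective _ (MulAut.conj g).injective).toEquiv).le
  rw [Subgroup.mem_normalizer_iff]
  intro x
  constructor
  · intro hx; exact h x hx
  · intro hx
    rw [← h2] at hx
    obtain ⟨r, hr, e⟩ := hx
    have : r = x := (MulAut.conj g).injective e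
    rwa [← this]

section

variable {G : Type*} [Group G] {v : List ℕ → G}

theorem WM.h2 (W : WM v) {a b c d : List ℕ} (h : eqc (a ++ b) (c ++ d) = true) : v a * v b = v c * v d := by
  have := W.eq _ _ h
  rwa [W.app, W.app] at this

theorem WM.h21 (W : WM v) {a b c : List ℕ} (h : eqc (a ++ b) c = true) : v a * v b = v c := by
  have := W.eq _ _ h
  rwa [W.app] at this

theorem WM.h23 (W : WM v) {a b c d e : List ℕ} (h : eqc (a ++ b) (c ++ d ++ e) = true) :
    v a * v b = v c * v d * v e := by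
  have := W.eq _ _ h
  rwa [W.app, W.app, W.app] at this

variable (W : WM v)

local notation "z'" => v wz
local notation "i'" => v wi
local notation "j'" => v wj
local notation "k'" => v wk
local notation "l'" => v wl
local notation "x'" => v w1
local notation "u'" => v w2
local notation "y'" => v wy

include W

theorem z_ne' : z' ≠ 1 := by
  have h := W.ne _ _ z_ne
  rwa [W.nil] at h

/-- the generators commute with `z` -/
theorem gw_comm (k : ℕ) (hk : k < 7) : v (GW.getD k []) * z' = z' * v (GW.getD k []) :=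
  W.h2 (GW_comm k hk)

theorem hzz : z' * z' = 1 := by
  have h := W.h21 zz
  rwa [W.nil] at h

theorem rels' : Rels rP4 4 z' (gens i' j' k' l') where
  zz := hzz W
  comm := by
    intro n hn
    have : n = 0 ∨ n = 1 ∨ n = 2 ∨ n = 3 := by omega
    rcases this with rfl | rfl | rfl | rfl
    · exact gw_comm W 0 (by norm_num)
    · exact gw_comm W 1 (by norm_num)
    · exact gw_comm W 2 (by norm_num)
    · exact gw_comm W 3 (by norm_num)
  sq := by
    intro n hn
    have : n = 0 ∨ n = 1 ∨ n = 2 ∨ n = 3 := by omega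
    rcases this with rfl | rfl | rfl | rfl
    · have e : (rP4 0).testBit 0 = true := by decide
      rw [e]; exact W.h21 ii
    · have e : (rP4 1).testBit 1 = true := by decide
      rw [e]; exact W.h21 jj
    · have e : (rP4 2).testBit 2 = true := by decide
      rw [e]; exact W.h21 kk
    · have e : (rP4 3).testBit 3 = true := by decide
      rw [e]; exact W.h21 ll
  cm := by
    have hz : ∀ a b : G, a * z' = z' * a → b * z' = z' * b → a * b * z' = z' * (a * b) := by
      intro a b ha hb
      rw [mul_assoc, hb, ← mul_assoc, ha, mul_assoc]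
    intro n hn m hm
    have : (n = 1 ∧ m = 0) ∨ (n = 2 ∧ m = 0) ∨ (n = 2 ∧ m = 1) ∨ (n = 3 ∧ m = 0) ∨ (n = 3 ∧ m = 1) ∨
      (n = 3 ∧ m = 2) := by omega
    rcases this with ⟨rfl, rfl⟩ | ⟨rfl, rfl⟩ | ⟨rfl, rfl⟩ | ⟨rfl, rfl⟩ | ⟨rfl, rfl⟩ | ⟨rfl, rfl⟩
    · have e : (rP4 1).testBit 0 = true := by decide
      rw [e]
      show j' * i' = z' * (i' * j')
      rw [W.h23 ji]; exact hz _ _ (gw_comm W 0 (by norm_num)) (gw_comm W 1 (by norm_num))
    · have e : (rP4 2).testBit 0 = false := by decide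
      rw [e]
      show k' * i' = 1 * (i' * k')
      rw [one_mul]; exact W.h2 ki
    · have e : (rP4 2).testBit 1 = false := by decide
      rw [e]
      show k' * j' = 1 * (j' * k')
      rw [one_mul]; exact W.h2 kj
    · have e : (rP4 3).testBit 0 = false := by decide
      rw [e]
      show l' * i' = 1 * (i' * l')
      rw [one_mul]; exact W.h2 li
    · have e : (rP4 3).testBit 1 = false := by decide
      rw [e]
      show l' * j' = 1 * (j' * l')
      rw [one_mul]; exact W.h2 lj
    · have e : (rP4 3).testBit 2 = true := by decide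
      rw [e]
      show l' * k' = z' * (k' * l')
      rw [W.h23 lk]; exact hz _ _ (gw_comm W 2 (by norm_num)) (gw_comm W 3 (by norm_num))

/-- the homomorphism of the model -/
def H : M →* G := lift (rels' W) tri_P4

theorem H_zz : H W zz = z' := lift_zz _ _
theorem H_i : H W mi = i' := lift_q _ _ 0
theorem H_j : H W mj = j' := lift_q _ _ 1
theorem H_k : H W mk = k' := lift_q _ _ 2
theorem H_l : H W ml = l' := lift_q _ _ 3

theorem H_inj : Function.Injective (H W) := lift_injective _ _ nd_P4 (z_ne' W)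

omit W in
theorem mem_i' : i' ∈ R v := Subgroup.subset_closure (by simp)
omit W in
theorem mem_j' : j' ∈ R v := Subgroup.subset_closure (by simp)
omit W in
theorem mem_k' : k' ∈ R v := Subgroup.subset_closure (by simp)
omit W in
theorem mem_l' : l' ∈ R v := Subgroup.subset_closure (by simp)

theorem mem_z' : z' ∈ R v := by rw [← W.h21 ii]; exact (R v).mul_mem mem_i' mem_i'

theorem H_range : (H W).range = R v := by
  rw [MonoidHom.range_eq_map, ← closure_q rP4 4, MonoidHom.map_closure]
  apply le_antisymm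
  · rw [Subgroup.closure_le]
    rintro _ ⟨x, (rfl | ⟨n, rfl⟩), rfl⟩
    · rw [H_zz]; exact mem_z' W
    · fin_cases n
      · exact (H_i W).symm ▸ mem_i'
      · exact (H_j W).symm ▸ mem_j'
      · exact (H_k W).symm ▸ mem_k'
      · exact (H_l W).symm ▸ mem_l'
  · unfold R
    rw [Subgroup.closure_le]
    intro x hx
    have hx' : x = i' ∨ x = j' ∨ x = k' ∨ x = l' := by simpa using hx
    apply Subgroup.subset_closure
    rcases hx' with rfl | rfl | rfl | rfl
    · exact ⟨mi, Or.inr ⟨0, rfl⟩, H_i W⟩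
    · exact ⟨mj, Or.inr ⟨1, rfl⟩, H_j W⟩
    · exact ⟨mk, Or.inr ⟨2, rfl⟩, H_k W⟩
    · exact ⟨ml, Or.inr ⟨3, rfl⟩, H_l W⟩

theorem exists_H {x : G} (hx : x ∈ R v) : ∃ m, H W m = x := (H_range W).ge hx

omit W in
theorem gw_mem (k : ℕ) (hk : k < 7) : v (GW.getD k []) ∈ Subgroup.closure (S v) := by
  apply Subgroup.subset_closure
  unfold S
  have : k = 0 ∨ k = 1 ∨ k = 2 ∨ k = 3 ∨ k = 4 ∨ k = 5 ∨ k = 6 := by omega
  rcases this with rfl | rfl | rfl | rfl | rfl | rfl | rfl
  · exact Or.inl rfl
  · exact Or.inr (Or.inl rfl)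
  · exact Or.inr (Or.inr (Or.inl rfl))
  · exact Or.inr (Or.inr (Or.inr (Or.inl rfl)))
  · exact Or.inr (Or.inr (Or.inr (Or.inr (Or.inl rfl))))
  · exact Or.inr (Or.inr (Or.inr (Or.inr (Or.inr (Or.inl rfl)))))
  · exact Or.inr (Or.inr (Or.inr (Or.inr (Or.inr (Or.inr rfl)))))

theorem gx_mem (w : List ℕ) (h : ∀ k ∈ w, k < 7) : v (gx w) ∈ Subgroup.closure (S v) := by
  induction w with
  | nil =>
    have : v (gx []) = 1 := W.nil
    rw [this]; exact one_mem _
  | cons k w ih =>
    have : gx (k :: w) = GW.getD k [] ++ gx w := List.flatMap_cons ..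
    rw [this, W.app]
    exact mul_mem (gw_mem k (h k (List.mem_cons_self ..))) (ih fun j hj => h j (List.mem_cons_of_mem _ hj))

theorem tw_mem {k : ℕ} (hk : k < 20) : v (TW.getD k []) ∈ Subgroup.closure (S v) := by
  obtain ⟨h1, h2⟩ := TW_check k hk
  rw [W.eq _ _ h1]
  exact gx_mem W _ h2

theorem nl_mem {i : ℕ} (hi : i ∈ NZ) : v (NL.getD i []) ∈ Subgroup.closure (S v) := by
  obtain ⟨k, hk, e⟩ := TW_NL i hi
  rw [e]
  exact tw_mem W hk

theorem wx_mem (a d : Fin 3) : v (wx 6 a.val ++ wx 9 d.val) ∈ Subgroup.closure (S v) := by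
  rw [W.app]
  refine mul_mem ?_ ?_
  · rcases TW_wx6 a.val a.2 with h | ⟨k, hk, h⟩ <;> rw [h]
    · rw [W.nil]; exact one_mem _
    · exact tw_mem W hk
  · rcases TW_wx9 d.val d.2 with h | ⟨k, hk, h⟩ <;> rw [h]
    · rw [W.nil]; exact one_mem _
    · exact tw_mem W hk

/-- `C(z)` -/
theorem cent_eq : Subgroup.centralizer ({z'} : Set G) = Subgroup.closure (S v) := by
  apply le_antisymm
  · intro g hg
    obtain ⟨a, d, n, hn, a', d', -, -, e, -⟩ := W.cent g (Subgroup.mem_centralizer_singleton_iff.1 hg)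
    rw [e]
    exact mul_mem (mul_mem (wx_mem W a d) (nl_mem W hn)) (wx_mem W a' d')
  · rw [Subgroup.closure_le]
    intro x hx
    apply Subgroup.mem_centralizer_singleton_iff.2
    have hx' : x = i' ∨ x = j' ∨ x = k' ∨ x = l' ∨ x = x' ∨ x = u' ∨ x = y' := by simpa [S] using hx
    rcases hx' with rfl | rfl | rfl | rfl | rfl | rfl | rfl
    · exact gw_comm W 0 (by norm_num)
    · exact gw_comm W 1 (by norm_num)
    · exact gw_comm W 2 (by norm_num)
    · exact gw_comm W 3 (by norm_num)
    · exact gw_comm W 4 (by norm_num)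
    · exact gw_comm W 5 (by norm_num)
    · exact gw_comm W 6 (by norm_num)

theorem act_z (k : ℕ) (hk : k < 7) : v (GW.getD k []) * z' * (v (GW.getD k []))⁻¹ = z' := by
  rw [gw_comm W k hk, mul_inv_cancel_right]

theorem actx : Act z' i' j' k' l' x' j' (i' * j') k' l' :=
  ⟨act_z W 4 (by norm_num), by rw [W.h2 x1i, mul_inv_cancel_right],
    by rw [W.h23 x1j, mul_inv_cancel_right], by rw [W.h2 x1k, mul_inv_cancel_right],
    by rw [W.h2 x1l, mul_inv_cancel_right]⟩

theorem actu : Act z' i' j' k' l' u' i' j' l' (k' * l') :=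
  ⟨act_z W 5 (by norm_num), by rw [W.h2 x2i, mul_inv_cancel_right],
    by rw [W.h2 x2j, mul_inv_cancel_right], by rw [W.h2 x2k, mul_inv_cancel_right],
    by rw [W.h23 x2l, mul_inv_cancel_right]⟩

theorem acty : Act z' i' j' k' l' y' (j' * z') (i' * z') (l' * z') (k' * z') :=
  ⟨act_z W 6 (by norm_num), by rw [W.h23 yi, mul_inv_cancel_right],
    by rw [W.h23 yj, mul_inv_cancel_right], by rw [W.h23 yk, mul_inv_cancel_right],
    by rw [W.h23 yl, mul_inv_cancel_right]⟩

omit W in
/-- elements acting on the generators normalise `R` -/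
theorem norm_of_act {c a b d e : G} (h : Act z' i' j' k' l' c a b d e) (ha : a ∈ R v) (hb : b ∈ R v)
    (hd : d ∈ R v) (he : e ∈ R v) : ∀ r ∈ R v, c * r * c⁻¹ ∈ R v := by
  refine norm_closure ?_
  intro s hs
  have hs' : s = i' ∨ s = j' ∨ s = k' ∨ s = l' := by simpa using hs
  rcases hs' with rfl | rfl | rfl | rfl
  · rw [h.i]; exact ha
  · rw [h.j]; exact hb
  · rw [h.k]; exact hd
  · rw [h.l]; exact he

omit W in
theorem norm_of_mem {c : G} (hc : c ∈ R v) : ∀ r ∈ R v, c * r * c⁻¹ ∈ R v := fun _ hr =>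
  (R v).mul_mem ((R v).mul_mem hc hr) ((R v).inv_mem hc)

/-- `R` is normal in `C(z)` -/
theorem norm [Finite G] {g : G} (hg : g * z' = z' * g) : ∀ r ∈ R v, g * r * g⁻¹ ∈ R v := by
  have hg' : g ∈ Subgroup.closure (S v) := by
    rw [← cent_eq W]; exact Subgroup.mem_centralizer_singleton_iff.2 hg
  have h1 : Subgroup.closure (S v) ≤ Subgroup.normalizer (R v : Set G) := by
    rw [Subgroup.closure_le]
    intro x hx
    have hx' : x = i' ∨ x = j' ∨ x = k' ∨ x = l' ∨ x = x' ∨ x = u' ∨ x = y' := by simpa [S] using hx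
    apply normalizer_of
    rcases hx' with rfl | rfl | rfl | rfl | rfl | rfl | rfl
    · exact norm_of_mem mem_i'
    · exact norm_of_mem mem_j'
    · exact norm_of_mem mem_k'
    · exact norm_of_mem mem_l'
    · exact norm_of_act (actx W) mem_j' ((R v).mul_mem mem_i' mem_j') mem_k' mem_l'
    · exact norm_of_act (actu W) mem_i' mem_j' mem_l' ((R v).mul_mem mem_k' mem_l')
    · exact norm_of_act (acty W) ((R v).mul_mem mem_j' (mem_z' W)) ((R v).mul_mem mem_i' (mem_z' W))
        ((R v).mul_mem mem_l' (mem_z' W)) ((R v).mul_mem mem_k' (mem_z' W))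
  intro r hr
  exact (Subgroup.mem_normalizer_iff.1 (h1 hg') r).1 hr

omit W in
theorem gw_R {k : ℕ} (hk : k < 4) : v (GW.getD k []) ∈ R v := by
  have : k = 0 ∨ k = 1 ∨ k = 2 ∨ k = 3 := by omega
  rcases this with rfl | rfl | rfl | rfl
  · exact mem_i'
  · exact mem_j'
  · exact mem_k'
  · exact mem_l'

/-- `C(R) ∩ C(z) = ⟨z⟩` -/
theorem self [Finite G] {g : G} (hg : g * z' = z' * g) (hgR : ∀ r ∈ R v, g * r = r * g) : g = 1 ∨ g = z' := by
  obtain ⟨a, d, i, hi, a', d', a'', d'', rfl, e⟩ := W.cent g hg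
  set s := v (wx 6 a.val ++ wx 9 d.val) with hs
  set n := v (NL.getD i []) with hn
  set t := v (wx 6 a'.val ++ wx 9 d'.val) with ht
  have hsz : s * z' = z' * s := by
    have h1 : s ∈ Subgroup.centralizer ({z'} : Set G) := by
      rw [cent_eq W]; exact wx_mem W a d
    exact Subgroup.mem_centralizer_singleton_iff.1 h1
  have e1 : s⁻¹ * (s * n * t) * s = v (NL.getD i [] ++ (wx 6 a''.val ++ wx 9 d''.val)) := by
    rw [W.app, ← e, ← hn]
    group
  have hcomm : ∀ k < 4, (s⁻¹ * (s * n * t) * s) * v (GW.getD k []) =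
      v (GW.getD k []) * (s⁻¹ * (s * n * t) * s) := by
    intro k hk
    have h2 := hgR _ (norm W hsz _ (gw_R hk))
    calc (s⁻¹ * (s * n * t) * s) * v (GW.getD k [])
        = s⁻¹ * (s * n * t * (s * v (GW.getD k []) * s⁻¹)) * s := by group
      _ = s⁻¹ * (s * v (GW.getD k []) * s⁻¹ * (s * n * t)) * s := by rw [h2]
      _ = _ := by group
  have h2 : s * n * t = s * (s⁻¹ * (s * n * t) * s) * s⁻¹ := by group
  rw [e1] at hcomm
  rcases self_check i hi a''.val a''.2 d''.val d''.2 with ⟨k, hk, h⟩ | h | h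
  · refine absurd ?_ (W.ne _ _ h)
    rw [W.app _ (GW.getD k []), W.app (GW.getD k [])]
    exact hcomm k hk
  · left
    rw [h2, e1, W.eq _ _ h, W.nil, mul_one, mul_inv_cancel]
  · right
    rw [h2, e1, W.eq _ _ h, hsz, mul_inv_cancel_right]

omit [Group G] W in
theorem dec_cent : ∀ m : M, (∀ n : M, m * n = n * m) → m = 1 ∨ m = (Cfsg.Agent.LargeExtra.Model.zz : M) := by
  intro m hm
  exact (mem_center_iff nd_P4 m).1 (Subgroup.mem_center_iff.2 fun n => (hm n).symm)

theorem large [Finite G] : Large (R v) z' where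
  z_mem := mem_z' W
  z_ne := z_ne' W
  z_sq := hzz W
  comm_z := by
    intro x hx
    obtain ⟨m, rfl⟩ := exists_H W hx
    rw [← H_zz W, ← map_mul, ← map_mul, zz_comm]
  conj_mem := fun g hg x hx => norm W hg x hx
  sq := by
    intro x hx
    obtain ⟨m, rfl⟩ := exists_H W hx
    rcases mul_self_mem m with h | h
    · left; rw [← map_mul, h, map_one]
    · right; rw [← map_mul, h, H_zz]
  comm := by
    intro a ha b hb
    obtain ⟨m, rfl⟩ := exists_H W ha
    obtain ⟨n, rfl⟩ := exists_H W hb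
    rcases comm_or m n with h | h
    · left; rw [← map_mul, h, map_mul]
    · right; rw [← map_mul, h, ← zz_comm, map_mul (H W), map_mul (H W), H_zz]
  cent := by
    intro a ha hc
    obtain ⟨m, rfl⟩ := exists_H W ha
    have h1 : ∀ n : M, m * n = n * m := by
      intro n
      have h2 : H W n ∈ R v := (H_range W).le ⟨n, rfl⟩
      have h3 := hc _ h2
      rw [← map_mul, ← map_mul] at h3
      exact H_inj W h3
    rcases dec_cent m h1 with rfl | rfl
    · left; rw [map_one]
    · right; rw [H_zz]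
  self := by
    intro g hg hgR
    rcases self W hg hgR with rfl | rfl
    · exact (R v).one_mem
    · exact mem_z' W

theorem card_R : Nat.card (R v) = 32 := by
  rw [← H_range W]
  have h1 : Nat.card (H W).range = Nat.card M :=
    (Nat.card_congr (Equiv.ofInjective _ (H_inj W))).symm
  rw [h1, card_XG]
  norm_num

theorem three_dvd : 9 ∣ Nat.card (Subgroup.centralizer ({z'} : Set G)) := by
  set P : Subgroup G := Subgroup.closure {x', u'} with hP
  have hx3 : x' ^ 3 = 1 := by
    have h := W.h21 x13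
    rw [W.app, W.nil] at h
    rw [pow_succ, pow_two]; exact h
  have hu3 : u' ^ 3 = 1 := by
    have h := W.h21 x23
    rw [W.app, W.nil] at h
    rw [pow_succ, pow_two]; exact h
  have hxu : x' * u' = u' * x' := W.h2 xx
  have hc1 : P ≤ Subgroup.centralizer ({x', u'} : Set G) := by
    rw [hP, Subgroup.closure_le]
    rintro s (rfl | hs)
    · apply Subgroup.mem_centralizer_iff.2
      rintro t (rfl | ht)
      · rfl
      · have ht' : t = u' := ht
        rw [ht']; exact hxu.symm
    · have hs' : s = u' := hs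
      rw [hs']
      apply Subgroup.mem_centralizer_iff.2
      rintro t (rfl | ht)
      · exact hxu
      · have ht' : t = u' := ht
        rw [ht']
  have hc2 : ∀ g ∈ P, ∀ h ∈ P, g * h = h * g := by
    intro g hg
    have h1 : P ≤ Subgroup.centralizer ({g} : Set G) := by
      rw [hP, Subgroup.closure_le]
      intro s hs
      apply Subgroup.mem_centralizer_singleton_iff.2
      exact Subgroup.mem_centralizer_iff.1 (hc1 hg) s hs
    intro h hh
    exact (Subgroup.mem_centralizer_singleton_iff.1 (h1 hh)).symm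
  have hp3 : ∀ g ∈ P, g ^ 3 = 1 := by
    intro g hg
    induction hg using Subgroup.closure_induction with
    | mem s hs =>
      rcases hs with rfl | hs
      · exact hx3
      · have hs' : s = u' := hs
        rw [hs']; exact hu3
    | one => exact one_pow _
    | mul s t hs ht hs' ht' =>
      have h1 : Commute s t := hc2 s hs t ht
      rw [h1.mul_pow, hs', ht', one_mul]
    | inv s hs hs' => rw [inv_pow, hs', inv_one]
  have hfact : Fact (Nat.Prime 3) := ⟨Nat.prime_three⟩
  have hPG : IsPGroup 3 P := fun g => ⟨1, Subtype.ext (hp3 g g.2)⟩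
  have hPC : P ≤ Subgroup.centralizer ({z'} : Set G) := by
    rw [hP, Subgroup.closure_le]
    intro s hs
    apply Subgroup.mem_centralizer_singleton_iff.2
    rcases hs with rfl | hs
    · exact gw_comm W 4 (by norm_num)
    · have hs' : s = u' := hs
      rw [hs']; exact gw_comm W 5 (by norm_num)
  have hfin : Finite G := Nat.finite_of_card_ne_zero (by rw [W.card]; norm_num)
  obtain ⟨k, hk⟩ := IsPGroup.iff_card.mp hPG
  have hx : x' ∈ P := Subgroup.subset_closure (Or.inl rfl)
  have hu : u' ∈ P := Subgroup.subset_closure (Or.inr rfl)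
  have hx1 : x' ≠ 1 := by
    have h := W.ne _ _ x1_ne
    rwa [W.nil] at h
  obtain ⟨hu1, hu2, hu3'⟩ := x2_ne
  have hk2 : 2 ≤ k := by
    by_contra hlt
    have h3 : Nat.card P ≤ 3 := by
      rw [hk]
      calc 3 ^ k ≤ 3 ^ 1 := Nat.pow_le_pow_right (by norm_num) (by omega)
        _ = 3 := by norm_num
    have h4 : Nat.card (Subgroup.zpowers x') = 3 := by
      rw [Nat.card_zpowers]
      exact orderOf_eq_prime hx3 hx1
    have h5 : Subgroup.zpowers x' = P := by
      apply Subgroup.eq_of_le_of_card_ge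
      · rw [Subgroup.zpowers_le]; exact hx
      · rw [h4]; exact h3
    rw [← h5] at hu
    obtain ⟨n, hn⟩ := hu
    have hn' : x' ^ n = u' := hn
    have h6 : n % 3 = 0 ∨ n % 3 = 1 ∨ n % 3 = 2 := by omega
    have h7 : x' ^ n = x' ^ (n % 3) := by
      conv_lhs => rw [← Int.emod_add_mul_ediv n 3]
      rw [zpow_add, zpow_mul]
      have : x' ^ (3 : ℤ) = 1 := by exact_mod_cast hx3
      rw [this, one_zpow, mul_one]
    rw [h7] at hn'
    rcases h6 with h6 | h6 | h6 <;> rw [h6] at hn'
    · have h8 := W.ne _ _ hu1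
      rw [W.nil] at h8
      exact h8 (by rw [← hn', zpow_zero])
    · exact W.ne _ _ hu2 (by rw [← hn', zpow_one])
    · have h8 := W.ne _ _ hu3'
      rw [W.app] at h8
      apply h8
      rw [← hn']
      have : x' ^ (2 : ℤ) = x' ^ (2 : ℕ) := by norm_cast
      rw [this, pow_two]
  have h9 : 9 ∣ Nat.card P := by
    rw [hk]
    exact (show (9 : ℕ) = 3 ^ 2 by norm_num) ▸ pow_dvd_pow 3 hk2
  exact h9.trans (Subgroup.card_dvd_of_le hPC)

theorem card_cent : Nat.card (Subgroup.centralizer ({z'} : Set G)) = 576 := by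
  have hfin : Finite G := Nat.finite_of_card_ne_zero (by rw [W.card]; norm_num)
  have h1 := three_dvd W
  have h2 : 2 ^ 6 ∣ Nat.card (Subgroup.centralizer ({z'} : Set G)) := by
    refine W.two.trans (Subgroup.card_dvd_of_le ?_)
    rw [Subgroup.closure_le]
    rintro _ ⟨k, hk, rfl⟩
    exact Subgroup.mem_centralizer_singleton_iff.2 (W.h2 (PG_comm k hk))
  have h3 : Nat.card (Subgroup.centralizer ({z'} : Set G)) ∣ 2 ^ 6 * 66339 := by
    rw [← W.card]; exact Subgroup.card_subgroup_dvd_card _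
  have h4 : Nat.card (Subgroup.centralizer ({z'} : Set G)) ≤ 1296 := by
    have h5 : Nat.card (Fin 3 × Fin 3 × Fin 16 × Fin 3 × Fin 3) = 1296 := by
      simp [Nat.card_eq_fintype_card, Fintype.card_prod]
    rw [← h5]
    let f : Fin 3 × Fin 3 × Fin 16 × Fin 3 × Fin 3 → G := fun p =>
      v (wx 6 p.1.val ++ wx 9 p.2.1.val) * v (NL.getD (NZ.getD p.2.2.1.val 0) []) *
        v (wx 6 p.2.2.2.1.val ++ wx 9 p.2.2.2.2.val)
    have h6 : (Subgroup.centralizer ({z'} : Set G) : Set G) ⊆ Set.range f := by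
      intro g hg
      obtain ⟨a, d, i, hi, a', d', -, -, e, -⟩ := W.cent g (Subgroup.mem_centralizer_singleton_iff.1 hg)
      obtain ⟨n, hn, hni⟩ : ∃ n : Fin 16, NZ.getD n.val 0 = i := by
        have : ∀ i ∈ NZ, ∃ n : Fin 16, NZ.getD n.val 0 = i := by decide
        exact this i hi
      exact ⟨(a, d, n, a', d'), e.symm⟩
    have h7 : Nat.card (Subgroup.centralizer ({z'} : Set G)) ≤ Nat.card (Set.range f) :=
      Nat.card_mono (Set.finite_range f) h6
    exact h7.trans (Finite.card_range_le f)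
  obtain ⟨m, hm⟩ : 2 ^ 6 * 9 ∣ Nat.card (Subgroup.centralizer ({z'} : Set G)) :=
    Nat.Coprime.mul_dvd_of_dvd_of_dvd (by decide) h2 h1
  rw [hm] at h3 h4 ⊢
  have h5 : m ≤ 2 := by omega
  have h6 : m ≠ 0 := by
    rintro rfl
    simp at h3
  have h7 : m ≠ 2 := by
    rintro rfl
    revert h3
    decide
  have : m = 1 := by omega
  rw [this]
  norm_num

theorem case9c : Case9c (R v) z' i' j' k' l' x' u' y' := by
  have hfin : Finite G := Nat.finite_of_card_ne_zero (by rw [W.card]; norm_num)
  have hinv : ∀ {a b : G}, a * b * a = b → b * a * b⁻¹ = a⁻¹ := by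
    intro a b h
    calc b * a * b⁻¹ = a⁻¹ * (a * b * a) * b⁻¹ := by group
      _ = a⁻¹ := by rw [h, mul_inv_cancel_right]
  exact
  { large := large W
    card := card_R W
    gen := rfl
    ii := W.h21 ii
    jj := W.h21 jj
    kk := W.h21 kk
    ll := W.h21 ll
    ji := W.h23 ji
    lk := W.h23 lk
    ki := W.h2 ki
    li := W.h2 li
    kj := W.h2 kj
    lj := W.h2 lj
    x₁3 := by
      have h := W.h21 x13
      rw [W.app, W.nil] at h
      rw [pow_succ, pow_two]; exact h
    x₂3 := by
      have h := W.h21 x23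
      rw [W.app, W.nil] at h
      rw [pow_succ, pow_two]; exact h
    x₁_act := actx W
    x₂_act := actu W
    y_act := acty W
    xx := W.h2 xx
    y1 := by
      have h := W.h21 y1
      rw [W.app] at h
      exact hinv h
    y2 := by
      have h := W.h21 y2
      rw [W.app] at h
      exact hinv h
    yy := Or.inl (by
      have h := W.h21 yy
      rwa [W.nil] at h)
    cent := cent_eq W
    card_cent := card_cent W }

end

/-- the facts from the words -/
theorem one_of_words {G : Type*} [Group G] {v : List ℕ → G} (W : WM v) : Facts.One (v wz) (R v) := by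
  have h := case9c W
  have hy : v wy * v wy = 1 := by
    have h := W.h21 yy
    rwa [W.nil] at h
  have hodd : Odd (Subgroup.centralizer ({v wz} : Set G)).index := by
    have h1 := (Subgroup.centralizer ({v wz} : Set G)).index_mul_card
    rw [W.card, card_cent W] at h1
    have h2 : (Subgroup.centralizer ({v wz} : Set G)).index = 7371 := by omega
    rw [h2]; decide
  refine G23Abs.one h hy hodd (g := v wg) ?_ ?_
  · rw [W.h2 gz, mul_inv_cancel_right]
  · have h1 : v wg * v (wz ++ wy) = v wz * v wg := W.h2 gzy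
    rw [mul_assoc, ← h1, inv_mul_cancel_left, W.app]

open Cfsg.Agent.GTwoThree.Model

theorem two_dvd : 2 ^ 6 ∣ Nat.card ↥(Small.G23.PS 5) := by
  have hf : Fact (Nat.Prime 2) := ⟨Nat.prime_two⟩
  obtain ⟨k, hk⟩ := IsPGroup.iff_card.mp Small.G23.isPGroup_P
  have h1 := Small.G23.card_P
  rw [hk] at h1
  have h2 : 6 ≤ k := by
    by_contra h
    have h3 : 2 ^ k ≤ 2 ^ 5 := Nat.pow_le_pow_right (by norm_num) (by omega)
    omega
  rw [hk]
  exact pow_dvd_pow 2 h2

theorem words : WM (fun w => (ev y w : ↥Gp)) where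
  app := ev_append y
  nil := rfl
  eq := fun _ _ h => eq_of_eqc h
  ne := fun _ _ h => ne_of_nec h
  card := Small.G23.card_G
  cent := fun _ hg => Small.G23.cent hg
  two := two_dvd

/-- **The facts `One` for `G₂(3)`.** -/
theorem exists_one : ∃ (z : ↥Gp) (R : Subgroup ↥Gp), Facts.One z R := ⟨_, _, one_of_words words⟩

/-- **The facts `One` for every group isomorphic to `G₂(3)`.** -/
theorem facts {K : Type*} [Group K] (F : Type) [Field F] [Fintype F] (hF : Fintype.card F = 3)
    (e : K ≃* ↥(chevG2.group F)) : ∃ (z : K) (R : Subgroup K), Facts.One z R := by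
  have h3 : Fintype.card (ZMod 3) = Fintype.card F := by rw [hF]; rfl
  let φ : ZMod 3 ≃+* F := FiniteField.ringEquivOfCardEq h3
  obtain ⟨z, R, h⟩ := exists_one
  exact ⟨_, _, h.map ((Cfsg.Agent.ChevalleyStructure.FieldIso.groupEquiv chevG2 φ).trans e.symm)⟩

end Cfsg.Agent.OddHalf.D6.QThree.G23Facts
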