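import Cfsg.Agent.OddHalf.D6.QThree.G23Words2
import Cfsg.Agent.OddHalf.D6.QThree.G23Aut
import Cfsg.Agent.OddHalf.D6.QThree.G23Facts
import Cfsg.Agent.OddHalf.D6.QThree.TransportOut

/-!
# ODD half, D6, `q = 3`: the facts `Cls` and `Aut` for `G₂(3)` (helper618)

An automorphism fixing `z` which does not exchange the two factors of `O₂(C(z))` is inner: it may be assumed to be in
normal form on `O²(C(z))` (`G23Aut.normal_form`), and then the image of the generator `t` is one of 16 words; all but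
`t` and `z t z` violate a relation.
-/

set_option autoImplicit false
set_option maxRecDepth 10000

namespace Cfsg.Agent.OddHalf.D6.QThree.G23Out

open Cfsg.Lie
open Cfsg.Agent.Co2Type.Quad Cfsg.Agent.LargeExtra.Model Cfsg.Agent.LargeExtra.Pres
open Cfsg.Agent.LargeExtra.W2 Cfsg.Agent.LargeExtra.W2.PlusHom
open Cfsg.Agent.GTwoThree.Cent
open Cfsg.Agent.OddHalf.Small.G23Data Cfsg.Agent.OddHalf.Small.G23Check
open Cfsg.Agent.OddHalf.D6.QThree.G23Words Cfsg.Agent.OddHalf.D6.QThree.G23Facts
open Cfsg.Agent.OddHalf.D6.QThree.G23Abs Cfsg.Agent.OddHalf.D6.QThree.G23Aut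
open Cfsg.Agent.GTwoThree.Model (wb wd wt wr Gp)

/-- words for the elements of a group, generation and the class of involutions -/
structure WM2 {G : Type*} [Group G] (v : List ℕ → G) : Prop extends WM v where
  gen : ∀ S : Subgroup G, v w1 ∈ S → v wb ∈ S → v w2 ∈ S → v wd ∈ S → v wt ∈ S → S = ⊤
  conj : ∀ t : G, orderOf t = 2 → ∃ c, c * t * c⁻¹ = v wz

section

variable {G : Type*} [Group G] {v : List ℕ → G} (W : WM2 v)

local notation "z'" => v wz
local notation "i'" => v wi
local notation "j'" => v wj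
local notation "k'" => v wk
local notation "l'" => v wl
local notation "x'" => v w1
local notation "u'" => v w2
local notation "y'" => v wy
local notation "b'" => v wb
local notation "d'" => v wd
local notation "t'" => v wt
local notation "g'" => v wg

include W

theorem C : Case9c (R v) z' i' j' k' l' x' u' y' := case9c W.toWM

theorem hy : y' * y' = 1 := by
  have h := W.toWM.h21 yy
  rwa [W.nil] at h

theorem hodd : Odd (Subgroup.centralizer ({z'} : Set G)).index := by
  have h1 := (Subgroup.centralizer ({z'} : Set G)).index_mul_card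
  rw [W.card, card_cent W.toWM] at h1
  have h2 : (Subgroup.centralizer ({z'} : Set G)).index = 7371 := by omega
  rw [h2]; decide

theorem hz : z' * z' = 1 := (C W).large.z_sq

theorem hyz : y' * z' = z' * y' := y_z (C W)

theorem hb : b' = i' * j' * z' := by
  have h := W.eq _ _ b_eq
  rwa [W.app, W.app] at h

theorem hd : d' = k' * l' * z' := by
  have h := W.eq _ _ d_eq
  rwa [W.app, W.app] at h

/-- `t z = (z y) t` -/
theorem htz : t' * z' = z' * y' * t' := by
  have h := W.eq _ _ tz
  rwa [W.app, W.app, W.app] at h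

theorem hty : t' * y' = y' * t' := W.toWM.h2 ty

theorem hgz : g' * z' = y' * g' := W.toWM.h2 gz

theorem hgy : g' * y' = z' * y' * g' := by
  have h := W.eq _ _ gy
  rwa [W.app, W.app, W.app] at h

theorem htt : t' * t' = 1 := by
  have h := W.toWM.h21 tt
  rwa [W.nil] at h

/-- `b d` in terms of the coordinates -/
theorem hbd : b' * d' = i' * j' * (k' * l') := by
  have c1 : z' * (k' * l' * z') = k' * l' := by
    have h1 := (C W).large.comm_z _ ((R v).mul_mem mem_k' mem_l')
    calc z' * (k' * l' * z') = z' * (z' * (k' * l')) := by rw [h1]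
      _ = k' * l' := by rw [← mul_assoc, hz W, one_mul]
  rw [hb W, hd W, mul_assoc (i' * j'), c1]

omit W in
theorem e_EW (p q s : ℕ) : EW p q s = (if p = 0 then [] else wz) ++ ((if q = 0 then [] else wy) ++
    (if s = 0 then [] else wb ++ wd)) := rfl

theorem EW_val (p q s : ℕ) : v (EW p q s) = (if p = 0 then 1 else z') * ((if q = 0 then 1 else y') *
    (if s = 0 then 1 else b' * d')) := by
  rw [e_EW, W.app, W.app]
  congr 1
  · split_ifs
    · exact W.nil
    · rfl
  · congr 1
    · split_ifs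
      · exact W.nil
      · rfl
    · split_ifs
      · exact W.nil
      · exact W.app _ _

/-- `y` commutes with `b d` -/
theorem y_bd : y' * (b' * d') = b' * d' * y' := by
  have h1 : mul false (kq Cfsg.Agent.GTwoThree.Fusion.dm) ky = mul false ky (kq Cfsg.Agent.GTwoThree.Fusion.dm) := by
    decide +kernel
  have h := C W
  have h2 := (comm_iff_code h (hy W)).2 h1
  rw [toG_kq, toG_ky, Cfsg.Agent.GTwoThree.Fusion.hom_dm, ← hbd W] at h2
  exact h2.symm

theorem exists_EW {ε : G} (h1 : ε * z' = z' * ε) (h2 : ε * y' = y' * ε) :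
    ∃ p < 2, ∃ q < 2, ∃ s < 2, ε = v (EW p q s) := by
  have h := C W
  obtain ⟨u, rfl⟩ := exists_code h h1
  have h3 : mul false u ky = mul false ky u := by
    rw [← comm_iff_code h (hy W), toG_ky]; exact h2
  obtain ⟨e, he⟩ := Cfsg.Agent.GTwoThree.Fusion.dec_cy u h3
  have hz' : hom h.toPlus (Cfsg.Agent.LargeExtra.Model.zz : M) = z' := hom_zz _
  have hdm : hom h.toPlus Cfsg.Agent.GTwoThree.Fusion.dm = b' * d' := by
    rw [Cfsg.Agent.GTwoThree.Fusion.hom_dm, hbd W]
  have hb : z' * (b' * d') = b' * d' * z' := by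
    rw [hbd W]
    exact (h.large.comm_z _ ((R v).mul_mem ((R v).mul_mem mem_i' mem_j') ((R v).mul_mem mem_k' mem_l'))).symm
  have hyb := y_bd W
  rcases he with rfl | rfl | rfl | rfl
  · refine ⟨0, by norm_num, e.1, e.2, 0, by norm_num, ?_⟩
    rw [EW_val W]
    fin_cases e <;> simp [toG]
  · refine ⟨1, by norm_num, e.1, e.2, 0, by norm_num, ?_⟩
    rw [EW_val W]
    fin_cases e <;> simp [toG, hz']
  · refine ⟨0, by norm_num, e.1, e.2, 1, by norm_num, ?_⟩
    rw [EW_val W]
    fin_cases e <;> simp [toG, hdm, hyb]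
  · refine ⟨1, by norm_num, e.1, e.2, 1, by norm_num, ?_⟩
    rw [EW_val W]
    fin_cases e <;> simp [toG, hz', hdm, hyb, ← mul_assoc, hb]

/-- the image of `t` -/
theorem exists_CT {γ : MulAut G} (hγ : γ z' = z') (hγy : γ y' = y' ∨ γ y' = y' * z') :
    ∃ f < 2, ∃ p < 2, ∃ q < 2, ∃ s < 2, γ t' = v (CT f p q s) := by
  have e1 := congrArg γ (htz W)
  have e2 := congrArg γ (hty W)
  rw [map_mul, map_mul, map_mul, hγ] at e1
  rw [map_mul, map_mul] at e2
  rcases hγy with h | h
  · rw [h] at e1 e2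
    obtain ⟨p, hp, q, hq, s, hs, e⟩ := exists_EW W (ε := t'⁻¹ * γ t') (by
        rw [mul_assoc, e1]
        have h3 : t'⁻¹ * (z' * y') = z' * t'⁻¹ := by
          rw [inv_mul_eq_iff_eq_mul, ← mul_assoc, htz W, mul_inv_cancel_right]
        rw [← mul_assoc, h3, mul_assoc]) (by
        rw [mul_assoc, e2]
        have h3 : t'⁻¹ * y' = y' * t'⁻¹ := by
          rw [inv_mul_eq_iff_eq_mul, ← mul_assoc, hty W, mul_inv_cancel_right]
        rw [← mul_assoc, h3, mul_assoc])
    refine ⟨0, by norm_num, p, hp, q, hq, s, hs, ?_⟩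
    show _ = v (wt ++ EW p q s)
    rw [W.app, ← e, mul_inv_cancel_left]
  · rw [h] at e1 e2
    -- `s z = y s`, `s y = z s`
    have s1 : t' * g' * z' = y' * (t' * g') := by
      rw [mul_assoc, hgz W, ← mul_assoc, hty W, mul_assoc]
    have s2 : t' * g' * y' = z' * (t' * g') := by
      calc t' * g' * y' = t' * (g' * y') := by rw [mul_assoc]
        _ = t' * z' * (y' * g') := by rw [hgy W]; simp only [mul_assoc]
        _ = z' * y' * (t' * y') * g' := by rw [htz W]; simp only [mul_assoc]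
        _ = z' * (y' * y') * (t' * g') := by rw [hty W]; simp only [mul_assoc]
        _ = z' * (t' * g') := by rw [hy W, mul_one]
    have f1 : γ t' * z' = y' * γ t' := by
      rw [e1]
      have : z' * (y' * z') = y' := by
        rw [← mul_assoc, ← hyz W, mul_assoc, hz W, mul_one]
      rw [this]
    have f2 : γ t' * y' = z' * γ t' := by
      have h5 : γ t' * y' * z' = y' * z' * γ t' := by rw [mul_assoc]; exact e2
      calc γ t' * y' = γ t' * y' * z' * z' := by rw [mul_assoc (γ t' * y'), hz W, mul_one]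
        _ = y' * z' * (γ t' * z') := by rw [h5, mul_assoc]
        _ = y' * z' * y' * γ t' := by rw [f1]; simp only [mul_assoc]
        _ = z' * (y' * y') * γ t' := by rw [hyz W]; simp only [mul_assoc]
        _ = z' * γ t' := by rw [hy W, mul_one]
    obtain ⟨p, hp, q, hq, s, hs, e⟩ := exists_EW W (ε := (t' * g')⁻¹ * γ t') (by
        rw [mul_assoc, f1]
        have h3 : (t' * g')⁻¹ * y' = z' * (t' * g')⁻¹ := by
          rw [inv_mul_eq_iff_eq_mul, ← mul_assoc, s1, mul_inv_cancel_right]
        rw [← mul_assoc, h3, mul_assoc]) (by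
        rw [mul_assoc, f2]
        have h3 : (t' * g')⁻¹ * z' = y' * (t' * g')⁻¹ := by
          rw [inv_mul_eq_iff_eq_mul, ← mul_assoc, s2, mul_inv_cancel_right]
        rw [← mul_assoc, h3, mul_assoc])
    refine ⟨1, by norm_num, p, hp, q, hq, s, hs, ?_⟩
    show _ = v ((wt ++ wg) ++ EW p q s)
    rw [W.app, W.app wt wg, ← e, mul_inv_cancel_left]

/-- the image of `y` -/
theorem gamma_y {γ : MulAut G} (hγ : γ z' = z') (h1 : ∀ q, q = i' ∨ q = j' ∨ q = k' ∨ q = l' →
      ∃ p, γ p = q ∧ γ (y' * p * y'⁻¹) = y' * q * y'⁻¹) : γ y' = y' ∨ γ y' = y' * z' := by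
  have h := C W
  have hbase := base h (hy W) (hodd W)
  have h2 : ∀ q, q = i' ∨ q = j' ∨ q = k' ∨ q = l' → y'⁻¹ * γ y' * q = q * (y'⁻¹ * γ y') := by
    intro q hq
    obtain ⟨p, e1, e2⟩ := h1 q hq
    rw [map_mul, map_mul, map_inv, e1] at e2
    calc y'⁻¹ * γ y' * q = y'⁻¹ * (γ y' * q * (γ y')⁻¹) * γ y' := by group
      _ = y'⁻¹ * (y' * q * y'⁻¹) * γ y' := by rw [e2]
      _ = q * (y'⁻¹ * γ y') := by group
  have h3 : y'⁻¹ * γ y' * z' = z' * (y'⁻¹ * γ y') := by
    have c1 : Commute y' z' := hyz W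
    have c2 : Commute (γ y') z' := by
      show γ y' * z' = z' * γ y'
      rw [← hγ, ← map_mul, ← map_mul, hyz W]
    exact (c1.inv_left.mul_left c2).eq
  have h4 : ∀ r ∈ R v, y'⁻¹ * γ y' * r = r * (y'⁻¹ * γ y') := by
    have h5 : R v ≤ Subgroup.centralizer ({y'⁻¹ * γ y'} : Set G) := by
      unfold R
      rw [Subgroup.closure_le]
      intro q hq
      have hq' : q = i' ∨ q = j' ∨ q = k' ∨ q = l' := by simpa using hq
      exact Subgroup.mem_centralizer_singleton_iff.2 (h2 q hq').symm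
    intro r hr
    exact (Subgroup.mem_centralizer_singleton_iff.1 (h5 hr)).symm
  rcases hbase.cR _ h3 h4 with h5 | h5
  · left
    have : γ y' = y' * (y'⁻¹ * γ y') := by group
    rw [this, h5, mul_one]
  · right
    have : γ y' = y' * (y'⁻¹ * γ y') := by group
    rw [this, h5]

theorem ey_i : y' * i' * y'⁻¹ = j' * z' := (C W).y_act.i
theorem ey_j : y' * j' * y'⁻¹ = i' * z' := (C W).y_act.j
theorem ey_k : y' * k' * y'⁻¹ = l' * z' := (C W).y_act.k
theorem ey_l : y' * l' * y'⁻¹ = k' * z' := (C W).y_act.l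

theorem ey_z (q : G) : y' * (q * z') * y'⁻¹ = y' * q * y'⁻¹ * z' := by
  have c1 : Commute y' z' := hyz W
  calc y' * (q * z') * y'⁻¹ = y' * q * (z' * y'⁻¹) := by group
    _ = y' * q * (y'⁻¹ * z') := by rw [c1.inv_left.eq]
    _ = _ := by group

theorem relk1 (γ : MulAut G) : (γ x' * γ t') * (γ x' * γ t') = (γ t' * γ x') * (γ t' * γ x') := by
  have h := W.eq _ _ k1
  rw [W.app, W.app, W.app (wt ++ w1), W.app wt w1] at h
  rw [← map_mul, ← map_mul, ← map_mul, ← map_mul, h]

theorem relk3 (γ : MulAut G) : γ x' * (γ t' * γ u' * γ t') = γ t' * γ u' * γ t' * γ x' := by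
  have h := W.eq _ _ k3
  rw [W.app, W.app (wt ++ w2), W.app wt w2, W.app (wt ++ w2 ++ wt), W.app (wt ++ w2), W.app wt w2] at h
  rw [← map_mul, ← map_mul, ← map_mul, ← map_mul, h]

/-- automorphisms trivial on `O²(C(z))` -/
theorem a1 {γ : MulAut G} (hγ : γ z' = z') (hx : γ x' = x') (hi : γ i' = i') (hj : γ j' = j') (hu : γ u' = u')
    (hk : γ k' = k') (hl : γ l' = l') : γ = 1 ∨ γ = MulAut.conj z' := by
  have hby : γ y' = y' ∨ γ y' = y' * z' := by
    apply gamma_y W hγ
    intro q hq
    rcases hq with rfl | rfl | rfl | rfl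
    · exact ⟨_, hi, by rw [ey_i W, map_mul, hj, hγ]⟩
    · exact ⟨_, hj, by rw [ey_j W, map_mul, hi, hγ]⟩
    · exact ⟨_, hk, by rw [ey_k W, map_mul, hl, hγ]⟩
    · exact ⟨_, hl, by rw [ey_l W, map_mul, hk, hγ]⟩
  have hb' : γ b' = b' := by rw [hb W, map_mul, map_mul, hi, hj, hγ]
  have hd' : γ d' = d' := by rw [hd W, map_mul, map_mul, hk, hl, hγ]
  obtain ⟨f, hf, p, hp, q, hq, s, hs, e⟩ := exists_CT W hγ hby
  have r1 := relk1 W γ
  have r3 := relk3 W γ
  rw [hx, e] at r1
  rw [hx, hu, e] at r3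
  rcases cand hf hp hq hs with ⟨rfl, rfl, rfl⟩ | h1 | h1
  · have hq' : q = 0 ∨ q = 1 := by omega
    rcases hq' with rfl | rfl
    · left
      have e' : γ t' = t' := by
        rw [e]
        show v (wt ++ ([] ++ ([] ++ []))) = _
        rw [W.app, W.app, W.app, W.nil, mul_one, mul_one, mul_one]
      have hS : (γ.toMonoidHom.eqLocus (MonoidHom.id G)) = ⊤ := W.gen _ hx hb' hu hd' e'
      ext a
      have : a ∈ γ.toMonoidHom.eqLocus (MonoidHom.id G) := by rw [hS]; trivial
      exact this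
    · right
      have e' : γ t' = z' * t' * z'⁻¹ := by
        rw [e, W.eq _ _ ty_conj, W.app, W.app, (C W).large.z_inv]
      have hc : ∀ a : G, a * z' = z' * a → γ a = a → a ∈ γ.toMonoidHom.eqLocus (MulAut.conj z').toMonoidHom := by
        intro a h1 h2
        show γ a = z' * a * z'⁻¹
        rw [h2, ← h1, mul_inv_cancel_right]
      have cb : b' * z' = z' * b' := by
        rw [hb W]
        exact (C W).large.comm_z _ ((R v).mul_mem ((R v).mul_mem mem_i' mem_j') (mem_z' W.toWM))
      have cd : d' * z' = z' * d' := by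
        rw [hd W]
        exact (C W).large.comm_z _ ((R v).mul_mem ((R v).mul_mem mem_k' mem_l') (mem_z' W.toWM))
      have hS : (γ.toMonoidHom.eqLocus (MulAut.conj z').toMonoidHom) = ⊤ :=
        W.gen _ (hc _ (x1_z (C W)) hx) (hc _ cb hb') (hc _ (x2_z (C W)) hu) (hc _ cd hd') e'
      ext a
      have : a ∈ γ.toMonoidHom.eqLocus (MulAut.conj z').toMonoidHom := by rw [hS]; trivial
      exact this
  · exfalso
    apply W.ne _ _ h1
    rw [W.app, W.app, W.app (CT f p q s ++ w1), W.app _ w1]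
    exact r1
  · exfalso
    apply W.ne _ _ h1
    rw [W.app, W.app (CT f p q s ++ w2), W.app _ w2, W.app (CT f p q s ++ w2 ++ CT f p q s),
      W.app (CT f p q s ++ w2), W.app _ w2]
    exact r3

/-- the twisted action does not occur -/
theorem bad {γ : MulAut G} (hγ : γ z' = z') (hi : γ i' = i') (hj : γ j' = j')
    (hk : γ k' = l' * z') (hl : γ l' = k' * z') : False := by
  have hzz := hz W
  have hlz : γ (l' * z') = k' := by rw [map_mul, hl, hγ, mul_assoc, hzz, mul_one]
  have hkz : γ (k' * z') = l' := by rw [map_mul, hk, hγ, mul_assoc, hzz, mul_one]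
  have hby : γ y' = y' ∨ γ y' = y' * z' := by
    apply gamma_y W hγ
    intro q hq
    rcases hq with rfl | rfl | rfl | rfl
    · exact ⟨_, hi, by rw [ey_i W, map_mul, hj, hγ]⟩
    · exact ⟨_, hj, by rw [ey_j W, map_mul, hi, hγ]⟩
    · refine ⟨_, hlz, ?_⟩
      rw [ey_z W, ey_l W, ey_k W, mul_assoc, hzz, mul_one, hk]
    · refine ⟨_, hkz, ?_⟩
      rw [ey_z W, ey_k W, ey_l W, mul_assoc, hzz, mul_one, hl]
  obtain ⟨f, hf, p, hp, q, hq, s, hs, e⟩ := exists_CT W hγ hby
  have hb' : γ b' = b' := by rw [hb W, map_mul, map_mul, hi, hj, hγ]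
  have hd' : γ d' = d' * z' := by
    have c1 := (C W).large.comm_z _ (mem_k' (v := v))
    calc γ d' = l' * z' * (k' * z') * z' := by rw [hd W, map_mul, map_mul, hk, hl, hγ]
      _ = l' * (z' * k') * (z' * z') := by simp only [mul_assoc]
      _ = l' * k' * z' := by rw [hzz, ← c1, mul_one, mul_assoc]
      _ = k' * l' * z' * z' := by rw [(C W).lk]
      _ = d' * z' := by rw [hd W]
  have h1 := W.toWM.h2 te
  rw [W.app wb wd] at h1
  have h3 : γ (b' * d') = b' * d' * z' := by rw [map_mul, hb', hd', ← mul_assoc]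
  have h2 := congrArg γ h1
  rw [map_mul γ t', map_mul γ (b' * d'), h3, e] at h2
  apply W.ne _ _ (cand' f hf p hp q hq s hs)
  rw [W.app, W.app (wb ++ wd ++ wz), W.app (wb ++ wd), W.app wb wd]
  exact h2

/-- a non-exchanging automorphism is inner -/
theorem inner {α : MulAut G} (hα : α z' = z') (hn : NS (R v) i' j' k' l' α) :
    ∃ c, c * z' = z' * c ∧ α = MulAut.conj c := by
  obtain ⟨c, hc, γ, e, h1, h2, h3, h4, h5⟩ := normal_form (C W) (hy W) (hodd W) hα hn
  rcases h5 with ⟨h5, h6, h7⟩ | ⟨-, h6, h7⟩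
  · rcases a1 W h1 h2 h3 h4 h5 h6 h7 with h8 | h8
    · exact ⟨c, hc, by rw [e, h8, mul_one]⟩
    · refine ⟨c * z', ?_, by rw [e, h8, map_mul]⟩
      rw [mul_assoc, hz W, mul_one, ← mul_assoc, ← hc, mul_assoc, hz W, mul_one]
  · exact absurd (bad W h1 h3 h4 h6 h7) id

theorem hz1 : z' ≠ 1 := (C W).large.z_ne

/-- every automorphism fixes `z` up to an inner automorphism -/
theorem exists_fix (α : MulAut G) : ∃ c : G, (MulAut.conj c * α) z' = z' := by
  have h1 : orderOf (α z') = 2 := by
    rw [MulEquiv.orderOf_eq]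
    exact orderOf_eq_prime (by rw [pow_two]; exact hz W) (hz1 W)
  obtain ⟨c, hc⟩ := W.conj _ h1
  exact ⟨c, hc⟩

/-- `|Out| ≤ 2` -/
theorem out : (MulAut.conj : G →* MulAut G).range.index ∣ 2 := by
  have key : ∀ α : MulAut G, α z' = z' → α ∉ (MulAut.conj : G →* MulAut G).range →
      SW (R v) i' j' k' l' α := by
    intro α hα hn
    rcases dich (C W) (hy W) (hodd W) hα with h1 | h1
    · exfalso
      obtain ⟨c, -, e⟩ := inner W hα h1
      exact hn ⟨c, e.symm⟩
    · exact h1
  have key2 : ∀ α β : MulAut G, α ∉ (MulAut.conj : G →* MulAut G).range →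
      β ∉ (MulAut.conj : G →* MulAut G).range → β * α ∈ (MulAut.conj : G →* MulAut G).range := by
    intro α β ha hb
    obtain ⟨c, hc⟩ := exists_fix W α
    obtain ⟨d, hd⟩ := exists_fix W β
    have hmem : ∀ (c : G) (α : MulAut G), α ∉ (MulAut.conj : G →* MulAut G).range →
        MulAut.conj c * α ∉ (MulAut.conj : G →* MulAut G).range := by
      intro c α h1 h2
      apply h1
      have h3 := Subgroup.mul_mem _ (Subgroup.inv_mem _ (⟨c, rfl⟩ : MulAut.conj c ∈ (MulAut.conj : G →* MulAut G).range)) h2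
      rwa [inv_mul_cancel_left] at h3
    have h1 := comp (C W) (hy W) (hodd W) hc hd (key _ hc (hmem c α ha)) (key _ hd (hmem d β hb))
    have hz2 : ((MulAut.conj d * β) * (MulAut.conj c * α)) z' = z' := by
      show (MulAut.conj d * β) ((MulAut.conj c * α) z') = z'
      rw [hc, hd]
    obtain ⟨e, -, he⟩ := inner W hz2 h1
    -- `β * α = conj (d⁻¹ * e * (β c)⁻¹)`
    have h2 : β * MulAut.conj c = MulAut.conj (β c) * β := by
      ext a
      show β (c * a * c⁻¹) = β c * β a * (β c)⁻¹
      rw [map_mul, map_mul, map_inv]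
    have h3 : MulAut.conj d * MulAut.conj (β c) * (β * α) = MulAut.conj e := by
      rw [← he, mul_assoc (MulAut.conj d), ← mul_assoc _ β α, ← h2]
      simp only [mul_assoc]
    have h4 : β * α = (MulAut.conj d * MulAut.conj (β c))⁻¹ * MulAut.conj e := by
      rw [← h3, inv_mul_cancel_left]
    rw [h4]
    refine Subgroup.mul_mem _ (Subgroup.inv_mem _ (Subgroup.mul_mem _ ⟨d, rfl⟩ ⟨β c, rfl⟩)) ⟨e, rfl⟩
  by_cases htop : (MulAut.conj : G →* MulAut G).range = ⊤
  · rw [htop, Subgroup.index_top]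
    exact one_dvd 2
  · obtain ⟨α, hα⟩ : ∃ α : MulAut G, α ∉ (MulAut.conj : G →* MulAut G).range := by
      by_contra hcon
      push Not at hcon
      exact htop (eq_top_iff.2 fun x _ => hcon x)
    have h2 : (MulAut.conj : G →* MulAut G).range.index = 2 := by
      rw [Subgroup.index_eq_two_iff]
      refine ⟨α, fun β => ?_⟩
      by_cases hb : β ∈ (MulAut.conj : G →* MulAut G).range
      · right
        refine ⟨hb, fun h3 => hα ?_⟩
        have h4 := Subgroup.mul_mem _ (Subgroup.inv_mem _ hb) h3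
        rwa [inv_mul_cancel_left] at h4
      · left
        exact ⟨key2 α β hα hb, hb⟩
    rw [h2]

/-- the facts on `Aut` -/
theorem aut : FactsOut.Aut z' (R v) where
  out := out W
  a1 := by
    intro α hα hodd
    have h := C W
    have hx : α x' = x' := hodd _ (x1_z h) (odd_three h.x₁3)
    have hu : α u' = u' := hodd _ (x2_z h) (odd_three h.x₂3)
    -- `j i⁻¹ = x₁ (i x₁⁻¹ i⁻¹)`
    have key : ∀ x q : G, x ^ 3 = 1 → x * z' = z' * x → q * z' = z' * q → α (q * x⁻¹ * q⁻¹) = q * x⁻¹ * q⁻¹ := by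
      intro x q h3 hxz hqz
      apply hodd
      · have c1 : Commute q z' := hqz
        have c2 : Commute x z' := hxz
        exact ((c1.mul_left c2.inv_left).mul_left c1.inv_left).eq
      · apply odd_three
        have e : q * x⁻¹ * q⁻¹ = MulAut.conj q x⁻¹ := rfl
        rw [e, ← map_pow, inv_pow, h3, inv_one, map_one]
    have hij : α (i' * j') = i' * j' := by
      have e1 : x' * (i' * x'⁻¹ * i'⁻¹) = i' * j' := by
        calc x' * (i' * x'⁻¹ * i'⁻¹) = (x' * i' * x'⁻¹) * i'⁻¹ := by group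
          _ = j' * i'⁻¹ := by rw [h.x₁_act.i]
          _ = j' * (i' * z') := by
            congr 1
            rw [inv_eq_iff_mul_eq_one, ← mul_assoc, h.ii, h.large.z_sq]
          _ = i' * j' := by rw [← mul_assoc, h.ji, mul_assoc, h.large.z_sq, mul_one]
      rw [← e1, map_mul, hx, key _ _ h.x₁3 (x1_z h) (h.large.comm_z _ mem_i')]
    have hkl : α (k' * l') = k' * l' := by
      have e1 : u' * (k' * u'⁻¹ * k'⁻¹) = k' * l' := by
        calc u' * (k' * u'⁻¹ * k'⁻¹) = (u' * k' * u'⁻¹) * k'⁻¹ := by group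
          _ = l' * k'⁻¹ := by rw [h.x₂_act.k]
          _ = l' * (k' * z') := by
            congr 1
            rw [inv_eq_iff_mul_eq_one, ← mul_assoc, h.kk, h.large.z_sq]
          _ = k' * l' := by rw [← mul_assoc, h.lk, mul_assoc, h.large.z_sq, mul_one]
      rw [← e1, map_mul, hu, key _ _ h.x₂3 (x2_z h) (h.large.comm_z _ mem_k')]
    -- `x₁ (i j) x₁⁻¹ = i`
    have ei : x' * (i' * j') * x'⁻¹ = i' := by
      calc x' * (i' * j') * x'⁻¹ = (x' * i' * x'⁻¹) * (x' * j' * x'⁻¹) := by group
        _ = j' * i' * j' := by rw [h.x₁_act.i, h.x₁_act.j, mul_assoc]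
        _ = i' * j' * z' * j' := by rw [h.ji]
        _ = i' * (j' * (z' * j')) := by simp only [mul_assoc]
        _ = i' := by rw [← h.large.comm_z _ mem_j', ← mul_assoc j', h.jj, h.large.z_sq, mul_one]
    have ek : u' * (k' * l') * u'⁻¹ = k' := by
      calc u' * (k' * l') * u'⁻¹ = (u' * k' * u'⁻¹) * (u' * l' * u'⁻¹) := by group
        _ = l' * k' * l' := by rw [h.x₂_act.k, h.x₂_act.l, mul_assoc]
        _ = k' * l' * z' * l' := by rw [h.lk]
        _ = k' * (l' * (z' * l')) := by simp only [mul_assoc]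
        _ = k' := by rw [← h.large.comm_z _ mem_l', ← mul_assoc l', h.ll, h.large.z_sq, mul_one]
    have hi : α i' = i' := by
      conv_lhs => rw [← ei]
      rw [map_mul, map_mul, map_inv, hx, hij, ei]
    have hk : α k' = k' := by
      conv_lhs => rw [← ek]
      rw [map_mul, map_mul, map_inv, hu, hkl, ek]
    have hj : α j' = j' := by
      rw [← h.x₁_act.i, map_mul, map_mul, map_inv, hx, hi]
    have hl : α l' = l' := by
      rw [← h.x₂_act.k, map_mul, map_mul, map_inv, hu, hk]
    exact a1 W hα hx hi hj hu hk hl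
  a2 := by
    intro α hp hα hR
    have h := C W
    have hx := hR _ (x1_z h) (odd_three h.x₁3)
    -- `α` does not exchange the factors
    have hns : NS (R v) i' j' k' l' α := by
      obtain ⟨u, hu⟩ := exists_u h α hα (x1_z h)
      rcases (dich_code h (hy W) (hodd W) hα hu).2 with ⟨-, -, h1⟩ | ⟨h1, -⟩
      · exact h1
      · exfalso
        obtain ⟨m, hm⟩ := exists_hom h.toPlus hx
        have h2 : toG h u = toG h (mul false (kq m) kx) := by
          rw [mulG h (hy W), toG_kq, toG_kx, hm, hu, inv_mul_cancel_right]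
        rw [toG_inj] at h2
        rw [h2] at h1
        have h3 : (mul2 (0, 0, 0) (1, 0, 0)).1 = 0 := h1
        exact absurd h3 (by decide)
    obtain ⟨c, hc, rfl⟩ := inner W hα hns
    obtain ⟨w, rfl⟩ := exists_code h hc
    have he : w.2.2.2 = 0 := by
      by_contra hne
      have hx' : toG h w * x' * (toG h w)⁻¹ * x'⁻¹ ∈ R v := hx
      have h4 : x' * x' * (toG h w * x' * (toG h w)⁻¹ * x'⁻¹) ∈ R v → False := by
        intro h5
        have h6 := (R v).mul_mem h5 ((R v).inv_mem hx')
        rw [mul_inv_cancel_right, ← toG_kx h, ← mulG h (hy W), mem_Q] at h6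
        have h7 : mul2 (1, 0, 0) (1, 0, 0) = (0, 0, 0) := h6
        exact absurd h7 (by decide)
      obtain ⟨m, hm⟩ := exists_hom h.toPlus hx'
      have h5 : mul false w kx = mul false (mul false (kq m) kx) w := by
        rw [← toG_inj h, mulG h (hy W), mulG h (hy W), mulG h (hy W), toG_kq, toG_kx, hm]
        group
      have h6 := congrArg Prod.snd h5
      have h7 : ∀ w : Fin 3 × Fin 3 × Fin 2, w.2.2 ≠ 0 → mul2 w (1, 0, 0) ≠ mul2 (mul2 (0, 0, 0) (1, 0, 0)) w := by
        decide
      exact h7 w.2 hne h6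
    refine ⟨toG h w, ?_, rfl⟩
    -- `c` is a 2-element
    have hcp : IsPGroup 2 (Subgroup.zpowers (toG h w)) := by
      obtain ⟨n, hn⟩ := hp ⟨MulAut.conj (toG h w), Subgroup.mem_zpowers _⟩
      have h1 : MulAut.conj (toG h w) ^ 2 ^ n = 1 := congrArg Subtype.val hn
      rw [← map_pow] at h1
      have h2 : ∀ a : G, toG h w ^ 2 ^ n * a = a * toG h w ^ 2 ^ n := by
        intro a
        have h3 : MulAut.conj (toG h w ^ 2 ^ n) a = a := by rw [h1]; rfl
        rw [MulAut.conj_apply, mul_inv_eq_iff_eq_mul] at h3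
        exact h3
      have h3 := (base h (hy W) (hodd W)).cR _ (h2 z') (fun r _ => h2 r)
      have h4 : toG h w ^ 2 ^ (n + 1) = 1 := by
        rw [pow_succ 2 n, pow_mul, pow_two]
        rcases h3 with h3 | h3 <;> rw [h3]
        · exact one_mul _
        · exact hz W
      intro a
      obtain ⟨a, n', rfl⟩ := a
      refine ⟨n + 1, Subtype.ext ?_⟩
      show (toG h w ^ n') ^ 2 ^ (n + 1) = 1
      rw [← zpow_natCast, ← zpow_mul, mul_comm, zpow_mul, zpow_natCast, h4, one_zpow]
    have h1 := mem_Q_of_two h (hy W) hcp (Subgroup.mem_zpowers _) he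
    exact (mem_Q h).2 h1

/-- the facts with one class of involutions -/
theorem cls : FactsOut.Cls z' (R v) where
  toBase := base (C W) (hy W) (hodd W)
  one := by
    intro p hp hp1
    obtain ⟨c, hc⟩ := W.conj p (orderOf_eq_prime (by rw [pow_two]; exact hp) hp1)
    exact ⟨c⁻¹, by rw [← hc]; group⟩
  inv := by
    have h := C W
    have h1 : (mi * mk) * (mi * mk) = (1 : M) := by decide +kernel
    have h2 : mi * mk ≠ (1 : M) := by decide +kernel
    have h3 : mi * mk ≠ (Cfsg.Agent.LargeExtra.Model.zz : M) := by decide +kernel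
    refine ⟨hom h.toPlus (mi * mk), hom_mem _ _, ?_, ?_, ?_⟩
    · rw [← map_mul, h1, map_one]
    · intro e
      apply h2
      rw [← hom_eq_iff h.toPlus, e, map_one]
    · intro e
      apply h3
      rw [← hom_eq_iff h.toPlus, e, hom_zz]
  ex := by
    have h := C W
    have hgy : g' * z' * g'⁻¹ = y' := by rw [hgz W, mul_inv_cancel_right]
    have hg2 : g'⁻¹ * z' * g' = z' * y' := by
      have h1 : g' * v (wz ++ wy) = z' * g' := W.toWM.h2 gzy
      rw [mul_assoc, ← h1, inv_mul_cancel_left, W.app]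
    refine ⟨y', g', hy W, hyz W, hgy, ?_, ?_⟩
    · rw [hg2]
      intro h1
      have h2 : toG h (mul false (kq Cfsg.Agent.LargeExtra.Model.zz) ky) = z' * y' := by
        rw [mulG h (hy W), toG_kq, toG_ky, hom_zz]
      rw [← h2, mem_Q] at h1
      exact absurd h1 (by decide +kernel)
    · intro r hr hvr
      have hyQ : y' ∉ R v := by
        intro h1
        have h2 : toG h ky ∈ R v := by rw [toG_ky]; exact h1
        rw [mem_Q] at h2
        exact absurd h2 (by decide)
      have hvz : y' * r * z' = z' * (y' * r) := by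
        rw [mul_assoc, h.large.comm_z r hr, ← mul_assoc, hyz W, mul_assoc]
      obtain ⟨c, hc, hcp⟩ := Cfsg.Agent.GTwoThree.Fusion.exists_outer_conj h (hy W) hvr hvz
        (fun h1 => hyQ (by
          have h2 := (R v).mul_mem h1 ((R v).inv_mem hr)
          rwa [mul_inv_cancel_right] at h2))
      refine ⟨c⁻¹, ?_, ?_⟩
      · have : Commute c z' := hc
        exact this.inv_left.eq
      · rw [← hcp]; group

end

open Cfsg.Agent.GTwoThree.Model in
theorem words2 : WM2 (fun w => (ev y w : ↥Gp)) where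
  toWM := words
  gen := fun _ h1 h2 h3 h4 h5 => eq_top h1 h2 h3 h4 h5
  conj := fun _ ht => Small.G23.exists_conj ht

/-- **The facts `Cls` and `Aut` for `G₂(3)`.** -/
theorem exists_cls : ∃ (z : ↥Gp) (R : Subgroup ↥Gp), FactsOut.Cls z R ∧ FactsOut.Aut z R :=
  ⟨_, _, cls words2, aut words2⟩

/-- **The facts `Cls` and `Aut` for every group isomorphic to `G₂(3)`.** -/
theorem facts {K : Type*} [Group K] (F : Type) [Field F] [Fintype F] (hF : Fintype.card F = 3)
    (e : K ≃* ↥(chevG2.group F)) : ∃ (z : K) (R : Subgroup K), FactsOut.Cls z R ∧ FactsOut.Aut z R := by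
  have h3 : Fintype.card (ZMod 3) = Fintype.card F := by rw [hF]; rfl
  let φ : ZMod 3 ≃+* F := FiniteField.ringEquivOfCardEq h3
  obtain ⟨z, R, h, h'⟩ := exists_cls
  exact ⟨_, _, h.map ((Cfsg.Agent.ChevalleyStructure.FieldIso.groupEquiv chevG2 φ).trans e.symm),
    h'.map ((Cfsg.Agent.ChevalleyStructure.FieldIso.groupEquiv chevG2 φ).trans e.symm)⟩

end Cfsg.Agent.OddHalf.D6.QThree.G23Out
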