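import Cfsg.Agent.OddHalf.D6.QThree.U43Plus
import Cfsg.Agent.LargeExtra.W2.Cases
import Cfsg.Agent.LargeExtra.W2.CType
import Cfsg.Agent.LargeExtra.W2.OddDead
import Cfsg.Agent.LargeExtra.W2.Simple
import Cfsg.Agent.LargeExtra.W2.U43.Fusion
import Cfsg.Agent.S0280
import Cfsg.Agent.S0283

/-!
# ODD half, D6, `q = 3`: the configuration `Tw` in `U₄(3)` (helper577)
-/

set_option autoImplicit false

namespace Cfsg.Agent.OddHalf.D6.QThree.U43Tw

open Cfsg Cfsg.Agent.OddHalf.Small.U43Mat Cfsg.Agent.OddHalf.Small.U43Good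
open Cfsg.Agent.LieClassical.HermSiegel Cfsg.Agent.LieClassical.SUBasic
open Cfsg.Agent.ClassicalGeometry.UnitAutBasic (pr pr_surjective)
open Cfsg.Agent.OddHalf.D6.QThree.U43Elt Cfsg.Agent.OddHalf.D6.QThree.U43Plus
open Cfsg.Agent.LargeExtra.W2 Cfsg.Agent.LargeExtra.W2.Hom Cfsg.Agent.LargeExtra.W2.Lift

section K

variable {G : Type*} [Group G] {Q : Subgroup G} {z i j k l x₁ x₂ : G}

theorem wr_fact : ∀ a : Wr, a ^ 8 = 1 → (a * Wr.X1 * a⁻¹ * Wr.X1⁻¹) ^ 8 = 1 →
    (a * Wr.X2 * a⁻¹ * Wr.X2⁻¹) ^ 8 = 1 → a = 1 := by decide +kernel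

theorem wr_pow : ∀ a : Wr, a ^ 72 = 1 := by decide +kernel

theorem pow_eight {a : Wr} {n : ℕ} (h : a ^ 2 ^ n = 1) : a ^ 8 = 1 := by
  have h1 : orderOf a ∣ 2 ^ n := orderOf_dvd_of_pow_eq_one h
  have h2 : orderOf a ∣ 72 := orderOf_dvd_of_pow_eq_one (wr_pow a)
  apply orderOf_dvd_iff_pow_eq_one.1
  have h3 : Nat.Coprime (orderOf a) 9 := by
    apply Nat.Coprime.coprime_dvd_left h1
    exact Nat.Coprime.pow_left n (by decide)
  have h4 : orderOf a ∣ 8 * 9 := h2
  exact h3.dvd_of_dvd_mul_right h4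

/-- `O_2(C(z)) = Q` if elements of order three with the actions `x₁`, `x₂` are given. -/
theorem le_of_act (P : Plus Q z i j k l) (A1 : Act z i j k l x₁ j (i * j) k l)
    (A2 : Act z i j k l x₂ i j l (k * l)) (N : Subgroup G) (hN : N ≤ Subgroup.centralizer ({z} : Set G))
    (hn : ∀ c ∈ Subgroup.centralizer ({z} : Set G), ∀ n ∈ N, c * n * c⁻¹ ∈ N) (h2 : IsPGroup 2 N) :
    N ≤ Q := by
  have e1 : hom P ⟨x₁, A1.mem⟩ = Wr.X1 :=
    (hom_spec P _).unique (ind_of_act P A1.mem A1 (Or.inl (Cases.eapp (p' := .inl 1) (by decide)))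
      (Or.inl (Cases.eapp (p' := .inl 2) (by decide))) (Or.inl (Cases.eapp (p' := .inr 0) (by decide)))
      (Or.inl (Cases.eapp (p' := .inr 1) (by decide))))
  have e2 : hom P ⟨x₂, A2.mem⟩ = Wr.X2 :=
    (hom_spec P _).unique (ind_of_act P A2.mem A2 (Or.inl (Cases.eapp (p' := .inl 0) (by decide)))
      (Or.inl (Cases.eapp (p' := .inl 1) (by decide))) (Or.inl (Cases.eapp (p' := .inr 1) (by decide)))
      (Or.inl (Cases.eapp (p' := .inr 2) (by decide))))
  have key : ∀ c (hc : c ∈ N), (hom P ⟨c, hN hc⟩) ^ 8 = 1 := by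
    intro c hc
    obtain ⟨m, hm⟩ := h2 ⟨c, hc⟩
    have h3 : c ^ 2 ^ m = 1 := congrArg Subtype.val hm
    apply pow_eight (n := m)
    rw [← map_pow]
    have h4 : (⟨c, hN hc⟩ : Subgroup.centralizer ({z} : Set G)) ^ 2 ^ m = 1 := Subtype.ext h3
    rw [h4, map_one]
  intro n hnN
  have h3 := key n hnN
  have comm : ∀ (x : G) (hx : x ∈ Subgroup.centralizer ({z} : Set G)),
      (hom P ⟨n, hN hnN⟩ * hom P ⟨x, hx⟩ * (hom P ⟨n, hN hnN⟩)⁻¹ * (hom P ⟨x, hx⟩)⁻¹) ^ 8 = 1 := by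
    intro x hx
    have h4 : n * x * n⁻¹ * x⁻¹ ∈ N := by
      have h5 := N.mul_mem hnN (hn x hx _ (N.inv_mem hnN))
      have e : n * (x * n⁻¹ * x⁻¹) = n * x * n⁻¹ * x⁻¹ := by group
      rwa [e] at h5
    have h6 := key _ h4
    have e : (⟨n * x * n⁻¹ * x⁻¹, hN h4⟩ : Subgroup.centralizer ({z} : Set G)) =
        ⟨n, hN hnN⟩ * ⟨x, hx⟩ * ⟨n, hN hnN⟩⁻¹ * ⟨x, hx⟩⁻¹ := rfl
    rw [e, map_mul, map_mul, map_mul, map_inv, map_inv] at h6
    exact h6
  have c1 := comm x₁ A1.mem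
  have c2 := comm x₂ A2.mem
  rw [e1] at c1
  rw [e2] at c2
  have h4 := wr_fact _ h3 c1 c2
  have h5 := hom_spec P ⟨n, hN hnN⟩
  rw [h4] at h5
  exact mem_of_ind h5

end K

/-! ### One class of involutions -/

section Cls

open Matrix
open Cfsg.Agent.ClassicalGeometry.PSUAutCount

variable {F : Type*} [Field F] [CharP F 3]

theorem st_of_form {M : M4 F}
    (h : ∀ u v, hermForm 4 F 3 (M *ᵥ u) (M *ᵥ v) = hermForm 4 F 3 u v) : st M * M = 1 := by
  have h1 : Mᵀ * M.map (frobenius F 3) = 1 := by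
    ext i j
    have h2 := h (Pi.single i 1) (Pi.single j 1)
    rw [mulVec_single_one, mulVec_single_one] at h2
    unfold hermForm at h2
    rw [mul_apply]
    have h3 : ∑ k, (Pi.single i (1 : F) : Fin 4 → F) k * (Pi.single j (1 : F) : Fin 4 → F) k ^ 3 =
        (1 : M4 F) i j := by
      rw [Finset.sum_eq_single i]
      · rw [Pi.single_eq_same, one_mul, one_apply]
        by_cases hij : i = j
        · subst hij
          rw [Pi.single_eq_same, if_pos rfl, one_pow]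
        · rw [Pi.single_eq_of_ne hij, if_neg hij]
          ring
      · intro k _ hk
        rw [Pi.single_eq_of_ne hk, zero_mul]
      · intro hi
        exact absurd (Finset.mem_univ i) hi
    rw [h3] at h2
    rw [← h2]
    rfl
  have h2 := congrArg transpose h1
  rw [transpose_mul, transpose_transpose, transpose_one] at h2
  exact h2

variable [Fintype F]

/-- the diagonal element of determinant `δ⁻¹` corrects the determinant of `P` -/
theorem exists_su (hF : Fintype.card F = 9) (g : SU 4 F 3) (h2 : mat g * mat g = 1)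
    (h1 : mat g ≠ 1) (h1' : mat g ≠ -1) : ∃ P : SU 4 F 3, g * P = P * d := by
  have hF' : Fintype.card F = 3 ^ 2 := by rw [hF]; norm_num
  obtain ⟨P, hP⟩ := Cfsg.Agent.OddHalf.Small.U43.exists_conj hF' g h2 h1 h1'
  have hf : ∀ u v, hermForm 4 F 3 (gm P *ᵥ u) (gm P *ᵥ v) = hermForm 4 F 3 u v := herm_gm P
  have hst := st_of_form hf
  obtain ⟨δ, hδ⟩ : ∃ δ, (gm P).det = δ := ⟨_, rfl⟩
  have hd4 : δ ^ 3 * δ = 1 := by
    have := congrArg Matrix.det hst
    rwa [det_mul, det_st, det_one, hδ] at this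
  have hM : ∀ u v, hermForm 4 F 3 ((gm P * diagonal ![δ ^ 3, 1, 1, 1]) *ᵥ u)
      ((gm P * diagonal ![δ ^ 3, 1, 1, 1]) *ᵥ v) = hermForm 4 F 3 u v := by
    intro u v
    rw [← mulVec_mulVec, ← mulVec_mulVec, hf]
    simp only [hermForm_apply, Fin.sum_univ_four, mulVec_diagonal]
    simp
    have e : δ ^ 12 = 1 := by
      calc δ ^ 12 = (δ ^ 3 * δ) ^ 3 := by ring
        _ = 1 := by rw [hd4, one_pow]
    linear_combination (u 0 * v 0 ^ 3) * e
  have hdet : (gm P * diagonal ![δ ^ 3, 1, 1, 1]).det = 1 := by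
    rw [det_mul, hδ, det_diagonal, Fin.prod_univ_four]
    simp
    linear_combination hd4
  refine ⟨mkSU _ hdet hM, ?_⟩
  apply mat_injective
  rw [mat_mul, mat_mul, mat_mkSU, mat_d, ← mul_assoc, hP, mul_assoc, mul_assoc]
  congr 1
  unfold D4
  rw [diagonal_mul_diagonal, diagonal_mul_diagonal]
  congr 1
  funext i
  fin_cases i <;> simp

/-- One class of involutions. -/
theorem one_class (hF : Fintype.card F = 9) (t : PSU 4 F 3) (ht2 : t * t = 1) (ht1 : t ≠ 1) :
    ∃ g, g * pr 4 F 3 d * g⁻¹ = t := by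
  have hF' : Fintype.card F = 3 ^ 2 := by rw [hF]; norm_num
  have key : ∀ g : SU 4 F 3, mat g * mat g = 1 → pr 4 F 3 g ≠ 1 →
      ∃ c, c * pr 4 F 3 d * c⁻¹ = pr 4 F 3 g := by
    intro g h2 hg
    obtain ⟨P, hP⟩ := exists_su hF g h2 (fun h => hg (by
      have : g = 1 := mat_injective (by rw [h, mat_one])
      rw [this, map_one])) (fun h => hg (by
      rw [← map_one (pr 4 F 3)]
      refine (pr_eq_of_mat (c := -1) ?_).symm
      rw [h, mat_one, neg_smul, one_smul]))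
    refine ⟨pr 4 F 3 P, ?_⟩
    rw [← map_mul, ← hP, map_mul, mul_inv_cancel_right]
  obtain ⟨g, rfl⟩ := pr_surjective t
  rw [← map_mul, ← map_one (pr 4 F 3)] at ht2
  obtain ⟨c, hc4, hc⟩ := mat_of_pr_eq hF ht2.symm
  rw [mat_mul, mat_one] at hc
  have h1 : (c ^ 2 + 1) * ((c + 1) * (c - 1)) = 0 := by linear_combination hc4
  rcases mul_eq_zero.1 h1 with h2 | h2
  · exact (Cfsg.Agent.OddHalf.Small.U43.no_four hF' g (by linear_combination h2) hc).elim
  rcases mul_eq_zero.1 h2 with h3 | h3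
  · obtain ⟨a, ha⟩ : ∃ a : F, a ^ 2 = -1 := by
      have h1 : IsSquare (-1 : F) := by
        rw [FiniteField.isSquare_neg_one_iff, hF]; norm_num
      obtain ⟨a, ha⟩ := h1
      exact ⟨a, by rw [pow_two, ← ha]⟩
    have ha4 : a ^ 4 = 1 := by linear_combination (a ^ 2 - 1) * ha
    have hm : mat (suScalar 3 a ha4 ha4 * g) = a • mat g := by
      rw [mat_mul, mat_def, coe_suScalar]
      ext i j
      rw [diagonal_mul, Matrix.smul_apply, smul_eq_mul]
    have e1 := pr_eq_of_mat hm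
    rw [e1]
    refine key _ ?_ (by rw [← e1]; exact ht1)
    rw [hm, Matrix.smul_mul, Matrix.mul_smul, hc, smul_smul, smul_smul]
    have : a * a * c = 1 := by linear_combination c * ha - h3
    rw [this, one_smul]
  · have hc1 : c = 1 := by linear_combination h3
    rw [hc1, one_smul] at hc
    exact key g hc ht1

omit [CharP F 3] in
theorem card_K (hF : Fintype.card F = 9) : Nat.card (PSU 4 F 3) = 2 ^ 7 * 25515 := by
  have h := Cfsg.Agent.S0280.result (F := F) (q := 3) (by rw [hF]; norm_num) 4 (by norm_num)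
  have e : Nat.gcd 4 (3 + 1) = 4 := by decide
  rw [e, Finset.prod_range_succ, Finset.prod_range_succ, Finset.prod_range_succ, Finset.prod_range_succ,
    Finset.prod_range_zero] at h
  have o1 : Even 0 := by decide
  have o2 : ¬ Even 1 := by decide
  have o3 : Even 2 := by decide
  have o4 : ¬ Even 3 := by decide
  rw [if_pos o1, if_neg o2, if_pos o3, if_neg o4] at h
  norm_num at h
  omega

end Cls

/-- If all involutions are conjugate to `z`, then `z` is 2-central. -/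
theorem odd_index {G : Type*} [Group G] [Finite G] {z : G} (h2 : 2 ∣ Nat.card G)
    (hc : ∀ t : G, t * t = 1 → t ≠ 1 → ∃ g, g * z * g⁻¹ = t) :
    Odd (Subgroup.centralizer ({z} : Set G)).index := by
  have hf : Fact (Nat.Prime 2) := ⟨Nat.prime_two⟩
  obtain ⟨S⟩ : Nonempty (Sylow 2 G) := inferInstance
  have hS : (S : Subgroup G) ≠ ⊥ := S.ne_bot_of_dvd_card h2
  have hn : Nontrivial (S : Subgroup G) := (Subgroup.nontrivial_iff_ne_bot _).2 hS
  have hc2 := S.isPGroup'.center_nontrivial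
  have hp : IsPGroup 2 (Subgroup.center (S : Subgroup G)) := S.isPGroup'.to_subgroup _
  have hd : 2 ∣ Nat.card (Subgroup.center (S : Subgroup G)) := by
    obtain ⟨n, hn⟩ := IsPGroup.iff_card.1 hp
    rw [hn]
    refine dvd_pow_self 2 ?_
    rintro rfl
    rw [pow_zero] at hn
    exact absurd (Subgroup.card_eq_one.1 hn ▸ hc2) (by
      intro h
      exact (Subgroup.nontrivial_iff_ne_bot _).1 h rfl)
  obtain ⟨x, hx⟩ := exists_prime_orderOf_dvd_card' 2 hd
  obtain ⟨t, ht⟩ : ∃ t : G, t = ((x : (S : Subgroup G)) : G) := ⟨_, rfl⟩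
  have hto : orderOf t = 2 := by
    rw [ht, Subgroup.orderOf_coe, Subgroup.orderOf_coe, hx]
  have htt : t * t = 1 := by
    rw [← pow_two, ← hto]; exact pow_orderOf_eq_one t
  have ht1 : t ≠ 1 := by
    rintro h
    rw [h, orderOf_one] at hto
    exact absurd hto (by norm_num)
  have hSt : (S : Subgroup G) ≤ Subgroup.centralizer ({t} : Set G) := by
    intro y hy
    rw [Subgroup.mem_centralizer_singleton_iff]
    have h1 := Subgroup.mem_center_iff.1 x.2 ⟨y, hy⟩
    have h2 := congrArg Subtype.val h1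
    rw [ht]
    exact h2
  obtain ⟨g, hg⟩ := hc t htt ht1
  have hodd : Odd (Subgroup.centralizer ({t} : Set G)).index := by
    rw [← Nat.not_even_iff_odd, even_iff_two_dvd]
    intro h
    exact S.not_dvd_index (h.trans (Subgroup.index_dvd_of_le hSt))
  have e : Subgroup.centralizer ({t} : Set G) =
      (Subgroup.centralizer ({z} : Set G)).map (MulAut.conj g).toMonoidHom := by
    ext y
    rw [Subgroup.mem_centralizer_singleton_iff, Subgroup.mem_map]
    constructor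
    · intro h
      refine ⟨g⁻¹ * y * g, ?_, ?_⟩
      · rw [Subgroup.mem_centralizer_singleton_iff]
        rw [← hg] at h
        calc g⁻¹ * y * g * z = g⁻¹ * (y * (g * z * g⁻¹)) * g := by group
          _ = z * (g⁻¹ * y * g) := by rw [h]; group
      · show g * (g⁻¹ * y * g) * g⁻¹ = y
        group
    · rintro ⟨x, hx, rfl⟩
      rw [Subgroup.mem_centralizer_singleton_iff] at hx
      show g * x * g⁻¹ * t = t * (g * x * g⁻¹)
      rw [← hg]
      calc g * x * g⁻¹ * (g * z * g⁻¹) = g * (x * z) * g⁻¹ := by group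
        _ = g * z * g⁻¹ * (g * x * g⁻¹) := by rw [hx]; group
  rw [e, Subgroup.index_map_of_injective _ (MulAut.conj g).injective] at hodd
  have : (MulAut.conj g).toMonoidHom.range = ⊤ := MonoidHom.range_eq_top.2 (MulAut.conj g).surjective
  rw [this, Subgroup.index_top, mul_one] at hodd
  exact hodd

section main

variable {F : Type*} [Field F] [Fintype F] [CharP F 3]

open Cfsg.Agent.LargeExtra.W2.U43 in
/-- **The configuration of `U₄(3)`.** -/
theorem exists_tw (hF : Fintype.card F = 9) : ∃ i j k l x₁ x₂ y s : PSU 4 F 3,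
    Tw (QQ hF) (pr 4 F 3 d) i j k l x₁ x₂ y s ∧ IsConj (pr 4 F 3 d) s ∧ IsConj (pr 4 F 3 d) (y * s) := by
  obtain ⟨a, ha⟩ : ∃ a : F, a ^ 2 = -1 := by
    have h1 : IsSquare (-1 : F) := by
      rw [FiniteField.isSquare_neg_one_iff, hF]; norm_num
    obtain ⟨a, ha⟩ := h1
    exact ⟨a, by rw [pow_two, ← ha]⟩
  have hs : IsSimpleGroup (PSU 4 F 3) :=
    Cfsg.Agent.S0283.result (by rw [hF]; norm_num) 4 (by norm_num) (by norm_num)
  have P := plus hF ha
  have hfin : Finite (PSU 4 F 3) := inferInstance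
  have hnc : ¬ IsMulCommutative (PSU 4 F 3) := by
    intro h
    have h1 := P.ji
    have h2 : pr 4 F 3 j1 * pr 4 F 3 (i1 a ha) = pr 4 F 3 (i1 a ha) * pr 4 F 3 j1 := h.is_comm.comm _ _
    rw [h2] at h1
    exact P.large.z_ne (by simpa using h1)
  have hG : ∀ H : Subgroup (PSU 4 F 3), H.index ≠ 2 := Simple.no_index_two hnc
  have hcls := one_class (F := F) hF
  have hodd := odd_index (G := PSU 4 F 3) (z := pr 4 F 3 d) (by rw [card_K hF]; norm_num) hcls
  have hdvd : 2 ^ 7 ∣ Nat.card (Subgroup.centralizer ({pr 4 F 3 d} : Set (PSU 4 F 3))) := by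
    have h1 := Subgroup.card_mul_index (Subgroup.centralizer ({pr 4 F 3 d} : Set (PSU 4 F 3)))
    rw [card_K hF] at h1
    have h2 : Nat.Coprime (2 ^ 7) (Subgroup.centralizer ({pr 4 F 3 d} : Set (PSU 4 F 3))).index :=
      (Nat.coprime_two_left.2 hodd).pow_left 7
    exact h2.dvd_of_dvd_mul_right (h1 ▸ Dvd.intro _ rfl)
  have hO : ∀ N : Subgroup (PSU 4 F 3), QQ hF ≤ N →
      N ≤ Subgroup.centralizer ({pr 4 F 3 d} : Set (PSU 4 F 3)) →
      (∀ c ∈ Subgroup.centralizer ({pr 4 F 3 d} : Set (PSU 4 F 3)), ∀ n ∈ N, c * n * c⁻¹ ∈ N) →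
      IsPGroup 2 N → N ≤ QQ hF := fun N _ h1 h2 h3 => le_of_act P (act1 ha) (act2 ha) N h1 h2 h3
  have hII : ∃ g, g * pr 4 F 3 d * g⁻¹ ∈ QQ hF ∧ g * pr 4 F 3 d * g⁻¹ ≠ pr 4 F 3 d := by
    have hi := PlusHom.mem_i P
    have hk := PlusHom.mem_k P
    have e1 : pr 4 F 3 (i1 a ha) * pr 4 F 3 (i2 a ha) * (pr 4 F 3 (i1 a ha) * pr 4 F 3 (i2 a ha)) = 1 := by
      calc _ = pr 4 F 3 (i1 a ha) * (pr 4 F 3 (i2 a ha) * pr 4 F 3 (i1 a ha)) * pr 4 F 3 (i2 a ha) := by
            simp only [mul_assoc]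
        _ = (pr 4 F 3 (i1 a ha) * pr 4 F 3 (i1 a ha)) * (pr 4 F 3 (i2 a ha) * pr 4 F 3 (i2 a ha)) := by
            rw [P.ki]; simp only [mul_assoc]
        _ = 1 := by rw [P.ii, P.kk, P.large.z_sq]
    have key : ∀ w, (w = 1 ∨ w = pr 4 F 3 d) → pr 4 F 3 (i1 a ha) * pr 4 F 3 (i2 a ha) ≠ w := by
      intro w hw he
      have hwj : pr 4 F 3 j1 * w = w * pr 4 F 3 j1 := by
        rcases hw with rfl | rfl
        · rw [mul_one, one_mul]
        · exact P.large.comm_z _ (PlusHom.mem_j P)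
      rw [← he] at hwj
      have h1 : pr 4 F 3 j1 * (pr 4 F 3 (i1 a ha) * pr 4 F 3 (i2 a ha)) =
          pr 4 F 3 (i1 a ha) * pr 4 F 3 (i2 a ha) * pr 4 F 3 j1 * pr 4 F 3 d := by
        calc pr 4 F 3 j1 * (pr 4 F 3 (i1 a ha) * pr 4 F 3 (i2 a ha))
            = (pr 4 F 3 j1 * pr 4 F 3 (i1 a ha)) * pr 4 F 3 (i2 a ha) := by rw [mul_assoc]
          _ = pr 4 F 3 (i1 a ha) * pr 4 F 3 j1 * (pr 4 F 3 (i2 a ha) * pr 4 F 3 d) := by
              rw [P.ji, P.large.comm_z _ hk]; simp only [mul_assoc]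
          _ = pr 4 F 3 (i1 a ha) * (pr 4 F 3 (i2 a ha) * pr 4 F 3 j1) * pr 4 F 3 d := by
              rw [P.kj]; simp only [mul_assoc]
          _ = _ := by simp only [mul_assoc]
      rw [hwj] at h1
      exact P.large.z_ne (by simpa using h1)
    obtain ⟨g, hg⟩ := hcls _ e1 (key 1 (Or.inl rfl))
    exact ⟨g, hg ▸ mul_mem hi hk, hg ▸ key _ (Or.inr rfl)⟩
  rcases Cases.cases_plus hG P hO (OddDead.exists_outer hnc P.large P.card) with
    ⟨i, j, k, l, w, s, h1⟩ | ⟨i, j, k, l, v, y, h1⟩ | ⟨i, j, k, l, x₁, x₂, s, h1⟩ |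
    ⟨i, j, k, l, x₁, x₂, y, h1⟩ | ⟨i, j, k, l, x₁, x₂, y, s, h1⟩ | ⟨i, j, k, l, x₁, x₂, f, h1, h2⟩
  · exfalso; rw [h1.card_cent] at hdvd; revert hdvd; decide
  · exfalso; rw [h1.card_cent] at hdvd; revert hdvd; decide
  · exfalso; rw [h1.card_cent] at hdvd; revert hdvd; decide
  · exfalso; rw [h1.card_cent] at hdvd; revert hdvd; decide
  · exact ⟨i, j, k, l, x₁, x₂, y, s, Fusion.fusion h1 hII hG⟩
  · exact (CType.case94 hnc h1 h2).elim

end main

end Cfsg.Agent.OddHalf.D6.QThree.U43Tw
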