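import Cfsg.Agent.OddHalf.CaseM.RankOne

/-!
# An involutory automorphism of a quasisimple group fixes more than two elements (helper948; after helper577 #13013 (1))

`false_of_two`: `M` finite, perfect, nontrivial, every normal subgroup `⊤` or central, `τ² = 1`,
`C_M(τ) ⊆ {1, b}`: contradiction.

Proof: `x ↦ x⁻¹ τ(x)` takes `|M|/2` values, and its image is closed under inversion: `4 ∣ |M|` gives `v` with
`τ(v) = v b`. For an involution `β` the dihedral group `⟨τ, β⟩` has a central involution, so `β` commutes with `b`. So `b`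
is central, and `M / ⟨b⟩` with `C(τ) = {1, v}` is a smaller example.
-/

set_option autoImplicit false

namespace Cfsg.Agent.OddHalf.D6.QThree.TwoFix

open Subgroup Cfsg

universe u

variable {M : Type u} [Group M]

/-- the hypotheses -/
structure H (M : Type u) [Group M] (τ : M →* M) (b : M) : Prop where
  perf : Group.IsPerfect M
  nt : Nontrivial M
  nor : ∀ N : Subgroup M, N.Normal → N = ⊤ ∨ N ≤ center M
  ττ : ∀ x, τ (τ x) = x
  fix : ∀ x, τ x = x → x = 1 ∨ x = b

namespace H

variable {τ : M →* M} {b : M}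

theorem inj (h : H M τ b) : Function.Injective τ := fun x y e => by rw [← h.ττ x, e, h.ττ]

theorem not_comm (h : H M τ b) : ¬ ∀ x y : M, x * y = y * x := by
  intro hc
  have := h.nt
  have h1 : commutator M = ⊤ := h.perf.commutator_eq_top
  have h2 : commutator M = ⊥ := by
    rw [commutator_def, commutator_eq_bot_iff_le_centralizer]
    intro x _
    rw [mem_centralizer_iff]
    exact fun y _ => hc y x
  exact absurd (h1.symm.trans h2) top_ne_bot

/-- there is an element `v` with `τ v = v b`, and `b ≠ 1` is fixed, `b² = 1` -/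
theorem exists_v [Finite M] (h : H M τ b) : b ≠ 1 ∧ τ b = b ∧ b * b = 1 ∧ ∃ v, τ v = v * b := by
  classical
  have hfin : Fintype M := Fintype.ofFinite M
  -- the map
  let f : M → M := fun x => x⁻¹ * τ x
  have hf : ∀ x y, f x = f y → τ (y * x⁻¹) = y * x⁻¹ := by
    intro x y e
    have e' : x⁻¹ * τ x = y⁻¹ * τ y := e
    rw [map_mul, map_inv]
    calc τ y * (τ x)⁻¹ = y * (y⁻¹ * τ y) * (τ x)⁻¹ := by group
      _ = y * (x⁻¹ * τ x) * (τ x)⁻¹ := by rw [e']
      _ = y * x⁻¹ := by group
  -- some nontrivial fixed element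
  have hb : b ≠ 1 ∧ τ b = b := by
    by_contra hcon
    have hfix : ∀ x, τ x = x → x = 1 := by
      intro x hx
      rcases h.fix x hx with e | e
      · exact e
      · by_contra h1
        exact hcon ⟨fun e1 => h1 (e.trans e1), by rw [← e]; exact hx⟩
    have hinj : Function.Injective f := by
      intro x y e
      have := hfix _ (hf x y e)
      rw [mul_inv_eq_one] at this
      exact this.symm
    have hsurj := Finite.surjective_of_injective hinj
    have hinv : ∀ y, τ y = y⁻¹ := by
      intro y
      obtain ⟨x, rfl⟩ := hsurj y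
      show τ (x⁻¹ * τ x) = (x⁻¹ * τ x)⁻¹
      rw [map_mul, map_inv, h.ττ]; group
    apply h.not_comm
    intro x y
    have h1 := hinv (x⁻¹ * y⁻¹)
    rw [map_mul, hinv, hinv, inv_inv, inv_inv] at h1
    rw [h1]; group
  obtain ⟨hb1, hbb⟩ := hb
  have hb2 : b * b = 1 := by
    rcases h.fix (b * b) (by rw [map_mul, hbb]) with e | e
    · exact e
    · exact absurd (mul_eq_left.1 e) hb1
  refine ⟨hb1, hbb, hb2, ?_⟩
  -- `4 ∣ |M|`
  have h4 : 4 ∣ Nat.card M := by
    have hp : Fact (Nat.Prime 2) := ⟨Nat.prime_two⟩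
    obtain ⟨P⟩ : Nonempty (Sylow 2 M) := inferInstance
    by_contra hcon
    have hPc : Nat.card P = 2 := by
      have h1 := P.card_eq_multiplicity
      have h2 : 2 ∣ Nat.card M := by
        have h3 : orderOf b = 2 := orderOf_eq_prime (by rw [pow_two, hb2]) hb1
        rw [← h3]; exact orderOf_dvd_natCard b
      have h3 : (Nat.card M).factorization 2 ≥ 1 :=
        (Nat.prime_two.dvd_iff_one_le_factorization Nat.card_pos.ne').1 h2
      have h4 : (Nat.card M).factorization 2 < 2 := by
        by_contra hh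
        push Not at hh
        apply hcon
        have := (Nat.prime_two.pow_dvd_iff_le_factorization Nat.card_pos.ne').2 hh
        exact this
      have h5 : (Nat.card M).factorization 2 = 1 := by omega
      rw [h5, pow_one] at h1
      exact h1
    obtain ⟨g, hg⟩ := CaseM.exists_conj_of_perfect h.perf P ⊥ bot_le (by rw [relIndex_bot_left, hPc]) b hb2
    rw [mem_bot] at hg
    exact hb1 (conj_eq_one_iff.1 hg)
  -- the image of `f`
  let I : Finset M := Finset.univ.image f
  have hcard : Fintype.card M = 2 * I.card := by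
    have h1 : ∀ y ∈ I, (Finset.univ.filter (fun x => f x = y)).card = 2 := by
      intro y hy
      obtain ⟨x, -, rfl⟩ := Finset.mem_image.1 hy
      have e : Finset.univ.filter (fun x' => f x' = f x) = {x, b * x} := by
        ext x'
        rw [Finset.mem_filter, Finset.mem_insert, Finset.mem_singleton]
        constructor
        · rintro ⟨-, e⟩
          rcases h.fix _ (hf x x' e.symm) with e1 | e1
          · left; exact mul_inv_eq_one.1 e1
          · right; exact mul_inv_eq_iff_eq_mul.1 e1
        · rintro (rfl | rfl)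
          · exact ⟨Finset.mem_univ _, rfl⟩
          · refine ⟨Finset.mem_univ _, ?_⟩
            show (b * x)⁻¹ * τ (b * x) = x⁻¹ * τ x
            rw [map_mul, hbb]; group
      rw [e, Finset.card_pair]
      intro e1
      exact hb1 (mul_eq_right.1 e1.symm)
    have h2 := Finset.card_eq_sum_card_image f (Finset.univ : Finset M)
    rw [Finset.sum_congr rfl h1, Finset.sum_const, smul_eq_mul] at h2
    rw [← Finset.card_univ, h2, mul_comm]
  have hIev : Even I.card := by
    rw [Nat.card_eq_fintype_card, hcard] at h4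
    obtain ⟨k, hk⟩ := h4
    exact ⟨k, by omega⟩
  -- inversion on the image
  have hIinv : ∀ y ∈ I, y⁻¹ ∈ I := by
    intro y hy
    obtain ⟨x, -, rfl⟩ := Finset.mem_image.1 hy
    refine Finset.mem_image.2 ⟨τ x, Finset.mem_univ _, ?_⟩
    show (τ x)⁻¹ * τ (τ x) = (x⁻¹ * τ x)⁻¹
    rw [h.ττ]; group
  have hτI : ∀ y ∈ I, τ y = y⁻¹ := by
    intro y hy
    obtain ⟨x, -, rfl⟩ := Finset.mem_image.1 hy
    show τ (x⁻¹ * τ x) = (x⁻¹ * τ x)⁻¹
    rw [map_mul, map_inv, h.ττ]; group
  have h1I : (1 : M) ∈ I := Finset.mem_image.2 ⟨1, Finset.mem_univ _, by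
    show (1 : M)⁻¹ * τ 1 = 1
    rw [map_one]; group⟩
  by_contra hcon
  push Not at hcon
  have hne : ∀ y ∈ I.erase 1, y⁻¹ ≠ y := by
    intro y hy e
    have hy' := Finset.mem_of_mem_erase hy
    rcases h.fix y (by rw [hτI y hy', e]) with e1 | e1
    · exact Finset.ne_of_mem_erase hy e1
    · obtain ⟨x, -, hx⟩ := Finset.mem_image.1 hy'
      apply hcon x
      rw [← e1, ← hx]
      show τ x = x * (x⁻¹ * τ x)
      group
  have hev : Even (I.erase 1).card := by
    have h5 : ∑ _y ∈ I.erase 1, (1 : ZMod 2) = 0 := by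
      apply Finset.sum_involution (fun y _ => y⁻¹)
      · intro y _; exact CharTwo.add_self_eq_zero (1 : ZMod 2)
      · intro y hy _; exact hne y hy
      · intro y _; exact inv_inv y
      · intro y hy
        rw [Finset.mem_erase] at hy ⊢
        exact ⟨fun e => hy.1 (inv_eq_one.1 e), hIinv y hy.2⟩
    rw [Finset.sum_const, nsmul_eq_mul, mul_one] at h5
    exact even_iff_two_dvd.2 ((ZMod.natCast_eq_zero_iff _ _).1 h5)
  rw [Finset.card_erase_of_mem h1I] at hev
  have hpos : 0 < I.card := Finset.card_pos.2 ⟨1, h1I⟩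
  obtain ⟨k, hk⟩ := hIev
  obtain ⟨l, hl⟩ := hev
  omega

/-- every involution commutes with `b` -/
theorem comm_invol [Finite M] (h : H M τ b) {β : M} (hβ : β * β = 1) : β * b = b * β := by
  obtain ⟨hb1, hbb, hb2, v, hv⟩ := h.exists_v
  have hβi : β⁻¹ = β := inv_eq_of_mul_eq_one_right hβ
  have hτβ : τ β * τ β = 1 := by rw [← map_mul, hβ, map_one]
  have hτβi : (τ β)⁻¹ = τ β := inv_eq_of_mul_eq_one_right hτβ
  have hbi : b⁻¹ = b := inv_eq_of_mul_eq_one_right hb2
  set w := τ β * β with hw
  have hwi : w⁻¹ = β * τ β := by rw [hw, mul_inv_rev, hβi, hτβi]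
  have hτw : τ w = w⁻¹ := by rw [hwi, hw, map_mul, h.ττ]
  have hβw : β * w * β⁻¹ = w⁻¹ := by
    rw [hwi, hw, hβi]
    calc β * (τ β * β) * β = β * τ β * (β * β) := by group
      _ = β * τ β := by rw [hβ, mul_one]
  have hpow : ∀ k : ℕ, β * w ^ k * β⁻¹ = (w ^ k)⁻¹ := by
    intro k
    rw [← conj_pow, hβw, inv_pow]
  have hfixb : τ β = β → β = 1 ∨ β = b := h.fix β
  rcases Nat.even_or_odd' (orderOf w) with ⟨m, hm | hm⟩
  · -- even order
    have hpos : 0 < orderOf w := orderOf_pos w
    have hm0 : 0 < m := by omega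
    have h1 : w ^ m ≠ 1 := by
      intro e
      have := orderOf_dvd_of_pow_eq_one e
      have := Nat.le_of_dvd hm0 this
      omega
    have h2 : w ^ m * w ^ m = 1 := by
      rw [← pow_add, ← two_mul, ← hm, pow_orderOf_eq_one]
    have h3 : (w ^ m)⁻¹ = w ^ m := inv_eq_of_mul_eq_one_right h2
    have h4 : w ^ m = b := by
      rcases h.fix (w ^ m) (by rw [map_pow, hτw, inv_pow, h3]) with e | e
      · exact absurd e h1
      · exact e
    have h5 := hpow m
    rw [h3, h4, mul_inv_eq_iff_eq_mul] at h5
    exact h5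
  · -- odd order
    have hw1 : w ^ (2 * m + 1) = 1 := by rw [← hm]; exact pow_orderOf_eq_one w
    have h1 : β * w * β⁻¹ = w⁻¹ := hβw
    have h2 : w⁻¹ = w ^ m * w ^ m := by
      rw [inv_eq_iff_mul_eq_one, ← pow_add, ← pow_succ', ← two_mul]
      exact hw1
    have h3 : τ β = β * w⁻¹ := by
      rw [hwi]
      calc τ β = (β * β) * τ β := by rw [hβ, one_mul]
        _ = β * (β * τ β) := by group
    -- `e = β w^m` is fixed
    have h4 : τ (β * w ^ m) = β * w ^ m := by
      rw [map_mul, map_pow, hτw, inv_pow]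
      calc τ β * (w ^ m)⁻¹ = β * (w ^ m * w ^ m) * (w ^ m)⁻¹ := by rw [h3, h2]
        _ = β * w ^ m := by group
    have h5 := hpow m
    rcases h.fix _ h4 with e | e
    · -- `β = w^-m`
      have h6 : β = (w ^ m)⁻¹ := eq_inv_of_mul_eq_one_left e
      have h7 : Commute β w := by
        rw [h6]; exact ((Commute.refl w).pow_left m).inv_left
      have h8 : w = w⁻¹ := by
        rw [← h1, h7.eq]; group
      have h9 : w = 1 := by
        have h10 : w * w = 1 := by
          nth_rw 2 [h8]; exact mul_inv_cancel w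
        rw [pow_succ, pow_mul, pow_two, h10, one_pow, one_mul] at hw1
        exact hw1
      have h10 : τ β = β := by rw [h3, h9, inv_one, mul_one]
      rcases hfixb h10 with e1 | e1
      · rw [e1]; group
      · rw [e1]
    · -- `e = b`: `β` commutes with `τ b`
      have h6 : τ (v * b * v⁻¹) = v * b * v⁻¹ := by
        rw [map_mul, map_mul, map_inv, hv, hbb]
        calc v * b * b * (v * b)⁻¹ = v * b * v⁻¹ := by group
          _ = _ := rfl
      have hvb : v * b * v⁻¹ = b := by
        rcases h.fix _ h6 with e1 | e1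
        · exact absurd (conj_eq_one_iff.1 e1) hb1
        · exact e1
      have h7 : b * τ β * b = β := by
        -- `b = β w^m`
        have e2 : w ^ m = β * b := by rw [← e, ← mul_assoc, hβ, one_mul]
        have e3 : τ β = β * (β * b) * (β * b) := by rw [h3, h2, e2]; group
        have e4 : (β * b) * β⁻¹ = β⁻¹ * (β * b)⁻¹ := by
          rw [← e2]
          have := hpow m
          calc w ^ m * β⁻¹ = β⁻¹ * (β * w ^ m * β⁻¹) := by group
            _ = β⁻¹ * (w ^ m)⁻¹ := by rw [this]
        rw [e3]
        calc b * (β * (β * b) * (β * b)) * b = b * (β * β) * b * β * (b * b) := by group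
          _ = β := by rw [hβ, mul_one, hb2, one_mul, mul_one]
      have h8 : τ (v * β * v⁻¹) = v * β * v⁻¹ := by
        rw [map_mul, map_mul, map_inv, hv]
        calc v * b * τ β * (v * b)⁻¹ = v * (b * τ β * b⁻¹) * v⁻¹ := by group
          _ = v * β * v⁻¹ := by rw [hbi, h7]
      rcases h.fix _ h8 with e1 | e1
      · rw [conj_eq_one_iff.1 e1]; group
      · have h9 : β = b := by
          have h10 : v * β * v⁻¹ = v * b * v⁻¹ := e1.trans hvb.symm
          exact mul_left_cancel (mul_right_cancel h10)
        rw [h9]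

/-- `b` is central -/
theorem central [Finite M] (h : H M τ b) : ∀ x, x * b = b * x := by
  obtain ⟨hb1, hbb, hb2, v, hv⟩ := h.exists_v
  set I : Subgroup M := closure {β | β * β = 1} with hI
  have hIn : I.Normal := by
    refine ⟨fun x hx g => ?_⟩
    have h1 : (MulAut.conj g).toMonoidHom x ∈ I.map (MulAut.conj g).toMonoidHom := ⟨x, hx, rfl⟩
    rw [hI, MonoidHom.map_closure] at h1
    refine Subgroup.closure_mono ?_ h1
    rintro _ ⟨y, hy, rfl⟩
    show (g * y * g⁻¹) * (g * y * g⁻¹) = 1
    have hy' : y * y = 1 := hy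
    calc (g * y * g⁻¹) * (g * y * g⁻¹) = g * (y * y) * g⁻¹ := by group
      _ = 1 := by rw [hy']; group
  rcases h.nor I hIn with e | e
  · have h1 : I ≤ centralizer ({b} : Set M) :=
      (closure_le _).2 (fun β hβ => mem_centralizer_singleton_iff.2 (h.comm_invol hβ))
    intro x
    exact mem_centralizer_singleton_iff.1 (h1 (by rw [e]; exact mem_top x))
  · have h1 : b ∈ center M := e (Subgroup.subset_closure hb2)
    exact fun x => mem_center_iff.1 h1 x

end H

theorem aux (n : ℕ) : ∀ (M : Type u) [Group M] [Finite M] (τ : M →* M) (b : M), Nat.card M ≤ n → H M τ b → False := by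
  induction n with
  | zero =>
    intro M _ _ τ b hc _
    have := Nat.card_pos (α := M)
    omega
  | succ n ih =>
    intro M _ _ τ b hc h
    obtain ⟨hb1, hbb, hb2, v, hv⟩ := h.exists_v
    have hbc := h.central
    set B : Subgroup M := zpowers b with hB
    have hBn : B.Normal := by
      refine ⟨fun x hx g => ?_⟩
      obtain ⟨k, rfl⟩ := mem_zpowers_iff.1 hx
      have : g * b ^ k * g⁻¹ = b ^ k := by
        have h1 : Commute g (b ^ k) := (show Commute g b from hbc g).zpow_right k
        rw [h1.eq]; group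
      rw [this]; exact hx
    have hmem : ∀ x, x ∈ B ↔ x = 1 ∨ x = b := by
      intro x
      constructor
      · intro hx
        obtain ⟨k, rfl⟩ := mem_zpowers_iff.1 hx
        rcases Int.even_or_odd' k with ⟨j, rfl | rfl⟩
        · left; rw [zpow_mul, zpow_ofNat, pow_two, hb2, one_zpow]
        · right; rw [zpow_add, zpow_mul, zpow_ofNat, pow_two, hb2, one_zpow, one_mul, zpow_one]
      · rintro (rfl | rfl)
        · exact B.one_mem
        · exact mem_zpowers _
    have hle : B ≤ B.comap τ := by
      intro x hx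
      rw [mem_comap]
      rcases (hmem x).1 hx with rfl | rfl
      · rw [map_one]; exact B.one_mem
      · rw [hbb]; exact hx
    let τ' : M ⧸ B →* M ⧸ B := QuotientGroup.map B B τ hle
    have hτ' : ∀ x : M, τ' (x : M ⧸ B) = ((τ x : M) : M ⧸ B) := fun x => rfl
    refine ih (M ⧸ B) τ' (v : M ⧸ B) ?_ ⟨?_, ?_, ?_, ?_, ?_⟩
    · have h1 : Nat.card M = Nat.card (M ⧸ B) * Nat.card B := card_eq_card_quotient_mul_card_subgroup B
      have h2 : Nat.card B = 2 := by
        rw [hB, Nat.card_zpowers]
        exact orderOf_eq_prime (by rw [pow_two, hb2]) hb1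
      have h3 : 0 < Nat.card (M ⧸ B) := Nat.card_pos
      rw [h2] at h1
      omega
    · have := h.perf
      exact Group.IsPerfect.ofSurjective (f := QuotientGroup.mk' B) (QuotientGroup.mk'_surjective B)
    · -- nontrivial
      by_contra hnt
      rw [not_nontrivial_iff_subsingleton] at hnt
      have h1 : ∀ x : M, x ∈ B := fun x => (QuotientGroup.eq_one_iff x).1 (Subsingleton.elim _ _)
      apply h.not_comm
      intro x y
      rcases (hmem x).1 (h1 x) with rfl | rfl
      · group
      · exact (hbc y).symm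
    · intro N hN
      rcases h.nor (N.comap (QuotientGroup.mk' B)) inferInstance with e | e
      · left
        have := congrArg (map (QuotientGroup.mk' B)) e
        rwa [map_comap_eq_self_of_surjective (QuotientGroup.mk'_surjective B),
          map_top_of_surjective _ (QuotientGroup.mk'_surjective B)] at this
      · right
        intro x hx
        obtain ⟨y, rfl⟩ := QuotientGroup.mk'_surjective B x
        have h1 : y ∈ center M := e hx
        rw [mem_center_iff]
        intro g
        obtain ⟨g', rfl⟩ := QuotientGroup.mk'_surjective B g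
        rw [← map_mul, ← map_mul, mem_center_iff.1 h1]
    · intro x
      obtain ⟨y, rfl⟩ := QuotientGroup.mk'_surjective B x
      show ((τ (τ y) : M) : M ⧸ B) = (y : M ⧸ B)
      rw [h.ττ]
    · intro x hx
      obtain ⟨y, rfl⟩ := QuotientGroup.mk'_surjective B x
      have h1 : ((τ y : M) : M ⧸ B) = (y : M ⧸ B) := hx
      rw [eq_comm, QuotientGroup.eq, hmem] at h1
      show (y : M ⧸ B) = 1 ∨ (y : M ⧸ B) = v
      rcases h1 with h1 | h1
      · left
        rw [QuotientGroup.eq_one_iff, hmem]
        exact h.fix y (inv_mul_eq_one.1 h1).symm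
      · right
        have h2 : τ y = y * b := by rw [← h1]; group
        rw [eq_comm, QuotientGroup.eq, hmem]
        have h3 : τ (v⁻¹ * y) = v⁻¹ * y := by
          rw [map_mul, map_inv, hv, h2]
          calc (v * b)⁻¹ * (y * b) = b⁻¹ * (v⁻¹ * y * b) := by group
            _ = b⁻¹ * (b * (v⁻¹ * y)) := by rw [hbc (v⁻¹ * y)]
            _ = v⁻¹ * y := by group
        exact h.fix _ h3

/-- **an involutory automorphism of a quasisimple group has more than two fixed points** -/
theorem exists_fix {M : Type u} [Group M] [Finite M] (hM : IsQuasisimple M) (τ : M →* M)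
    (hτ : ∀ x, τ (τ x) = x) (b : M) : ∃ x, τ x = x ∧ x ≠ 1 ∧ x ≠ b := by
  by_contra hcon
  push Not at hcon
  refine aux (Nat.card M) M τ b le_rfl ⟨hM.1,
    Cfsg.Agent.SignalizersComponents.Components.quasisimple_nontrivial hM,
    fun N hN => Cfsg.Agent.SignalizersComponents.Components.quasisimple_normal hM N hN, hτ, fun x hx => ?_⟩
  by_cases h1 : x = 1
  · exact Or.inl h1
  · exact Or.inr (hcon x hx h1)

end Cfsg.Agent.OddHalf.D6.QThree.TwoFix
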