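import Cfsg.Agent.OddHalf.D6.QThree.NIFacts
import Cfsg.Agent.GTwoThree.Cent

/-!
# ODD half, D6, `q = 3`: `NIFacts.Full` from helper221's cases (helper135)

`of_case9a` (`PSp₄(3)`), `of_case9aa` (`L₄(3)`, `U₄(3)`), `of_case9c` (`G₂(3)`).
-/

set_option autoImplicit false

namespace Cfsg.Agent.OddHalf.D6.QThree.NICase

open Cfsg.Agent.Co2Type.Quad Cfsg.Agent.LargeExtra.Model Cfsg.Agent.LargeExtra.Pres
open Cfsg.Agent.LargeExtra.W2 Cfsg.Agent.LargeExtra.W2.PlusHom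
open Cfsg.Agent.OddHalf.D6.QThree.NIFacts
open Cfsg.Agent.GTwoThree.Cent

variable {G : Type*} [Group G] {Q : Subgroup G} {z i j k l x₁ x₂ y s : G}

theorem frame_of_plus (h : Plus Q z i j k l)
    (ha : Act z i j k l x₁ j (i * j) k l) (hb : Act z i j k l x₂ i j l (k * l)) : Frame z i j k l x₁ x₂ := by
  refine ⟨⟨h.large.z_sq, h.large.z_ne, ?_, ?_, ?_, ?_, h.ii, h.jj, h.kk, h.ll, h.ji, h.lk,
    h.ki, h.li, h.kj, h.lj⟩, ha, hb⟩
  · rw [← h.ii, mul_assoc]
  · rw [← h.jj, mul_assoc]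
  · rw [← h.kk, mul_assoc]
  · rw [← h.ll, mul_assoc]

/-- the factors are swapped -/
theorem of_swap (h : Plus Q z i j k l)
    (ha : Act z i j k l x₁ j (i * j) k l) (hb : Act z i j k l x₂ i j l (k * l))
    (hs : Act z i j k l s k l i j) : Full z Q :=
  ⟨i, j, k, l, x₁, x₂, frame_of_plus h ha hb, h.gen, Or.inl ⟨s, mul_inv_eq_iff_eq_mul.1 hs.z, hs.i⟩⟩

theorem of_case9a (h : Case9a Q z i j k l x₁ x₂ s) : Full z Q :=
  of_swap h.toPlus h.x₁_act h.x₂_act h.s_act

theorem of_case9aa (h : Case9aa Q z i j k l x₁ x₂ y s) : Full z Q :=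
  of_swap h.toPlus h.x₁_act h.x₂_act h.s_act

/-! ### `G₂(3)` -/

theorem dec_act : ∀ (a b : Fin 3) (e : Fin 2),
    ((act a b e PlusHom.mk).v = (PlusHom.mk).v → (act a b e ml).v = ml.v → b = 0 ∧ e = 0) ∧
    ((act a b e mi).v = mi.v → (act a b e mj).v = mj.v → a = 0 ∧ e = 0) := by
  decide +kernel

theorem dec_v : ∀ (m n n' : M), m * n' = n * m → n'.v = n.v := by decide +kernel

theorem dec_in : ∀ m : M, m * m = 1 → ((m * PlusHom.mk = PlusHom.mk * m → m * ml = ml * m → m = 1 ∨ m = zz) ∧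
    (m * mi = mi * m → m * mj = mj * m → m = 1 ∨ m = zz)) := by decide +kernel

section

variable (h : Case9c Q z i j k l x₁ x₂ y)

include h

/-- an element of `C(z)` given by a code, commuting with an element of `Q` -/
theorem act_eq {t : Bool} (ht : Twist (z := z) (y := y) t) {u : K} {n : M}
    (hc : toG h u * hom h.toPlus n = hom h.toPlus n * toG h u) :
    (act u.2.1 u.2.2.1 u.2.2.2 n).v = n.v ∧ (u.2 = (0, 0, 0) → u.1 * n = n * u.1) := by
  have h1 : mul t u (kq n) = mul t (kq n) u := by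
    rw [← toG_inj h, toG_mul h ht, toG_mul h ht, toG_kq h]
    exact hc
  have h2 := congrArg Prod.fst h1
  have e1 : (mul t u (kq n)).1 = u.1 * act u.2.1 u.2.2.1 u.2.2.2 n := by
    show u.1 * act u.2.1 u.2.2.1 u.2.2.2 n * tw t u.2.2.2 0 = _
    have : tw t u.2.2.2 0 = 1 := by
      unfold tw
      rw [if_neg]
      rintro ⟨-, -, h0⟩
      exact absurd h0 (by decide)
    rw [this, mul_one]
  have e2 : (mul t (kq n) u).1 = n * u.1 := by
    show n * act 0 0 0 u.1 * tw t 0 u.2.2.2 = _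
    have h3 : tw t 0 u.2.2.2 = 1 := by
      unfold tw
      rw [if_neg]
      rintro ⟨-, h0, -⟩
      exact absurd h0 (by decide)
    have h4 : act 0 0 0 u.1 = u.1 := rfl
    rw [h3, h4, mul_one]
  rw [e1, e2] at h2
  refine ⟨dec_v _ _ _ h2, fun e => ?_⟩
  have h4 : act u.2.1 u.2.2.1 u.2.2.2 n = n := by
    rw [e]; rfl
  rwa [h4] at h2

theorem eq_of_sq {t : Bool} (ht : Twist (z := z) (y := y) t) {u : K} (huu : toG h u * toG h u = 1)
    (he : u.2.2.2 = 0) : u.2 = (0, 0, 0) ∧ u.1 * u.1 = 1 := by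
  have h1 : mul t u u = k1 := by
    rw [← toG_inj h, toG_mul h ht, toG_k1 h]
    exact huu
  have h2 := congrArg Prod.snd h1
  have h3 : u.2 = (0, 0, 0) := by
    obtain ⟨m, a, b, e⟩ := u
    change e = 0 at he
    subst he
    have h4 : ((a + sg 0 a, b + sg 0 b, (0 : Fin 2) + 0) : Fin 3 × Fin 3 × Fin 2) = (0, 0, 0) := h2
    have h5 := congrArg Prod.fst h4
    have h6 := congrArg (fun x => x.2.1) h4
    have key : ∀ a : Fin 3, a + sg 0 a = 0 → a = 0 := by decide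
    show ((a, b, (0 : Fin 2)) : Fin 3 × Fin 3 × Fin 2) = (0, 0, 0)
    rw [key a h5, key b h6]
  refine ⟨h3, ?_⟩
  have h7 : toG h u = hom h.toPlus u.1 := by
    rw [← toG_kq h]
    congr 1
    exact Prod.ext rfl h3
  rw [h7, ← map_mul] at huu
  exact hom_injective h.toPlus (huu.trans (map_one _).symm)

theorem of_case9c (one : ∀ p : G, p * p = 1 → p ≠ 1 → ∃ g, g * z * g⁻¹ = p) : Full z Q := by
  obtain ⟨t, ht⟩ : ∃ t : Bool, Twist (z := z) (y := y) t := by
    rcases h.yy with e | e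
    · exact ⟨false, by simpa [Twist] using e⟩
    · exact ⟨true, by simpa [Twist] using e⟩
  refine ⟨i, j, k, l, x₁, x₂, frame_of_plus h.toPlus h.x₁_act h.x₂_act, h.gen, Or.inr ⟨one, ?_, ?_⟩⟩
  · intro g hgz hgg hgi hgj
    obtain ⟨u, rfl⟩ := exists_code h hgz
    have h1 := act_eq h ht (u := u) (n := mi) (by rw [hom_i]; exact hgi)
    have h2 := act_eq h ht (u := u) (n := mj) (by rw [hom_j]; exact hgj)
    obtain ⟨-, he⟩ := (dec_act u.2.1 u.2.2.1 u.2.2.2).2 h1.1 h2.1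
    obtain ⟨h3, h4⟩ := eq_of_sq h ht hgg he
    have h7 : toG h u = hom h.toPlus u.1 := by
      rw [← toG_kq h]
      congr 1
      exact Prod.ext rfl h3
    rcases (dec_in u.1 h4).2 (h1.2 h3) (h2.2 h3) with e | e
    · left; rw [h7, e, map_one]
    · right; rw [h7, e, hom_zz]
  · intro g hgz hgg hgi hgj
    obtain ⟨u, rfl⟩ := exists_code h hgz
    have h1 := act_eq h ht (u := u) (n := PlusHom.mk) (by rw [hom_k]; exact hgi)
    have h2 := act_eq h ht (u := u) (n := ml) (by rw [hom_l]; exact hgj)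
    obtain ⟨-, he⟩ := (dec_act u.2.1 u.2.2.1 u.2.2.2).1 h1.1 h2.1
    obtain ⟨h3, h4⟩ := eq_of_sq h ht hgg he
    have h7 : toG h u = hom h.toPlus u.1 := by
      rw [← toG_kq h]
      congr 1
      exact Prod.ext rfl h3
    rcases (dec_in u.1 h4).1 (h1.2 h3) (h2.2 h3) with e | e
    · left; rw [h7, e, map_one]
    · right; rw [h7, e, hom_zz]

end

end Cfsg.Agent.OddHalf.D6.QThree.NICase
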