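import Cfsg.Agent.KFacts.LFourThree.Facts
import Cfsg.Agent.OddHalf.D6.QThree.NICase

/-!
# ODD half, D6, `q = 3`: `NIFacts.Full` for `L₄(3)`, same `z`, `R` as `exists_one` (helper948)
-/

set_option autoImplicit false

namespace Cfsg.Agent.OddHalf.D6.QThree.L43Full

open Cfsg.Agent.KFacts.LFourThree Cfsg.Agent.KFacts.LFourThree.Facts

theorem full_L : NIFacts.Full z Q := NICase.of_case9aa case9aa

/-- **`L₄(3)`.** -/
theorem exists_full {F : Type*} [Field F] [Fintype F] (hF : Fintype.card F = 3) :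
    ∃ (z : Matrix.ProjectiveSpecialLinearGroup (Fin 4) F) (R : Subgroup _),
      OddHalf.D6.QThree.Facts.One z R ∧ NIFacts.Full z R := by
  obtain ⟨e⟩ := LargeExtra.W2.LFour.PslFacts.psl_congr F hF
  exact ⟨_, _, one_L.map e, full_L.map e⟩

end Cfsg.Agent.OddHalf.D6.QThree.L43Full
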