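import Cfsg.Agent.OddHalf.D6.QThree.PumpMain

/-!
# The pump-up fact: the types

`M` as in `Pump.main`, without `z`: `L = M`, or `M / Z(M) ≅ U₄(3)`, or `M / Z(M) ≅ L₄(3)`.
-/

set_option autoImplicit false

namespace Cfsg.Agent.OddHalf.D6.QThree.Pump

open Subgroup Cfsg.Agent.OddHalf.D6.QThree.Facts
open scoped commutatorElement

universe u

/-- `M = L Z(M)`, `L` perfect -/
theorem eq_top_of_map {M : Type*} [Group M] (hp : commutator M = ⊤) {L : Subgroup M}
    (h : L.map (QuotientGroup.mk' (center M)) = ⊤) : L = ⊤ := by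
  have h1 : ∀ x : M, ∃ l ∈ L, ∃ ζ ∈ center M, x = l * ζ := by
    intro x
    have h2 : QuotientGroup.mk' (center M) x ∈ L.map (QuotientGroup.mk' (center M)) := by rw [h]; exact mem_top _
    obtain ⟨l, hl, h3⟩ := h2
    obtain ⟨ζ, hζ, h4⟩ := mk_eq_iff.1 h3.symm
    exact ⟨l, hl, ζ, hζ, h4⟩
  rw [eq_top_iff, ← hp, commutator_def, commutator_le]
  intro x _ y _
  obtain ⟨a, ha, ζ, hζ, rfl⟩ := h1 x
  obtain ⟨b, hb, ξ, hξ, rfl⟩ := h1 y
  have hz1 := mem_center_iff.1 hζ
  have hz2 := mem_center_iff.1 hξ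
  have e : ⁅a * ζ, b * ξ⁆ = ⁅a, b⁆ := by
    rw [commutatorElement_def, commutatorElement_def]
    calc a * ζ * (b * ξ) * (a * ζ)⁻¹ * (b * ξ)⁻¹ = a * (ζ * (b * ξ)) * ζ⁻¹ * a⁻¹ * ξ⁻¹ * b⁻¹ := by group
      _ = a * ((b * ξ) * ζ) * ζ⁻¹ * a⁻¹ * ξ⁻¹ * b⁻¹ := by rw [← hz1]
      _ = a * b * (ξ * (a⁻¹ * ξ⁻¹)) * b⁻¹ := by group
      _ = a * b * ((a⁻¹ * ξ⁻¹) * ξ) * b⁻¹ := by rw [← hz2]
      _ = a * b * a⁻¹ * b⁻¹ := by group
  rw [e, commutatorElement_def]
  exact L.mul_mem (L.mul_mem (L.mul_mem ha hb) (L.inv_mem ha)) (L.inv_mem hb)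

/-- **The pump-up fact, types.** -/
theorem types {M : Type u} [Group M] [Finite M] (hS : SpOrd.{u}) (hq : IsQuasisimple M)
    (hK : IsKnownSimple' (M ⧸ center M))
    (hc : Nat.card (M ⧸ center M) ≤ 6531840) (τ : MulAut M) (hτ : ∀ x, τ (τ x) = x) (L : Subgroup M)
    (hL : ∀ x ∈ L, τ x = x) (hs : (L.subgroupOf (fixSub τ)).IsSubnormal)
    {F : Type*} [Field F] [Fintype F] (hF : Fintype.card F = 3) (e : L ≃* PSp 2 F)
    (hLn : ∃ a b : L, a * b ≠ b * a) : L = ⊤ ∨
      (∃ (E : Type) (_ : Field E) (_ : Fintype E), Fintype.card E = 9 ∧ Nonempty (M ⧸ center M ≃* PSU 4 E 3)) ∨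
      ∃ (E : Type) (_ : Field E) (_ : Fintype E), Fintype.card E = 3 ∧
        Nonempty (M ⧸ center M ≃* Matrix.ProjectiveSpecialLinearGroup (Fin 4) E) := by
  have := hq.1
  have hXs := hq.2
  have hLs : IsSimpleGroup L := by
    have := Cfsg.Agent.S0270.result (F := F) 2 le_rfl (fun _ => hF.ge)
    exact e.isSimpleGroup_congr.2 this
  have hcardL : Nat.card L = 25920 := by
    rw [Nat.card_congr e.toEquiv, card_psp_three hF]
  -- the central quotient
  set π := QuotientGroup.mk' (center M) with hπ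
  have hinj : Function.Injective (π.comp L.subtype) := by
    rw [← MonoidHom.ker_eq_bot_iff]
    rcases (inferInstance : (π.comp L.subtype).ker.Normal).eq_bot_or_eq_top with h1 | h1
    · exact h1
    · exfalso
      obtain ⟨a, b, hab⟩ := hLn
      apply hab
      have h2 : b ∈ (π.comp L.subtype).ker := by rw [h1]; exact mem_top b
      have h3 : (b : M) ∈ center M := by
        rw [MonoidHom.mem_ker] at h2
        exact (QuotientGroup.eq_one_iff _).1 h2
      exact Subtype.ext (mem_center_iff.1 h3 a)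
  have hLm : L.map π = (π.comp L.subtype).range := by
    rw [MonoidHom.range_comp, range_subtype]
  have hcardLm : Nat.card (L.map π) = 25920 := by
    rw [hLm, ← hcardL]
    exact Nat.card_congr (MonoidHom.ofInjective hinj).symm.toEquiv
  by_cases hb1 : bar τ = 1
  · -- `τ = 1`
    left
    apply eq_top_of_map hq.1.commutator_eq_top
    have h2 := subnormal_bar hL hs
    rw [hb1] at h2
    have h3 : fixSub (1 : MulAut (M ⧸ center M)) = ⊤ := by
      ext y; simp [mem_fixSub]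
    have h4 : (L.map π).IsSubnormal := by
      refine IsSubnormal.trans (K := fixSub (1 : MulAut (M ⧸ center M))) (by rw [h3]; exact le_top) h2 ?_
      rw [h3]; exact IsSubnormal.top
    rcases h4.eq_bot_or_top_of_isSimpleGroup hXs with h5 | h5
    · rw [h5] at hcardLm
      simp at hcardLm
    · exact h5
  -- the general case
  have hbL : ∀ y ∈ L.map π, bar τ y = y := by
    rintro _ ⟨l, hl, rfl⟩
    rw [bar_mk, hL l hl]
  have hbτ : ∀ y, bar τ (bar τ y) = y := by
    intro y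
    obtain ⟨y, rfl⟩ := QuotientGroup.mk'_surjective (center M) y
    rw [bar_mk, bar_mk, hτ]
  have hqL : IsQuasisimple (L.map π) :=
    Cfsg.Agent.S1246.quasisimple_of_equiv
      ((MonoidHom.ofInjective hinj).trans (MulEquiv.subgroupCongr hLm.symm)) (quasisimple_of_simple hLn)
  have hnp : ¬ IsPGroup 2 (L.map π) := by
    intro h1
    obtain ⟨n, hn⟩ := IsPGroup.iff_card.1 h1
    rw [hcardLm] at hn
    have h3 : 3 ∣ 2 ^ n := by rw [← hn]; norm_num
    have h4 := Nat.prime_three.dvd_of_dvd_pow h3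
    omega
  have hdvd : 25920 ∣ Nat.card (M ⧸ center M) := by
    rw [← hcardLm]; exact card_subgroup_dvd_card _
  cases seven hS excOrd hK hdvd hc with
  | psp F' h e' =>
    left
    apply eq_top_of_map hq.1.commutator_eq_top
    apply eq_top_of_card_eq
    obtain ⟨e'⟩ := e'
    rw [hcardLm, Nat.card_congr e'.toEquiv, card_psp_three h]
  | psu F' h e' => exact Or.inr (Or.inl ⟨F', inferInstance, inferInstance, h, e'⟩)
  | psl F' h e' => exact Or.inr (Or.inr ⟨F', inferInstance, inferInstance, h, e'⟩)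
  | sp6 F' h e' =>
    obtain ⟨e'⟩ := e'
    exact absurd (no_sp (Group.IsPerfect.center_quotient_center_eq_bot M) h e' (bar τ) hbτ hb1 (L.map π) hbL
      (subnormal_bar hL hs) hqL hnp) id
  | a9 e' =>
    obtain ⟨e'⟩ := e'
    exact absurd (no_alt (Or.inl rfl) e' (bar τ) hbτ hb1 (L.map π) hbL hcardLm) id
  | a10 e' =>
    obtain ⟨e'⟩ := e'
    exact absurd (no_alt (Or.inr rfl) e' (bar τ) hbτ hb1 (L.map π) hbL hcardLm) id

end Cfsg.Agent.OddHalf.D6.QThree.Pump
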