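import Cfsg.Agent.OddHalf.D6.QThree.RefOf
import Cfsg.Agent.OddHalf.D6.QThree.PumpType
import Cfsg.Agent.OddHalf.D6.QThree.NIB.FusB
import Cfsg.Agent.KFacts.PSpFourThree.MainOut

/-!
# ODD half, D6, `q = 3`: the reflections, the three cases (inputs of `NIB.Two.RefTri`)

`Data t z b D R L F` as in `RefOf`.

* `Data.tri`: the component of `C(b)` over `L` is `L`, `≅ U₄(3)`, `≅ L₄(3)`, or diagonal.
* `noV_of_comm`, `noV`: no element `v` of `C(b) ∩ C(R)` with `[v, t] = z` (case `L`).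
* `fus`: case `U₄(3)`: fusion of `b` in `C(z)`.
* `diagQ`: the diagonal case.
-/

set_option autoImplicit false

namespace Cfsg.Agent.OddHalf.D6.QThree.RefOf

open Subgroup Cfsg Cfsg.Agent.OddHalf.Iface Cfsg.Agent.OddHalf.D3
open Cfsg.Agent.OddHalf.D6.QThree.Pump (SpOrd fixSub)
open Cfsg.Agent.OddHalf.D6.QThree.Diag (DiagAt)
open Cfsg.Agent.OddHalf.D6.QThree.Facts

universe u

/-! ### on `L ≅ PSp₄(3)` -/

/-- an automorphism trivial on `R` is trivial on the elements of odd order of `C_K(z)` -/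
theorem trivial_of_R' {K : Type*} [Group K] {z : K} {R : Subgroup K} (b : Facts.Base z R) {α : MulAut K}
    (hα : ∀ r ∈ R, α r = r) {x : K} (hxz : x * z = z * x) (hx : Odd (orderOf x)) : α x = x := by
  have hz : α z = z := hα z b.zR
  have hαx : α x * z = z * α x := by
    have := congrArg α hxz
    rwa [map_mul, map_mul, hz] at this
  have hc : x⁻¹ * α x * z = z * (x⁻¹ * α x) := by
    have c1 : Commute x z := hxz
    have c2 : Commute (α x) z := hαx
    exact c1.inv_left.mul_left c2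
  have h1 : x⁻¹ * α x = 1 ∨ x⁻¹ * α x = z := by
    apply b.cR _ hc
    intro r hr
    have h2 : α x * r * (α x)⁻¹ = x * r * x⁻¹ := by
      have h3 : α (x * r * x⁻¹) = x * r * x⁻¹ := hα _ (b.nR x hxz r hr)
      rw [map_mul, map_mul, map_inv, hα r hr] at h3
      exact h3
    calc x⁻¹ * α x * r = x⁻¹ * (α x * r * (α x)⁻¹) * α x := by group
      _ = x⁻¹ * (x * r * x⁻¹) * α x := by rw [h2]
      _ = r * (x⁻¹ * α x) := by group
  rcases h1 with h1 | h1
  · exact (inv_mul_eq_one.1 h1).symm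
  · exfalso
    apply b.z1
    have h2 : α x = x * z := by rw [← h1]; group
    have h3 : (x * z) ^ orderOf x = 1 := by rw [← h2, ← map_pow, pow_orderOf_eq_one, map_one]
    have c1 : Commute x z := hxz
    obtain ⟨n, hn⟩ := hx
    rw [c1.mul_pow, pow_orderOf_eq_one, one_mul, hn, pow_succ, pow_mul, pow_two, b.zz, one_pow,
      one_mul] at h3
    exact h3

/-- **`C_{Aut L}(N) = ⟨z⟩`** for `L ≅ PSp₄(3)` and a nonabelian 2-subgroup `N` normal in `C_L(z)` -/
theorem sp_aut {L : Type*} [Group L] {F : Type*} [Field F] [Fintype F] (hF : Fintype.card F = 3)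
    (e : L ≃* Cfsg.PSp 2 F) {z : L} (zz : z * z = 1) (z1 : z ≠ 1) {N : Subgroup L} (hN : IsPGroup 2 N)
    (hz : ∀ n ∈ N, n * z = z * n) (hn : ∀ g, g * z = z * g → ∀ n ∈ N, g * n * g⁻¹ ∈ N)
    (hna : ∃ a ∈ N, ∃ b ∈ N, a * b ≠ b * a) {α : MulAut L} (hα : ∀ n ∈ N, α n = n) :
    α = 1 ∨ α = MulAut.conj z := by
  obtain ⟨z₀, R₀, h3, ha⟩ := Cfsg.Agent.KFacts.PSpFourThree.exists_three_aut hF ⟨e⟩
  obtain ⟨k, hk⟩ : ∃ k, k * z₀ * k⁻¹ = z := by
    rcases h3.classes z zz z1 with h1 | h1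
    · exact h1
    · exfalso
      obtain ⟨a, ha, b, hb, hab⟩ := hna
      exact hab (h1 N hN hz hn a ha b hb)
  have h3' := h3.map (MulAut.conj k)
  have ha' := ha.map (MulAut.conj k)
  have hz' : (MulAut.conj k) z₀ = z := by rw [MulAut.conj_apply, hk]
  rw [hz'] at h3' ha'
  set R := R₀.map (MulAut.conj k).toMonoidHom
  have hNR : N ≤ R := h3'.max N hN hz hn
  have hNR' : N = R := by
    rcases h3'.irr N hNR hn with h1 | h1
    · exfalso
      obtain ⟨a, ha, b, hb, hab⟩ := hna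
      rcases h1 a ha with rfl | rfl
      · exact hab (by rw [one_mul, mul_one])
      · exact hab (hz b hb).symm
    · exact h1
  rw [hNR'] at hα
  exact ha'.a1 α (hα z h3'.zR) (fun x hx ho => trivial_of_R' h3'.toBase hα hx ho)

/-! ### on `G` -/

variable {G : Type u} [Group G]

namespace Data

variable {t z b : G} {D R L : Subgroup G} {F : Type} [Field F] [Fintype F]

/-- an element of `C(b) ∩ C(z)` normalises a component over `L` -/
theorem cj_eq (h : Data t z b D R L F) [Finite G] {M : Subgroup G} (hM : Comp b M) (hLM : L ≤ M) {g : G}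
    (hgb : g * b = b * g) (hgz : g * z = z * g) : cj g M = M := by
  by_contra hne
  have h1 := (hM.conj_of_comm hgb).comm hM hne
  apply h.z1
  apply h.eq_one_L h.zL
  intro l hl
  have h2 : z ∈ cj g M := by
    rw [mem_cj]
    have h3 : g⁻¹ * z * g = z := by rw [mul_assoc, ← hgz, ← mul_assoc, inv_mul_cancel, one_mul]
    rw [h3]
    exact hLM h.zL
  exact comm_elt h1 h2 (hLM hl)

/-- no `v ∈ C(b) ∩ C(R)` with `[v, t] = z`, if the automorphisms of `M` trivial on `R` commute -/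
theorem noV_of_comm (h : Data t z b D R L F) [Finite G] {M : Subgroup G} (hM : Comp b M) (hLM : L ≤ M)
    (ht : cj t M = M)
    (hc : ∀ α β : MulAut M, (∀ r : M, (r : G) ∈ R → α r = r) → (∀ r : M, (r : G) ∈ R → β r = r) → α * β = β * α)
    {v : G} (hvb : v * b = b * v) (hvR : ∀ r ∈ R, v * r = r * v) : t * v * t⁻¹ ≠ v * z := by
  intro htv
  have hv : cj v M = M := h.cj_eq hM hLM hvb (hvR z h.zR)
  have hvn := mem_normalizer_iff_cj.2 hv
  have htn := mem_normalizer_iff_cj.2 ht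
  have h1 := hc (M.normalizerMonoidHom ⟨v, hvn⟩) (M.normalizerMonoidHom ⟨t, htn⟩)
    (fun r hr => Subtype.ext (by
      show v * (r : G) * v⁻¹ = r
      rw [hvR r hr, mul_inv_cancel_right]))
    (fun r hr => Subtype.ext (by
      show t * (r : G) * t⁻¹ = r
      rw [← h.Lt r (h.DL (h.RD hr)), mul_inv_cancel_right]))
  apply h.z1
  apply h.eq_one_L h.zL
  intro l hl
  -- `l = t m t⁻¹`
  have hl' : l ∈ cj t M := by rw [ht]; exact hLM hl
  have hm : t⁻¹ * l * t ∈ M := mem_cj.1 hl'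
  have h2 := congrArg Subtype.val (DFunLike.congr_fun h1 ⟨_, hm⟩)
  have h3 : v * (t * (t⁻¹ * l * t) * t⁻¹) * v⁻¹ = t * (v * (t⁻¹ * l * t) * v⁻¹) * t⁻¹ := h2
  have h4 : t * v = v * z * t := by rw [← htv]; group
  have h5 : t * (v * (t⁻¹ * l * t) * v⁻¹) * t⁻¹ = v * (z * l * z⁻¹) * v⁻¹ := by
    calc t * (v * (t⁻¹ * l * t) * v⁻¹) * t⁻¹ = (t * v) * (t⁻¹ * l * t) * (t * v)⁻¹ := by group
      _ = v * (z * l * z⁻¹) * v⁻¹ := by rw [h4]; group
  have h6 : v * (t * (t⁻¹ * l * t) * t⁻¹) * v⁻¹ = v * l * v⁻¹ := by group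
  rw [h5, h6] at h3
  have h7 : l = z * l * z⁻¹ := mul_left_cancel (mul_right_cancel h3)
  calc z * l = (z * l * z⁻¹) * z := by group
    _ = l * z := by rw [← h7]

/-- automorphisms of `L` trivial on `R` -/
theorem aut_L (h : Data t z b D R L F) {α : MulAut L} (hα : ∀ r : L, (r : G) ∈ R → α r = r) :
    α = 1 ∨ α = MulAut.conj ⟨z, h.zL⟩ := by
  obtain ⟨e⟩ := h.iso
  have hRL : R ≤ L := h.RD.trans h.DL
  refine sp_aut h.hF e (z := ⟨z, h.zL⟩) (Subtype.ext h.zz) (fun h1 => h.z1 (congrArg Subtype.val h1))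
    (N := R.subgroupOf L) (h.pR.of_equiv (subgroupOfEquivOfLe hRL).symm)
    (fun n hn => Subtype.ext (h.Dz n (h.RD hn)))
    (fun g hg n hn => h.nR g g.2 (congrArg Subtype.val hg) n hn) ?_ (fun r hr => hα r hr)
  obtain ⟨a, ha, b, hb, hab⟩ := h.na
  exact ⟨⟨a, hRL ha⟩, ha, ⟨b, hRL hb⟩, hb, fun h1 => hab (congrArg Subtype.val h1)⟩

/-- **(A)**, the component is `L` -/
theorem noV (h : Data t z b D R L F) [Finite G] (hM : Comp b L) {v : G} (hvb : v * b = b * v)
    (hvR : ∀ r ∈ R, v * r = r * v) : t * v * t⁻¹ ≠ v * z := by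
  refine h.noV_of_comm hM le_rfl ?_ ?_ hvb hvR
  · apply le_antisymm
    · rintro _ ⟨l, hl, rfl⟩
      show t * l * t⁻¹ ∈ L
      rw [← h.Lt l hl, mul_inv_cancel_right]
      exact hl
    · intro l hl
      rw [mem_cj, mul_assoc, h.Lt l hl]
      have e : t⁻¹ * (t * l) = l := by group
      rw [e]
      exact hl
  · intro α β hα hβ
    rcases h.aut_L hα with rfl | rfl
    · rw [one_mul, mul_one]
    · rcases h.aut_L hβ with rfl | rfl
      · rw [one_mul, mul_one]
      · rfl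

/-- the order of a vertical component -/
theorem card_le (h : Data t z b D R L F) (C : Ctx G) {K : Subgroup G} (S : Std G K)
    {M : Subgroup G} (hM : Comp b M) (hLM : L ≤ M) (ht : cj t M = M) : Nat.card M ≤ Nat.card K := by
  have := C.fin
  have htM : ∀ m ∈ M, t * m * t⁻¹ ∈ M := fun m hm => by
    have := conj_mem_cj (g := t) hm
    rwa [ht] at this
  refine S.max b M h.b_ord ⟨hM.le, hM.comp⟩ fun hl => ?_
  exfalso
  apply h.not_l2o
  refine D6.PumpDown.of_le hl h.tt htM hLM h.Lt ?_ ?_ ?_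
  · have h1 := h.quasi_L.1.commutator_eq_top
    have h2 := congrArg (Subgroup.map L.subtype) h1
    rw [commutator_def, map_commutator, ← MonoidHom.range_eq_map, range_subtype] at h2
    exact h2
  · intro h1
    have h2 := h.zL
    rw [h1, mem_bot] at h2
    exact h.z1 h2
  · refine Diag.sn_mono ?_ h.sub
    exact inf_le_inf_right _ hM.le

theorem known (h : Data t z b D R L F) (C : Ctx G) {M : Subgroup G} (hM : Comp b M) :
    IsKnownSimple' (M ⧸ center M) := by
  have := C.fin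
  refine Known.known_quotient C.kproper M ?_ (center M) hM.quasi.2 (Orders.Quo.quo_na hM.quasi)
  intro h1
  have := C.simple
  have h2 : b ∈ center G := by
    rw [mem_center_iff]
    intro g
    exact mem_cs.1 (hM.le (h1 ▸ mem_top g))
  rcases (inferInstance : (center G).Normal).eq_bot_or_eq_top with h3 | h3
  · rw [h3, mem_bot] at h2
    exact h.b1 h2
  · apply C.na
    refine ⟨⟨fun x y => ?_⟩⟩
    have h4 : y ∈ center G := h3 ▸ mem_top y
    exact mem_center_iff.1 h4 x

/-- the types of a vertical component -/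
theorem types (h : Data t z b D R L F) (C : Ctx G) (hS : SpOrd.{u}) {K : Subgroup G} (S : Std G K)
    (hK : Nat.card K ≤ 6531840) {M : Subgroup G} (hM : Comp b M) (hLM : L ≤ M) (ht : cj t M = M) : M ≤ L ∨
      (∃ (E : Type) (_ : Field E) (_ : Fintype E), Fintype.card E = 9 ∧ Nonempty (M ⧸ center M ≃* PSU 4 E 3)) ∨
      ∃ (E : Type) (_ : Field E) (_ : Fintype E), Fintype.card E = 3 ∧
        Nonempty (M ⧸ center M ≃* Matrix.ProjectiveSpecialLinearGroup (Fin 4) E) := by
  have := C.fin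
  have ti : t⁻¹ = t := inv_eq_of_mul_eq_one_right h.tt
  have htM : ∀ m ∈ M, t * m * t⁻¹ ∈ M := fun m hm => by
    have := conj_mem_cj (g := t) hm
    rwa [ht] at this
  have htM' : ∀ m ∈ M, t⁻¹ * m * t ∈ M := by
    intro m hm
    have h1 := htM m hm
    rw [ti] at h1 ⊢
    exact h1
  let τ : MulAut M :=
    { toFun := fun l => ⟨t * l * t⁻¹, htM l l.2⟩
      invFun := fun l => ⟨t⁻¹ * l * t, htM' l l.2⟩
      left_inv := fun l => Subtype.ext (by simp only; group)
      right_inv := fun l => Subtype.ext (by simp only; group)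
      map_mul' := fun a b => Subtype.ext (by
        show t * ((a : G) * b) * t⁻¹ = t * a * t⁻¹ * (t * b * t⁻¹)
        group) }
  have hτc : ∀ l : M, ((τ l : M) : G) = t * l * t⁻¹ := fun l => rfl
  have hτ : ∀ x, τ (τ x) = x := by
    intro l
    apply Subtype.ext
    rw [hτc, hτc]
    calc t * (t * (l : G) * t⁻¹) * t⁻¹ = t * t * l * (t * t)⁻¹ := by group
      _ = l := by rw [h.tt]; group
  have hfix : ∀ l : M, τ l = l ↔ (l : G) * t = t * l := by
    intro l
    constructor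
    · intro h1
      have := congrArg Subtype.val h1
      rw [hτc, mul_inv_eq_iff_eq_mul] at this
      exact this.symm
    · intro h1
      apply Subtype.ext
      rw [hτc, ← h1, mul_inv_cancel_right]
  have hLfix : ∀ x ∈ L.subgroupOf M, τ x = x := by
    intro x hx
    rw [hfix]
    exact h.Lt x hx
  have hsub : ((L.subgroupOf M).subgroupOf (fixSub τ)).IsSubnormal := by
    let ι : fixSub τ →* (centralizer ({b} : Set G) ⊓ centralizer ({t} : Set G) : Subgroup G) :=
      { toFun := fun l => ⟨((l : M) : G), ⟨hM.le (l : M).2, mem_cs.2 ((hfix _).1 l.2)⟩⟩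
        map_one' := rfl
        map_mul' := fun _ _ => rfl }
    exact h.sub.comap ι
  obtain ⟨e⟩ := h.iso
  have hcq : Nat.card (M ⧸ center M) ≤ 6531840 :=
    (Nat.le_of_dvd Nat.card_pos (card_quotient_dvd_card (center M))).trans ((h.card_le C S hM hLM ht).trans hK)
  rcases Pump.types hS hM.quasi (h.known C hM) hcq τ hτ (L.subgroupOf M) hLfix hsub h.hF
    ((subgroupOfEquivOfLe hLM).trans e) (by
      obtain ⟨a, b, hab⟩ := h.na_L
      refine ⟨⟨⟨a, hLM a.2⟩, a.2⟩, ⟨⟨b, hLM b.2⟩, b.2⟩, fun h1 => hab (Subtype.ext ?_)⟩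
      exact congrArg (fun x : L.subgroupOf M => ((x : M) : G)) h1) with h1 | h1
  · exact Or.inl (subgroupOf_eq_top.1 h1)
  · exact Or.inr h1

theorem equiv_of_card {M : Type*} [Group M] [Finite M] {X : Type*} [Group X] {n m : ℕ}
    (e : M ⧸ center M ≃* X) (hX : Nat.card X = n) (hM : Nat.card M ≤ m) (hm : m < 2 * n) : Nonempty (M ≃* X) := by
  have h1 := card_eq_card_quotient_mul_card_subgroup (center M)
  rw [Nat.card_congr e.toEquiv, hX] at h1
  have h2 : Nat.card (center M) = 1 := by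
    have h3 : 0 < Nat.card (center M) := Nat.card_pos
    by_contra h4
    have h5 : 2 ≤ Nat.card (center M) := by omega
    have h6 : n * 2 ≤ n * Nat.card (center M) := Nat.mul_le_mul_left _ h5
    omega
  have h3 : center M = ⊥ := (card_eq_one).1 h2
  exact ⟨(QuotientGroup.quotientBot.symm.trans (QuotientGroup.quotientMulEquivOfEq h3.symm)).trans e⟩

/-- **the component of `C(b)` over `L`** -/
theorem tri (h : Data t z b D R L F) (C : Ctx G) (hS : SpOrd.{u}) {K : Subgroup G} (S : Std G K)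
    (hK : Nat.card K < 6531840) (hN : ∀ K : Subgroup G, CompOf b K → ¬ NI3.HasY ↥K) :
    Comp b L ∨
    (∃ M : Subgroup G, Comp b M ∧ L ≤ M ∧ cj t M = M ∧ Nat.card M ≤ Nat.card K ∧
      ∃ (E : Type) (_ : Field E) (_ : Fintype E), Fintype.card E = 9 ∧ Nonempty (M ≃* PSU 4 E 3)) ∨
    (∃ M : Subgroup G, Comp b M ∧ L ≤ M ∧ cj t M = M ∧ Nat.card M ≤ Nat.card K ∧
      ∃ (E : Type) (_ : Field E) (_ : Fintype E), Fintype.card E = 3 ∧
        Nonempty (M ≃* Matrix.ProjectiveSpecialLinearGroup (Fin 4) E)) ∨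
    ∃ M : Subgroup G, Comp b M ∧ cj t M ≠ M ∧ DiagAt t z b D M L := by
  have := C.fin
  have heven : 2 ∣ Nat.card L := by rw [h.card_L]; norm_num
  have vert : ∀ M : Subgroup G, Comp b M → L ≤ M → cj t M = M → Comp b L ∨
    (∃ M : Subgroup G, Comp b M ∧ L ≤ M ∧ cj t M = M ∧ Nat.card M ≤ Nat.card K ∧
      ∃ (E : Type) (_ : Field E) (_ : Fintype E), Fintype.card E = 9 ∧ Nonempty (M ≃* PSU 4 E 3)) ∨
    (∃ M : Subgroup G, Comp b M ∧ L ≤ M ∧ cj t M = M ∧ Nat.card M ≤ Nat.card K ∧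
      ∃ (E : Type) (_ : Field E) (_ : Fintype E), Fintype.card E = 3 ∧
        Nonempty (M ≃* Matrix.ProjectiveSpecialLinearGroup (Fin 4) E)) := by
    intro M hM hLM ht
    have hc := h.card_le C S hM hLM ht
    rcases h.types C hS S hK.le hM hLM ht with h1 | ⟨E, i1, i2, h1, ⟨e⟩⟩ | ⟨E, i1, i2, h1, ⟨e⟩⟩
    · left
      rw [le_antisymm hLM h1]
      exact hM
    · right; left
      have : Fact (Nat.Prime 3) := ⟨Nat.prime_three⟩
      have : CharP E 3 := charP_of_card_eq_prime_pow (f := 2) (by rw [h1]; norm_num)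
      exact ⟨M, hM, hLM, ht, hc, E, i1, i2, h1, equiv_of_card e (U43Tw.card_K h1) hc (by omega)⟩
    · right; right
      refine ⟨M, hM, hLM, ht, hc, E, i1, i2, h1, ?_⟩
      obtain ⟨e2⟩ := Cfsg.Agent.LargeExtra.W2.LFour.PslFacts.psl_congr E h1
      have h2 : Nat.card (Matrix.ProjectiveSpecialLinearGroup (Fin 4) E) = 6065280 := by
        rw [Nat.card_congr e2.symm.toEquiv, Cfsg.Agent.LargeExtra.W2.LFour.PslFacts.card_psl]
      exact equiv_of_card e h2 hc (by omega)
  obtain ⟨M, hM, h1 | ⟨h1, h2⟩ | ⟨h1, h2, h3⟩⟩ := D8.PumpX.pump (C.bal b h.b_ord) h.tt h.bt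
    (fun l hl => mem_cs.2 (h.Lb l hl)) (fun l hl => mem_cs.2 (h.Lt l hl)) h.quasi_L heven h.sub
  · left
    rw [h1]
    exact hM
  · rcases vert M hM h1.le h2 with h3 | h3 | h3
    · exact Or.inl h3
    · exact Or.inr (Or.inl h3)
    · exact Or.inr (Or.inr (Or.inl h3))
  · right; right; right
    exact ⟨M, hM, h1, h.diagAt C hN hM h1 h2 h3⟩

end Data

end Cfsg.Agent.OddHalf.D6.QThree.RefOf
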