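import Cfsg.Agent.OddHalf.D6.QThree.U43Tw
import Cfsg.Agent.OddHalf.D6.QThree.Facts
import Cfsg.Agent.LargeExtra.W2.U43.InvClass
import Cfsg.Agent.LargeExtra.W2.U43.Fusion

/-!
# ODD half, D6, `q = 3`: the facts `Two` for `U₄(3)` (helper577)

`two_of_tw`: for every finite group with the configuration `Tw`, one class of involutions and `z` 2-central;
`exists_two`: `U₄(3)`.
-/

set_option autoImplicit false

namespace Cfsg.Agent.OddHalf.D6.QThree.U43Facts

open Subgroup Cfsg.Agent.Co2Type.Quad Cfsg.Agent.LargeExtra.W2 Cfsg.Agent.LargeExtra.W2.CM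
open Cfsg.Agent.LargeExtra.W2.U43 Cfsg.Agent.LargeExtra.W2.U43.ExistsD Cfsg.Agent.LargeExtra.W2.U43.InvClass
open Cfsg.Agent.OddHalf.D6.QThree.Facts

/-! ### Checks in the model -/

/-- all elements of the model of `Q` -/
def allQ (P : Qt → Bool) : Bool :=
  allB fun s => allB fun a => allB fun b => allB fun c => allB fun d => P ⟨s, a, b, c, d⟩

theorem allQ_spec {P : Qt → Bool} (h : allQ P = true) (w : Qt) : P w = true := by
  obtain ⟨s, a, b, c, d⟩ := w
  exact allB_spec (allB_spec (allB_spec (allB_spec (allB_spec h s) a) b) c) d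

/-- an element of `Q \ ⟨z⟩` does not commute with its image under `x₁` or `x₂` -/
theorem chkA : allQ (fun w => Qt.beq w T.one.w || (Qt.beq w tz.w ||
    (!(Qt.beq (w.mul w.x1) (w.x1.mul w)) || !(Qt.beq (w.mul w.x2) (w.x2.mul w))))) = true := by
  decide +kernel

/-- the element of `Q` -/
def qt (w : Qt) : T := ⟨w, C3.o, C3.o, false, false⟩

/-- the involutions of `s Q` are conjugate to `s` -/
theorem chkB : allQ (fun w => !(T.beq (mu (mu ts (qt w)) (mu ts (qt w))) T.one) ||
    anyL conjs (fun c => T.beq (mu c (mu ts (qt w))) (mu ts c))) = true := by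
  decide +kernel

variable {G : Type*} [Group G] {Q : Subgroup G} {z i j k l x₁ x₂ y s : G}

theorem qbeq_eq {p q : Qt} (h : Qt.beq p q = true) : p = q := by
  have h1 : T.beq (qt p) (qt q) = true := by
    unfold T.beq qt
    simp [h, C3.eqb_self]
  exact congrArg T.w (T.eq_of_beq h1)

theorem ev_qt (w : Qt) : (qt w).ev z i j k l x₁ x₂ y s = w.ev z i j k l := by
  simp [T.ev, qt, pw, pw3]

/-- elements of `Q` -/
theorem exists_qt (h : Tw Q z i j k l x₁ x₂ y s) {x : G} (hx : x ∈ Q) :
    ∃ w : Qt, x = w.ev z i j k l := by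
  obtain ⟨w, hw⟩ := Fusion.mem_Q h.toCase9aa h.rules hx
  exact ⟨w, by rw [hw, Fusion.E_tq]⟩

theorem evQ_inj [Finite G] (h : Tw Q z i j k l x₁ x₂ y s) {p q : Qt}
    (hpq : p.ev z i j k l = q.ev z i j k l) : p = q := by
  have h1 : qt p = qt q := by
    apply ev_inj h.toCase9aa h.rules
    show (qt p).ev z i j k l x₁ x₂ y s = (qt q).ev z i j k l x₁ x₂ y s
    rw [ev_qt, ev_qt, hpq]
  exact congrArg T.w h1

theorem comm_mem (h : Tw Q z i j k l x₁ x₂ y s) {x : G} (hx : x ∈ Q) : x * z = z * x :=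
  h.large.comm_z x hx

/-- `⟨i, …⟩ ∩ …` : abelian subgroups of `Q` normal in `C(z)` -/
theorem ab [Finite G] (h : Tw Q z i j k l x₁ x₂ y s) (B : Subgroup G) (hB : B ≤ Q)
    (hab : ∀ a ∈ B, ∀ b ∈ B, a * b = b * a) (hn : ∀ g, g * z = z * g → ∀ b ∈ B, g * b * g⁻¹ ∈ B)
    (b : G) (hb : b ∈ B) : b = 1 ∨ b = z := by
  have R := h.rules
  obtain ⟨w, rfl⟩ := exists_qt h (hB hb)
  have h1 := allQ_spec chkA w
  simp only [Bool.or_eq_true, Bool.not_eq_true'] at h1
  have e0 : T.one.w.ev z i j k l = 1 := by simp [Qt.ev, pw, T.one]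
  have ez : tz.w.ev z i j k l = z := by simp [Qt.ev, pw, tz]
  rcases h1 with h1 | h1 | h1 | h1
  · left; rw [qbeq_eq h1, e0]
  · right; rw [qbeq_eq h1, ez]
  · exfalso
    have h2 : x₁ * w.ev z i j k l * x₁⁻¹ = w.x1.ev z i j k l := by
      rw [ax1 R w, mul_inv_cancel_right]
    have h3 := hn x₁ h.x₁_act.comm_z _ hb
    rw [h2] at h3
    have h4 := hab _ hb _ h3
    rw [evQ_mul R, evQ_mul R] at h4
    rw [evQ_inj h h4] at h1
    have : Qt.beq (w.x1.mul w) (w.x1.mul w) = true := by
      have := T.beq_self (qt (w.x1.mul w))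
      unfold T.beq qt at this
      simp only [Bool.and_eq_true] at this
      exact this.1
    rw [this] at h1
    exact Bool.noConfusion h1
  · exfalso
    have h2 : x₂ * w.ev z i j k l * x₂⁻¹ = w.x2.ev z i j k l := by
      rw [ax2 R w, mul_inv_cancel_right]
    have h3 := hn x₂ h.x₂_act.comm_z _ hb
    rw [h2] at h3
    have h4 := hab _ hb _ h3
    rw [evQ_mul R, evQ_mul R] at h4
    rw [evQ_inj h h4] at h1
    have : Qt.beq (w.x2.mul w) (w.x2.mul w) = true := by
      have := T.beq_self (qt (w.x2.mul w))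
      unfold T.beq qt at this
      simp only [Bool.and_eq_true] at this
      exact this.1
    rw [this] at h1
    exact Bool.noConfusion h1

theorem odd_of_cube {x : G} (h : x ^ 3 = 1) : Odd (orderOf x) := by
  have h1 : orderOf x ∣ 3 := orderOf_dvd_of_pow_eq_one h
  exact Odd.of_dvd_nat (by decide) h1

/-- `z ∈ O²(C(z))` -/
theorem oz (h : Tw Q z i j k l x₁ x₂ y s) :
    z ∈ closure {x : G | x * z = z * x ∧ Odd (orderOf x)} := by
  have R := h.rules
  have m1 : x₁ ∈ closure {x : G | x * z = z * x ∧ Odd (orderOf x)} :=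
    subset_closure ⟨h.x₁_act.comm_z, odd_of_cube h.x₁3⟩
  have ci : i * z = z * i := R.zi
  have m2 : i * x₁ * i⁻¹ ∈ closure {x : G | x * z = z * x ∧ Odd (orderOf x)} := by
    refine subset_closure ⟨?_, odd_of_cube ?_⟩
    · have h1 : Commute z i := ci.symm
      have h2 : Commute z x₁ := h.x₁_act.comm_z.symm
      exact ((h1.mul_right h2).mul_right h1.inv_right).eq.symm
    · rw [conj_pow, h.x₁3, mul_one, mul_inv_cancel]
  have e : x₁ * (i * x₁ * i⁻¹)⁻¹ = i * j := by
    have h1 : x₁ * i * x₁⁻¹ = j := h.x₁_act.i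
    have h2 : i⁻¹ = i * z := by
      rw [inv_eq_iff_mul_eq_one, ← mul_assoc, h.ii, h.large.z_sq]
    calc x₁ * (i * x₁ * i⁻¹)⁻¹ = (x₁ * i * x₁⁻¹) * i⁻¹ := by group
      _ = j * (i * z) := by rw [h1, h2]
      _ = (j * i) * z := by rw [mul_assoc]
      _ = i * j * (z * z) := by rw [h.ji]; simp only [mul_assoc]
      _ = i * j := by rw [h.large.z_sq, mul_one]
  have e2 : i * j * (i * j) = z := by
    calc i * j * (i * j) = i * (j * i) * j := by simp only [mul_assoc]
      _ = i * i * (j * z) * j := by rw [h.ji]; simp only [mul_assoc]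
      _ = z * (z * j) * j := by rw [h.ii, R.zj]
      _ = (z * z) * (j * j) := by simp only [mul_assoc]
      _ = z := by rw [h.large.z_sq, h.jj, one_mul]
  have m3 := mul_mem m1 (inv_mem m2)
  have m4 := mul_mem m3 m3
  rw [e, e2] at m4
  exact m4

/-- `C(z)` is generated by involutions. -/
theorem gen [Finite G] (h : Tw Q z i j k l x₁ x₂ y s) (g : G) (hg : g * z = z * g) :
    g ∈ closure {p : G | p * z = z * p ∧ p * p = 1} := by
  have R := h.rules
  have hc := mem_centralizer_singleton_iff.2 hg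
  rw [h.cent] at hc
  refine (closure_le _).2 ?_ hc
  have hin : ∀ t : T, T.beq (mu t t) T.one = true →
      t.ev z i j k l x₁ x₂ y s ∈ closure {p : G | p * z = z * p ∧ p * p = 1} := by
    intro t ht
    refine subset_closure ⟨ev_comm R t, ?_⟩
    rw [ev_mul R]
    have h1 : mu t t = T.one := T.eq_of_beq ht
    have h2 : T.mul true false true t t = T.one := h1
    rw [h2, ev_one]
  have emul : ∀ t u : T, t.ev z i j k l x₁ x₂ y s * u.ev z i j k l x₁ x₂ y s =
      (mu t u).ev z i j k l x₁ x₂ y s := fun t u => ev_mul R t u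
  have hmul : ∀ t u : T, t.ev z i j k l x₁ x₂ y s ∈ closure {p : G | p * z = z * p ∧ p * p = 1} →
      u.ev z i j k l x₁ x₂ y s ∈ closure {p : G | p * z = z * p ∧ p * p = 1} →
      (mu t u).ev z i j k l x₁ x₂ y s ∈ closure {p : G | p * z = z * p ∧ p * p = 1} := by
    intro t u ht hu
    rw [← emul]
    exact mul_mem ht hu
  have fin : ∀ t u : T, T.beq t u = true → t.ev z i j k l x₁ x₂ y s ∈ closure {p : G | p * z = z * p ∧ p * p = 1} →
      u.ev z i j k l x₁ x₂ y s ∈ closure {p : G | p * z = z * p ∧ p * p = 1} := by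
    intro t u htu ht
    rw [← T.eq_of_beq htu]; exact ht
  -- involutions
  have v1 := hin (mu ti tk) (by decide +kernel)
  have v2 := hin (mu tj tk) (by decide +kernel)
  have v3 := hin (mu ti tl) (by decide +kernel)
  have v4 := hin (mu (mu ti tj) tk) (by decide +kernel)
  have vz := hin tz (by decide +kernel)
  have vs := hin ts (by decide +kernel)
  have vys := hin (mu ty ts) (by decide +kernel)
  have v5 := hin (mu ts (mu tx₁ (mu tx₂ tx₂))) (by decide +kernel)
  have v6 := hin (mu (mu ty ts) (mu tx₁ tx₂)) (by decide +kernel)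
  have v7 := hin (mu (mu ti tj) tl) (by decide +kernel)
  have mij := fin _ (mu ti tj) (by decide +kernel) (hmul _ _ (hmul _ _ v1 v2) vz)
  have mk := fin _ tk (by decide +kernel) (hmul _ _ (hmul _ _ mij vz) v4)
  have ml := fin _ tl (by decide +kernel) (hmul _ _ (hmul _ _ mij vz) v7)
  have mi := fin _ ti (by decide +kernel) (hmul _ _ (hmul _ _ v1 mk) vz)
  have mj := fin _ tj (by decide +kernel) (hmul _ _ (hmul _ _ v2 mk) vz)
  have my := fin _ ty (by decide +kernel) (hmul _ _ vys vs)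
  have w5 := fin _ (mu tx₁ (mu tx₂ tx₂)) (by decide +kernel) (hmul _ _ vs v5)
  have w6 := fin _ (mu tx₁ tx₂) (by decide +kernel) (hmul _ _ vys v6)
  have w7 := fin _ (mu tx₁ tx₁) (by decide +kernel) (hmul _ _ w5 w6)
  have mx₁ := fin _ tx₁ (by decide +kernel) (hmul _ _ w7 w7)
  have mx₂ := fin _ tx₂ (by decide +kernel) (hmul _ _ w7 w6)
  rw [ev_k] at mk
  rw [ev_l] at ml
  rw [ev_i] at mi
  rw [ev_j] at mj
  rw [ev_y] at my
  rw [ev_s] at vs
  rw [ev_x₁] at mx₁
  rw [ev_x₂] at mx₂
  intro x hx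
  simp only [Set.mem_insert_iff, Set.mem_singleton_iff] at hx
  rcases hx with rfl | rfl | rfl | rfl | rfl | rfl | rfl | rfl
  · exact mi
  · exact mj
  · exact mk
  · exact ml
  · exact mx₁
  · exact mx₂
  · exact my
  · exact vs

/-- `s ∉ Q` -/
theorem s_not [Finite G] (h : Tw Q z i j k l x₁ x₂ y s) : s ∉ Q := by
  intro hs
  obtain ⟨w, hw⟩ := exists_qt h hs
  have h1 : ts = qt w := by
    apply ev_inj h.toCase9aa h.rules
    show ts.ev z i j k l x₁ x₂ y s = (qt w).ev z i j k l x₁ x₂ y s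
    rw [ev_qt, ← hw, ev_s]
  exact Bool.noConfusion (congrArg T.f h1 : true = false)

/-- `U₄(3)`: the facts. -/
theorem two_of_tw [Finite G] (h : Tw Q z i j k l x₁ x₂ y s) (hs : IsConj z s)
    (odd : Odd (centralizer ({z} : Set G)).index)
    (one : ∀ p : G, p * p = 1 → p ≠ 1 → ∃ k, k * z * k⁻¹ = p) : Two z Q := by
  have R := h.rules
  refine { zz := h.large.z_sq, z1 := h.large.z_ne, odd := odd, zR := h.large.z_mem,
           pR := LargeExtra.Base.isPGroup h.large, RP := fun r hr => h.large.comm_z r hr,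
           nR := fun g hg r hr => h.large.conj_mem g hg r hr,
           max := fun N h1 h2 h3 => U43Tw.le_of_act h.toPlus h.x₁_act h.x₂_act N
             (fun n hn => mem_centralizer_singleton_iff.2 (h2 n hn))
             (fun c hc n hn => h3 c (mem_centralizer_singleton_iff.1 hc) n hn) h1,
           cR := fun g hg hr => h.large.cent g (h.large.self g hg hr) hr, ab := ab h, oz := oz h, one := one, gen := gen h, ex := ?_ }
  · obtain ⟨d, hd⟩ := exists_del h hs
    refine ⟨s, d, h.sz, R.zs, hd.dz, ?_, ?_⟩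
    · intro hn
      have h1 : d⁻¹ * z * d = s * z := by
        have h2 : d * (s * z) * d⁻¹ = z := by
          calc d * (s * z) * d⁻¹ = (d * s * d⁻¹) * (d * z * d⁻¹) := by group
            _ = s * z * s := by rw [hd.ds, hd.dz]
            _ = z := by coll R
        calc d⁻¹ * z * d = d⁻¹ * (d * (s * z) * d⁻¹) * d := by rw [h2]
          _ = s * z := by group
      rw [h1] at hn
      have h2 := mul_mem hn h.large.z_mem
      rw [mul_assoc, h.large.z_sq, mul_one] at h2
      exact s_not h h2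
    · intro r hr h2
      obtain ⟨w, rfl⟩ := exists_qt h hr
      have h1 := allQ_spec chkB w
      have e1 : s * w.ev z i j k l = (mu ts (qt w)).ev z i j k l x₁ x₂ y s := by
        rw [mu, ← ev_mul R, ev_s, ev_qt]
      rw [Bool.or_eq_true, Bool.not_eq_true'] at h1
      rcases h1 with h1 | h1
      · exfalso
        rw [e1, ev_mul R] at h2
        have h3 : mu (mu ts (qt w)) (mu ts (qt w)) = T.one := by
          apply ev_inj h.toCase9aa R
          show (mu (mu ts (qt w)) (mu ts (qt w))).ev z i j k l x₁ x₂ y s = T.one.ev z i j k l x₁ x₂ y s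
          rw [ev_one]; exact h2
        rw [h3, T.beq_self] at h1
        exact Bool.noConfusion h1
      · obtain ⟨c, -, hc⟩ := anyL_mem h1
        have h3 := T.eq_of_beq hc
        refine ⟨c.ev z i j k l x₁ x₂ y s, ev_comm R c, ?_⟩
        rw [e1, mul_inv_eq_iff_eq_mul]
        calc c.ev z i j k l x₁ x₂ y s * (mu ts (qt w)).ev z i j k l x₁ x₂ y s
            = (mu c (mu ts (qt w))).ev z i j k l x₁ x₂ y s := ev_mul R _ _
          _ = (mu ts c).ev z i j k l x₁ x₂ y s := by rw [h3]
          _ = s * c.ev z i j k l x₁ x₂ y s := by rw [mu, ← ev_mul R, ev_s]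

/-- **`U₄(3)`.** -/
theorem exists_two {F : Type*} [Field F] [Fintype F] (hF : Fintype.card F = 9) :
    ∃ (z : Cfsg.PSU 4 F 3) (Q : Subgroup (Cfsg.PSU 4 F 3)), Two z Q := by
  have : Fact (Nat.Prime 3) := ⟨Nat.prime_three⟩
  have : CharP F 3 := charP_of_card_eq_prime_pow (f := 2) (by rw [hF]; norm_num)
  have : Finite (Cfsg.PSU 4 F 3) := inferInstance
  obtain ⟨i, j, k, l, x₁, x₂, y, s, h, hs, -⟩ := U43Tw.exists_tw (F := F) hF
  have hcls := U43Tw.one_class (F := F) hF
  exact ⟨_, _, two_of_tw h hs (U43Tw.odd_index (by rw [U43Tw.card_K hF]; norm_num) hcls) hcls⟩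

end Cfsg.Agent.OddHalf.D6.QThree.U43Facts
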