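import Cfsg.Agent.OddHalf.D6.QThree.Diag

/-!
# ODD half, D6, `q = 3`: the normal elementary abelian 2-subgroups of `C_G(z)` are contained in `⟨z⟩` (helper948;
texts: helper801 #12978 (3)(4), helper577 #12031, #13013 (2)(3), helper948 #13194)

`Ref t z b D J`: the element `b` of `C(t) ∩ C(D)` "is a reflection": `J` is subnormal in `C(b) ∩ C(z)`, or the diagonal
case `DiagAt` holds at `b`.
`le_of_normal`: `W` elementary abelian, normal in `C(z)`: `W ≤ ⟨z⟩`.
-/

set_option autoImplicit false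

namespace Cfsg.Agent.OddHalf.D6.QThree.DiagEnd

open Subgroup Cfsg
open Cfsg.Agent.OddHalf.D6.QThree.Diag

variable {G : Type*} [Group G]

/-- `b` is a reflection -/
def Ref (t z b : G) (D J : Subgroup G) : Prop :=
  (J.subgroupOf (centralizer ({b} : Set G) ⊓ centralizer ({z} : Set G))).IsSubnormal ∨
    ∃ M L : Subgroup G, DiagAt t z b D M L

/-- the hypotheses -/
structure Hyp (t z : G) (D R J : Subgroup G) : Prop extends Pos t z D R where
  /-- `D` is normal in `X = C(t) ∩ C(z)` -/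
  nD : ∀ g, g * t = t * g → g * z = z * g → ∀ d ∈ D, g * d * g⁻¹ ∈ D
  /-- abelian 2-subgroups of `D` normal in `X` -/
  ab : ∀ B : Subgroup G, B ≤ D → IsPGroup 2 B → (∀ a ∈ B, ∀ b ∈ B, a * b = b * a) →
    (∀ g, g * t = t * g → g * z = z * g → ∀ b ∈ B, g * b * g⁻¹ ∈ B) → ∀ b ∈ B, b = 1 ∨ b = z
  JD : J ≤ D
  Jsn : (J.subgroupOf D).IsSubnormal
  /-- `C(z)` has no classical subgroup -/
  cl : ¬ (J.subgroupOf (centralizer ({z} : Set G))).IsSubnormal
  /-- `t ∈ C(z)'` -/
  lam : ∀ lam : ↥(centralizer ({z} : Set G)) →* ℤˣ, lam ⟨t, mem_centralizer_singleton_iff.2 comm⟩ ≠ -1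
  /-- the elementary abelian subgroups of `C(t) ∩ C(D)` normal in `X` -/
  cw : ∀ C : Subgroup G, (∀ c ∈ C, c * c = 1) → (∀ c ∈ C, c * t = t * c) → (∀ c ∈ C, c * z = z * c) →
    (∀ c ∈ C, ∀ d ∈ D, c * d = d * c) →
    (∀ g, g * t = t * g → g * z = z * g → ∀ c ∈ C, g * c * g⁻¹ ∈ C) → t ∉ C → z ∈ C →
    (∀ c ∈ C, c = 1 ∨ c = z) ∨ ∃ b ∈ C, Ref t z b D J

namespace Hyp

variable {t z : G} {D R J : Subgroup G}

theorem pgroup_of_sq {W : Subgroup G} (h : ∀ w ∈ W, w * w = 1) : IsPGroup 2 W :=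
  fun w => ⟨1, Subtype.ext (by
    show (w : G) ^ 2 ^ 1 = 1
    rw [pow_one, pow_two]; exact h w w.2)⟩

theorem comm_of_sq {W : Subgroup G} (h : ∀ w ∈ W, w * w = 1) : ∀ a ∈ W, ∀ b ∈ W, a * b = b * a := by
  intro a ha b hb
  have e1 : a⁻¹ = a := inv_eq_of_mul_eq_one_right (h a ha)
  have e2 : b⁻¹ = b := inv_eq_of_mul_eq_one_right (h b hb)
  have e3 : (a * b)⁻¹ = a * b := inv_eq_of_mul_eq_one_right (h _ (W.mul_mem ha hb))
  rw [← e3, mul_inv_rev, e1, e2]

/-- `W` elementary abelian, normal in `C(z)`, `z ∈ W`: `C_W(t)` is centralised by `D` -/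
theorem comm_fix (h : Hyp t z D R J) {W : Subgroup G} (hz : ∀ w ∈ W, w * z = z * w) (hs : ∀ w ∈ W, w * w = 1)
    (hn : ∀ g, g * z = z * g → ∀ w ∈ W, g * w * g⁻¹ ∈ W) {w : G} (hw : w ∈ W) (hwt : w * t = t * w) :
    ∀ d ∈ D, w * d = d * w := by
  have hab := comm_of_sq hs
  -- `W ∩ D ≤ ⟨z⟩`
  have h1 : ∀ b ∈ W ⊓ D, b = 1 ∨ b = z := by
    apply h.ab (W ⊓ D) inf_le_right ((pgroup_of_sq hs).to_le inf_le_left)
      (fun a ha b hb => hab a ha.1 b hb.1)
    intro g hgt hgz b hb
    exact ⟨hn g hgz b hb.1, h.nD g hgt hgz b hb.2⟩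
  -- the elements of odd order
  have h2 : ∀ d ∈ D, Odd (orderOf d) → w * d = d * w := by
    intro d hd ho
    have h3 : w * d * w⁻¹ * d⁻¹ ∈ W ⊓ D := by
      refine ⟨?_, D.mul_mem (h.nD w hwt (hz w hw) d hd) (D.inv_mem hd)⟩
      have h4 := W.mul_mem hw (hn d (h.Dz d hd) w⁻¹ (W.inv_mem hw))
      have e : w * (d * w⁻¹ * d⁻¹) = w * d * w⁻¹ * d⁻¹ := by group
      rwa [e] at h4
    rcases h1 _ h3 with h4 | h4
    · calc w * d = w * d * w⁻¹ * d⁻¹ * (d * w) := by group
        _ = d * w := by rw [h4, one_mul]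
    · exfalso
      have h5 : w * d * w⁻¹ = z * d := by rw [← h4]; group
      have h6 : (z * d) ^ orderOf d = 1 := by
        rw [← h5, conj_pow, pow_orderOf_eq_one]; group
      have hc : Commute z d := (h.Dz d hd).symm
      obtain ⟨n, hn'⟩ := ho
      rw [hc.mul_pow, pow_orderOf_eq_one, mul_one, hn', pow_succ, pow_mul, pow_two, h.zz, one_pow, one_mul] at h6
      exact h.z1 h6
  have h3 : D ≤ centralizer ({w} : Set G) :=
    h.gen.trans ((closure_le _).2 (fun x hx => mem_centralizer_singleton_iff.2 (h2 x hx.1 hx.2).symm))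
  exact fun d hd => (mem_centralizer_singleton_iff.1 (h3 hd)).symm

/-- `W` is centralised by `D` (the lemma on `⟨a⟩ × ⟨t⟩`) -/
theorem comm_all (h : Hyp t z D R J) {W : Subgroup G} (hz : ∀ w ∈ W, w * z = z * w) (hs : ∀ w ∈ W, w * w = 1)
    (hn : ∀ g, g * z = z * g → ∀ w ∈ W, g * w * g⁻¹ ∈ W) : ∀ w ∈ W, ∀ d ∈ D, w * d = d * w := by
  have hab := comm_of_sq hs
  have ti : t⁻¹ = t := inv_eq_of_mul_eq_one_right h.tt
  have hfix := fun w (hw : w ∈ W) (hwt : w * t = t * w) => h.comm_fix hz hs hn hw hwt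
  intro w hw
  have htW : ∀ v ∈ W, t * v * t⁻¹ ∈ W := hn t h.comm
  have key : ∀ a ∈ D, Odd (orderOf a) → w * a = a * w := by
    intro a ha ho
    have haz := h.Dz a ha
    have hat : Commute a t := h.Dt a ha
    have haw : a * w * a⁻¹ ∈ W := hn a haz w hw
    -- `u = [w, t]`
    set u := w⁻¹ * (t * w * t⁻¹) with hu
    have huW : u ∈ W := W.mul_mem (W.inv_mem hw) (htW w hw)
    have hut : t * u * t⁻¹ = u := by
      have e1 : t * u * t⁻¹ = (t * w * t⁻¹)⁻¹ * w := by
        rw [hu]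
        calc t * (w⁻¹ * (t * w * t⁻¹)) * t⁻¹ = (t * w * t⁻¹)⁻¹ * ((t * t) * w * (t * t)⁻¹) := by group
          _ = (t * w * t⁻¹)⁻¹ * w := by rw [h.tt]; group
      have e2 : u⁻¹ = u := inv_eq_of_mul_eq_one_right (hs u huW)
      rw [e1, ← e2, hu]; group
    have hau : a * u * a⁻¹ = u := by
      have h1 := hfix u huW (by
        calc u * t = t * u * t⁻¹ * t := by rw [hut]
          _ = t * u := by group) a ha
      calc a * u * a⁻¹ = u * a * a⁻¹ := by rw [h1]
        _ = u := by group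
    set c := w⁻¹ * (a * w * a⁻¹) with hc
    have hcW : c ∈ W := W.mul_mem (W.inv_mem hw) haw
    have hct : c * t = t * c := by
      have e1 : t * (a * w * a⁻¹) * t⁻¹ = a * (t * w * t⁻¹) * a⁻¹ := by
        have e3 : t * a = a * t := hat.symm
        have e4 : a⁻¹ * t⁻¹ = t⁻¹ * a⁻¹ := hat.inv_inv.eq
        calc t * (a * w * a⁻¹) * t⁻¹ = (t * a) * w * (a⁻¹ * t⁻¹) := by group
          _ = a * (t * w * t⁻¹) * a⁻¹ := by rw [e3, e4]; group
      have e2 : a * (t * w * t⁻¹) * a⁻¹ = (a * w * a⁻¹) * u := by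
        have : t * w * t⁻¹ = w * u := by rw [hu]; group
        rw [this]
        calc a * (w * u) * a⁻¹ = (a * w * a⁻¹) * (a * u * a⁻¹) := by group
          _ = (a * w * a⁻¹) * u := by rw [hau]
      have e3 : t * c * t⁻¹ = c := by
        calc t * c * t⁻¹ = (t * w * t⁻¹)⁻¹ * (t * (a * w * a⁻¹) * t⁻¹) := by rw [hc]; group
          _ = (w * u)⁻¹ * ((a * w * a⁻¹) * u) := by
            rw [e1, e2, hu]; group
          _ = u⁻¹ * (w⁻¹ * (a * w * a⁻¹)) * u := by group
          _ = u⁻¹ * c * u := by rw [hc]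
          _ = c := by rw [mul_assoc, hab c hcW u huW]; group
      calc c * t = t * c * t⁻¹ * t := by rw [e3]
        _ = t * c := by group
    have hac : Commute a c := (hfix c hcW hct a ha).symm
    -- `a^k w a^-k = w c^k`
    have hpow : ∀ k : ℕ, a ^ k * w * (a ^ k)⁻¹ = w * c ^ k := by
      intro k
      induction k with
      | zero => simp
      | succ k ih =>
        have e1 : a * w * a⁻¹ = w * c := by rw [hc]; group
        have e2 : a * c ^ k * a⁻¹ = c ^ k := by
          rw [(hac.pow_right k).eq]; group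
        calc a ^ (k + 1) * w * (a ^ (k + 1))⁻¹ = a * (a ^ k * w * (a ^ k)⁻¹) * a⁻¹ := by
              rw [pow_succ']; group
          _ = (a * w * a⁻¹) * (a * c ^ k * a⁻¹) := by rw [ih]; group
          _ = w * c * c ^ k := by rw [e1, e2]
          _ = w * c ^ (k + 1) := by rw [pow_succ', mul_assoc]
    obtain ⟨n, hn'⟩ := ho
    have h1 := hpow (orderOf a)
    rw [pow_orderOf_eq_one, one_mul, inv_one, mul_one] at h1
    have h2 : c ^ orderOf a = 1 := mul_eq_left.1 h1.symm
    rw [hn', pow_succ, pow_mul, pow_two, hs c hcW, one_pow, one_mul] at h2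
    have h3 : w = a * w * a⁻¹ := inv_mul_eq_one.1 h2
    calc w * a = a * w * a⁻¹ * a := by rw [← h3]
      _ = a * w := by group
  have h3 : D ≤ centralizer ({w} : Set G) :=
    h.gen.trans ((closure_le _).2 (fun x hx => mem_centralizer_singleton_iff.2 (key x hx.1 hx.2).symm))
  exact fun d hd => (mem_centralizer_singleton_iff.1 (h3 hd)).symm

/-- the case `z ∈ W` -/
theorem le_of_mem [Finite G] (h : Hyp t z D R J) {W : Subgroup G} (hz : ∀ w ∈ W, w * z = z * w)
    (hs : ∀ w ∈ W, w * w = 1) (hn : ∀ g, g * z = z * g → ∀ w ∈ W, g * w * g⁻¹ ∈ W) (hzW : z ∈ W) :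
    ∀ w ∈ W, w = 1 ∨ w = z := by
  have hab := comm_of_sq hs
  have hWD := h.comm_all hz hs hn
  have ti : t⁻¹ = t := inv_eq_of_mul_eq_one_right h.tt
  set Z : Subgroup G := centralizer ({z} : Set G) with hZ
  have memZ : ∀ g, g ∈ Z ↔ g * z = z * g := fun g => mem_centralizer_singleton_iff
  -- `C = C_Z(W)`
  set C : Subgroup G := centralizer (W : Set G) ⊓ Z with hC
  have hDC : D ≤ C := fun d hd => ⟨mem_centralizer_iff.2 (fun w hw => hWD w hw d hd), (memZ d).2 (h.Dz d hd)⟩
  have hCn : (C.subgroupOf Z).IsSubnormal := by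
    apply sn_of_conj
    rintro g hg c ⟨h1, h2⟩
    refine ⟨mem_centralizer_iff.2 (fun w hw => ?_), Z.mul_mem (Z.mul_mem hg h2) (Z.inv_mem hg)⟩
    have hgz : Commute g z := (memZ g).1 hg
    have h3 := (mem_centralizer_iff.1 h1) _ (hn g⁻¹ hgz.inv_left.eq w hw)
    calc w * (g * c * g⁻¹) = g * (g⁻¹ * w * g⁻¹⁻¹ * c) * g⁻¹ := by group
      _ = g * (c * (g⁻¹ * w * g⁻¹⁻¹)) * g⁻¹ := by rw [h3]
      _ = g * c * g⁻¹ * w := by group
  -- `t ∉ W`
  have htW : t ∉ W := by
    intro htW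
    apply h.cl
    refine sn_chain (h.JD.trans hDC) (sn_chain h.JD h.Jsn (sn_of_conj ?_)) hCn
    rintro c ⟨h1, h2⟩ d hd
    exact h.nD c ((mem_centralizer_iff.1 h1) t htW).symm ((memZ c).1 h2) d hd
  -- `C_W(t)`
  set F : Subgroup G := W ⊓ centralizer ({t} : Set G) with hF
  have hFt : ∀ c ∈ F, c * t = t * c := fun c hc => mem_centralizer_singleton_iff.1 hc.2
  rcases h.cw F (fun c hc => hs c hc.1) hFt (fun c hc => hz c hc.1) (fun c hc d hd => hWD c hc.1 d hd)
    (fun g hgt hgz c hc => ⟨hn g hgz c hc.1, by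
      have c1 : Commute c t := hFt c hc
      have c2 : Commute g t := hgt
      exact mem_centralizer_singleton_iff.2 ((c2.mul_left c1).mul_left c2.inv_left).eq⟩)
    (fun ht => htW ht.1) ⟨hzW, mem_centralizer_singleton_iff.2 h.comm.symm⟩ with h1 | ⟨b, hb, h1 | ⟨M, L, A⟩⟩
  · -- `C_W(t) ≤ ⟨z⟩`
    by_contra hcon
    push Not at hcon
    obtain ⟨w, hw, hw1, hwz⟩ := hcon
    have hWp := pgroup_of_sq hs
    obtain ⟨v, hv, hvt⟩ := NI.exists_move h.tt hWp (fun b hb => hn t h.comm b hb)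
      (fun b hb hbt => h1 b ⟨hb, mem_centralizer_singleton_iff.2 hbt⟩) ⟨w, hw, hw1, hwz⟩
    have hWZ : W ≤ Z := fun w hw => (memZ w).2 (hz w hw)
    set z' : Z := ⟨z, (memZ z).2 rfl⟩ with hz'
    set t' : Z := ⟨t, (memZ t).2 h.comm⟩ with ht'
    obtain ⟨lam, hl⟩ := NI.exists_lam_of_abelian (t := t') (z := z') (c := ⟨v, hWZ hv⟩) (Subtype.ext h.tt)
      (fun x => Subtype.ext ((memZ x).1 x.2)) (Subtype.ext h.zz) (fun e => h.z1 (congrArg Subtype.val e))
      (A := W.subgroupOf Z) ⟨fun n hn' g => hn g ((memZ g).1 g.2) n hn'⟩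
      (fun a ha b hb => Subtype.ext (hab a ha b hb)) hzW
      (fun a ha hat => by
        rcases h1 a ⟨ha, mem_centralizer_singleton_iff.2 (congrArg Subtype.val hat)⟩ with e | e
        · exact Or.inl (Subtype.ext e)
        · exact Or.inr (Subtype.ext e)) hv (Subtype.ext hvt)
    exact h.lam lam hl
  · -- `J` subnormal in `C(b) ∩ C(z)`
    exfalso
    apply h.cl
    have hCY : C ≤ centralizer ({b} : Set G) ⊓ Z := by
      rintro c ⟨h2, h3⟩
      exact ⟨mem_centralizer_singleton_iff.2 ((mem_centralizer_iff.1 h2) b hb.1).symm, h3⟩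
    exact sn_chain (h.JD.trans hDC) (sn_mono hCY h1) hCn
  · exfalso
    obtain ⟨lam, hl⟩ := A.exists_lam h.toPos (hFt b hb).symm hz (fun w hw => hab w hw b hb.1) hb.1
      (pgroup_of_sq hs) hn hWD
    exact h.lam lam hl

/-- **the normal elementary abelian 2-subgroups of `C(z)` are contained in `⟨z⟩`** -/
theorem le_of_normal [Finite G] (h : Hyp t z D R J) {W : Subgroup G} (hz : ∀ w ∈ W, w * z = z * w)
    (hs : ∀ w ∈ W, w * w = 1) (hn : ∀ g, g * z = z * g → ∀ w ∈ W, g * w * g⁻¹ ∈ W) :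
    ∀ w ∈ W, w = 1 ∨ w = z := by
  let W' : Subgroup G :=
    { carrier := {x | x ∈ W ∨ x * z ∈ W}
      one_mem' := Or.inl W.one_mem
      mul_mem' := by
        rintro x y (hx | hx) (hy | hy)
        · exact Or.inl (W.mul_mem hx hy)
        · right
          rw [mul_assoc]; exact W.mul_mem hx hy
        · right
          have e : x * y * z = (x * z) * y := by rw [mul_assoc, hz y hy, mul_assoc]
          rw [e]; exact W.mul_mem hx hy
        · left
          have h1 : y * z = z * y := by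
            have h2 := hz _ hy
            have h3 : y * z * z = z * y * z := by rw [h2]; group
            exact mul_right_cancel h3
          have e : x * y = (x * z) * (y * z) := by
            calc x * y = x * (z * z) * y := by rw [h.zz, mul_one]
              _ = (x * z) * (z * y) := by group
              _ = (x * z) * (y * z) := by rw [← h1]
          rw [e]; exact W.mul_mem hx hy
      inv_mem' := by
        rintro x (hx | hx)
        · exact Or.inl (W.inv_mem hx)
        · right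
          have h1 : x * z = z * x := by
            have h2 := hz _ hx
            have h3 : x * z * z = z * x * z := by rw [h2]; group
            exact mul_right_cancel h3
          have zi : z⁻¹ = z := inv_eq_of_mul_eq_one_right h.zz
          have e : x⁻¹ * z = (x * z)⁻¹ := by
            rw [h1, mul_inv_rev, zi]
          rw [e]; exact W.inv_mem hx }
  have hxz : ∀ x, x * z ∈ W → x * z = z * x := by
    intro x hx
    have h2 := hz _ hx
    have h3 : x * z * z = z * x * z := by rw [h2]; group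
    exact mul_right_cancel h3
  intro w hw
  refine h.le_of_mem (W := W') ?_ ?_ ?_ (Or.inr (by rw [h.zz]; exact W.one_mem)) w (Or.inl hw)
  · rintro x (hx | hx)
    · exact hz x hx
    · exact hxz x hx
  · rintro x (hx | hx)
    · exact hs x hx
    · have h1 := hs _ hx
      have h2 := hxz x hx
      calc x * x = x * (z * z) * x := by rw [h.zz, mul_one]
        _ = (x * z) * (z * x) := by group
        _ = (x * z) * (x * z) := by rw [← h2]
        _ = 1 := h1
  · rintro g hg x (hx | hx)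
    · exact Or.inl (hn g hg x hx)
    · right
      have h1 := hn g hg _ hx
      have e : g * (x * z) * g⁻¹ = g * x * g⁻¹ * z := by
        have c : Commute g z := hg
        have e1 : z * g⁻¹ = g⁻¹ * z := c.symm.inv_right.eq
        calc g * (x * z) * g⁻¹ = g * x * (z * g⁻¹) := by group
          _ = g * x * g⁻¹ * z := by rw [e1]; group
      rwa [e] at h1

end Hyp

end Cfsg.Agent.OddHalf.D6.QThree.DiagEnd
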