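import Cfsg.Agent.OddHalf.D6.QThree.NIFacts
import Cfsg.Agent.PermutationGroups.AutQuaternion
import Cfsg.Agent.Lib.DihedralRecog
import Cfsg.Agent.S0144

/-!
# ODD half, D6, `q = 3`: `C_X(t)` is solvable (helper135)

`C_X(t)` normalises `R = Q₁ Q₂` (`Frame`) and `C_X(t) ∩ C(R) = ⟨t, z⟩`: `C_X(t)` is solvable.
-/

set_option autoImplicit false

namespace Cfsg.Agent.OddHalf.D6.QThree.NISolv

open Subgroup
open Cfsg.Agent.OddHalf.D6.QThree.NIFacts
open Cfsg.Agent.OddHalf.D6.QThree.NISide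

/-- `Q` is a quaternion group -/
theorem quat_of_side {X : Type*} [Group X] {z t a : X} {Q D : Subgroup X} (s : Side z t a Q D)
    (zc : ∀ x : X, x * z = z * x) (zz : z * z = 1) (z1 : z ≠ 1) : Nonempty (Q ≃* QuaternionGroup 2) := by
  obtain ⟨i, hi, hi1, hiz⟩ := s.exists_ne
  have h0 : i * i = z := s.sq i hi hi1 hiz
  have hord : orderOf i = 4 := by
    have h2 : i ^ 4 = 1 := by
      rw [show (4 : ℕ) = 2 * 2 from rfl, pow_mul, pow_two i, h0, pow_two, zz]
    have h3 : orderOf i ∣ 4 := orderOf_dvd_of_pow_eq_one h2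
    have h4 : ¬ orderOf i ∣ 2 := by
      intro h
      have h5 := orderOf_dvd_iff_pow_eq_one.1 h
      rw [pow_two, h0] at h5
      exact z1 h5
    have h5 : orderOf i ≤ 4 := Nat.le_of_dvd (by norm_num) h3
    have h6 : 0 < orderOf i := orderOf_pos_iff.2 (isOfFinOrder_iff_pow_eq_one.2 ⟨4, by norm_num, h2⟩)
    interval_cases h : orderOf i <;> first | rfl | omega
  have hij := s.act i hi hi1 hiz
  have hjQ := s.aQ i hi
  set j := a * i * a⁻¹ with hj
  have hj1 : j ≠ 1 := by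
    intro e; apply hij; rw [e, mul_one, one_mul]
  have hjz : j ≠ z := by
    intro e; apply hij; rw [e, zc i]
  refine Cfsg.Agent.Lib.DihedralRecog.subgroup_quaternion_of_generators (m := 2) (by norm_num) Q i j hi hjQ hord
    ?_ ?_ ?_ s.card
  · rw [s.sq j hjQ hj1 hjz, pow_two, h0]
  · rw [s.comm_eq hi hjQ hij zc zz, eq_comm, inv_eq_iff_mul_eq_one, ← mul_assoc, h0, zz]
  · intro h
    obtain ⟨k, hk⟩ := mem_zpowers_iff.1 h
    apply hij
    rw [← hk]
    exact ((Commute.refl i).zpow_right k).eq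

theorem solvable_mulAut {X : Type*} [Group X] {Q : Subgroup X} (h : Nonempty (Q ≃* QuaternionGroup 2)) :
    Group.IsSolvable (MulAut Q) := by
  obtain ⟨e⟩ := h
  have h1 : Nat.card (MulAut Q) = 2 ^ 3 * 3 ^ 1 := by
    rw [Nat.card_congr (MulAut.congr e).toEquiv, Cfsg.Agent.PermutationGroups.AutQuaternion.card_mulAut]
    norm_num
  have : Finite (MulAut Q) := Nat.finite_of_card_ne_zero (by rw [h1]; norm_num)
  exact Cfsg.Agent.S0144.result 2 3 3 1 Nat.prime_two Nat.prime_three h1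

variable {X : Type*} [Group X] {z t i j k l a b : X}

/-- an element normalising `R` fixes or swaps the two factors -/
theorem fix_or_swap (f : Frame z i j k l a b) (zc : ∀ x : X, x * z = z * x) {g : X}
    (hg : ∀ r ∈ closure {i, j, k, l}, g * r * g⁻¹ ∈ closure {i, j, k, l})
    (s₁ : Side z 1 a f.Q₁ f.Q₂) (s₂ : Side z 1 b f.Q₂ f.Q₁) :
    ((∀ q ∈ f.Q₁, g * q * g⁻¹ ∈ f.Q₁) ∧ (∀ q ∈ f.Q₂, g * q * g⁻¹ ∈ f.Q₂)) ∨
    ((∀ q ∈ f.Q₁, g * q * g⁻¹ ∈ f.Q₂) ∧ (∀ q ∈ f.Q₂, g * q * g⁻¹ ∈ f.Q₁)) := by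
  have hgz : g * z * g⁻¹ = z := by rw [zc g]; group
  -- for each of the two sides
  have key : ∀ (Q Q' D : Subgroup X) (c : X), Side z 1 c Q D → Q ≤ closure {i, j, k, l} →
      (∀ x ∈ f.Q₁, ∀ y ∈ f.Q₂, x * y = y * x) →
      (∀ q ∈ Q, g * q * g⁻¹ ∈ f.Q₁) ∨ (∀ q ∈ Q, g * q * g⁻¹ ∈ f.Q₂) := by
    intro Q Q' D c s hle hcomm
    obtain ⟨x, hx, hx1, hxz⟩ := s.exists_ne
    have hy := s.aQ x hx
    have hxy := s.act x hx hx1 hxz
    set y := c * x * c⁻¹ with hyd
    have hy1 : y ≠ 1 := by rintro e; apply hxy; rw [e, mul_one, one_mul]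
    have hyz : y ≠ z := by rintro e; apply hxy; rw [e, zc x]
    have hsq : ∀ q ∈ Q, q ≠ 1 → q ≠ z → g * q * g⁻¹ ∈ f.Q₁ ∨ g * q * g⁻¹ ∈ f.Q₂ := by
      intro q hq h1 h2
      apply f.mem_or (hg q (hle hq))
      have e : g * q * g⁻¹ * (g * q * g⁻¹) = g * (q * q) * g⁻¹ := by group
      rw [e, s.sq q hq h1 h2, hgz]
    have hnc : (g * x * g⁻¹) * (g * y * g⁻¹) ≠ (g * y * g⁻¹) * (g * x * g⁻¹) := by
      intro e
      apply hxy
      have e1 : (g * x * g⁻¹) * (g * y * g⁻¹) = g * (x * y) * g⁻¹ := by group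
      have e2 : (g * y * g⁻¹) * (g * x * g⁻¹) = g * (y * x) * g⁻¹ := by group
      rw [e1, e2] at e
      exact mul_left_cancel (mul_right_cancel e)
    have gen : ∀ H : Subgroup X, z ∈ H → g * x * g⁻¹ ∈ H → g * y * g⁻¹ ∈ H → ∀ q ∈ Q, g * q * g⁻¹ ∈ H := by
      intro H hzH hxH hyH
      have h1 : Q ≤ Q ⊓ H.comap (MulAut.conj g).toMonoidHom := by
        apply s.le_of_two zc f.zz f.z1 inf_le_left ⟨s.zQ, ?_⟩ (x := x) (y := y) ⟨hx, hxH⟩ ⟨hy, hyH⟩ hxy
        show g * z * g⁻¹ ∈ H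
        rw [hgz]; exact hzH
      intro q hq
      exact (h1 hq).2
    rcases hsq x hx hx1 hxz with h1 | h1 <;> rcases hsq y hy hy1 hyz with h2 | h2
    · exact Or.inl (gen _ s₁.zQ h1 h2)
    · exact absurd (hcomm _ h1 _ h2) hnc
    · exact absurd (hcomm _ h2 _ h1).symm hnc
    · exact Or.inr (gen _ s₂.zQ h1 h2)
  have hc := f.comm
  -- the two factors are not mapped into the same one
  have hex : ∀ (Q D : Subgroup X) (c : X), Side z 1 c Q D →
      (∀ q ∈ f.Q₁, g * q * g⁻¹ ∈ Q) → (∀ q ∈ f.Q₂, g * q * g⁻¹ ∈ Q) → False := by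
    intro Q D c s h1 h2
    obtain ⟨x, hx, hx1, hxz⟩ := s₁.exists_ne
    have hy := s₁.aQ x hx
    have hxy := s₁.act x hx hx1 hxz
    set y := a * x * a⁻¹ with hyd
    -- `Q = g Q₁ g⁻¹`, so that `g Q₂ g⁻¹` centralises `Q`
    have hzc : ∀ q ∈ Q, ∃ p ∈ f.Q₁, g * p * g⁻¹ = q := by
      have h3 : Q ≤ f.Q₁.map (MulAut.conj g).toMonoidHom := by
        have m1 : f.Q₁.map (MulAut.conj g).toMonoidHom ≤ Q := by
          rintro _ ⟨p, hp, rfl⟩
          exact h1 p hp
        have m2 : z ∈ f.Q₁.map (MulAut.conj g).toMonoidHom := ⟨z, s₁.zQ, hgz⟩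
        have m3 : g * x * g⁻¹ ∈ f.Q₁.map (MulAut.conj g).toMonoidHom := ⟨x, hx, rfl⟩
        have m4 : g * y * g⁻¹ ∈ f.Q₁.map (MulAut.conj g).toMonoidHom := ⟨y, hy, rfl⟩
        refine s.le_of_two zc f.zz f.z1 m1 m2 m3 m4 ?_
        intro e
        apply hxy
        have e1 : (g * x * g⁻¹) * (g * y * g⁻¹) = g * (x * y) * g⁻¹ := by group
        have e2 : (g * y * g⁻¹) * (g * x * g⁻¹) = g * (y * x) * g⁻¹ := by group
        rw [e1, e2] at e
        exact mul_left_cancel (mul_right_cancel e)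
      intro q hq
      obtain ⟨p, hp, e⟩ := h3 hq
      exact ⟨p, hp, e⟩
    obtain ⟨w, hw, hw1, hwz⟩ := s₂.exists_ne
    rcases s.center (x := g * w * g⁻¹) (h2 w hw) (by
      intro q hq
      obtain ⟨p, hp, rfl⟩ := hzc q hq
      have e1 : (g * w * g⁻¹) * (g * p * g⁻¹) = g * (w * p) * g⁻¹ := by group
      have e2 : (g * p * g⁻¹) * (g * w * g⁻¹) = g * (p * w) * g⁻¹ := by group
      rw [e1, e2, hc p hp w hw]) with h4 | h4
    · apply hw1
      have : w = g⁻¹ * (g * w * g⁻¹) * g := by group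
      rw [this, h4]; group
    · apply hwz
      have : w = g⁻¹ * (g * w * g⁻¹) * g := by group
      rw [this, h4, zc g⁻¹]
      group
  rcases key f.Q₁ f.Q₁ f.Q₂ a s₁ f.le₁ hc with h1 | h1 <;> rcases key f.Q₂ f.Q₁ f.Q₁ b s₂ f.le₂ hc with h2 | h2
  · exact (hex _ _ _ s₁ h1 h2).elim
  · exact Or.inl ⟨h1, h2⟩
  · exact Or.inr ⟨h1, h2⟩
  · exact (hex _ _ _ s₂ h1 h2).elim

/-- the solvability of `C_X(t)` -/
theorem solvable [Finite X] (f : Frame z i j k l a b) (zc : ∀ x : X, x * z = z * x) (tt : t * t = 1)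
    (nor : ∀ g, g * t = t * g → ∀ r ∈ closure {i, j, k, l}, g * r * g⁻¹ ∈ closure {i, j, k, l})
    (cR : ∀ g, g * t = t * g → (∀ x ∈ f.Q₁, g * x = x * g) → (∀ y ∈ f.Q₂, g * y = y * g) →
      g = 1 ∨ g = z ∨ g = t ∨ g = t * z) (s₁ : Side z 1 a f.Q₁ f.Q₂) (s₂ : Side z 1 b f.Q₂ f.Q₁) :
    Group.IsSolvable (centralizer ({t} : Set X)) := by
  classical
  set C : Subgroup X := centralizer ({t} : Set X) with hC
  have hCt : ∀ g : C, (g : X) * t = t * g := fun g => mem_centralizer_singleton_iff.1 g.2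
  set P : X → Prop := fun g => (∀ q ∈ f.Q₁, g * q * g⁻¹ ∈ f.Q₁) ∧ (∀ q ∈ f.Q₂, g * q * g⁻¹ ∈ f.Q₂) with hP
  set S : X → Prop := fun g => (∀ q ∈ f.Q₁, g * q * g⁻¹ ∈ f.Q₂) ∧ (∀ q ∈ f.Q₂, g * q * g⁻¹ ∈ f.Q₁) with hS
  have hPS : ∀ g : C, P g ∨ S g := fun g => fix_or_swap f zc (nor g (hCt g)) s₁ s₂
  have hnot : ∀ g : C, P g → S g → False := by
    intro g h1 h2
    obtain ⟨x, hx, hx1, hxz⟩ := s₁.exists_ne
    rcases s₂.center (h2.1 x hx) (fun q hq => (f.comm _ (h1.1 x hx) q hq)) with h3 | h3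
    · apply hx1
      have : x = (g : X)⁻¹ * (g * x * (g : X)⁻¹) * g := by group
      rw [this, h3]; group
    · apply hxz
      have : x = (g : X)⁻¹ * (g * x * (g : X)⁻¹) * g := by group
      rw [this, h3, zc (g : X)⁻¹]; group
  have e0 : ∀ g h x : X, g * h * x * (g * h)⁻¹ = g * (h * x * h⁻¹) * g⁻¹ := fun g h x => by group
  let chi : C →* ℤˣ :=
    { toFun := fun g => if P g then 1 else -1
      map_one' := by
        have : P (1 : C) := ⟨fun q hq => by simpa using hq, fun q hq => by simpa using hq⟩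
        exact if_pos this
      map_mul' := by
        intro g h
        rcases hPS g with hg | hg <;> rcases hPS h with hh | hh
        · have : P (g * h : C) := ⟨fun q hq => by
            show (g : X) * h * q * ((g : X) * h)⁻¹ ∈ _
            rw [e0]; exact hg.1 _ (hh.1 q hq), fun q hq => by
            show (g : X) * h * q * ((g : X) * h)⁻¹ ∈ _
            rw [e0]; exact hg.2 _ (hh.2 q hq)⟩
          rw [if_pos this, if_pos hg, if_pos hh]; rfl
        · have h1 : S (g * h : C) := ⟨fun q hq => by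
            show (g : X) * h * q * ((g : X) * h)⁻¹ ∈ _
            rw [e0]; exact hg.2 _ (hh.1 q hq), fun q hq => by
            show (g : X) * h * q * ((g : X) * h)⁻¹ ∈ _
            rw [e0]; exact hg.1 _ (hh.2 q hq)⟩
          rw [if_neg (fun h2 => hnot _ h2 h1), if_pos hg, if_neg (fun h2 => hnot _ h2 hh)]; rfl
        · have h1 : S (g * h : C) := ⟨fun q hq => by
            show (g : X) * h * q * ((g : X) * h)⁻¹ ∈ _
            rw [e0]; exact hg.1 _ (hh.1 q hq), fun q hq => by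
            show (g : X) * h * q * ((g : X) * h)⁻¹ ∈ _
            rw [e0]; exact hg.2 _ (hh.2 q hq)⟩
          rw [if_neg (fun h2 => hnot _ h2 h1), if_neg (fun h2 => hnot _ h2 hg), if_pos hh]; rfl
        · have : P (g * h : C) := ⟨fun q hq => by
            show (g : X) * h * q * ((g : X) * h)⁻¹ ∈ _
            rw [e0]; exact hg.2 _ (hh.1 q hq), fun q hq => by
            show (g : X) * h * q * ((g : X) * h)⁻¹ ∈ _
            rw [e0]; exact hg.1 _ (hh.2 q hq)⟩
          rw [if_pos this, if_neg (fun h2 => hnot _ h2 hg), if_neg (fun h2 => hnot _ h2 hh)]; rfl }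
  have hker : ∀ g : C, g ∈ chi.ker → P g := by
    intro g hg
    by_contra h
    have h1 : (if P g then (1 : ℤˣ) else -1) = 1 := hg
    rw [if_neg h] at h1
    exact absurd h1 (by decide)
  -- the kernel acts on the two factors
  have hn1 : ∀ g : chi.ker, ((g : C) : X) ∈ normalizer (f.Q₁ : Set X) := by
    intro g
    rw [mem_normalizer_iff]
    intro q
    refine ⟨fun hq => (hker g g.2).1 q hq, fun hq => ?_⟩
    have h1 := (hker _ (g⁻¹).2).1 _ hq
    have e : (((g⁻¹ : chi.ker) : C) : X) * (((g : C) : X) * q * ((g : C) : X)⁻¹) * (((g⁻¹ : chi.ker) : C) : X)⁻¹ =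
        q := by
      show ((g : C) : X)⁻¹ * (((g : C) : X) * q * ((g : C) : X)⁻¹) * (((g : C) : X)⁻¹)⁻¹ = q
      group
    rwa [e] at h1
  have hn2 : ∀ g : chi.ker, ((g : C) : X) ∈ normalizer (f.Q₂ : Set X) := by
    intro g
    rw [mem_normalizer_iff]
    intro q
    refine ⟨fun hq => (hker g g.2).2 q hq, fun hq => ?_⟩
    have h1 := (hker _ (g⁻¹).2).2 _ hq
    have e : (((g⁻¹ : chi.ker) : C) : X) * (((g : C) : X) * q * ((g : C) : X)⁻¹) * (((g⁻¹ : chi.ker) : C) : X)⁻¹ =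
        q := by
      show ((g : C) : X)⁻¹ * (((g : C) : X) * q * ((g : C) : X)⁻¹) * (((g : C) : X)⁻¹)⁻¹ = q
      group
    rwa [e] at h1
  let ι : chi.ker →* X := C.subtype.comp chi.ker.subtype
  let φ₁ : chi.ker →* MulAut f.Q₁ := f.Q₁.normalizerMonoidHom.comp (ι.codRestrict _ hn1)
  let φ₂ : chi.ker →* MulAut f.Q₂ := f.Q₂.normalizerMonoidHom.comp (ι.codRestrict _ hn2)
  have hs1 : Group.IsSolvable (MulAut f.Q₁) := solvable_mulAut (quat_of_side s₁ zc f.zz f.z1)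
  have hs2 : Group.IsSolvable (MulAut f.Q₂) := solvable_mulAut (quat_of_side s₂ zc f.zz f.z1)
  have hk : Group.IsSolvable (φ₁.prod φ₂).ker := by
    have hmem : ∀ g : (φ₁.prod φ₂).ker, ((((g : chi.ker) : C) : X) = 1 ∨ (((g : chi.ker) : C) : X) = z ∨
        (((g : chi.ker) : C) : X) = t ∨ (((g : chi.ker) : C) : X) = t * z) := by
      intro g
      have h1 : φ₁ g = 1 ∧ φ₂ g = 1 := by
        have h0 : ((φ₁ g, φ₂ g) : MulAut f.Q₁ × MulAut f.Q₂) = 1 := g.2
        exact ⟨congrArg Prod.fst h0, congrArg Prod.snd h0⟩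
      apply cR _ (hCt g)
      · intro x hx
        have h2 : ((φ₁ g ⟨x, hx⟩ : f.Q₁) : X) = x := by rw [h1.1]; rfl
        have h3 : (((g : chi.ker) : C) : X) * x * (((g : chi.ker) : C) : X)⁻¹ = x := h2
        exact mul_inv_eq_iff_eq_mul.1 h3
      · intro x hx
        have h2 : ((φ₂ g ⟨x, hx⟩ : f.Q₂) : X) = x := by rw [h1.2]; rfl
        have h3 : (((g : chi.ker) : C) : X) * x * (((g : chi.ker) : C) : X)⁻¹ = x := h2
        exact mul_inv_eq_iff_eq_mul.1 h3
    have htz := zc t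
    have hcom : ∀ x y : X, (x = 1 ∨ x = z ∨ x = t ∨ x = t * z) → (y = 1 ∨ y = z ∨ y = t ∨ y = t * z) →
        x * y = y * x := by
      have ct : ∀ x : X, (x = 1 ∨ x = z ∨ x = t ∨ x = t * z) → Commute x t := by
        rintro x (rfl | rfl | rfl | rfl)
        · exact Commute.one_left _
        · exact htz.symm
        · exact Commute.refl _
        · exact (Commute.refl t).mul_left htz.symm
      intro x y hx hy
      rcases hy with rfl | rfl | rfl | rfl
      · rw [one_mul, mul_one]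
      · exact zc x
      · exact (ct x hx).eq
      · exact ((ct x hx).mul_right (zc x)).eq
    apply Group.isSolvable_of_comm
    intro g h
    apply Subtype.ext
    apply Subtype.ext
    apply Subtype.ext
    exact hcom _ _ (hmem g) (hmem h)
  have hk' : Group.IsSolvable chi.ker :=
    Group.isSolvable_of_ker_le_range (φ₁.prod φ₂).ker.subtype (φ₁.prod φ₂) (by rw [range_subtype])
  exact Group.isSolvable_of_ker_le_range chi.ker.subtype chi (by rw [range_subtype])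

end Cfsg.Agent.OddHalf.D6.QThree.NISolv
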