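import Cfsg.Agent.OddHalf.D6.QThree.FrontLoc

/-!
# ODD half, D6, `q = 3`, `U₄(3)`, `L₄(3)` with an outer part: `Loc` from `Out` and `FrontK` (helper948)
-/

set_option autoImplicit false
set_option linter.unusedSectionVars false

namespace Cfsg.Agent.OddHalf.D6.QThree.FrontLoc

open Subgroup Cfsg Cfsg.Agent.OddHalf.Front
open Cfsg.Agent.OddHalf.D8.GlueE (nmh_apply exists_of_conj)
open Cfsg.Agent.OddHalf.D6.QThree.FrontB
open Cfsg.Agent.OddHalf.D6.QThree.NIFacts
open Cfsg.Agent.LargeExtra.W2 (Act)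

/-- a group of order at most four and exponent two -/
theorem four {H : Type*} [Group H] (N : Subgroup H) [N.Normal] (hc : Nat.card (H ⧸ N) ≤ 4) [Finite (H ⧸ N)]
    (hsq : ∀ x : H, x * x ∈ N) {x y : H} (w : H) (hx : x ∉ N) (hy : y ∉ N) (hxy : x⁻¹ * y ∉ N) :
    w ∈ N ∨ x⁻¹ * w ∈ N ∨ y⁻¹ * w ∈ N ∨ (x * y)⁻¹ * w ∈ N := by
  classical
  have := Fintype.ofFinite (H ⧸ N)
  rw [Nat.card_eq_fintype_card] at hc
  have e1 : ∀ u : H, (u : H ⧸ N) = 1 ↔ u ∈ N := fun u => QuotientGroup.eq_one_iff u
  have h1 : (x : H ⧸ N) ≠ 1 := fun h => hx ((e1 x).1 h)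
  have h2 : (y : H ⧸ N) ≠ 1 := fun h => hy ((e1 y).1 h)
  have h3 : (x : H ⧸ N) ≠ y := fun h => hxy (QuotientGroup.eq.1 h)
  have h4 : (x : H ⧸ N) * x = 1 := (e1 (x * x)).2 (hsq x)
  have h5 : (x : H ⧸ N) * y ≠ 1 := by
    intro h
    apply h3
    have : (x : H ⧸ N) * x = x * y := by rw [h, h4]
    exact mul_left_cancel this
  have hcard : ({1, (x : H ⧸ N), (y : H ⧸ N), (x : H ⧸ N) * y} : Finset (H ⧸ N)).card = 4 := by
    rw [Finset.card_insert_of_notMem, Finset.card_insert_of_notMem, Finset.card_insert_of_notMem,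
      Finset.card_singleton]
    · rw [Finset.mem_singleton]
      intro h
      exact h1 (mul_eq_right.1 h.symm)
    · simp only [Finset.mem_insert, Finset.mem_singleton, not_or]
      exact ⟨h3, fun h => h2 (mul_eq_left.1 h.symm)⟩
    · simp only [Finset.mem_insert, Finset.mem_singleton, not_or]
      exact ⟨h1.symm, h2.symm, h5.symm⟩
  have huniv : ({1, (x : H ⧸ N), (y : H ⧸ N), (x : H ⧸ N) * y} : Finset (H ⧸ N)) = Finset.univ := by
    apply Finset.eq_univ_of_card
    apply le_antisymm (Finset.card_le_univ _)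
    rw [hcard]; exact hc
  have hw : (w : H ⧸ N) ∈ ({1, (x : H ⧸ N), (y : H ⧸ N), (x : H ⧸ N) * y} : Finset (H ⧸ N)) := by
    rw [huniv]; exact Finset.mem_univ _
  simp only [Finset.mem_insert, Finset.mem_singleton] at hw
  rcases hw with h | h | h | h
  · exact Or.inl ((e1 w).1 h)
  · exact Or.inr (Or.inl (QuotientGroup.eq.1 h.symm))
  · exact Or.inr (Or.inr (Or.inl (QuotientGroup.eq.1 h.symm)))
  · exact Or.inr (Or.inr (Or.inr (QuotientGroup.eq.1 (show ((x * y : H) : H ⧸ N) = w from h.symm))))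

section

variable {G : Type*} [Group G] {K : Subgroup G} {t : G} {z : K} {R : Subgroup K} {i j k l a b : K}

/-- the action of an element of `C(t)` on `K` -/
noncomputable def al (O : OutC K t (z : G)) (x : G) (hx : x * t = t * x) : MulAut K :=
  K.normalizerMonoidHom ⟨x, O.nK x hx⟩

theorem al_apply (O : OutC K t (z : G)) {x : G} (hx : x * t = t * x) (c : K) :
    ((al O x hx c : K) : G) = x * c * x⁻¹ := nmh_apply _ c

theorem al_mul (O : OutC K t (z : G)) {x y : G} (hx : x * t = t * x) (hy : y * t = t * y)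
    (hxy : x * y * t = t * (x * y)) : al O (x * y) hxy = al O x hx * al O y hy := by
  rw [al, al, al, ← map_mul]; rfl

theorem al_inv (O : OutC K t (z : G)) {x : G} (hx : x * t = t * x) (hx' : x⁻¹ * t = t * x⁻¹) :
    al O x⁻¹ hx' = (al O x hx)⁻¹ := by
  rw [al, al, ← map_inv]; rfl

theorem al_div (O : OutC K t (z : G)) {x y : G} (hx : x * t = t * x) (hy : y * t = t * y)
    (h : x⁻¹ * y * t = t * (x⁻¹ * y)) : al O (x⁻¹ * y) h = (al O x hx)⁻¹ * al O y hy := by
  have hx' : x⁻¹ * t = t * x⁻¹ := (show Commute x t from hx).inv_left.eq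
  rw [al_mul O hx' hy, al_inv O hx]

theorem mem_map' {x : K} : (x : G) ∈ R.map K.subtype ↔ x ∈ R := FrontOut.mem_map

theorem al_BA (O : OutC K t (z : G)) {x : G} (hx : Bt t (R.map K.subtype) x) : BA R (al O x hx.1) := by
  intro r hr
  apply Subtype.ext
  rw [al_apply, hx.2 r (mem_map'.2 hr), mul_inv_cancel_right]

theorem Z2_T4 (O : OutC K t (z : G)) {x : G} (hx : x * t = t * x) (h : Z2 z (al O x hx)) : T4 t (z : G) x := by
  rcases h with h | h
  · have h1 : ∀ y ∈ K, y * x = x * y := by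
      intro y hy
      have h2 := al_apply O hx ⟨y, hy⟩
      rw [h, MulAut.one_apply] at h2
      have h3 : y = x * y * x⁻¹ := h2
      exact (eq_mul_inv_iff_mul_eq.1 h3)
    rcases O.cK x hx h1 with h2 | h2
    · exact Or.inl h2
    · exact Or.inr (Or.inr (Or.inl h2))
  · have h1 := exists_of_conj (O.nK x hx) h
    have h2 : ((z : G)⁻¹ * x) * t = t * ((z : G)⁻¹ * x) := by
      have c1 : Commute (z : G) t := O.Kt z z.2
      exact (c1.inv_left.mul_left hx)
    rcases O.cK _ h2 h1 with h3 | h3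
    · exact Or.inr (Or.inl (inv_mul_eq_one.1 h3).symm)
    · right; right; right
      have h4 : x = z * t := by rw [← h3]; group
      rw [h4, O.Kt z z.2]

theorem T4_Z2 (O : OutC K t (z : G)) {x : G} (hx : x * t = t * x) (h : T4 t (z : G) x) : Z2 z (al O x hx) := by
  have hz : ∀ c : K, t * ((z : G) * c * (z : G)⁻¹) * t⁻¹ = (z : G) * c * (z : G)⁻¹ := by
    intro c
    have h1 := O.Kt ((z : G) * c * (z : G)⁻¹) (z * c * z⁻¹).2
    rw [← h1, mul_inv_cancel_right]
  rcases h with rfl | rfl | rfl | rfl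
  · left
    ext c
    rw [al_apply]; simp
  · right
    ext c
    rw [al_apply]; rfl
  · left
    ext c
    rw [al_apply, ← O.Kt c c.2, mul_inv_cancel_right]
    rfl
  · right
    ext c
    rw [al_apply, MulAut.conj_apply]
    show t * (z : G) * c * (t * (z : G))⁻¹ = (z : G) * c * (z : G)⁻¹
    rw [← hz c]
    group

/-- elements of odd order of `C(t)` -/
theorem mem_of_odd (O : OutC K t (z : G)) (f : FrontK z R i j k l a b) {g : G} (hg : g * t = t * g)
    (ho : Odd (orderOf g)) : g ∈ K := by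
  obtain ⟨n, hn⟩ := f.out (al O g hg)
  obtain ⟨c, hc⟩ := hn
  have hgt : g ^ 2 ^ n * t = t * g ^ 2 ^ n := (show Commute g t from hg).pow_left _
  have e : al O (g ^ 2 ^ n) hgt = (al O g hg) ^ 2 ^ n := by
    rw [al, al, ← map_pow]; rfl
  have h1 := exists_of_conj (O.nK _ hgt) (show al O (g ^ 2 ^ n) hgt = MulAut.conj c by rw [e, hc])
  have c1 : Commute (c : G) t := O.Kt c c.2
  have h2 : ((c : G)⁻¹ * g ^ 2 ^ n) * t = t * ((c : G)⁻¹ * g ^ 2 ^ n) := c1.inv_left.mul_left hgt
  have h3 : g ^ 2 ^ (n + 1) ∈ K := by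
    have e2 : g ^ 2 ^ (n + 1) = g ^ 2 ^ n * g ^ 2 ^ n := by
      rw [← pow_add, ← two_mul, ← pow_succ']
    rcases O.cK _ h2 h1 with h3 | h3
    · have h4 : g ^ 2 ^ n = c := (inv_mul_eq_one.1 h3).symm
      rw [e2, h4]; exact K.mul_mem c.2 c.2
    · have h4 : g ^ 2 ^ n = c * t := by rw [← h3]; group
      have h5 : ((c : G) * t) * (c * t) = c * c := by
        calc ((c : G) * t) * (c * t) = c * (t * c) * t := by group
          _ = c * (c * t) * t := by rw [O.Kt c c.2]
          _ = c * c * (t * t) := by group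
          _ = c * c := by rw [O.tt, mul_one]
      rw [e2, h4, h5]; exact K.mul_mem c.2 c.2
  have hco : (2 ^ (n + 1)).Coprime (orderOf g) := Nat.Coprime.pow_left _ (Nat.coprime_two_left.2 ho)
  obtain ⟨m, hm⟩ := exists_pow_eq_self_of_coprime hco
  rw [← hm]; exact K.pow_mem h3 _

theorem closure_map : closure ({(i : G), (j : G), (k : G), (l : G), (a : G), (b : G)} : Set G) =
    (closure ({i, j, k, l, a, b} : Set K)).map K.subtype := by
  rw [MonoidHom.map_closure]
  congr 1
  simp [Set.image_insert_eq]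

theorem closure_map4 : closure ({(i : G), (j : G), (k : G), (l : G)} : Set G) =
    (closure ({i, j, k, l} : Set K)).map K.subtype := by
  rw [MonoidHom.map_closure]
  congr 1
  simp [Set.image_insert_eq]

theorem D_comm_z (f : FrontK z R i j k l a b) : ∀ x ∈ closure ({i, j, k, l, a, b} : Set K), x * z = z * x := by
  have h2 : closure ({i, j, k, l, a, b} : Set K) ≤ centralizer ({z} : Set K) := by
    rw [closure_le]
    intro x hx
    have hx' : x = i ∨ x = j ∨ x = k ∨ x = l ∨ x = a ∨ x = b := by simpa using hx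
    rw [SetLike.mem_coe, mem_centralizer_singleton_iff]
    rcases hx' with rfl | rfl | rfl | rfl | rfl | rfl
    exacts [f.fr.iz, f.fr.jz, f.fr.kz, f.fr.lz, az f.fr, bz f.fr]
  exact fun x hx => mem_centralizer_singleton_iff.1 (h2 hx)

/-- `R` is normal in `C(t) ∩ C(z)` -/
theorem nR (O : OutC K t (z : G)) (f : FrontK z R i j k l a b) : ∀ g : G, g * t = t * g → g * z = z * g →
    ∀ r ∈ R.map K.subtype, g * r * g⁻¹ ∈ R.map K.subtype := by
  intro g hgt hgz x hx
  have hconj : ∀ y : G, y ∈ K → g⁻¹ * y * g ∈ K := by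
    intro y hy
    have h1 := (mem_normalizer_iff.1 (O.nK g hgt) (g⁻¹ * y * g)).2
    apply h1
    have e : g * (g⁻¹ * y * g) * g⁻¹ = y := by group
    rw [e]; exact hy
  set N : Subgroup K := R.map (al O g hgt).toMonoidHom with hN
  have h1 : N ≤ R := by
    apply f.max N (f.pR.map _)
    · rintro _ ⟨r, hr, rfl⟩
      apply Subtype.ext
      show ((al O g hgt r : K) : G) * z = z * ((al O g hgt r : K) : G)
      rw [al_apply]
      have c1 : Commute g (z : G) := hgz
      have c2 : Commute (r : G) (z : G) := congrArg Subtype.val (f.RP r hr)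
      exact (c1.mul_left c2).mul_left c1.inv_left
    · rintro y hyz _ ⟨r, hr, rfl⟩
      have hyK : g⁻¹ * (y : G) * g ∈ K := hconj y y.2
      have hyz' : (⟨g⁻¹ * (y : G) * g, hyK⟩ : K) * z = z * ⟨g⁻¹ * (y : G) * g, hyK⟩ := by
        apply Subtype.ext
        show g⁻¹ * (y : G) * g * z = z * (g⁻¹ * (y : G) * g)
        have c1 : Commute g (z : G) := hgz
        have c2 : Commute (y : G) (z : G) := congrArg Subtype.val hyz
        exact (c1.inv_left.mul_left c2).mul_left c1
      refine ⟨_, f.nR _ hyz' r hr, ?_⟩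
      apply Subtype.ext
      show ((al O g hgt _ : K) : G) = (y : G) * ((al O g hgt r : K) : G) * (y : G)⁻¹
      rw [al_apply, al_apply]
      show g * ((g⁻¹ * (y : G) * g) * r * (g⁻¹ * (y : G) * g)⁻¹) * g⁻¹ = y * (g * r * g⁻¹) * (y : G)⁻¹
      group
  obtain ⟨r, hr, rfl⟩ := hx
  have h2 : al O g hgt r ∈ R := h1 ⟨r, hr, rfl⟩
  exact ⟨_, h2, al_apply O hgt r⟩

variable [Finite G]

/-- the group `B̄` -/
def BG (R : Subgroup K) : Subgroup (MulAut K) where
  carrier := {α | BA R α}
  one_mem' := fun r _ => rfl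
  mul_mem' := by
    intro α β hα hβ r hr
    rw [MulAut.mul_apply, hβ r hr, hα r hr]
  inv_mem' := by
    intro α hα r hr
    have h1 := hα r hr
    calc α⁻¹ r = α⁻¹ (α r) := by rw [h1]
      _ = r := MulAut.inv_apply_self _ _ _

theorem conj_z_mem (f : FrontK z R i j k l a b) : MulAut.conj z ∈ BG R := by
  intro r hr
  rw [MulAut.conj_apply, ← f.RP r hr, mul_inv_cancel_right]

theorem Z2_iff_mem (f : FrontK z R i j k l a b) {α : MulAut K} : α ∈ zpowers (MulAut.conj z) ↔ Z2 z α := by
  constructor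
  · intro h
    obtain ⟨n, rfl⟩ := mem_zpowers_iff.1 h
    have hz2 : MulAut.conj z * MulAut.conj z = 1 := by rw [← map_mul, f.fr.zz, map_one]
    have hz2' : (MulAut.conj z : MulAut K) ^ (2 : ℤ) = 1 := by
      rw [show (2 : ℤ) = 1 + 1 by norm_num, zpow_add, zpow_one, hz2]
    rcases Int.even_or_odd' n with ⟨m, rfl | rfl⟩
    · left; rw [zpow_mul, hz2', one_zpow]
    · right; rw [zpow_add_one, zpow_mul, hz2', one_zpow, one_mul]
  · rintro (rfl | rfl)
    · exact one_mem _
    · exact mem_zpowers _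

theorem conj_z_ne (O : OutC K t (z : G)) (f : FrontK z R i j k l a b) : (MulAut.conj z : MulAut K) ≠ 1 := by
  intro h
  have h1 : ∀ y ∈ K, y * (z : G) = z * y := by
    intro y hy
    have h2 := congrArg (fun f : MulAut K => ((f ⟨y, hy⟩ : K) : G)) h
    have h3 : (z : G) * y * (z : G)⁻¹ = y := h2
    exact (mul_inv_eq_iff_eq_mul.1 h3).symm
  rcases O.cK z (O.Kt z z.2) h1 with h2 | h2
  · exact f.fr.z1 (Subtype.ext h2)
  · exact O.tK (h2 ▸ z.2)

/-- `|B̄ / ⟨z⟩| ≤ 4` -/
theorem four_cosets (O : OutC K t (z : G)) (f : FrontK z R i j k l a b) {α β : MulAut K} (γ : MulAut K)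
    (hα : BA R α) (hβ : BA R β) (hγ : BA R γ) (h1 : ¬ Z2 z α) (h2 : ¬ Z2 z β) (h3 : ¬ Z2 z (α⁻¹ * β)) :
    Z2 z γ ∨ Z2 z (α⁻¹ * γ) ∨ Z2 z (β⁻¹ * γ) ∨ Z2 z ((α * β)⁻¹ * γ) := by
  classical
  have hfK : Finite K := inferInstance
  have hfA : Finite (MulAut K) := Finite.of_injective (fun f : MulAut K => (f : K → K)) DFunLike.coe_injective
  set H := BG R with hH
  have hle : zpowers (MulAut.conj z) ≤ H := by rw [zpowers_le]; exact conj_z_mem f
  set N : Subgroup H := (zpowers (MulAut.conj z)).subgroupOf H with hN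
  have hmem : ∀ x : H, x ∈ N ↔ Z2 z (x : MulAut K) := fun x => by
    rw [hN, mem_subgroupOf]; exact Z2_iff_mem f
  have hcomm : ∀ x : H, (x : MulAut K) * MulAut.conj z = MulAut.conj z * x := by
    intro x
    have hx : (x : MulAut K) z = z := x.2 z f.zR
    ext c
    simp only [MulAut.mul_apply, MulAut.conj_apply, map_mul, map_inv, hx]
  have hNn : N.Normal := by
    refine ⟨fun n hn g => ?_⟩
    rw [hmem] at hn ⊢
    show Z2 z ((g : MulAut K) * n * (g : MulAut K)⁻¹)
    rcases hn with h | h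
    · left; rw [h]; group
    · right; rw [h, hcomm g, mul_inv_cancel_right]
  have hcard : Nat.card (H ⧸ N) ≤ 4 := by
    have e1 : Nat.card H ≤ 8 := f.card
    have e2 : Nat.card N = 2 := by
      rw [hN, Nat.card_congr (subgroupOfEquivOfLe hle).toEquiv, Nat.card_zpowers]
      apply orderOf_eq_prime
      · rw [pow_two, ← map_mul, f.fr.zz, map_one]
      · exact conj_z_ne O f
    have e3 : Nat.card H = Nat.card (H ⧸ N) * Nat.card N := Subgroup.card_eq_card_quotient_mul_card_subgroup N
    rw [e2] at e3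
    omega
  have hsq : ∀ x : H, x * x ∈ N := fun x => (hmem _).2 (f.sq x x.2)
  have h := four N hcard hsq (x := ⟨α, hα⟩) (y := ⟨β, hβ⟩) ⟨γ, hγ⟩ (fun h => h1 ((hmem _).1 h))
    (fun h => h2 ((hmem _).1 h)) (fun h => h3 ((hmem _).1 h))
  rw [hmem, hmem, hmem, hmem] at h
  exact h

/-- `|B| ≤ 16` -/
theorem card_B (O : OutC K t (z : G)) (f : FrontK z R i j k l a b) :
    Nat.card {x : G // Bt t (R.map K.subtype) x} ≤ 16 := by
  classical
  have hfA : Finite (MulAut K) := Finite.of_injective (fun f : MulAut K => (f : K → K)) DFunLike.coe_injective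
  let B : Subgroup G :=
    { carrier := {x | Bt t (R.map K.subtype) x}
      one_mem' := ⟨by rw [one_mul, mul_one], fun r _ => by rw [one_mul, mul_one]⟩
      mul_mem' := by
        rintro x y ⟨hx1, hx2⟩ ⟨hy1, hy2⟩
        exact ⟨(show Commute x t from hx1).mul_left hy1,
          fun r hr => (show Commute x r from hx2 r hr).mul_left (hy2 r hr)⟩
      inv_mem' := by
        rintro x ⟨hx1, hx2⟩
        exact ⟨(show Commute x t from hx1).inv_left, fun r hr => (show Commute x r from hx2 r hr).inv_left⟩ }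
  have hBt : ∀ x : B, (x : G) * t = t * x := fun x => x.2.1
  let φ : B →* BG R :=
    { toFun := fun x => ⟨al O x (hBt x), al_BA O x.2⟩
      map_one' := by
        apply Subtype.ext
        show al O ((1 : B) : G) (hBt 1) = 1
        ext c
        rw [al_apply]; simp
      map_mul' := fun x y => Subtype.ext (al_mul O (hBt x) (hBt y) (hBt (x * y))) }
  have h1 : Nat.card B = Nat.card (B ⧸ φ.ker) * Nat.card φ.ker := Subgroup.card_eq_card_quotient_mul_card_subgroup _
  have h2 : Nat.card (B ⧸ φ.ker) ≤ 8 := by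
    have e1 : Nat.card (B ⧸ φ.ker) = Nat.card φ.range := Nat.card_congr (QuotientGroup.quotientKerEquivRange φ).toEquiv
    have e2 : Nat.card φ.range ≤ Nat.card (BG R) := Nat.card_le_card_of_injective _ φ.range.subtype_injective
    have e3 : Nat.card (BG R) ≤ 8 := f.card
    omega
  have h3 : Nat.card φ.ker ≤ 2 := by
    have key : ∀ x : φ.ker, ((x : B) : G) = 1 ∨ ((x : B) : G) = t := by
      intro x
      have hx : al O ((x : B) : G) (hBt x) = 1 := congrArg Subtype.val (show φ x = 1 from x.2)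
      apply O.cK _ (hBt x)
      intro y hy
      have h2 := al_apply O (hBt x) ⟨y, hy⟩
      rw [hx, MulAut.one_apply] at h2
      have h3 : y = ((x : B) : G) * y * ((x : B) : G)⁻¹ := h2
      exact (eq_mul_inv_iff_mul_eq.1 h3)
    have hinj : Function.Injective (fun x : φ.ker => (decide (((x : B) : G) = 1) : Bool)) := by
      intro x y hxy
      have hxy' : decide (((x : B) : G) = 1) = decide (((y : B) : G) = 1) := hxy
      apply Subtype.ext
      apply Subtype.ext
      rcases key x with hx | hx <;> rcases key y with hy | hy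
      · rw [hx, hy]
      · exfalso
        rw [hx, hy] at hxy'
        simp [O.t1] at hxy'
      · exfalso
        rw [hx, hy] at hxy'
        simp [O.t1] at hxy'
      · rw [hx, hy]
    have := Nat.card_le_card_of_injective _ hinj
    rwa [Nat.card_eq_fintype_card (α := Bool), Fintype.card_bool] at this
  have h4 : Nat.card {x : G // Bt t (R.map K.subtype) x} = Nat.card B := rfl
  rw [h4, h1]
  calc Nat.card (B ⧸ φ.ker) * Nat.card φ.ker ≤ 8 * 2 := Nat.mul_le_mul h2 h3
    _ = 16 := by norm_num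

/-- **the local situation** -/
theorem Loc0.of (O : OutC K t (z : G)) (f : FrontK z R i j k l a b) (ha : a * a * a = 1) (hb : b * b * b = 1)
    (hab : a * b = b * a) : Loc0 t (z : G) (R.map K.subtype) (i : G) j k l a b := by
  have hDK : ∀ x ∈ closure ({(i : G), (j : G), (k : G), (l : G), (a : G), (b : G)} : Set G), ∃ hx : x ∈ K,
      (⟨x, hx⟩ : K) ∈ closure ({i, j, k, l, a, b} : Set K) := by
    intro x hx
    rw [closure_map] at hx
    obtain ⟨y, hy, rfl⟩ := hx
    exact ⟨y.2, hy⟩
  have odd3 : ∀ c : K, c * c * c = 1 → Odd (orderOf c) := by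
    intro c hc
    have h1 : c ^ 3 = 1 := by rw [pow_succ, pow_two]; exact hc
    have h2 := orderOf_dvd_of_pow_eq_one h1
    rcases (Nat.dvd_prime Nat.prime_three).1 h2 with h | h <;> rw [h] <;> decide
  refine
    { tt := O.tt
      t1 := O.t1
      tz := fun e => O.tK (e ▸ z.2)
      comm := (O.Kt z z.2).symm
      fr := f.fr.map K.subtype K.subtype_injective
      gR := by rw [f.gR, closure_map4]
      a3 := congrArg Subtype.val ha
      b3 := congrArg Subtype.val hb
      ab := congrArg Subtype.val hab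
      Dt := fun d hd => O.Kt d (hDK d hd).1
      od := ?_
      nR := FrontLoc.nR O f
      max := ?_
      abR := ?_
      cR := ?_
      sw := ?_
      BD := ?_
      Bsq := ?_
      Bu := ?_
      Bcc := ?_
      B4 := ?_
      Bcard := card_B O f
      s := O.sw }
  · intro g hg hgz ho
    have h1 := mem_of_odd O f hg ho
    rw [closure_map]
    refine ⟨⟨g, h1⟩, f.od _ (Subtype.ext hgz) ?_, rfl⟩
    rwa [← Subgroup.orderOf_coe]
  · intro N hN hN2 hn x hx
    obtain ⟨hxK, hx'⟩ := hDK x (hN hx)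
    refine mem_map'.2 (f.max (N.subgroupOf K) (hN2.comap_of_injective K.subtype K.subtype_injective) ?_ ?_
      (show (⟨x, hxK⟩ : K) ∈ N.subgroupOf K from hx))
    · intro n hnN
      exact D_comm_z f n (hDK n (hN hnN)).2
    · intro g hg n hnN
      exact hn g (O.Kt g g.2) (congrArg Subtype.val hg) n hnN
  · intro B hB hab hn x hx
    have hBK : B ≤ K := by
      intro x hx
      obtain ⟨y, -, rfl⟩ := hB hx
      exact y.2
    rcases f.ab (B.subgroupOf K) (fun x hx => mem_map'.1 (hB hx))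
      (fun a ha b hb => Subtype.ext (hab a ha b hb))
      (fun g hg b hb => hn g (O.Kt g g.2) (congrArg Subtype.val hg) b hb) ⟨x, hBK hx⟩ hx with h1 | h1
    · exact Or.inl (congrArg Subtype.val h1)
    · exact Or.inr (congrArg Subtype.val h1)
  · intro g hg hr
    obtain ⟨hgK, hg'⟩ := hDK g hg
    rcases f.cR ⟨g, hgK⟩ (D_comm_z f _ hg') (fun r hr' => Subtype.ext (hr r (mem_map'.2 hr'))) with h1 | h1
    · exact Or.inl (congrArg Subtype.val h1)
    · exact Or.inr (congrArg Subtype.val h1)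
  · obtain ⟨p, hp, hpi⟩ := f.sw
    exact ⟨p, O.Kt p p.2, congrArg Subtype.val hp, congrArg Subtype.val hpi⟩
  · intro x hx d hd
    have hα := al_BA O hx
    have key : ∀ c : K, c * z = z * c → Odd (orderOf c) → (c : G) * x = x * c := by
      intro c hcz hco
      have h1 := FrontOut.trivial_of_R f.toBase hα hcz hco
      have h2 := al_apply O hx.1 c
      rw [h1] at h2
      exact eq_mul_inv_iff_mul_eq.1 h2
    have h2 : closure ({(i : G), (j : G), (k : G), (l : G), (a : G), (b : G)} : Set G) ≤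
        centralizer ({x} : Set G) := by
      have hR : ∀ c : K, c ∈ R → (c : G) * x = x * c := fun c hc => (hx.2 c (mem_map'.2 hc)).symm
      have hsub : ∀ c ∈ ({i, j, k, l} : Set K), (c : G) * x = x * c := fun c hc =>
        hR c (by rw [f.gR]; exact subset_closure hc)
      rw [closure_le]
      intro c hc
      have hc' : c = i ∨ c = j ∨ c = k ∨ c = l ∨ c = a ∨ c = b := by simpa using hc
      rw [SetLike.mem_coe, mem_centralizer_singleton_iff]
      rcases hc' with rfl | rfl | rfl | rfl | rfl | rfl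
      · exact hsub i (by simp)
      · exact hsub j (by simp)
      · exact hsub k (by simp)
      · exact hsub l (by simp)
      · exact key a (az f.fr) (odd3 a ha)
      · exact key b (bz f.fr) (odd3 b hb)
    exact (mem_centralizer_singleton_iff.1 (h2 hd)).symm
  · intro x hx
    have hxx : x * x * t = t * (x * x) := (show Commute x t from hx.1).mul_left hx.1
    apply Z2_T4 O hxx
    rw [al_mul O hx.1 hx.1]
    exact f.sq _ (al_BA O hx)
  · intro x y hx hy hxx hyy
    have c1 : Commute x t := hx.1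
    have hxy : x⁻¹ * y * t = t * (x⁻¹ * y) := c1.inv_left.mul_left hy.1
    apply Z2_T4 O hxy
    rw [al_mul O c1.inv_left.eq hy.1, al_inv O hx.1]
    have key : ∀ w : G, (hw : Bt t (R.map K.subtype) w) → w * w = z →
        al O w hw.1 * al O w hw.1 = MulAut.conj z := by
      intro w hw hww
      have hwt : w * w * t = t * (w * w) := (show Commute w t from hw.1).mul_left hw.1
      rw [← al_mul O hw.1 hw.1 hwt]
      ext c
      rw [al_apply, hww]
      rfl
    exact f.uq _ _ (al_BA O hx) (al_BA O hy) (key x hx hxx) (key y hy hyy)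
  · intro x y hx hy hxy
    have c1 : Commute x t := hx.1
    have hxyt : x * y * t = t * (x * y) := c1.mul_left hy.1
    have hyxt : y * x * t = t * (y * x) := (show Commute y t from hy.1).mul_left hx.1
    have hxy' : x⁻¹ * y * t = t * (x⁻¹ * y) := c1.inv_left.mul_left hy.1
    rcases f.cc _ _ (al_BA O hx) (al_BA O hy) (by
      rw [← al_mul O hx.1 hy.1 hxyt, ← al_mul O hy.1 hx.1 hyxt]
      congr 1) with h | h | h
    · exact Or.inl (Z2_T4 O hx.1 h)
    · exact Or.inr (Or.inl (Z2_T4 O hy.1 h))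
    · right; right
      apply Z2_T4 O hxy'
      rw [al_mul O c1.inv_left.eq hy.1, al_inv O hx.1]
      exact h
  · intro x y w hx hy hw h1 h2 h3
    have c1 : Commute x t := hx.1
    have c2 : Commute y t := hy.1
    have c3 : Commute w t := hw.1
    have p1 : x⁻¹ * y * t = t * (x⁻¹ * y) := (c1.inv_left.mul_left c2).eq
    have p2 : x⁻¹ * w * t = t * (x⁻¹ * w) := (c1.inv_left.mul_left c3).eq
    have p3 : y⁻¹ * w * t = t * (y⁻¹ * w) := (c2.inv_left.mul_left c3).eq
    have p4 : x * y * t = t * (x * y) := (c1.mul_left c2).eq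
    have p5 : (x * y)⁻¹ * w * t = t * ((x * y)⁻¹ * w) := ((c1.mul_left c2).inv_left.mul_left c3).eq
    have e1 := al_div O hx.1 hy.1 p1
    have e2 := al_div O hx.1 hw.1 p2
    have e3 := al_div O hy.1 hw.1 p3
    have e4 := al_div O p4 hw.1 p5
    rw [al_mul O hx.1 hy.1 p4] at e4
    rcases four_cosets O f (al O w hw.1) (al_BA O hx) (al_BA O hy) (al_BA O hw)
      (fun h => h1 (Z2_T4 O hx.1 h)) (fun h => h2 (Z2_T4 O hy.1 h))
      (fun h => h3 (Z2_T4 O p1 (by rw [e1]; exact h))) with h | h | h | h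
    · exact Or.inl (Z2_T4 O hw.1 h)
    · exact Or.inr (Or.inl (Z2_T4 O p2 (by rw [e2]; exact h)))
    · exact Or.inr (Or.inr (Or.inl (Z2_T4 O p3 (by rw [e3]; exact h))))
    · exact Or.inr (Or.inr (Or.inr (Z2_T4 O p5 (by rw [e4]; exact h))))

/-- **the local situation** without `t ∈ C(z)'`, `∃` form -/
theorem exists_loc0 (O : OutC K t (z : G)) (f : FrontK z R i j k l a b) :
    ∃ a' b' : K, FrontK z R i j k l a' b' ∧ Loc0 t (z : G) (R.map K.subtype) (i : G) j k l a' b' := by
  obtain ⟨a', b', f', h1, h2, h3⟩ := FrontK.exists_cube f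
  exact ⟨a', b', f', Loc0.of O f' h1 h2 h3⟩

/-- **the local situation**, `∃` form -/
theorem exists_loc (O : Out K t (z : G)) (f : FrontK z R i j k l a b) :
    ∃ a' b' : K, FrontK z R i j k l a' b' ∧ Loc t (z : G) (R.map K.subtype) (i : G) j k l a' b' := by
  obtain ⟨a', b', f', L⟩ := exists_loc0 (OutC.of_out O) f
  exact ⟨a', b', f', { toLoc0 := L, tH := O.tH }⟩

end

end Cfsg.Agent.OddHalf.D6.QThree.FrontLoc
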