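import Cfsg.Agent.OddHalf.CaseM.RankOne
import Cfsg.Agent.Cit.Comp

/-!
# ODD half, D6, `q = 3`: the quaternion groups `Q₁`, `Q₂` of `C_G(z)` (helper135, bb #10784)

`Side z t a Q D`: `Q` of order eight, centralised by `t`, `q² = z` for `q ∈ Q - ⟨z⟩`, `a` acts nontrivially on `Q` and
centralises `t` and `D`. `Side.gen`, `Side.exists_inner`; `exists_index_two`: a 2-group in which `Q` contains its
centralizer has at most one involution or a subgroup of index two with only one involution.
-/

set_option autoImplicit false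

namespace Cfsg.Agent.OddHalf.D6.QThree.NISide

open Subgroup Cfsg
open Cfsg.Agent.SignalizersComponents.Components
open Cfsg.Agent.Cit (cj mem_cj conj_mem_cj)

variable {X : Type*} [Group X]

/-- a quaternion group `Q` with centre `⟨z⟩` centralised by `t`, and an element `a` -/
structure Side (z t a : X) (Q D : Subgroup X) : Prop where
  card : Nat.card Q = 8
  zQ : z ∈ Q
  sq : ∀ q ∈ Q, q ≠ 1 → q ≠ z → q * q = z
  ct : ∀ q ∈ Q, q * t = t * q
  a_t : a * t = t * a
  aQ : ∀ q ∈ Q, a * q * a⁻¹ ∈ Q
  aD : ∀ d ∈ D, a * d = d * a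
  act : ∀ q ∈ Q, q ≠ 1 → q ≠ z → q * (a * q * a⁻¹) ≠ (a * q * a⁻¹) * q

namespace Side

variable {z t a : X} {Q D : Subgroup X}

theorem pQ (s : Side z t a Q D) : IsPGroup 2 Q :=
  IsPGroup.of_card (n := 3) (by rw [s.card]; norm_num)

theorem finite (s : Side z t a Q D) : Finite Q := by
  apply Nat.finite_of_card_ne_zero
  rw [s.card]; norm_num

/-- five distinct elements of a subgroup of `Q` -/
theorem le_of_two (s : Side z t a Q D) (zc : ∀ x : X, x * z = z * x) (zz : z * z = 1) (z1 : z ≠ 1)
    {H : Subgroup X} (hH : H ≤ Q) (hz : z ∈ H) {x y : X} (hx : x ∈ H) (hy : y ∈ H)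
    (hxy : x * y ≠ y * x) : Q ≤ H := by
  classical
  have := s.finite
  have hfH : Finite H := Finite.of_injective _ (inclusion_injective hH)
  have hzi : z⁻¹ = z := inv_eq_of_mul_eq_one_right zz
  have hx1 : x ≠ 1 := by rintro rfl; exact hxy (by rw [one_mul, mul_one])
  have hy1 : y ≠ 1 := by rintro rfl; exact hxy (by rw [one_mul, mul_one])
  have hxz : x ≠ z := by rintro rfl; exact hxy (zc y).symm
  have hyz : y ≠ z := by rintro rfl; exact hxy (zc x)
  have h1 : (({1, z, x, x * z, y} : Finset X) : Set X) ⊆ H := by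
    intro u hu
    simp only [Finset.coe_insert, Finset.coe_singleton, Set.mem_insert_iff, Set.mem_singleton_iff] at hu
    rcases hu with rfl | rfl | rfl | rfl | rfl
    exacts [H.one_mem, hz, hx, H.mul_mem hx hz, hy]
  have h2 : ({1, z, x, x * z, y} : Finset X).card = 5 := by
    rw [Finset.card_insert_of_notMem, Finset.card_insert_of_notMem, Finset.card_insert_of_notMem,
      Finset.card_insert_of_notMem, Finset.card_singleton]
    · rw [Finset.mem_singleton]
      rintro rfl
      apply hxy
      rw [mul_assoc, zc x]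
    · simp only [Finset.mem_insert, Finset.mem_singleton, not_or]
      refine ⟨fun h => z1 (mul_eq_left.1 h.symm), ?_⟩
      rintro rfl; exact hxy rfl
    · simp only [Finset.mem_insert, Finset.mem_singleton, not_or]
      exact ⟨fun h => hxz h.symm, fun h => hx1 (mul_eq_right.1 h.symm), fun h => hyz h.symm⟩
    · simp only [Finset.mem_insert, Finset.mem_singleton, not_or]
      refine ⟨fun h => z1 h.symm, fun h => hx1 h.symm, fun h => ?_, fun h => hy1 h.symm⟩
      exact hxz (by rw [eq_comm, mul_eq_one_iff_eq_inv, hzi] at h; exact h)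
  have h3 : 5 ≤ Nat.card H := by
    rw [← h2, ← Set.ncard_coe_finset]
    exact Set.ncard_le_ncard h1 (Set.toFinite _)
  have h4 : Nat.card H ∣ 8 := by
    rw [← s.card]
    exact card_dvd_of_le hH
  have h5 : Nat.card H = 8 := by
    have h6 : Nat.card H ≤ 8 := Nat.le_of_dvd (by norm_num) h4
    interval_cases h : Nat.card H <;> first | rfl | omega
  exact (Subgroup.eq_of_le_of_card_ge hH (by rw [h5, s.card])).ge

/-- `Q` is generated by `q` and `q^a` -/
theorem gen (s : Side z t a Q D) (zc : ∀ x : X, x * z = z * x) (zz : z * z = 1) (z1 : z ≠ 1)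
    {M : Subgroup X} {q : X} (hq : q ∈ Q) (hq1 : q ≠ 1) (hqz : q ≠ z) (hqM : q ∈ M)
    (hqM' : a * q * a⁻¹ ∈ M) : Q ≤ M := by
  have h := s.le_of_two zc zz z1 (H := Q ⊓ M) inf_le_left ?_ ⟨hq, hqM⟩ ⟨s.aQ q hq, hqM'⟩
    (s.act q hq hq1 hqz)
  · exact fun x hx => (h hx).2
  · rw [← s.sq q hq hq1 hqz]
    exact ⟨Q.mul_mem hq hq, M.mul_mem hqM hqM⟩

/-- there is an element outside `⟨z⟩` -/
theorem exists_ne (s : Side z t a Q D) : ∃ q ∈ Q, q ≠ 1 ∧ q ≠ z := by
  classical
  by_contra h
  push Not at h
  have := s.finite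
  have h1 : (Q : Set X) ⊆ ({1, z} : Set X) := by
    intro x hx
    by_cases hx1 : x = 1
    · exact Or.inl hx1
    · exact Or.inr (h x hx hx1)
  have h2 : Nat.card Q ≤ 2 := by
    have := Set.ncard_le_ncard h1 (Set.toFinite _)
    exact this.trans ((Set.ncard_insert_le _ _).trans (by rw [Set.ncard_singleton]))
  rw [s.card] at h2
  omega

/-- central elements of `Q` -/
theorem center (s : Side z t a Q D) {x : X} (hx : x ∈ Q) (hc : ∀ q ∈ Q, x * q = q * x) : x = 1 ∨ x = z := by
  by_contra h
  push Not at h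
  exact s.act x hx h.1 h.2 (hc _ (s.aQ x hx))

/-- `Q` is not abelian -/
theorem not_comm (s : Side z t a Q D) : ¬ ∀ x ∈ Q, ∀ y ∈ Q, x * y = y * x := by
  intro h
  obtain ⟨q, hq, h1, h2⟩ := s.exists_ne
  exact s.act q hq h1 h2 (h q hq _ (s.aQ q hq))

/-- noncommuting elements -/
theorem comm_eq (s : Side z t a Q D) {x y : X} (hx : x ∈ Q) (hy : y ∈ Q) (hxy : x * y ≠ y * x)
    (zc : ∀ x : X, x * z = z * x) (zz : z * z = 1) : y * x * y⁻¹ = x * z := by
  have hx1 : x ≠ 1 := by rintro rfl; exact hxy (by rw [one_mul, mul_one])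
  have hy1 : y ≠ 1 := by rintro rfl; exact hxy (by rw [one_mul, mul_one])
  have hxz : x ≠ z := by rintro rfl; exact hxy (zc y).symm
  have hyz : y ≠ z := by rintro rfl; exact hxy (zc x)
  have h1 : y * x * (y * x) = z := by
    apply s.sq _ (Q.mul_mem hy hx)
    · intro h
      rw [mul_eq_one_iff_eq_inv] at h
      rw [h] at hxy
      exact hxy (by rw [mul_inv_cancel, inv_mul_cancel])
    · intro h
      have h2 : x = y⁻¹ * z := by rw [← h]; group
      apply hxy
      rw [h2, mul_assoc, ← zc y, inv_mul_cancel_left, mul_inv_cancel_left]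
  have hxx := s.sq x hx hx1 hxz
  have hyy := s.sq y hy hy1 hyz
  have hxi : x⁻¹ = x * z := by
    rw [inv_eq_iff_mul_eq_one, ← mul_assoc, hxx, zz]
  have hyi : y⁻¹ = y * z := by
    rw [inv_eq_iff_mul_eq_one, ← mul_assoc, hyy, zz]
  calc y * x * y⁻¹ = y * x * (y * z) := by rw [hyi]
    _ = (y * x * (y * x)) * x⁻¹ * z := by group
    _ = z * x⁻¹ * z := by rw [h1]
    _ = x⁻¹ * (z * z) := by rw [← zc x⁻¹]; group
    _ = x * z := by rw [zz, mul_one, hxi]

/-- an element acting trivially on `Q / ⟨z⟩` acts as an element of `Q` -/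
theorem exists_inner (s : Side z t a Q D) (zc : ∀ x : X, x * z = z * x) (zz : z * z = 1) (z1 : z ≠ 1)
    {g : X} (hg : ∀ q ∈ Q, g * q * g⁻¹ = q ∨ g * q * g⁻¹ = q * z) :
    ∃ r ∈ Q, ∀ q ∈ Q, g * r * q = q * (g * r) := by
  obtain ⟨i, hi, hi1, hiz⟩ := s.exists_ne
  set j := a * i * a⁻¹ with hj
  have hjQ : j ∈ Q := s.aQ i hi
  have hij : i * j ≠ j * i := s.act i hi hi1 hiz
  have hji : j * i * j⁻¹ = i * z := s.comm_eq hi hjQ hij zc zz
  have hij' : i * j * i⁻¹ = j * z := s.comm_eq hjQ hi hij.symm zc zz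
  -- a sufficient condition
  have key : ∀ r ∈ Q, g * (r * i * r⁻¹) * g⁻¹ = i → g * (r * j * r⁻¹) * g⁻¹ = j →
      ∃ r ∈ Q, ∀ q ∈ Q, g * r * q = q * (g * r) := by
    intro r hr h1 h2
    refine ⟨r, hr, ?_⟩
    have h3 := s.le_of_two zc zz z1 (H := Q ⊓ centralizer ({g * r} : Set X)) inf_le_left
      ⟨s.zQ, mem_centralizer_singleton_iff.2 (zc _).symm⟩ (x := i) (y := j)
      ⟨hi, mem_centralizer_singleton_iff.2 ?_⟩ ⟨hjQ, mem_centralizer_singleton_iff.2 ?_⟩ hij
    · intro q hq
      exact (mem_centralizer_singleton_iff.1 (h3 hq).2).symm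
    · calc i * (g * r) = g * (r * i * r⁻¹) * g⁻¹ * (g * r) := by rw [h1]
        _ = g * r * i := by group
    · calc j * (g * r) = g * (r * j * r⁻¹) * g⁻¹ * (g * r) := by rw [h2]
        _ = g * r * j := by group
  have hzg : ∀ u : X, g * (u * z) * g⁻¹ = g * u * g⁻¹ * z := by
    intro u
    calc g * (u * z) * g⁻¹ = g * u * (z * g⁻¹) := by group
      _ = g * u * (g⁻¹ * z) := by rw [zc g⁻¹]
      _ = g * u * g⁻¹ * z := by group
  have hzz : ∀ u : X, u * z * z = u := fun u => by rw [mul_assoc, zz, mul_one]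
  rcases hg i hi with h1 | h1 <;> rcases hg j hjQ with h2 | h2
  · exact key 1 Q.one_mem (by rw [one_mul, inv_one, mul_one, h1]) (by rw [one_mul, inv_one, mul_one, h2])
  · refine key i hi ?_ ?_
    · rw [mul_inv_cancel_right, h1]
    · rw [hij', hzg, h2, hzz]
  · refine key j hjQ ?_ ?_
    · rw [hji, hzg, h1, hzz]
    · rw [mul_inv_cancel_right, h2]
  · refine key (i * j) (Q.mul_mem hi hjQ) ?_ ?_
    · have : i * j * i * (i * j)⁻¹ = i * z := by
        calc i * j * i * (i * j)⁻¹ = i * (j * i * j⁻¹) * i⁻¹ := by group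
          _ = i * (i * z) * i⁻¹ := by rw [hji]
          _ = i * i * (z * i⁻¹) := by group
          _ = i * i * (i⁻¹ * z) := by rw [zc i⁻¹]
          _ = i * z := by group
      rw [this, hzg, h1, hzz]
    · have : i * j * j * (i * j)⁻¹ = j * z := by
        calc i * j * j * (i * j)⁻¹ = i * j * i⁻¹ := by group
          _ = j * z := hij'
      rw [this, hzg, h2, hzz]

end Side

/-- **maximal class**: a 2-group `W` containing the centralizer of `Q` in `W` -/
theorem exists_index_two [Finite X] {z t a : X} {Q D W : Subgroup X} (s : Side z t a Q D)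
    (zc : ∀ x : X, x * z = z * x) (zz : z * z = 1) (z1 : z ≠ 1) (hW : IsPGroup 2 W) (hQW : Q ≤ W)
    (hC : ∀ w ∈ W, (∀ q ∈ Q, w * q = q * w) → w = 1 ∨ w = z) :
    ∃ C : Subgroup X, C ≤ W ∧ C.relIndex W = 2 ∧ ∀ x ∈ C, x * x = 1 → x = 1 ∨ x = z := by
  classical
  have : Fact (Nat.Prime 2) := ⟨Nat.prime_two⟩
  have hzi : z⁻¹ = z := inv_eq_of_mul_eq_one_right zz
  -- elements acting trivially on `Q / ⟨z⟩`
  have hself : ∀ w ∈ W, (∀ q ∈ Q, w * q * w⁻¹ = q ∨ w * q * w⁻¹ = q * z) → w ∈ Q := by
    intro w hw h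
    obtain ⟨r, hr, hrq⟩ := s.exists_inner zc zz z1 h
    have h1 : w * r = 1 ∨ w * r = z := hC _ (W.mul_mem hw (hQW hr)) hrq
    have h2 : w * r ∈ Q := by
      rcases h1 with h1 | h1
      · rw [h1]; exact Q.one_mem
      · rw [h1]; exact s.zQ
    have h3 := Q.mul_mem h2 (Q.inv_mem hr)
    rwa [mul_inv_cancel_right] at h3
  have hQ2 : ∀ x ∈ Q, x * x = 1 → x = 1 ∨ x = z := by
    intro x hx hxx
    by_contra hne
    push Not at hne
    have := s.sq x hx hne.1 hne.2
    rw [hxx] at this
    exact z1 this.symm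
  -- the quotient
  have hZn : ((zpowers z).subgroupOf W).Normal := by
    refine ⟨fun n hn g => ?_⟩
    rw [mem_subgroupOf] at hn ⊢
    obtain ⟨k, hk⟩ := mem_zpowers_iff.1 hn
    have h1 : Commute (g : X) (n : X) := by rw [← hk]; exact (show Commute (g : X) z from zc g).zpow_right k
    have h2 : ((g * n * g⁻¹ : W) : X) = n := by
      show (g : X) * n * (g : X)⁻¹ = n
      rw [h1.eq, mul_inv_cancel_right]
    rw [h2]; exact hn
  have hzp : ∀ x : X, x ∈ zpowers z ↔ x = 1 ∨ x = z := by
    intro x
    constructor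
    · intro hx
      obtain ⟨k, rfl⟩ := mem_zpowers_iff.1 hx
      rcases Int.even_or_odd k with ⟨m, rfl⟩ | ⟨m, rfl⟩
      · left
        rw [← two_mul, zpow_mul, zpow_ofNat, pow_two, zz, one_zpow]
      · right
        rw [zpow_add, zpow_mul, zpow_ofNat, pow_two, zz, one_zpow, one_mul, zpow_one]
    · rintro (rfl | rfl)
      · exact one_mem _
      · exact mem_zpowers _
  set Z : Subgroup W := (zpowers z).subgroupOf W with hZ
  have hzW : z ∈ W := hQW s.zQ
  have hmZ : ∀ x : W, x ∈ Z ↔ (x : X) = 1 ∨ (x : X) = z := fun x => by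
    rw [hZ, mem_subgroupOf, hzp]
  have hcZ : Nat.card Z = 2 := by
    have h1 : Nat.card Z = Nat.card (zpowers z) :=
      Nat.card_congr (subgroupOfEquivOfLe ((zpowers_le).2 hzW)).toEquiv
    rw [h1, Nat.card_zpowers]
    exact orderOf_eq_prime (by rw [pow_two, zz]) z1
  obtain ⟨n, hn⟩ := IsPGroup.iff_card.1 hW
  have hcQ : Nat.card (W ⧸ Z) * 2 = 2 ^ n := by
    rw [← hn, Subgroup.card_eq_card_quotient_mul_card_subgroup Z, hcZ]
  have h8 : 8 ∣ 2 ^ n := by
    rw [← hn, ← s.card]; exact card_dvd_of_le hQW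
  have hn3 : 3 ≤ n := by
    have : (2 : ℕ) ^ 3 ∣ 2 ^ n := h8
    exact (Nat.pow_dvd_pow_iff_le_right (by norm_num)).1 this
  obtain ⟨m, rfl⟩ : ∃ m, n = m + 1 := ⟨n - 1, by omega⟩
  have hcard : Nat.card (W ⧸ Z) = 2 ^ m := by
    rw [pow_succ] at hcQ; omega
  by_cases hm : m = 2
  · -- `W = Q`
    have hWQ : W = Q := by
      symm
      apply Subgroup.eq_of_le_of_card_ge hQW
      rw [hn, s.card, hm]; norm_num
    obtain ⟨i, hi, hi1, hiz⟩ := s.exists_ne
    refine ⟨zpowers i, by rw [hWQ]; exact (zpowers_le).2 hi, ?_, ?_⟩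
    · have h1 : orderOf i = 4 := by
        have h0 : i * i = z := s.sq i hi hi1 hiz
        have h2 : i ^ 4 = 1 := by
          rw [show (4 : ℕ) = 2 * 2 from rfl, pow_mul, pow_two i, s.sq i hi hi1 hiz, pow_two, zz]
        have h3 : orderOf i ∣ 4 := orderOf_dvd_of_pow_eq_one h2
        have h4 : ¬ orderOf i ∣ 2 := by
          intro h
          have h5 := orderOf_dvd_iff_pow_eq_one.1 h
          rw [pow_two, s.sq i hi hi1 hiz] at h5
          exact z1 h5
        have h5 : orderOf i ≤ 4 := Nat.le_of_dvd (by norm_num) h3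
        have h6 : orderOf i ≠ 0 := (orderOf_pos i).ne'
        interval_cases h : orderOf i <;> first | rfl | omega
      have h2 := Cfsg.Agent.S0112.card_mul_relIndex (H := zpowers i) (K := W)
        (by rw [hWQ]; exact (zpowers_le).2 hi)
      rw [Nat.card_zpowers, h1, hn, hm] at h2
      omega
    · intro x hx
      exact hQ2 x ((zpowers_le).2 hi hx)
  · have hm3 : 3 ≤ m := by omega
    -- the self-centralising four-group
    set A : Subgroup (W ⧸ Z) := (Q.subgroupOf W).map (QuotientGroup.mk' Z) with hA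
    have hmA : ∀ w : W, QuotientGroup.mk' Z w ∈ A ↔ (w : X) ∈ Q := by
      intro w
      constructor
      · rintro ⟨q, hq, hqw⟩
        rw [QuotientGroup.mk'_eq_mk'] at hqw
        obtain ⟨y, hy, hyw⟩ := hqw
        have h1 : (w : X) = q * y := by rw [← hyw]; rfl
        have h2 : (y : X) ∈ Q := by
          rcases (hmZ y).1 hy with h | h
          · rw [h]; exact Q.one_mem
          · rw [h]; exact s.zQ
        rw [h1]; exact Q.mul_mem hq h2
      · intro hw
        exact ⟨w, hw, rfl⟩
    have hcA : Nat.card A = 2 ^ 2 := by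
      have h0 : (QuotientGroup.mk' Z).ker ≤ Q.subgroupOf W := by
        rw [QuotientGroup.ker_mk']
        intro y hy
        rw [mem_subgroupOf]
        rcases (hmZ y).1 hy with h | h
        · rw [h]; exact Q.one_mem
        · rw [h]; exact s.zQ
      have h1 := Cfsg.Agent.S0112.card_map_mul_card (QuotientGroup.mk' Z) h0
      have h2 : Nat.card (Q.subgroupOf W) = 8 := by
        rw [← s.card]
        exact Nat.card_congr (subgroupOfEquivOfLe hQW).toEquiv
      rw [QuotientGroup.ker_mk', hcZ, h2, ← hA] at h1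
      omega
    have hcent : centralizer (A : Set (W ⧸ Z)) = A := by
      apply le_antisymm
      · intro y hy
        obtain ⟨w, rfl⟩ := QuotientGroup.mk'_surjective Z y
        rw [hmA]
        apply hself _ w.2
        intro q hq
        have h1 := mem_centralizer_iff.1 hy (QuotientGroup.mk' Z ⟨q, hQW hq⟩) ((hmA _).2 hq)
        rw [← map_mul, ← map_mul, QuotientGroup.mk'_eq_mk'] at h1
        obtain ⟨u, hu, huw⟩ := h1
        have h2 : q * (w : X) * u = w * q := congrArg Subtype.val huw
        rcases (hmZ u).1 hu with h | h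
        · left
          rw [h, mul_one] at h2
          rw [← h2, mul_inv_cancel_right]
        · right
          rw [h] at h2
          rw [← h2, mul_assoc q (w : X) z, zc (w : X), ← mul_assoc, mul_inv_cancel_right]
      · rintro _ ⟨x, hx, rfl⟩
        rw [mem_centralizer_iff]
        rintro _ ⟨y, hy, rfl⟩
        rw [← map_mul, ← map_mul, QuotientGroup.mk'_eq_mk']
        have hx' : (x : X) ∈ Q := hx
        have hy' : (y : X) ∈ Q := hy
        by_cases hxy : (x : X) * y = y * x
        · exact ⟨1, Z.one_mem, by rw [mul_one]; exact Subtype.ext hxy.symm⟩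
        · have h1 := s.comm_eq hx' hy' hxy zc zz
          refine ⟨⟨z, hzW⟩, (hmZ _).2 (Or.inr rfl), Subtype.ext ?_⟩
          show (y : X) * x * z = x * y
          have h2 : (y : X) * x = x * z * y := by rw [← h1]; group
          rw [h2, mul_assoc (x * z : X), zc (y : X)]
          calc (x : X) * z * (z * y) = x * (z * z) * y := by group
            _ = x * y := by rw [zz, mul_one]
    have hcls := Cfsg.Agent.S0112.result (p := 2) m hcard A hcA hcent
    obtain ⟨C, hCc, hCi⟩ := Cfsg.Agent.S0113.result m hm3 hcard hcls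
    set C' : Subgroup W := C.comap (QuotientGroup.mk' Z) with hC'
    have hC'i : C'.index = 2 := by
      rw [hC', index_comap_of_surjective _ (QuotientGroup.mk'_surjective Z), hCi]
    refine ⟨C'.map W.subtype, ?_, ?_, ?_⟩
    · rintro _ ⟨y, -, rfl⟩
      exact y.2
    · rw [relIndex, subgroupOf, comap_map_eq_self_of_injective W.subtype_injective, hC'i]
    · rintro _ ⟨x, hx, rfl⟩ hxx
      have hxx' : (x : X) * x = 1 := hxx
      by_contra hne
      push Not at hne
      have hne1 : (x : X) ≠ 1 := hne.1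
      have hnez : (x : X) ≠ z := hne.2
      -- an element of `Q ∩ C'` outside `⟨z⟩`
      obtain ⟨q, hqQ, hq1, hqz, hqC⟩ : ∃ q : W, (q : X) ∈ Q ∧ (q : X) ≠ 1 ∧ (q : X) ≠ z ∧ q ∈ C' := by
        obtain ⟨i, hi, hi1, hiz⟩ := s.exists_ne
        have hij := s.act i hi hi1 hiz
        have hjQ := s.aQ i hi
        set j := a * i * a⁻¹ with hj
        by_cases h1 : (⟨i, hQW hi⟩ : W) ∈ C'
        · exact ⟨_, hi, hi1, hiz, h1⟩
        by_cases h2 : (⟨j, hQW hjQ⟩ : W) ∈ C'
        · refine ⟨_, hjQ, ?_, ?_, h2⟩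
          · intro h
            apply hij
            have h' : j = 1 := h
            rw [h', mul_one, one_mul]
          · intro h
            apply hij
            have h' : j = z := h
            rw [h', zc i]
        · refine ⟨⟨i, hQW hi⟩ * ⟨j, hQW hjQ⟩, Q.mul_mem hi hjQ, ?_, ?_, ?_⟩
          · intro h
            apply hij
            have h' : i * j = 1 := h
            rw [mul_eq_one_iff_eq_inv] at h'
            rw [h', inv_mul_cancel, mul_inv_cancel]
          · intro h
            apply hij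
            have h' : i * j = z := h
            have h3 : i = z * j⁻¹ := by rw [← h']; group
            rw [h3, inv_mul_cancel_right, ← zc j⁻¹, mul_inv_cancel_left]
          · rw [mul_mem_iff_of_index_two hC'i]
            exact ⟨fun h => absurd h h1, fun h => absurd h h2⟩
      have hqq : (q : X) * q = z := s.sq _ hqQ hq1 hqz
      have huniq : ∀ u v : C, u * u = 1 → v * v = 1 → u ≠ 1 → v ≠ 1 → u = v := by
        intro u v hu hv hu1 hv1
        by_contra huv
        have := Fintype.ofFinite C
        have h1 := IsCyclic.card_pow_eq_one_le (α := C) (n := 2) (by norm_num)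
        have h2 : ({1, u, v} : Finset C) ⊆ Finset.univ.filter (fun a : C => a ^ 2 = 1) := by
          intro b hb
          simp only [Finset.mem_insert, Finset.mem_singleton] at hb
          rw [Finset.mem_filter]
          refine ⟨Finset.mem_univ _, ?_⟩
          rcases hb with rfl | rfl | rfl
          · rw [one_pow]
          · rw [pow_two, hu]
          · rw [pow_two, hv]
        have h3 := Finset.card_le_card h2
        rw [Finset.card_insert_of_notMem, Finset.card_insert_of_notMem, Finset.card_singleton] at h3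
        · omega
        · rw [Finset.mem_singleton]; exact huv
        · simp only [Finset.mem_insert, Finset.mem_singleton, not_or]
          exact ⟨fun h => hu1 h.symm, fun h => hv1 h.symm⟩
      have hne' : ∀ w : W, (w : X) ≠ 1 → (w : X) ≠ z → QuotientGroup.mk' Z w ≠ 1 := by
        intro w h1 h2 h3
        rw [← MonoidHom.mem_ker, QuotientGroup.ker_mk', hmZ] at h3
        exact h3.elim h1 h2
      have h1 := huniq ⟨QuotientGroup.mk' Z x, hx⟩ ⟨QuotientGroup.mk' Z q, hqC⟩ (Subtype.ext ?_)
        (Subtype.ext ?_) (fun h => hne' x hne1 hnez (congrArg Subtype.val h))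
        (fun h => hne' q hq1 hqz (congrArg Subtype.val h))
      · have h2 : QuotientGroup.mk' Z x = QuotientGroup.mk' Z q := congrArg Subtype.val h1
        rw [QuotientGroup.mk'_eq_mk'] at h2
        obtain ⟨u, hu, huq⟩ := h2
        have h3 : (q : X) = x * u := congrArg Subtype.val huq.symm
        have h4 : (q : X) * q = 1 := by
          rcases (hmZ u).1 hu with h | h
          · rw [h, mul_one] at h3
            rw [h3, hxx']
          · rw [h] at h3
            calc (q : X) * q = x * z * (x * z) := by rw [h3]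
              _ = x * (z * x) * z := by group
              _ = x * (x * z) * z := by rw [zc (x : X)]
              _ = (x * x) * (z * z) := by group
              _ = 1 := by rw [hxx', zz, one_mul]
        rw [hqq] at h4
        exact z1 h4
      · show QuotientGroup.mk' Z x * QuotientGroup.mk' Z x = 1
        rw [← map_mul, show x * x = 1 from Subtype.ext hxx', map_one]
      · show QuotientGroup.mk' Z q * QuotientGroup.mk' Z q = 1
        rw [← map_mul, ← MonoidHom.mem_ker, QuotientGroup.ker_mk', hmZ]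
        exact Or.inr hqq

end Cfsg.Agent.OddHalf.D6.QThree.NISide
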