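import Cfsg.Agent.OddHalf.D6.QThree.PlusOf
import Cfsg.Agent.OddHalf.D6.QThree.NISide

/-!
# ODD half, D6, `q = 3`: the facts on `K` for (NI) (helper135)

`Frame z i j k l a b`: `⟨i, j⟩ * ⟨k, l⟩ = Q₈ * Q₈` with centre `⟨z⟩`, `a` acts as `i → j → ij` on `⟨i, j⟩` and centralises
`⟨k, l⟩`, `b` acts as `k → l → kl` and centralises `⟨i, j⟩`.

`Frame.side₁`, `Frame.side₂`: `NISide.Side`; `of_plus`: from helper221's `Plus`, `Act`.
-/

set_option autoImplicit false

namespace Cfsg.Agent.OddHalf.D6.QThree.NIFacts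

open Cfsg.Agent.Co2Type.Quad Cfsg.Agent.LargeExtra.Model Cfsg.Agent.LargeExtra.Pres
open Cfsg.Agent.LargeExtra.Models Cfsg.Agent.LargeExtra.W2
open Cfsg.Agent.LargeExtra.W2.PlusHom (M mi mj mk ml rP4 gens tri_P4 endo)
open Cfsg.Agent.OddHalf.D6.QThree.PlusOf
open Cfsg.Agent.OddHalf.D6.QThree.NISide

/-! ### the model -/

def A₁ : Subgroup M where
  carrier := {m | m.v.1 < 4}
  one_mem' := by decide
  mul_mem' := by
    have h : ∀ x y : M, x.v.1 < 4 → y.v.1 < 4 → (x * y).v.1 < 4 := by decide +kernel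
    intro x y hx hy
    exact h x y hx hy
  inv_mem' := by
    have h : ∀ x : M, x.v.1 < 4 → (x⁻¹).v.1 < 4 := by decide +kernel
    intro x hx
    exact h x hx

def A₂ : Subgroup M where
  carrier := {m | m.v.1 % 4 = 0}
  one_mem' := by decide
  mul_mem' := by
    have h : ∀ x y : M, x.v.1 % 4 = 0 → y.v.1 % 4 = 0 → (x * y).v.1 % 4 = 0 := by decide +kernel
    intro x y hx hy
    exact h x y hx hy
  inv_mem' := by
    have h : ∀ x : M, x.v.1 % 4 = 0 → (x⁻¹).v.1 % 4 = 0 := by decide +kernel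
    intro x hx
    exact h x hx

instance : DecidablePred (· ∈ A₁) := fun m => inferInstanceAs (Decidable (m.v.1 < 4))
instance : DecidablePred (· ∈ A₂) := fun m => inferInstanceAs (Decidable (m.v.1 % 4 = 0))

theorem card_A₁ : Nat.card A₁ = 8 := by
  rw [Nat.card_eq_fintype_card]
  decide +kernel

theorem card_A₂ : Nat.card A₂ = 8 := by
  rw [Nat.card_eq_fintype_card]
  decide +kernel

theorem good_a : Good rP4 4 (gens mj (mi * mj) mk ml) := by decide +kernel
theorem good_b : Good rP4 4 (gens mi mj ml (mk * ml)) := by decide +kernel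

abbrev ea : M →* M := endo mj (mi * mj) mk ml good_a
abbrev eb : M →* M := endo mi mj ml (mk * ml) good_b

theorem zz_mem₁ : (zz : M) ∈ A₁ := by
  show (zz : M).v.1 < 4
  decide
theorem zz_mem₂ : (zz : M) ∈ A₂ := by
  show (zz : M).v.1 % 4 = 0
  decide
theorem ea_mem : ∀ m : M, m ∈ A₁ → ea m ∈ A₁ := by decide +kernel
theorem ea_eq : ∀ m : M, m ∈ A₂ → ea m = m := by decide +kernel
theorem eb_mem : ∀ m : M, m ∈ A₂ → eb m ∈ A₂ := by decide +kernel
theorem eb_eq : ∀ m : M, m ∈ A₁ → eb m = m := by decide +kernel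
theorem sq₁ : ∀ m : M, m ∈ A₁ → m ≠ 1 → m ≠ zz → m * m = zz := by decide +kernel
theorem sq₂ : ∀ m : M, m ∈ A₂ → m ≠ 1 → m ≠ zz → m * m = zz := by decide +kernel
theorem act₁ : ∀ m : M, m ∈ A₁ → m ≠ 1 → m ≠ zz → m * ea m ≠ ea m * m := by decide +kernel
theorem act₂ : ∀ m : M, m ∈ A₂ → m ≠ 1 → m ≠ zz → m * eb m ≠ eb m * m := by decide +kernel
theorem comm_A : ∀ m n : M, m ∈ A₁ → n ∈ A₂ → m * n = n * m := by decide +kernel
theorem mul_A : ∀ m : M, ∃ x y : M, x ∈ A₁ ∧ y ∈ A₂ ∧ m = x * y := by decide +kernel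
/-- an element with square `zz` lies in one factor -/
theorem sq_A : ∀ m : M, m * m = zz → m ∈ A₁ ∨ m ∈ A₂ := by decide +kernel

/-! ### frames -/

variable {G : Type*} [Group G]

structure Frame (z i j k l a b : G) : Prop extends QRel z i j k l where
  act_a : Act z i j k l a j (i * j) k l
  act_b : Act z i j k l b i j l (k * l)

/-- the facts on `K` -/
def Prod (z : G) (R : Subgroup G) : Prop :=
  ∃ i j k l a b : G, Frame z i j k l a b ∧ R = Subgroup.closure {i, j, k, l}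

theorem of_plus {Q : Subgroup G} {z i j k l a b : G} (h : Plus Q z i j k l)
    (ha : Act z i j k l a j (i * j) k l) (hb : Act z i j k l b i j l (k * l)) : Prod z Q := by
  refine ⟨i, j, k, l, a, b, ⟨⟨h.large.z_sq, h.large.z_ne, ?_, ?_, ?_, ?_, h.ii, h.jj, h.kk, h.ll, h.ji, h.lk,
    h.ki, h.li, h.kj, h.lj⟩, ha, hb⟩, h.gen⟩
  · rw [← h.ii, mul_assoc]
  · rw [← h.jj, mul_assoc]
  · rw [← h.kk, mul_assoc]
  · rw [← h.ll, mul_assoc]

theorem Frame.map {H : Type*} [Group H] (f : G →* H) (hf : Function.Injective f) {z i j k l a b : G}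
    (h : Frame z i j k l a b) : Frame (f z) (f i) (f j) (f k) (f l) (f a) (f b) where
  zz := by rw [← map_mul, h.zz, map_one]
  z1 := fun e => h.z1 (hf (by rw [e, map_one]))
  iz := by rw [← map_mul, h.iz, map_mul]
  jz := by rw [← map_mul, h.jz, map_mul]
  kz := by rw [← map_mul, h.kz, map_mul]
  lz := by rw [← map_mul, h.lz, map_mul]
  ii := by rw [← map_mul, h.ii]
  jj := by rw [← map_mul, h.jj]
  kk := by rw [← map_mul, h.kk]
  ll := by rw [← map_mul, h.ll]
  ji := by rw [← map_mul, h.ji, map_mul, map_mul]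
  lk := by rw [← map_mul, h.lk, map_mul, map_mul]
  ki := by rw [← map_mul, h.ki, map_mul]
  li := by rw [← map_mul, h.li, map_mul]
  kj := by rw [← map_mul, h.kj, map_mul]
  lj := by rw [← map_mul, h.lj, map_mul]
  act_a :=
    { z := by rw [← map_inv, ← map_mul, ← map_mul, h.act_a.z]
      i := by rw [← map_inv, ← map_mul, ← map_mul, h.act_a.i]
      j := by rw [← map_inv, ← map_mul, ← map_mul, h.act_a.j, map_mul]
      k := by rw [← map_inv, ← map_mul, ← map_mul, h.act_a.k]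
      l := by rw [← map_inv, ← map_mul, ← map_mul, h.act_a.l] }
  act_b :=
    { z := by rw [← map_inv, ← map_mul, ← map_mul, h.act_b.z]
      i := by rw [← map_inv, ← map_mul, ← map_mul, h.act_b.i]
      j := by rw [← map_inv, ← map_mul, ← map_mul, h.act_b.j]
      k := by rw [← map_inv, ← map_mul, ← map_mul, h.act_b.k]
      l := by rw [← map_inv, ← map_mul, ← map_mul, h.act_b.l, map_mul] }

theorem Prod.map {H : Type*} [Group H] (f : G →* H) (hf : Function.Injective f) {z : G} {R : Subgroup G}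
    (h : Prod z R) : Prod (f z) (R.map f) := by
  obtain ⟨i, j, k, l, a, b, hF, rfl⟩ := h
  refine ⟨f i, f j, f k, f l, f a, f b, hF.map f hf, ?_⟩
  rw [MonoidHom.map_closure]
  congr 1
  simp [Set.image_insert_eq]

/-- the two factors of `R` are conjugate in `C_K(z)` (`PSp₄(3)`, `L₄(3)`, `U₄(3)`), or all the involutions of `K` are
conjugate and `z` is the only involution of `C_K(z)` which centralises a factor of `R` (`G₂(3)`) -/
def NN (z i j k l : G) : Prop :=
  (∃ s, s * z = z * s ∧ s * i * s⁻¹ = k) ∨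
  ((∀ p : G, p * p = 1 → p ≠ 1 → ∃ g, g * z * g⁻¹ = p) ∧
    (∀ u, u * z = z * u → u * u = 1 → u * i = i * u → u * j = j * u → u = 1 ∨ u = z) ∧
    ∀ u, u * z = z * u → u * u = 1 → u * k = k * u → u * l = l * u → u = 1 ∨ u = z)

/-- **the facts on `K`** -/
def Full (z : G) (R : Subgroup G) : Prop :=
  ∃ i j k l a b : G, Frame z i j k l a b ∧ R = Subgroup.closure {i, j, k, l} ∧ NN z i j k l

theorem Full.map {H : Type*} [Group H] (f : G ≃* H) {z : G} {R : Subgroup G} (h : Full z R) :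
    Full (f z) (R.map f.toMonoidHom) := by
  obtain ⟨i, j, k, l, a, b, hF, rfl, hN⟩ := h
  refine ⟨f i, f j, f k, f l, f a, f b, hF.map f.toMonoidHom f.injective, ?_, ?_⟩
  · rw [MonoidHom.map_closure]
    congr 1
    simp [Set.image_insert_eq]
  · have back : ∀ (P : H → Prop), (∀ x : G, P (f x)) → ∀ y, P y := fun P hP y => by
      obtain ⟨x, rfl⟩ := f.surjective y
      exact hP x
    have eq1 : ∀ x y : G, f x = f y ↔ x = y := fun x y => f.injective.eq_iff
    have eq2 : ∀ x : G, f x = 1 ↔ x = 1 := fun x => by rw [← map_one f, eq1]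
    rcases hN with ⟨s, hs, hi⟩ | ⟨h1, h2, h3⟩
    · left
      exact ⟨f s, by rw [← map_mul, hs, map_mul], by rw [← map_inv, ← map_mul, ← map_mul, hi]⟩
    · right
      refine ⟨back _ fun p hp hp1 => ?_, back _ fun u => ?_, back _ fun u => ?_⟩
      · rw [← map_mul, eq2] at hp
        obtain ⟨g, hg⟩ := h1 p hp (fun e => hp1 (by rw [e, map_one]))
        exact ⟨f g, by rw [← map_inv, ← map_mul, ← map_mul, hg]⟩
      · simp only [← map_mul, eq1, eq2]
        exact h2 u
      · simp only [← map_mul, eq1, eq2]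
        exact h3 u

namespace Frame

variable {z i j k l a b t : G}

/-- the two quaternion subgroups -/
def Q₁ (h : Frame z i j k l a b) : Subgroup G := A₁.map (hom h.toQRel)
def Q₂ (h : Frame z i j k l a b) : Subgroup G := A₂.map (hom h.toQRel)

theorem conj_a (h : Frame z i j k l a b) (m : M) : a * hom h.toQRel m * a⁻¹ = hom h.toQRel (ea m) := by
  have key : (MulAut.conj a).toMonoidHom.comp (hom h.toQRel) = (hom h.toQRel).comp ea := by
    apply hom_ext
    · show a * hom h.toQRel zz * a⁻¹ = hom h.toQRel (ea zz)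
      rw [PlusHom.endo_zz, hom_zz, h.act_a.z]
    · intro n
      show a * hom h.toQRel (q rP4 4 n) * a⁻¹ = hom h.toQRel (ea (q rP4 4 n))
      have e1 : ea (q rP4 4 n) = gens mj (mi * mj) PlusHom.mk ml n.1 := lift_q _ _ n
      rw [e1]
      fin_cases n
      · show a * hom h.toQRel mi * a⁻¹ = hom h.toQRel mj
        rw [hom_i, hom_j, h.act_a.i]
      · show a * hom h.toQRel mj * a⁻¹ = hom h.toQRel (mi * mj)
        rw [map_mul, hom_i, hom_j, h.act_a.j]
      · show a * hom h.toQRel PlusHom.mk * a⁻¹ = hom h.toQRel PlusHom.mk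
        rw [hom_k, h.act_a.k]
      · show a * hom h.toQRel ml * a⁻¹ = hom h.toQRel ml
        rw [hom_l, h.act_a.l]
  exact DFunLike.congr_fun key m

theorem conj_b (h : Frame z i j k l a b) (m : M) : b * hom h.toQRel m * b⁻¹ = hom h.toQRel (eb m) := by
  have key : (MulAut.conj b).toMonoidHom.comp (hom h.toQRel) = (hom h.toQRel).comp eb := by
    apply hom_ext
    · show b * hom h.toQRel zz * b⁻¹ = hom h.toQRel (eb zz)
      rw [PlusHom.endo_zz, hom_zz, h.act_b.z]
    · intro n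
      show b * hom h.toQRel (q rP4 4 n) * b⁻¹ = hom h.toQRel (eb (q rP4 4 n))
      have e1 : eb (q rP4 4 n) = gens mi mj ml (PlusHom.mk * ml) n.1 := lift_q _ _ n
      rw [e1]
      fin_cases n
      · show b * hom h.toQRel mi * b⁻¹ = hom h.toQRel mi
        rw [hom_i, h.act_b.i]
      · show b * hom h.toQRel mj * b⁻¹ = hom h.toQRel mj
        rw [hom_j, h.act_b.j]
      · show b * hom h.toQRel PlusHom.mk * b⁻¹ = hom h.toQRel ml
        rw [hom_k, hom_l, h.act_b.k]
      · show b * hom h.toQRel ml * b⁻¹ = hom h.toQRel (PlusHom.mk * ml)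
        rw [map_mul, hom_k, hom_l, h.act_b.l]
  exact DFunLike.congr_fun key m

theorem comm_of (h : Frame z i j k l a b) {t : G} (hi : i * t = t * i) (hj : j * t = t * j) (hk : k * t = t * k)
    (hl : l * t = t * l) (m : M) : hom h.toQRel m * t = t * hom h.toQRel m := by
  have h1 : hom h.toQRel m ∈ Subgroup.closure {i, j, k, l} := by
    rw [← hom_range h.toQRel]; exact ⟨m, rfl⟩
  have h2 : Subgroup.closure {i, j, k, l} ≤ Subgroup.centralizer ({t} : Set G) := by
    rw [Subgroup.closure_le]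
    intro x hx
    have hx' : x = i ∨ x = j ∨ x = k ∨ x = l := by simpa using hx
    rw [SetLike.mem_coe, Subgroup.mem_centralizer_singleton_iff]
    rcases hx' with rfl | rfl | rfl | rfl
    exacts [hi, hj, hk, hl]
  exact Subgroup.mem_centralizer_singleton_iff.1 (h2 h1)

theorem side₁ (h : Frame z i j k l a b) (hi : i * t = t * i) (hj : j * t = t * j) (hk : k * t = t * k)
    (hl : l * t = t * l) (ha : a * t = t * a) : Side z t a h.Q₁ h.Q₂ where
  card := by
    rw [Q₁, ← card_A₁]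
    exact Nat.card_congr (A₁.equivMapOfInjective _ (hom_injective h.toQRel)).toEquiv.symm
  zQ := ⟨zz, zz_mem₁, hom_zz _⟩
  sq := by
    rintro _ ⟨m, hm, rfl⟩ h1 h2
    rw [← map_mul, sq₁ m hm (fun e => h1 (by rw [e, map_one])) (fun e => h2 (by rw [e, hom_zz])), hom_zz]
  ct := by
    rintro _ ⟨m, -, rfl⟩
    exact h.comm_of hi hj hk hl m
  a_t := ha
  aQ := by
    rintro _ ⟨m, hm, rfl⟩
    rw [h.conj_a]; exact ⟨_, ea_mem m hm, rfl⟩
  aD := by
    rintro _ ⟨m, hm, rfl⟩
    have h1 := h.conj_a m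
    rw [ea_eq m hm] at h1
    exact mul_inv_eq_iff_eq_mul.1 h1
  act := by
    rintro _ ⟨m, hm, rfl⟩ h1 h2 e
    rw [h.conj_a, ← map_mul, ← map_mul] at e
    exact act₁ m hm (fun e => h1 (by rw [e, map_one])) (fun e => h2 (by rw [e, hom_zz]))
      (hom_injective h.toQRel e)

theorem side₂ (h : Frame z i j k l a b) (hi : i * t = t * i) (hj : j * t = t * j) (hk : k * t = t * k)
    (hl : l * t = t * l) (hb : b * t = t * b) : Side z t b h.Q₂ h.Q₁ where
  card := by
    rw [Q₂, ← card_A₂]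
    exact Nat.card_congr (A₂.equivMapOfInjective _ (hom_injective h.toQRel)).toEquiv.symm
  zQ := ⟨zz, zz_mem₂, hom_zz _⟩
  sq := by
    rintro _ ⟨m, hm, rfl⟩ h1 h2
    rw [← map_mul, sq₂ m hm (fun e => h1 (by rw [e, map_one])) (fun e => h2 (by rw [e, hom_zz])), hom_zz]
  ct := by
    rintro _ ⟨m, -, rfl⟩
    exact h.comm_of hi hj hk hl m
  a_t := hb
  aQ := by
    rintro _ ⟨m, hm, rfl⟩
    rw [h.conj_b]; exact ⟨_, eb_mem m hm, rfl⟩
  aD := by
    rintro _ ⟨m, hm, rfl⟩
    have h1 := h.conj_b m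
    rw [eb_eq m hm] at h1
    exact mul_inv_eq_iff_eq_mul.1 h1
  act := by
    rintro _ ⟨m, hm, rfl⟩ h1 h2 e
    rw [h.conj_b, ← map_mul, ← map_mul] at e
    exact act₂ m hm (fun e => h1 (by rw [e, map_one])) (fun e => h2 (by rw [e, hom_zz]))
      (hom_injective h.toQRel e)

theorem comm (h : Frame z i j k l a b) : ∀ x ∈ h.Q₁, ∀ y ∈ h.Q₂, x * y = y * x := by
  rintro _ ⟨m, hm, rfl⟩ _ ⟨n, hn, rfl⟩
  rw [← map_mul, ← map_mul, comm_A m n hm hn]

theorem exists_mul (h : Frame z i j k l a b) {r : G} (hr : r ∈ Subgroup.closure {i, j, k, l}) :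
    ∃ x ∈ h.Q₁, ∃ y ∈ h.Q₂, r = x * y := by
  rw [← hom_range h.toQRel] at hr
  obtain ⟨m, rfl⟩ := hr
  obtain ⟨x, y, hx, hy, e⟩ := mul_A m
  exact ⟨_, ⟨x, hx, rfl⟩, _, ⟨y, hy, rfl⟩, by rw [e, map_mul]⟩

theorem le₁ (h : Frame z i j k l a b) : h.Q₁ ≤ Subgroup.closure {i, j, k, l} := by
  rw [← hom_range h.toQRel]
  rintro _ ⟨m, -, rfl⟩
  exact ⟨m, rfl⟩

theorem le₂ (h : Frame z i j k l a b) : h.Q₂ ≤ Subgroup.closure {i, j, k, l} := by
  rw [← hom_range h.toQRel]
  rintro _ ⟨m, -, rfl⟩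
  exact ⟨m, rfl⟩

/-- a subgroup containing `i`, `j` contains the first factor -/
theorem Q₁_le (h : Frame z i j k l a b) {H : Subgroup G} (hi : i ∈ H) (hj : j ∈ H) : h.Q₁ ≤ H := by
  have h1 : A₁ ≤ Subgroup.closure {mi, mj} := by
    have h2 : ∀ m : M, m ∈ A₁ → m = 1 ∨ m = mi * mi ∨ m = mi ∨ m = mi * (mi * mi) ∨ m = mj ∨
      m = mj * (mi * mi) ∨ m = mi * mj ∨ m = mi * mj * (mi * mi) := by decide +kernel
    have e1 : mi ∈ Subgroup.closure {mi, mj} := Subgroup.subset_closure (by simp)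
    have e2 : mj ∈ Subgroup.closure {mi, mj} := Subgroup.subset_closure (by simp)
    intro m hm
    rcases h2 m hm with e | e | e | e | e | e | e | e <;> rw [e]
    exacts [one_mem _, mul_mem e1 e1, e1, mul_mem e1 (mul_mem e1 e1), e2, mul_mem e2 (mul_mem e1 e1),
      mul_mem e1 e2, mul_mem (mul_mem e1 e2) (mul_mem e1 e1)]
  rw [Q₁]
  refine (Subgroup.map_mono h1).trans ?_
  rw [MonoidHom.map_closure, Subgroup.closure_le]
  rintro _ ⟨x, hx, rfl⟩
  have hx' : x = mi ∨ x = mj := by simpa using hx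
  rcases hx' with rfl | rfl
  · rw [hom_i]; exact hi
  · rw [hom_j]; exact hj

theorem Q₂_le (h : Frame z i j k l a b) {H : Subgroup G} (hk : k ∈ H) (hl : l ∈ H) : h.Q₂ ≤ H := by
  have h1 : A₂ ≤ Subgroup.closure {PlusHom.mk, ml} := by
    have h2 : ∀ m : M, m ∈ A₂ → m = 1 ∨ m = PlusHom.mk * PlusHom.mk ∨ m = PlusHom.mk ∨
      m = PlusHom.mk * (PlusHom.mk * PlusHom.mk) ∨ m = ml ∨ m = ml * (PlusHom.mk * PlusHom.mk) ∨
      m = PlusHom.mk * ml ∨ m = PlusHom.mk * ml * (PlusHom.mk * PlusHom.mk) := by decide +kernel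
    have e1 : PlusHom.mk ∈ Subgroup.closure {PlusHom.mk, ml} := Subgroup.subset_closure (by simp)
    have e2 : ml ∈ Subgroup.closure {PlusHom.mk, ml} := Subgroup.subset_closure (by simp)
    intro m hm
    rcases h2 m hm with e | e | e | e | e | e | e | e <;> rw [e]
    exacts [one_mem _, mul_mem e1 e1, e1, mul_mem e1 (mul_mem e1 e1), e2, mul_mem e2 (mul_mem e1 e1),
      mul_mem e1 e2, mul_mem (mul_mem e1 e2) (mul_mem e1 e1)]
  rw [Q₂]
  refine (Subgroup.map_mono h1).trans ?_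
  rw [MonoidHom.map_closure, Subgroup.closure_le]
  rintro _ ⟨x, hx, rfl⟩
  have hx' : x = PlusHom.mk ∨ x = ml := by simpa using hx
  rcases hx' with rfl | rfl
  · rw [hom_k]; exact hk
  · rw [hom_l]; exact hl

theorem mem_i₁ (h : Frame z i j k l a b) : i ∈ h.Q₁ := ⟨mi, by show mi.v.1 < 4; decide, hom_i _⟩
theorem mem_j₁ (h : Frame z i j k l a b) : j ∈ h.Q₁ := ⟨mj, by show mj.v.1 < 4; decide, hom_j _⟩
theorem mem_k₂ (h : Frame z i j k l a b) : k ∈ h.Q₂ := ⟨PlusHom.mk, by show (PlusHom.mk).v.1 % 4 = 0; decide, hom_k _⟩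
theorem mem_l₂ (h : Frame z i j k l a b) : l ∈ h.Q₂ := ⟨ml, by show ml.v.1 % 4 = 0; decide, hom_l _⟩

theorem Q₁_eq (h : Frame z i j k l a b) : h.Q₁ = Subgroup.closure {i, j} := by
  apply le_antisymm
  · exact h.Q₁_le (Subgroup.subset_closure (by simp)) (Subgroup.subset_closure (by simp))
  · rw [Subgroup.closure_le]
    intro x hx
    have hx' : x = i ∨ x = j := by simpa using hx
    rcases hx' with rfl | rfl
    exacts [h.mem_i₁, h.mem_j₁]

theorem Q₂_eq (h : Frame z i j k l a b) : h.Q₂ = Subgroup.closure {k, l} := by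
  apply le_antisymm
  · exact h.Q₂_le (Subgroup.subset_closure (by simp)) (Subgroup.subset_closure (by simp))
  · rw [Subgroup.closure_le]
    intro x hx
    have hx' : x = k ∨ x = l := by simpa using hx
    rcases hx' with rfl | rfl
    exacts [h.mem_k₂, h.mem_l₂]

/-- an element of `R` with square `z` lies in one of the two factors -/
theorem mem_or (h : Frame z i j k l a b) {r : G} (hr : r ∈ Subgroup.closure {i, j, k, l}) (hrr : r * r = z) :
    r ∈ h.Q₁ ∨ r ∈ h.Q₂ := by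
  rw [← hom_range h.toQRel] at hr
  obtain ⟨m, rfl⟩ := hr
  rw [← map_mul] at hrr
  rcases sq_A m (hom_injective h.toQRel (hrr.trans (hom_zz h.toQRel).symm)) with h1 | h1
  · exact Or.inl ⟨m, h1, rfl⟩
  · exact Or.inr ⟨m, h1, rfl⟩

end Frame

end Cfsg.Agent.OddHalf.D6.QThree.NIFacts
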