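import Cfsg.Agent.OddHalf.D6.QThree.Facts
import Cfsg.Agent.OddHalf.D6.QThree.NIFacts

/-!
# ODD half, D6, `q = 3`, `K = U₄(3)`, `L₄(3)` with an outer part: the facts on `Aut(K)` and the output of the front
(helper948; texts: helper801 #12978, #14694, helper577 #13013)

`FrontK z R i j k l a b`: the facts on `K` and on `B̄ = C_{Aut K}(R)`.
`Out K t z`: the output of the front end: `|Q| = 2`, `t^s = tz`, `t ∈ C(z)'`.
-/

set_option autoImplicit false

namespace Cfsg.Agent.OddHalf.D6.QThree.FrontB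

open Subgroup

/-- `α` is `1` or conjugation by `z` -/
def Z2 {K : Type*} [Group K] (z : K) (α : MulAut K) : Prop := α = 1 ∨ α = MulAut.conj z

/-- `α ∈ B̄ = C_{Aut K}(R)` -/
def BA {K : Type*} [Group K] (R : Subgroup K) (α : MulAut K) : Prop := ∀ r ∈ R, α r = r

/-- the facts on `K`; `P = C_K(z)`, `R = O₂(P) = ⟨i, j⟩ * ⟨k, l⟩`, `D = O²(P) = ⟨i, j, k, l, a, b⟩` -/
structure FrontK {K : Type*} [Group K] (z : K) (R : Subgroup K) (i j k l a b : K) : Prop
    extends Facts.Base z R where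
  fr : NIFacts.Frame z i j k l a b
  gR : R = closure {i, j, k, l}
  /-- the elements of odd order of `P` -/
  od : ∀ x, x * z = z * x → Odd (orderOf x) → x ∈ closure {i, j, k, l, a, b}
  /-- the two factors are conjugate in `P` -/
  sw : ∃ p, p * z = z * p ∧ p * i * p⁻¹ = k
  /-- `Out(K)` is a 2-group -/
  out : ∀ α : MulAut K, ∃ n : ℕ, α ^ 2 ^ n ∈ (MulAut.conj : K →* MulAut K).range
  /-- `|B̄| ≤ 8` -/
  card : Nat.card {α : MulAut K // BA R α} ≤ 8
  /-- `B̄ / ⟨z⟩` has exponent two -/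
  sq : ∀ α : MulAut K, BA R α → Z2 z (α * α)
  /-- the elements of `B̄` with square `z` lie in one coset of `⟨z⟩` -/
  uq : ∀ α β : MulAut K, BA R α → BA R β → α * α = MulAut.conj z → β * β = MulAut.conj z → Z2 z (α⁻¹ * β)
  /-- commuting elements of `B̄` lie in one `⟨z, α⟩` -/
  cc : ∀ α β : MulAut K, BA R α → BA R β → α * β = β * α → Z2 z α ∨ Z2 z β ∨ Z2 z (α⁻¹ * β)

/-- **the output of the front end** -/
structure Out {G : Type*} [Group G] (K : Subgroup G) (t z : G) : Prop where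
  tt : t * t = 1
  t1 : t ≠ 1
  Kt : ∀ x ∈ K, x * t = t * x
  nK : ∀ g, g * t = t * g → g ∈ normalizer (K : Set G)
  /-- `C(K) ∩ C(t) = ⟨t⟩` -/
  cK : ∀ c, c * t = t * c → (∀ x ∈ K, x * c = c * x) → c = 1 ∨ c = t
  tK : t ∉ K
  zK : z ∈ K
  nc : ∀ g, g * t * g⁻¹ ≠ z
  sw : ∃ s, s * t * s⁻¹ = t * z ∧ s * z * s⁻¹ = z
  tH : (⟨t, mem_centralizer_singleton_iff.2 (Kt z zK).symm⟩ : centralizer ({z} : Set G)) ∈
    _root_.commutator (centralizer ({z} : Set G))

end Cfsg.Agent.OddHalf.D6.QThree.FrontB
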