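import Cfsg.Agent.OddHalf.D6.QThree.RefOf
import Cfsg.Agent.OddHalf.D6.QThree.FrontK
import Cfsg.Agent.OddHalf.D6.QThree.NIB.RefOf

/-!
# ODD half, D6, `q = 3`: the position of a reflection, from the facts on `K = L₄(3)`, `U₄(3)` (helper577)

`fixO α`: the subgroup generated by the elements of odd order fixed by `α`. `Rf z R`: for the involutions `α` of
`B̄ = C_{Aut K}(R)` outside `⟨z⟩`, `fixO α ≅ PSp₄(3)`. `KH`: the common part of `FrontK`, `FrontT`.

`data`: `RefOf.Data t z c D R L F` for an involution `c` of `C(t) ∩ C(R)` inducing an element of `B̄ - ⟨z⟩` on `K`.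
`refD`: helper948's `NIB.RefD`.
-/

set_option autoImplicit false

namespace Cfsg.Agent.OddHalf.D6.QThree.RefData

open Subgroup Cfsg
open Cfsg.Agent.OddHalf.Iface
open Cfsg.Agent.OddHalf.D6.QThree.FrontB (BA Z2)
open Cfsg.Agent.OddHalf.D6.QThree.Pump (SpOrd)

/-- the subgroup generated by the elements of odd order fixed by `α` -/
def fixO {K : Type*} [Group K] (α : MulAut K) : Subgroup K := closure {x : K | α x = x ∧ Odd (orderOf x)}

/-- an involution of `B̄` outside `⟨z⟩` centralises a subgroup `PSp₄(3)` -/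
def Rf {K : Type*} [Group K] (z : K) (R : Subgroup K) : Prop :=
  ∀ α : MulAut K, BA R α → α * α = 1 → ¬ Z2 z α →
    ∃ (F : Type) (_ : Field F) (_ : Fintype F), Fintype.card F = 3 ∧ Nonempty (↥(fixO α) ≃* PSp 2 F)

theorem fix_of_mem {K : Type*} [Group K] {α : MulAut K} {x : K} (hx : x ∈ fixO α) : α x = x := by
  have h1 : fixO α ≤ (MulEquiv.toMonoidHom α).eqLocus (MonoidHom.id K) :=
    (closure_le _).2 fun y hy => hy.1
  exact h1 hx

/-- the facts on `K` -/
structure KH {K : Type*} [Group K] (z : K) (R : Subgroup K) (i j k l a b : K) : Prop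
    extends Facts.Base z R where
  fr : NIFacts.Frame z i j k l a b
  gR : R = closure {i, j, k, l}
  /-- the elements of odd order of `P` -/
  od : ∀ x, x * z = z * x → Odd (orderOf x) → x ∈ closure {i, j, k, l, a, b}
  oa : Odd (orderOf a)
  ob : Odd (orderOf b)

theorem KH.of_K {K : Type*} [Group K] {z : K} {R : Subgroup K} {i j k l a b : K} (f : FrontB.FrontK z R i j k l a b)
    (oa : Odd (orderOf a)) (ob : Odd (orderOf b)) : KH z R i j k l a b :=
  { f.toBase with
    fr := f.fr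
    gR := f.gR
    od := f.od
    oa := oa
    ob := ob }

/-- `D = ⟨i, j, k, l, a, b⟩` -/
abbrev DD {K : Type*} [Group K] (i j k l a b : K) : Subgroup K := closure {i, j, k, l, a, b}

namespace KH

variable {K : Type*} [Group K] {z : K} {R : Subgroup K} {i j k l a b : K}

theorem iR (h : KH z R i j k l a b) : i ∈ R := by rw [h.gR]; exact subset_closure (by simp)
theorem jR (h : KH z R i j k l a b) : j ∈ R := by rw [h.gR]; exact subset_closure (by simp)
theorem kR (h : KH z R i j k l a b) : k ∈ R := by rw [h.gR]; exact subset_closure (by simp)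
theorem lR (h : KH z R i j k l a b) : l ∈ R := by rw [h.gR]; exact subset_closure (by simp)

theorem az (h : KH z R i j k l a b) : a * z = z * a := mul_inv_eq_iff_eq_mul.1 h.fr.act_a.z
theorem bz (h : KH z R i j k l a b) : b * z = z * b := mul_inv_eq_iff_eq_mul.1 h.fr.act_b.z

theorem Dz (h : KH z R i j k l a b) : ∀ d ∈ DD i j k l a b, d * z = z * d := by
  have h1 : DD i j k l a b ≤ centralizer ({z} : Set K) := by
    rw [closure_le]
    intro x hx
    rw [SetLike.mem_coe, mem_centralizer_singleton_iff]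
    rcases hx with rfl | rfl | rfl | rfl | rfl | rfl
    exacts [h.RP _ h.iR, h.RP _ h.jR, h.RP _ h.kR, h.RP _ h.lR, h.az, h.bz]
  exact fun d hd => mem_centralizer_singleton_iff.1 (h1 hd)

/-- `D` is generated by its elements of odd order -/
theorem gen (h : KH z R i j k l a b) :
    DD i j k l a b ≤ closure {x | x ∈ DD i j k l a b ∧ Odd (orderOf x)} := by
  set O : Subgroup K := closure {x | x ∈ DD i j k l a b ∧ Odd (orderOf x)} with hO
  have hD : ∀ x ∈ ({i, j, k, l, a, b} : Set K), x ∈ DD i j k l a b := fun x hx => subset_closure hx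
  have ha : a ∈ O := subset_closure ⟨hD a (by simp), h.oa⟩
  have hb : b ∈ O := subset_closure ⟨hD b (by simp), h.ob⟩
  have cj : ∀ x ∈ DD i j k l a b, ∀ y ∈ DD i j k l a b, Odd (orderOf y) → x * y * x⁻¹ ∈ O := by
    intro x hx y hy ho
    refine subset_closure ⟨mul_mem (mul_mem hx hy) (inv_mem hx), ?_⟩
    rw [show orderOf (x * y * x⁻¹) = orderOf y from
      orderOf_injective (MulAut.conj x).toMonoidHom (MulAut.conj x).injective y]
    exact ho
  have key : ∀ x y : K, x ∈ DD i j k l a b → y ∈ DD i j k l a b → Odd (orderOf y) → y ∈ O →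
      y * x * y⁻¹ * x⁻¹ ∈ O := by
    intro x y hx hy ho hyO
    have h1 := cj x hx y⁻¹ (inv_mem hy) (by rwa [orderOf_inv])
    have e : y * x * y⁻¹ * x⁻¹ = y * (x * y⁻¹ * x⁻¹) := by group
    rw [e]; exact mul_mem hyO h1
  have hi : i ∈ O := by
    have h1 := key i a (hD i (by simp)) (hD a (by simp)) h.oa ha
    rw [h.fr.act_a.i] at h1
    have h2 : a * (j * i⁻¹) * a⁻¹ ∈ O := mul_mem (mul_mem ha h1) (inv_mem ha)
    have e : a * (j * i⁻¹) * a⁻¹ = i := by
      calc a * (j * i⁻¹) * a⁻¹ = (a * j * a⁻¹) * (a * i * a⁻¹)⁻¹ := by group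
        _ = i := by rw [h.fr.act_a.i, h.fr.act_a.j]; group
    rwa [e] at h2
  have hj : j ∈ O := by
    have h1 := mul_mem (mul_mem ha hi) (inv_mem ha)
    rwa [h.fr.act_a.i] at h1
  have hk : k ∈ O := by
    have h1 := key k b (hD k (by simp)) (hD b (by simp)) h.ob hb
    rw [h.fr.act_b.k] at h1
    have h2 : b * (l * k⁻¹) * b⁻¹ ∈ O := mul_mem (mul_mem hb h1) (inv_mem hb)
    have e : b * (l * k⁻¹) * b⁻¹ = k := by
      calc b * (l * k⁻¹) * b⁻¹ = (b * l * b⁻¹) * (b * k * b⁻¹)⁻¹ := by group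
        _ = k := by rw [h.fr.act_b.k, h.fr.act_b.l]; group
    rwa [e] at h2
  have hl : l ∈ O := by
    have h1 := mul_mem (mul_mem hb hk) (inv_mem hb)
    rwa [h.fr.act_b.k] at h1
  rw [closure_le]
  intro x hx
  rcases hx with rfl | rfl | rfl | rfl | rfl | rfl
  exacts [hi, hj, hk, hl, ha, hb]

theorem RD (h : KH z R i j k l a b) : R ≤ DD i j k l a b := by
  rw [h.gR]
  apply Subgroup.closure_mono
  intro x hx
  rcases hx with rfl | rfl | rfl | rfl <;> simp

theorem zD (h : KH z R i j k l a b) : z ∈ DD i j k l a b := h.RD h.zR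

/-- `D` is normal in `P` -/
theorem nD (h : KH z R i j k l a b) : ∀ g, g * z = z * g → ∀ d ∈ DD i j k l a b, g * d * g⁻¹ ∈ DD i j k l a b := by
  intro g hg
  have h1 : DD i j k l a b ≤ (DD i j k l a b).comap (MulAut.conj g).toMonoidHom := by
    refine h.gen.trans ((closure_le _).2 ?_)
    rintro x ⟨hx, ho⟩
    show g * x * g⁻¹ ∈ DD i j k l a b
    apply h.od
    · have c1 : Commute g z := hg
      have c2 : Commute x z := h.Dz x hx
      exact ((c1.mul_left c2).mul_left c1.inv_left).eq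
    · rw [show orderOf (g * x * g⁻¹) = orderOf x from
        orderOf_injective (MulAut.conj g).toMonoidHom (MulAut.conj g).injective x]
      exact ho
  exact fun d hd => h1 hd

/-- the elements of odd order of `P` are fixed by `B̄` -/
theorem fix (h : KH z R i j k l a b) {α : MulAut K} (hα : BA R α) {x : K} (hx : x * z = z * x)
    (ho : Odd (orderOf x)) : α x = x := by
  have hz : α z = z := hα z h.zR
  have h1 : α x * z = z * α x := by
    calc α x * z = α x * α z := by rw [hz]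
      _ = α (z * x) := by rw [← map_mul, hx]
      _ = z * α x := by rw [map_mul, hz]
  have hy : (α x * x⁻¹) * z = z * (α x * x⁻¹) :=
    ((show Commute (α x) z from h1).mul_left (show Commute x z from hx).inv_left).eq
  have hR : ∀ r ∈ R, (α x * x⁻¹) * r = r * (α x * x⁻¹) := by
    intro r hr
    have hxi : x⁻¹ * z = z * x⁻¹ := (show Commute x z from hx).inv_left.eq
    have h2 : x⁻¹ * r * x ∈ R := by
      have := h.nR x⁻¹ hxi r hr
      rwa [inv_inv] at this
    have h3 : α x * (x⁻¹ * r * x) * (α x)⁻¹ = r := by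
      calc α x * (x⁻¹ * r * x) * (α x)⁻¹ = α (x * (x⁻¹ * r * x) * x⁻¹) := by
            rw [map_mul, map_mul, map_inv, hα _ h2]
        _ = α r := by congr 1; group
        _ = r := hα r hr
    calc (α x * x⁻¹) * r = (α x * (x⁻¹ * r * x) * (α x)⁻¹) * (α x * x⁻¹) := by group
      _ = r * (α x * x⁻¹) := by rw [h3]
  rcases h.cR _ hy hR with e | e
  · exact mul_inv_eq_one.1 e
  · exfalso
    have h4 : α x = z * x := by rw [← e]; group
    have h5 : (z * x) ^ orderOf x = 1 := by
      rw [← h4, ← map_pow, pow_orderOf_eq_one, map_one]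
    have hc : Commute z x := (show Commute x z from hx).symm
    obtain ⟨n, hn⟩ := ho
    rw [hc.mul_pow, pow_orderOf_eq_one, mul_one, hn, pow_succ, pow_mul, pow_two, h.zz, one_pow, one_mul] at h5
    exact h.z1 h5

theorem D_le_fixO (h : KH z R i j k l a b) {α : MulAut K} (hα : BA R α) : DD i j k l a b ≤ fixO α :=
  h.gen.trans (Subgroup.closure_mono fun x hx => ⟨h.fix hα (h.Dz x hx.1) hx.2, hx.2⟩)

end KH

/-! ### in `G` -/

section

universe u

variable {G : Type u} [Group G]

theorem nmh {K : Subgroup G} {g : G} (hg : g ∈ normalizer (K : Set G)) (x : K) :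
    ((K.normalizerMonoidHom ⟨g, hg⟩ x : K) : G) = g * x * g⁻¹ := rfl

variable {K : Subgroup G} {t : G} {z : K} {R : Subgroup K} {i j k l a b : K}

/-- **the position of a reflection** -/
theorem data (tt : t * t = 1) (t1 : t ≠ 1) (Kt : ∀ x ∈ K, x * t = t * x)
    (nK : ∀ g, g * t = t * g → g ∈ normalizer (K : Set G)) (h : KH z R i j k l a b) (hRf : Rf z R) {c : G}
    (cc : c * c = 1) (ct : c * t = t * c) (cR : ∀ r ∈ R, c * r = r * c) (hc1 : ¬ ∀ x ∈ K, c * x = x * c)
    (hcz : ¬ ∀ x ∈ K, (c * z) * x = x * (c * z)) :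
    ∃ (L : Subgroup G) (F : Type) (_ : Field F) (_ : Fintype F),
      RefOf.Data t (z : G) c ((DD i j k l a b).map K.subtype) (R.map K.subtype) L F ∧ L ≤ K := by
  set α : MulAut K := K.normalizerMonoidHom ⟨c, nK c ct⟩ with hα
  have ha : ∀ x : K, ((α x : K) : G) = c * x * c⁻¹ := fun x => nmh (nK c ct) x
  have hfix : ∀ x : K, α x = x ↔ c * x = x * c := by
    intro x
    constructor
    · intro e
      have e1 := congrArg Subtype.val e
      rw [ha, mul_inv_eq_iff_eq_mul] at e1
      exact e1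
    · intro e
      apply Subtype.ext
      rw [ha, e, mul_inv_cancel_right]
  have hBA : BA R α := fun r hr => (hfix r).2 (cR r hr)
  have hαα : α * α = 1 := by
    ext x
    show ((α (α x) : K) : G) = x
    rw [ha, ha]
    calc c * (c * (x : G) * c⁻¹) * c⁻¹ = (c * c) * x * (c * c)⁻¹ := by group
      _ = x := by rw [cc]; group
  have hcz' : c * z = z * c := cR z h.zR
  have hZ : ¬ Z2 z α := by
    rintro (e | e)
    · apply hc1
      intro x hx
      have h1 : α ⟨x, hx⟩ = ⟨x, hx⟩ := by rw [e]; rfl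
      exact (hfix _).1 h1
    · apply hcz
      intro x hx
      have h1 : ((α ⟨x, hx⟩ : K) : G) = z * x * (z : G)⁻¹ := by rw [e]; rfl
      rw [ha] at h1
      have h1' : c * x * c⁻¹ = z * x * (z : G)⁻¹ := h1
      have hzz : (z : G) * z = 1 := congrArg Subtype.val h.zz
      have hzi : (z : G)⁻¹ = z := inv_eq_of_mul_eq_one_right hzz
      have hci : c⁻¹ = c := inv_eq_of_mul_eq_one_right cc
      calc (c * z) * x = (z * c) * x := by rw [hcz']
        _ = z * (c * x * c⁻¹) * c := by group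
        _ = z * (z * x * (z : G)⁻¹) * c := by rw [h1']
        _ = (z * z) * x * ((z : G)⁻¹ * c) := by group
        _ = x * (z * c) := by rw [hzz, hzi, one_mul]
        _ = x * (c * z) := by rw [hcz']
  obtain ⟨F, _, _, hF, ⟨e⟩⟩ := hRf α hBA hαα hZ
  have cK : ∀ x : K, ∀ y : K, (x : G) * y = y * x ↔ x * y = y * x := fun x y =>
    ⟨fun h => Subtype.ext h, fun h => congrArg Subtype.val h⟩
  have c1 : c ≠ 1 := fun e => hc1 fun x _ => by rw [e, one_mul, mul_one]
  refine ⟨(fixO α).map K.subtype, F, inferInstance, inferInstance, ?_, map_subtype_le _⟩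
  refine ⟨tt, t1, cc, c1, ct, congrArg Subtype.val h.zz, fun e => h.z1 (Subtype.ext e), hF, ?_, ?_, ?_, ?_, ?_, ?_, ?_, ?_,
    ?_, ?_, ?_, ?_, ?_, ?_⟩
  · exact ⟨((fixO α).equivMapOfInjective K.subtype K.subtype_injective).symm.trans e⟩
  · rintro _ ⟨x, hx, rfl⟩
    exact ((hfix x).1 (fix_of_mem hx)).symm
  · rintro _ ⟨x, -, rfl⟩
    exact Kt x x.2
  · apply Diag.sn_of_conj
    rintro g ⟨hgc, hgt⟩
    have hgc' : Commute g c := mem_centralizer_singleton_iff.1 hgc
    have hgt' := mem_centralizer_singleton_iff.1 hgt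
    have hgn := nK g hgt'
    set β : MulAut K := K.normalizerMonoidHom ⟨g, hgn⟩ with hβ
    have h1 : fixO α ≤ (fixO α).comap (β : K ≃* K).toMonoidHom := by
      refine (closure_le _).2 ?_
      rintro x ⟨hx, ho⟩
      refine subset_closure ⟨?_, ?_⟩
      · show α (β x) = β x
        rw [hfix]
        show c * (g * x * g⁻¹) = (g * x * g⁻¹) * c
        have c2 : Commute c x := (hfix x).1 hx
        exact ((hgc'.symm.mul_right c2).mul_right hgc'.symm.inv_right).eq
      · show Odd (orderOf (β x))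
        rw [show orderOf (β x) = orderOf x from
          orderOf_injective (β : K ≃* K).toMonoidHom (β : K ≃* K).injective x]
        exact ho
    rintro _ ⟨x, hx, rfl⟩
    exact ⟨β x, h1 hx, rfl⟩
  · exact Subgroup.map_mono (h.D_le_fixO hBA)
  · exact ⟨z, h.zR, rfl⟩
  · exact Subgroup.map_mono h.RD
  · rintro _ ⟨d, hd, rfl⟩
    exact congrArg Subtype.val (h.Dz d hd)
  · have h1 := Subgroup.map_mono (f := K.subtype) h.gen
    refine h1.trans ?_
    rw [MonoidHom.map_closure]
    apply Subgroup.closure_mono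
    rintro _ ⟨x, ⟨hx, ho⟩, rfl⟩
    refine ⟨⟨x, hx, rfl⟩, ?_⟩
    show Odd (orderOf (x : G))
    rwa [Subgroup.orderOf_coe]
  · rintro _ ⟨x, -, rfl⟩ hxz ho
    refine ⟨x, h.od x (Subtype.ext hxz) ?_, rfl⟩
    have ho' : Odd (orderOf (x : G)) := ho
    rwa [Subgroup.orderOf_coe] at ho'
  · rintro _ ⟨x, -, rfl⟩ hxz _ ⟨d, hd, rfl⟩
    exact ⟨x * d * x⁻¹, h.nD x (Subtype.ext hxz) d hd, rfl⟩
  · exact h.pR.map _
  · rintro _ ⟨x, -, rfl⟩ hxz _ ⟨r, hr, rfl⟩
    exact ⟨x * r * x⁻¹, h.nR x (Subtype.ext hxz) r hr, rfl⟩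
  · refine ⟨i, ⟨i, h.iR, rfl⟩, j, ⟨j, h.jR, rfl⟩, ?_⟩
    intro e1
    have e2 : i * j = j * i := Subtype.ext e1
    have e3 := h.fr.ji
    rw [← e2] at e3
    apply h.fr.z1
    exact mul_eq_left.1 e3.symm

/-- helper948's `RefD`, and `c` centralises `D` -/
theorem refD (C : Ctx G) (hS : SpOrd.{u}) (S : Std G K) (hK : Nat.card K ≤ 6531840) (tt : t * t = 1) (t1 : t ≠ 1)
    (Kt : ∀ x ∈ K, x * t = t * x) (nK : ∀ g, g * t = t * g → g ∈ normalizer (K : Set G))
    (h : KH z R i j k l a b) (hRf : Rf z R) {c : G} (hN : ∀ K : Subgroup G, CompOf c K → ¬ NI3.HasY ↥K)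
    (cc : c * c = 1) (ct : c * t = t * c) (cR : ∀ r ∈ R, c * r = r * c) (hc1 : ¬ ∀ x ∈ K, c * x = x * c)
    (hcz : ¬ ∀ x ∈ K, (c * z) * x = x * (c * z)) :
    NIB.RefD t (z : G) c ((DD i j k l a b).map K.subtype) ∧
      ∀ d ∈ (DD i j k l a b).map K.subtype, c * d = d * c := by
  obtain ⟨L, F, _, _, hD, -⟩ := data tt t1 Kt nK h hRf cc ct cR hc1 hcz
  refine ⟨?_, fun d hd => (hD.Lb d (hD.DL hd)).symm⟩
  rcases hD.main C hS S hK hN with h1 | ⟨M, L', -, -, h1⟩
  · left
    apply Diag.sn_of_conj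
    rintro g ⟨hg1, hg2⟩ d hd
    exact h1 g (mem_centralizer_singleton_iff.1 hg1) (mem_centralizer_singleton_iff.1 hg2) d hd
  · exact Or.inr ⟨M, L', h1⟩

end

end Cfsg.Agent.OddHalf.D6.QThree.RefData
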