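import Cfsg.Agent.OddHalf.D6.QThree.End

/-!
# ODD half, D6, `q = 3`: the theorems (helper143, after helper135 #7766)

`C_G(t) = ⟨t⟩ × K`, `t ∉ K`, `K` with the facts `Facts.One`, `Facts.Two` or `Facts.Three`, `G` perfect,
`O(C_G(z)) = 1`, `z ∉ E(C_G(z))`: impossible.
-/

set_option autoImplicit false

namespace Cfsg.Agent.OddHalf.D6.QThree.Main

open Subgroup Cfsg Cfsg.Agent.OddHalf.D6.QThree.Sit Cfsg.Agent.OddHalf.D6.QThree.Core
open Cfsg.Agent.OddHalf.D6.QThree.End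

variable {G : Type*} [Group G]

/-- `C_G(t) = ⟨t⟩ × K` -/
structure Cen (t : G) (K : Subgroup G) : Prop where
  tt : t * t = 1
  tK : t ∉ K
  Kt : ∀ x ∈ K, x * t = t * x
  cen : ∀ g, g * t = t * g → g ∈ K ∨ t * g ∈ K

/-- the hypotheses on `C_G(z)` -/
structure At (z : G) : Prop where
  /-- `O(C_G(z)) = 1` -/
  core : pPrimeCore 2 ↥(centralizer ({z} : Set G)) = ⊥
  /-- `z ∉ E(C_G(z))` -/
  ni : (⟨z, mem_centralizer_singleton_iff.2 rfl⟩ : ↥(centralizer ({z} : Set G))) ∉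
    layer ↥(centralizer ({z} : Set G))

variable {t : G} {K : Subgroup G}

theorem exists_pos [Finite G] (hG : _root_.commutator G = ⊤) (hC : Cen t K) {z : ↥K} {R : Subgroup ↥K}
    (f : Facts.Base z R) (hz : At (z : G)) :
    (∃ F : Subgroup G, Pos t (z : G) K (R.map K.subtype) F) ∧
      ∀ h : t * (z : G) = z * t, (⟨t, mem_centralizer_singleton_iff.2 h⟩ : centralizer ({(z : G)} : Set G)) ∈
        _root_.commutator (centralizer ({(z : G)} : Set G)) := by
  have L := Loc.of_base hC.tt hC.tK hC.Kt hC.cen f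
  obtain ⟨hs, hn, hc⟩ := L.start hG
  obtain ⟨F, hF, htF⟩ := exists_core L hG hz.core hz.ni
  exact ⟨⟨F, { toLoc := L, F' := hF, tF := htF, nc := hn, sw := hs }⟩, fun _ => hc⟩

theorem oddGen_eq {z : ↥K} :
    (closure {x : ↥K | x * z = z * x ∧ Odd (orderOf x)}).map K.subtype = Pos.oddGen K (z : G) := by
  rw [MonoidHom.map_closure]
  unfold Pos.oddGen
  congr 1
  ext x
  constructor
  · rintro ⟨y, ⟨hy1, hy2⟩, rfl⟩
    refine ⟨y.2, congrArg Subtype.val hy1, ?_⟩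
    show Odd (orderOf (y : G))
    rwa [Subgroup.orderOf_coe]
  · rintro ⟨hx, hxz, hxo⟩
    refine ⟨⟨x, hx⟩, ⟨Subtype.ext hxz, ?_⟩, rfl⟩
    rw [← Subgroup.orderOf_coe]; exact hxo

theorem mem_oddGen {z x : ↥K} :
    (x : G) ∈ Pos.oddGen K (z : G) ↔ x ∈ closure {x : ↥K | x * z = z * x ∧ Odd (orderOf x)} := by
  rw [← oddGen_eq]
  constructor
  · rintro ⟨y, hy, hyx⟩
    have : y = x := Subtype.ext hyx
    rwa [← this]
  · intro hx
    exact ⟨x, hx, rfl⟩

theorem mem_map {R : Subgroup ↥K} {x : ↥K} : (x : G) ∈ R.map K.subtype ↔ x ∈ R := by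
  constructor
  · rintro ⟨y, hy, hyx⟩
    have : y = x := Subtype.ext hyx
    rwa [← this]
  · intro hx
    exact ⟨x, hx, rfl⟩

/-- **`G₂(3)`, `L₄(3)`** -/
theorem false_of_one [Finite G] (hG : _root_.commutator G = ⊤) (hC : Cen t K) {z : ↥K} {R : Subgroup ↥K}
    (f : Facts.One z R) (hz : At (z : G)) : False := by
  obtain ⟨⟨F, h⟩, -⟩ := exists_pos hG hC f.toBase hz
  obtain ⟨v, k, vv, hvz, hkv, hkR, hinv, huni⟩ := f.ex
  refine h.false_one (v := v) (k := k) v.2 k.2 (congrArg Subtype.val vv) (congrArg Subtype.val hvz)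
    (congrArg Subtype.val hkv) (fun e => hkR ?_) ?_ ?_
  · exact mem_map.1 e
  · intro d hd hdz hd3
    have h1 := hinv ⟨d, hd⟩ (Subtype.ext hdz) (by rw [← Subgroup.orderOf_coe]; exact hd3)
    exact mem_map.2 h1
  · intro p hp hpz hpp hpd
    obtain ⟨g, hgz, hgp⟩ := huni ⟨p, hp⟩ (Subtype.ext hpz) (Subtype.ext hpp) (fun d hdz hd3 => by
      have h1 := hpd d d.2 (congrArg Subtype.val hdz) (by rw [Subgroup.orderOf_coe]; exact hd3)
      exact (mem_map (x := ⟨p, hp⟩ * d * (⟨p, hp⟩ : ↥K)⁻¹ * d)).1 h1)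
    exact ⟨g, g.2, congrArg Subtype.val hgz, congrArg Subtype.val hgp⟩

/-- **`U₄(3)`** (and `G₂(3)`) -/
theorem false_of_two [Finite G] (hG : _root_.commutator G = ⊤) (hC : Cen t K) {z : ↥K} {R : Subgroup ↥K}
    (f : Facts.Two z R) (hz : At (z : G)) : False := by
  obtain ⟨⟨F, h⟩, hc⟩ := exists_pos hG hC f.toBase hz
  obtain ⟨v, k, vv, hvz, hkv, hkR, hR⟩ := f.ex
  refine h.false_two (hc h.comm) ?_ ?_ (v := v) (k := k) v.2 k.2 (congrArg Subtype.val vv)
    (congrArg Subtype.val hvz) (congrArg Subtype.val hkv) (fun e => hkR ?_) ?_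
  · intro p hp hpp hp1
    obtain ⟨k', hk'⟩ := f.one ⟨p, hp⟩ (Subtype.ext hpp) (fun e => hp1 (congrArg Subtype.val e))
    exact ⟨k', k'.2, congrArg Subtype.val hk'⟩
  · intro g hg hgz
    have h1 := f.gen ⟨g, hg⟩ (Subtype.ext hgz)
    have h2 : (g : G) ∈ (closure {p : ↥K | p * z = z * p ∧ p * p = 1}).map K.subtype := ⟨_, h1, rfl⟩
    rw [MonoidHom.map_closure] at h2
    refine closure_mono ?_ h2
    rintro _ ⟨y, ⟨hy1, hy2⟩, rfl⟩
    exact ⟨y.2, congrArg Subtype.val hy1, congrArg Subtype.val hy2⟩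
  · exact mem_map.1 e
  · rintro _ ⟨r, hr, rfl⟩ hvr
    obtain ⟨g, hgz, hgv⟩ := hR r hr (Subtype.ext hvr)
    exact ⟨g, g.2, congrArg Subtype.val hgz, congrArg Subtype.val hgv⟩

/-- **`PSp₄(3)`** -/
theorem false_of_three [Finite G] (hG : _root_.commutator G = ⊤) (hC : Cen t K) {z : ↥K} {R : Subgroup ↥K}
    (f : Facts.Three z R) (hz : At (z : G)) : False := by
  obtain ⟨⟨F, h⟩, hc⟩ := exists_pos hG hC f.toBase hz
  obtain ⟨v, k, vv, hvz, hkv, hkR, hvR, hR, hD, huni⟩ := f.ex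
  refine h.false_three (hc h.comm) ?_ ?_ (v := v) (k := k) v.2 k.2 (congrArg Subtype.val vv)
    (congrArg Subtype.val hvz) (congrArg Subtype.val hkv) (fun e => hkR ?_) (fun e => hvR ?_) ?_ ?_ ?_
  · intro N hN hn
    have hNK : N ≤ K := hN.trans h.RK
    rcases f.irr (N.subgroupOf K) (fun x hx => mem_map.1 (hN hx))
      (fun g hgz n hn' => hn g g.2 (congrArg Subtype.val hgz) n hn') with h1 | h1
    · left
      intro n hn'
      rcases h1 ⟨n, hNK hn'⟩ hn' with h2 | h2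
      · exact Or.inl (congrArg Subtype.val h2)
      · exact Or.inr (congrArg Subtype.val h2)
    · right
      rw [← h1, subgroupOf_map_subtype, inf_eq_left.2 hNK]
  · intro w hw hww hw1
    rcases f.classes ⟨w, hw⟩ (Subtype.ext hww) (fun e => hw1 (congrArg Subtype.val e)) with ⟨k', hk'⟩ | h1
    · exact Or.inl ⟨k', k'.2, congrArg Subtype.val hk'⟩
    · right
      intro N hN hp hc hn a ha b hb
      have h2 := h1 (N.subgroupOf K) (hp.comap_of_injective K.subtype K.subtype_injective)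
        (fun n hn' => Subtype.ext (hc n hn'))
        (fun g hgw n hn' => hn g g.2 (congrArg Subtype.val hgw) n hn') ⟨a, hN ha⟩ ha ⟨b, hN hb⟩ hb
      exact congrArg Subtype.val h2
  · exact mem_map.1 e
  · exact mem_map.1 e
  · rintro _ ⟨r, hr, rfl⟩ hvr
    obtain ⟨g, hg, hgv⟩ := hR r hr (Subtype.ext hvr)
    refine ⟨g, mem_map.2 hg, ?_⟩
    rcases hgv with h1 | h1
    · exact Or.inl (congrArg Subtype.val h1)
    · exact Or.inr (congrArg Subtype.val h1)
  · intro g hg hgz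
    rcases hD ⟨g, hg⟩ (Subtype.ext hgz) with h1 | h1
    · exact Or.inl (mem_oddGen.2 h1)
    · exact Or.inr (mem_oddGen.2 h1)
  · intro p hp hpz hpp hpD
    obtain ⟨g, hgz, hgp⟩ := huni ⟨p, hp⟩ (Subtype.ext hpz) (Subtype.ext hpp)
      (fun e => hpD (mem_oddGen.2 e))
    refine ⟨g, g.2, congrArg Subtype.val hgz, ?_⟩
    rcases hgp with h1 | h1
    · exact Or.inl (congrArg Subtype.val h1)
    · exact Or.inr (congrArg Subtype.val h1)

end Cfsg.Agent.OddHalf.D6.QThree.Main
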