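import Cfsg.Agent.OddHalf.D6.QThree.Outer
import Cfsg.Agent.OddHalf.D6.QThree.FactsOut
import Cfsg.Agent.OddHalf.D6.QThree.Main
import Cfsg.Agent.OddHalf.Front.OfSheet
import Cfsg.Agent.OddHalf.Soft

/-!
# ODD half, D6, `q = 3`: from the facts on `K` to the position, any `|Q|`, `|Out(K)| = 2` (helper143)

`front`: helper971's front end for the facts `Facts.Base`, `FactsOut.Aut`; `row_cls`: the row of a group `K` with one
class of involutions (`G₂(3)`).
-/

set_option autoImplicit false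

namespace Cfsg.Agent.OddHalf.D6.QThree.FrontOut

open Subgroup Cfsg Cfsg.Agent.OddHalf.Front.FE Cfsg.Agent.OddHalf.Front Cfsg.Agent.OddHalf.D8.GlueE
open Cfsg.Agent.OddHalf.Front.Cyclic (mem_M KQ conjK conjK')
open Cfsg.Agent.OddHalf.D6.QThree.Outer

/-! ### on `K` -/

/-- an automorphism trivial on `R` is trivial on the elements of odd order of `C_K(z)` -/
theorem trivial_of_R {K : Type*} [Group K] {z : K} {R : Subgroup K} (b : Facts.Base z R) {α : MulAut K}
    (hα : ∀ r ∈ R, α r = r) {x : K} (hxz : x * z = z * x) (hx : Odd (orderOf x)) : α x = x := by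
  have hz : α z = z := hα z b.zR
  have hαx : α x * z = z * α x := by
    have := congrArg α hxz
    rwa [map_mul, map_mul, hz] at this
  have hc : x⁻¹ * α x * z = z * (x⁻¹ * α x) := by
    have c1 : Commute x z := hxz
    have c2 : Commute (α x) z := hαx
    exact c1.inv_left.mul_left c2
  have h1 : x⁻¹ * α x = 1 ∨ x⁻¹ * α x = z := by
    apply b.cR _ hc
    intro r hr
    have h2 : α x * r * (α x)⁻¹ = x * r * x⁻¹ := by
      have h3 : α (x * r * x⁻¹) = x * r * x⁻¹ := hα _ (b.nR x hxz r hr)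
      rw [map_mul, map_mul, map_inv, hα r hr] at h3
      exact h3
    calc x⁻¹ * α x * r = x⁻¹ * (α x * r * (α x)⁻¹) * α x := by group
      _ = x⁻¹ * (x * r * x⁻¹) * α x := by rw [h2]
      _ = r * (x⁻¹ * α x) := by group
  rcases h1 with h1 | h1
  · exact (inv_mul_eq_one.1 h1).symm
  · exfalso
    apply b.z1
    have h2 : α x = x * z := by rw [← h1]; group
    have h3 : (x * z) ^ orderOf x = 1 := by rw [← h2, ← map_pow, pow_orderOf_eq_one, map_one]
    have c1 : Commute x z := hxz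
    obtain ⟨n, hn⟩ := hx
    rw [c1.mul_pow, pow_orderOf_eq_one, one_mul, hn, pow_succ, pow_mul, pow_two, b.zz, one_pow,
      one_mul] at h3
    exact h3

/-! ### the front end -/

universe u

variable {G : Type u} [Group G]

structure Emb (K : Subgroup G) (t q : G) (z : K) (R : Subgroup K) : Prop where
  st : Start K t q
  b : Facts.Base z R
  a : FactsOut.Aut z R

variable {K : Subgroup G} {t q : G} {z : K} {R : Subgroup K}

namespace Emb

theorem tK (h : Emb K t q z R) : t ∉ K := fun h1 => h.st.t1 (h.st.cen t h1 fun y hy => h.st.Kt y hy)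

theorem comm (h : Emb K t q z R) : t * (z : G) = z * t := (h.st.Kt z z.2).symm

/-- elements of odd order of `C(t)` -/
theorem mem_of_odd (h : Emb K t q z R) {g : G} (hg : g * t = t * g) (ho : Odd (orderOf g)) : g ∈ K := by
  have hinn : (MulAut.conj : K →* MulAut K).range.Normal := OfSheet.inn_normal K
  set I : Subgroup (MulAut K) := (MulAut.conj : K →* MulAut K).range with hI
  set α : MulAut K := K.normalizerMonoidHom ⟨g, h.st.nK g hg⟩ with hα
  have h2 : α * α ∈ I := by
    rcases (Nat.dvd_prime Nat.prime_two).1 h.a.out with h1 | h1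
    · have h3 : I = ⊤ := Subgroup.index_eq_one.1 h1
      rw [h3]; exact mem_top _
    · exact mul_self_mem_of_index_two h1 α
  have hgg : (g * g) * t = t * (g * g) := by
    have c1 : Commute g t := hg
    exact c1.mul_left c1
  have h3 : g * g ∈ zpowers q ⊔ K := by
    apply OfSheet.mem_of_inn h.st hgg
    have e : K.normalizerMonoidHom ⟨g * g, h.st.nK (g * g) hgg⟩ = α * α := by
      rw [hα, ← map_mul]; rfl
    rw [e]; exact h2
  obtain ⟨n, hn⟩ := ho
  have h4 : g = (g * g) ^ (n + 1) := by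
    have h5 : g ^ (2 * n + 1) = 1 := by rw [← hn]; exact pow_orderOf_eq_one g
    calc g = g ^ (2 * n + 1) * g := by rw [h5, one_mul]
      _ = g ^ (2 * (n + 1)) := by rw [← pow_succ]; congr 1
      _ = (g * g) ^ (n + 1) := by rw [pow_mul, pow_two]
  have h5 : g ∈ zpowers q ⊔ K := by
    rw [h4]; exact pow_mem h3 _
  obtain ⟨a, ha, k, hk, e⟩ := (mem_M h.st.toStart0).1 h5
  have hak : Commute a k := (h.st.QK a ha k hk).symm
  have h6 : a ^ (2 * n + 1) * k ^ (2 * n + 1) = 1 := by
    rw [← hak.mul_pow, ← e, ← hn, pow_orderOf_eq_one]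
  have h7 : a ^ (2 * n + 1) = 1 := by
    apply KQ h.st
    · have : a ^ (2 * n + 1) = (k ^ (2 * n + 1))⁻¹ := eq_inv_of_mul_eq_one_left h6
      rw [this]; exact K.inv_mem (K.pow_mem hk _)
    · exact pow_mem ha _
  have h8 : a = 1 := by
    obtain ⟨m, hm⟩ := h.st.pQ ⟨a, ha⟩
    have hm' : a ^ 2 ^ m = 1 := congrArg Subtype.val hm
    have hcop : Nat.Coprime (2 ^ m) (2 * n + 1) := by
      apply Nat.Coprime.pow_left
      rw [Nat.coprime_two_left]
      exact ⟨n, rfl⟩
    have h9 : orderOf a ∣ Nat.gcd (2 ^ m) (2 * n + 1) :=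
      Nat.dvd_gcd (orderOf_dvd_of_pow_eq_one hm') (orderOf_dvd_of_pow_eq_one h7)
    rw [hcop] at h9
    exact orderOf_eq_one_iff.1 (Nat.dvd_one.1 h9)
  rw [e, h8, one_mul]; exact hk

theorem isolated (h : Emb K t q z R) (g : G)
    (h1 : g * t * g⁻¹ = t ∨ g * t * g⁻¹ = z ∨ g * t * g⁻¹ = t * z)
    (h2 : g * z * g⁻¹ = t ∨ g * z * g⁻¹ = z ∨ g * z * g⁻¹ = t * z) : g * z * g⁻¹ = z := by
  set O : Subgroup G := closure {x : G | x * t = t * x ∧ x * z = z * x ∧ Odd (orderOf x)} with hO
  have hOK : O ≤ K := (closure_le K).2 fun x hx => h.mem_of_odd hx.1 hx.2.2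
  have hzO : (z : G) ∈ O := by
    have h3 : (z : G) ∈ (closure {x : K | x * z = z * x ∧ Odd (orderOf x)}).map K.subtype := ⟨z, h.b.oz, rfl⟩
    rw [MonoidHom.map_closure] at h3
    refine closure_mono ?_ h3
    rintro _ ⟨y, ⟨hy1, hy2⟩, rfl⟩
    refine ⟨h.st.Kt y y.2, congrArg Subtype.val hy1, ?_⟩
    show Odd (orderOf (y : G))
    rwa [Subgroup.orderOf_coe]
  have h4 : g⁻¹ * z * g ∈ K := by
    apply hOK
    have h5 : MulAut.conj g⁻¹ (z : G) ∈ O.map (MulAut.conj g⁻¹).toMonoidHom := ⟨z, hzO, rfl⟩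
    rw [hO, MonoidHom.map_closure] at h5
    have e : MulAut.conj g⁻¹ (z : G) = g⁻¹ * z * g := by rw [MulAut.conj_apply, inv_inv]
    rw [e] at h5
    refine closure_mono ?_ h5
    rintro _ ⟨x, ⟨hxt, hxz, hxo⟩, rfl⟩
    obtain ⟨h6, h7⟩ := Sit.Loc.norm_cen (g := g⁻¹) (t := t) (z := z) (by rwa [inv_inv]) (by rwa [inv_inv])
      x hxt hxz
    refine ⟨h6, h7, ?_⟩
    have : orderOf ((MulAut.conj g⁻¹).toMonoidHom x) = orderOf x :=
      orderOf_injective (MulAut.conj g⁻¹).toMonoidHom (MulAut.conj g⁻¹).injective x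
    rw [this]; exact hxo
  have hmul : g * (t * z) * g⁻¹ = (g * t * g⁻¹) * (g * z * g⁻¹) := by group
  have back : ∀ y, g * y * g⁻¹ = z → y ∈ K := by
    intro y hy
    have : g⁻¹ * z * g = y := by rw [← hy]; group
    rwa [this] at h4
  have hinj : ∀ c d, g * c * g⁻¹ = g * d * g⁻¹ → c = d :=
    fun c d e => mul_left_cancel (mul_right_cancel e)
  have htz := h.comm
  have hzt : (z : G) ≠ t := fun e => h.tK (e ▸ z.2)
  have htzK : t * z ∉ K := fun h5 => h.tK (by
    have := K.mul_mem h5 (K.inv_mem z.2)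
    rwa [mul_inv_cancel_right] at this)
  rcases h2 with h2 | h2 | h2
  · exfalso
    rcases h1 with h1 | h1 | h1
    · exact hzt (hinj _ _ (h2.trans h1.symm))
    · exact h.tK (back t h1)
    · apply htzK
      apply back
      rw [hmul, h1, h2, htz, mul_assoc, h.st.tt, mul_one]
  · exact h2
  · exfalso
    rcases h1 with h1 | h1 | h1
    · apply htzK
      apply back
      rw [hmul, h1, h2, ← mul_assoc, h.st.tt, one_mul]
    · exact h.tK (back t h1)
    · exact hzt (hinj _ _ (h2.trans h1.symm))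

/-- `CycT.Facts` -/
theorem facts [Finite G] (E : Emb K t q z R) : ∃ T : Subgroup G, CycT.Facts K t q (z : G) T := by
  obtain ⟨S0, hS0p, hzc, hRS, hSmax⟩ := Sit.exists_sylow E.b
  set S : Sylow 2 K :=
    { toSubgroup := S0
      isPGroup' := hS0p
      is_maximal' := fun {Q} hQ hle => le_antisymm (hSmax Q hQ hle) hle } with hS
  have hZ : ∀ y ∈ S, (∀ x ∈ S, x * y = y * x) → y = 1 ∨ y = z := by
    intro y hy hc
    exact E.b.cR y (hzc y hy) (fun r hr => (hc r (hRS hr)).symm)
  set C : Subgroup G := centralizer ({t} : Set G) with hC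
  have hKC : K ≤ C := fun x hx => mem_centralizer_singleton_iff.2 (E.st.Kt x hx)
  have hS' : IsPGroup 2 ↥((S : Subgroup K).map K.subtype) := S.isPGroup'.map _
  have hS'C : (S : Subgroup K).map K.subtype ≤ C := by
    rintro _ ⟨y, -, rfl⟩
    exact hKC y.2
  obtain ⟨TS, hTS⟩ := (hS'.comap_of_injective C.subtype C.subtype_injective).exists_le_sylow
  have hTC : (TS : Subgroup C).map C.subtype ≤ C := by
    rintro _ ⟨y, -, rfl⟩
    exact y.2
  have hpT : IsPGroup 2 ↥((TS : Subgroup C).map C.subtype) := TS.isPGroup'.map _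
  have hST : (S : Subgroup K).map K.subtype ≤ (TS : Subgroup C).map C.subtype := by
    intro x hx
    exact ⟨⟨x, hS'C hx⟩, hTS hx, rfl⟩
  have htc : ∀ x ∈ (TS : Subgroup C).map C.subtype, x * t = t * x := fun x hx =>
    mem_centralizer_singleton_iff.1 (hTC hx)
  have hTK : ∀ x (hx : x ∈ K), x ∈ (TS : Subgroup C).map C.subtype → (⟨x, hx⟩ : K) ∈ S := by
    have h1 : IsPGroup 2 ↥(((TS : Subgroup C).map C.subtype).subgroupOf K) :=
      hpT.comap_of_injective K.subtype K.subtype_injective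
    have h2 := S.is_maximal' h1 (fun y hy => mem_subgroupOf.2 (hST ⟨y, hy, rfl⟩))
    intro x hx hxT
    have h3 : (⟨x, hx⟩ : K) ∈ ((TS : Subgroup C).map C.subtype).subgroupOf K := mem_subgroupOf.2 hxT
    rw [h2] at h3
    exact h3
  have hKT : ∀ x : K, x ∈ S → (x : G) ∈ (TS : Subgroup C).map C.subtype := fun x hx => hST ⟨x, hx, rfl⟩
  refine ⟨(TS : Subgroup C).map C.subtype,
    { toStart := E.st
      pT := hpT
      tc := htc
      max := ?_
      z1 := fun e => E.b.z1 (Subtype.ext e)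
      zT := hKT z (hRS E.b.zR)
      zK := z.2
      zS := ?_
      P1 := ?_
      T1s := ?_
      idx := ?_
      iso := ?_ }⟩
  · intro R hR hle hRt
    have h1 : IsPGroup 2 ↥(R.subgroupOf C) := hR.comap_of_injective C.subtype C.subtype_injective
    have h2 := TS.is_maximal' h1 (fun y hy => mem_subgroupOf.2 (hle ⟨y, hy, rfl⟩))
    intro x hx
    have hxC : x ∈ C := mem_centralizer_singleton_iff.2 (hRt x hx)
    have h3 : (⟨x, hxC⟩ : C) ∈ R.subgroupOf C := mem_subgroupOf.2 hx
    rw [h2] at h3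
    exact ⟨⟨x, hxC⟩, h3, rfl⟩
  · intro x hxT hxK
    exact congrArg Subtype.val (hzc ⟨x, hxK⟩ (hTK x hxK hxT))
  · intro y hyT hyK hy
    rcases hZ ⟨y, hyK⟩ (hTK y hyK hyT) (fun x hx => Subtype.ext (hy x (hKT x hx) x.2)) with h | h
    · exact Or.inl (congrArg Subtype.val h)
    · exact Or.inr (congrArg Subtype.val h)
  · intro y hyt hy2 hy
    apply OfSheet.mem_of_inn E.st hyt
    set α := K.normalizerMonoidHom ⟨y, E.st.nK y hyt⟩ with hα
    have hαS : ∀ x ∈ S, α x = x := by
      intro x hx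
      apply Subtype.ext
      rw [nmh_apply, ← hy x (hKT x hx) x.2]
      group
    rcases E.a.a1 α (hαS z (hRS E.b.zR)) (fun x hxz hxo =>
      trivial_of_R E.b (fun r hr => hαS r (hRS hr)) hxz hxo) with h1 | h1
    · rw [h1]; exact one_mem _
    · exact ⟨z, h1.symm⟩
  · intro a ha b hb haM hbM
    refine OfSheet.idx_of_out E.st ?_ hpT htc ha hb haM hbM
    intro h4
    have h5 := h4.trans E.a.out
    omega
  · intro g h1 h2
    exact E.isolated g h1 h2

end Emb

/-- **the front end** -/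
structure Pos (K : Subgroup G) (t : G) (z : K) (R : Subgroup K) : Prop where
  oloc : OLoc t (z : G) K (R.map K.subtype)
  nc : ∀ g, g * t * g⁻¹ ≠ (z : G)
  sw : ∃ s : G, s * t * s⁻¹ = t * z ∧ s * z * s⁻¹ = z
  tH : (⟨t, mem_centralizer_singleton_iff.2 oloc.comm⟩ : centralizer ({(z : G)} : Set G)) ∈
    _root_.commutator (centralizer ({(z : G)} : Set G))

theorem mem_map {R : Subgroup ↥K} {x : ↥K} : (x : G) ∈ R.map K.subtype ↔ x ∈ R := by
  constructor
  · rintro ⟨y, hy, hyx⟩
    have : y = x := Subtype.ext hyx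
    rwa [← this]
  · intro hx
    exact ⟨x, hx, rfl⟩

/-- the local situation, `Q = ⟨t⟩` -/
theorem Emb.oloc (E : Emb K t q z R) (hQ : ∀ y ∈ zpowers q, y = 1 ∨ y = t) :
    OLoc t (z : G) K (R.map K.subtype) where
  tt := E.st.tt
  tK := E.tK
  Kt := E.st.Kt
  nK := fun g hg x hx => conjK E.st.toStart0 hg hx
  zK := z.2
  RK := by
    rintro _ ⟨y, -, rfl⟩
    exact y.2
  zz := congrArg Subtype.val E.b.zz
  z1 := fun e => E.b.z1 (Subtype.ext e)
  zR := ⟨z, E.b.zR, rfl⟩
  pR := E.b.pR.map _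
  RP := by
    rintro _ ⟨y, hy, rfl⟩
    exact congrArg Subtype.val (E.b.RP y hy)
  nR := by
    intro g hgt hgz x hx
    -- `g R g⁻¹` is a normal 2-subgroup of `C_K(z)`
    set N : Subgroup K := R.map (K.normalizerMonoidHom ⟨g, E.st.nK g hgt⟩).toMonoidHom with hN
    have h1 : N ≤ R := by
      apply E.b.max N (E.b.pR.map _)
      · rintro _ ⟨r, hr, rfl⟩
        apply Subtype.ext
        show ((K.normalizerMonoidHom ⟨g, E.st.nK g hgt⟩ r : K) : G) * z =
          z * ((K.normalizerMonoidHom ⟨g, E.st.nK g hgt⟩ r : K) : G)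
        rw [nmh_apply]
        have c1 : Commute g (z : G) := hgz
        have c2 : Commute (r : G) (z : G) := congrArg Subtype.val (E.b.RP r hr)
        exact (c1.mul_left c2).mul_left c1.inv_left
      · rintro y hyz _ ⟨r, hr, rfl⟩
        have hgi : g⁻¹ * t = t * g⁻¹ := (Commute.inv_left (show Commute g t from hgt)).eq
        have hyK : g⁻¹ * (y : G) * g ∈ K := conjK' E.st.toStart0 hgt y.2
        have hyz' : (⟨g⁻¹ * (y : G) * g, hyK⟩ : K) * z = z * ⟨g⁻¹ * (y : G) * g, hyK⟩ := by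
          apply Subtype.ext
          show g⁻¹ * (y : G) * g * z = z * (g⁻¹ * (y : G) * g)
          have c1 : Commute g (z : G) := hgz
          have c2 : Commute (y : G) (z : G) := congrArg Subtype.val hyz
          exact (c1.inv_left.mul_left c2).mul_left c1
        refine ⟨_, E.b.nR _ hyz' r hr, ?_⟩
        apply Subtype.ext
        show ((K.normalizerMonoidHom ⟨g, E.st.nK g hgt⟩ _ : K) : G) =
          (y : G) * ((K.normalizerMonoidHom ⟨g, E.st.nK g hgt⟩ r : K) : G) * (y : G)⁻¹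
        rw [nmh_apply, nmh_apply]
        show g * ((g⁻¹ * (y : G) * g) * r * (g⁻¹ * (y : G) * g)⁻¹) * g⁻¹ = y * (g * r * g⁻¹) * (y : G)⁻¹
        group
    obtain ⟨r, hr, rfl⟩ := hx
    have h2 : K.normalizerMonoidHom ⟨g, E.st.nK g hgt⟩ r ∈ R := h1 ⟨r, hr, rfl⟩
    refine ⟨_, h2, ?_⟩
    exact nmh_apply (E.st.nK g hgt) r
  cR := by
    intro g hg hgz hr
    rcases E.b.cR ⟨g, hg⟩ (Subtype.ext hgz) (fun r hr' => Subtype.ext (hr r ⟨r, hr', rfl⟩)) with h1 | h1
    · exact Or.inl (congrArg Subtype.val h1)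
    · exact Or.inr (congrArg Subtype.val h1)
  ab := by
    intro B hB hab hn b hb
    have hBK : B ≤ K := by
      intro x hx
      obtain ⟨y, -, rfl⟩ := hB hx
      exact y.2
    rcases E.b.ab (B.subgroupOf K) (fun x hx => mem_map.1 (hB hx))
      (fun a ha b hb => Subtype.ext (hab a ha b hb))
      (fun g hg b hb => hn g g.2 (congrArg Subtype.val hg) b hb) ⟨b, hBK hb⟩ hb with h1 | h1
    · exact Or.inl (congrArg Subtype.val h1)
    · exact Or.inr (congrArg Subtype.val h1)
  oR := by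
    intro N hp hNt hNz hn n hnN
    have hgt := hNt n hnN
    set α := K.normalizerMonoidHom ⟨n, E.st.nK n hgt⟩ with hα
    have hmax : N.subgroupOf K ≤ R := E.b.max _ (hp.comap_of_injective K.subtype K.subtype_injective)
      (fun x hx => Subtype.ext (hNz x hx))
      (fun g hg x hx => by
        rw [mem_subgroupOf] at hx ⊢
        exact hn g (E.st.Kt g g.2) (congrArg Subtype.val hg) x hx)
    have h2 : IsPGroup 2 (zpowers n) := hp.to_le (zpowers_le.2 hnN)
    have hαz : α z = z := by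
      apply Subtype.ext
      rw [nmh_apply, hNz n hnN]
      group
    obtain ⟨r, hr, hαr⟩ := E.a.a2 α (isPGroup_nmh (E.st.nK n hgt) h2) hαz (by
      intro x hxz _
      apply hmax
      rw [mem_subgroupOf]
      show ((K.normalizerMonoidHom ⟨n, E.st.nK n hgt⟩ x : K) : G) * (x : G)⁻¹ ∈ N
      rw [nmh_apply]
      have h3 := hn x (E.st.Kt x x.2) (congrArg Subtype.val hxz) _ (N.inv_mem hnN)
      have e : n * (x : G) * n⁻¹ * (x : G)⁻¹ = n * ((x : G) * n⁻¹ * (x : G)⁻¹) := by group
      rw [e]; exact N.mul_mem hnN h3)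
    have h4 := exists_of_conj (E.st.nK n hgt) hαr
    have h5 : (r : G)⁻¹ * n ∈ zpowers q := by
      apply E.st.cK
      · have h6 := E.st.Kt (r : G)⁻¹ (K.inv_mem r.2)
        calc (r : G)⁻¹ * n * t = (r : G)⁻¹ * (n * t) := by group
          _ = ((r : G)⁻¹ * t) * n := by rw [hgt]; group
          _ = t * ((r : G)⁻¹ * n) := by rw [h6]; group
      · exact h4
    rcases hQ _ h5 with h6 | h6
    · left
      have : n = r := (inv_mul_eq_one.1 h6).symm
      rw [this]; exact ⟨r, hr, rfl⟩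
    · right
      have : n = r * t := by rw [← h6]; group
      rw [this, E.st.Kt r r.2, ← mul_assoc, E.st.tt, one_mul]
      exact ⟨r, hr, rfl⟩
  oD := by
    intro g hgt hg
    set α := K.normalizerMonoidHom ⟨g, E.st.nK g hgt⟩ with hα
    have hαP : ∀ x : K, x * z = z * x → α x = x := by
      intro x hx
      apply Subtype.ext
      rw [nmh_apply, hg x x.2 (congrArg Subtype.val hx)]
      group
    have key : ∀ k : K, α = MulAut.conj k → (k : G)⁻¹ * g = 1 ∨ (k : G)⁻¹ * g = t := by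
      intro k hk
      apply hQ
      apply E.st.cK
      · have h6 := E.st.Kt (k : G)⁻¹ (K.inv_mem k.2)
        calc (k : G)⁻¹ * g * t = (k : G)⁻¹ * (g * t) := by group
          _ = ((k : G)⁻¹ * t) * g := by rw [hgt]; group
          _ = t * ((k : G)⁻¹ * g) := by rw [h6]; group
      · exact exists_of_conj (E.st.nK g hgt) hk
    rcases E.a.a1 α (hαP z rfl) (fun x hx _ => hαP x hx) with h1 | h1
    · rcases key 1 (by rw [h1, map_one]) with h2 | h2
      · left
        rwa [OneMemClass.coe_one, inv_one, one_mul] at h2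
      · right; right; left
        rwa [OneMemClass.coe_one, inv_one, one_mul] at h2
    · rcases key z h1 with h2 | h2
      · right; left
        exact (inv_mul_eq_one.1 h2).symm
      · right; right; right
        have : g = z * t := by rw [← h2]; group
        rw [this, E.comm]

/-- **the position** -/
theorem Emb.pos [Finite G] (E : Emb K t q z R) (hG : _root_.commutator G = ⊤)
    (hG2 : ∀ H : Subgroup G, H.index ≠ 2) : Pos K t z R := by
  obtain ⟨T, F⟩ := E.facts
  obtain ⟨Fr, hQ, S, hTS, hSz, ⟨x, hxS, hxN, hxT, hxt, hxz⟩, hnc, htH⟩ := CycT.main F hG hG2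
  exact
    { oloc := E.oloc hQ
      nc := hnc
      sw := ⟨x, hxt, hxz⟩
      tH := htH }

/-- the core -/
theorem Pos.exists_opos [Finite G] (h : Pos K t z R) (hz : Main.At (z : G)) :
    ∃ F : Subgroup G, OPos t (z : G) K (R.map K.subtype) F := by
  obtain ⟨F, hF, htF⟩ := h.oloc.data.exists_core h.tH hz.core hz.ni
  exact ⟨F, { toOLoc := h.oloc, F' := hF, tF := htF, nc := h.nc, sw := h.sw }⟩

/-- **one class of involutions, `|Out(K)| ≤ 2`** -/
theorem false_of_cls [Finite G] (hG : _root_.commutator G = ⊤) (hG2 : ∀ H : Subgroup G, H.index ≠ 2)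
    (st : Start K t q) (f : FactsOut.Cls z R) (a : FactsOut.Aut z R) (hz : Main.At (z : G)) : False := by
  have E : Emb K t q z R := ⟨st, f.toBase, a⟩
  obtain ⟨F, h⟩ := (E.pos hG hG2).exists_opos hz
  obtain ⟨w, hw, ww, w1, wz⟩ := f.inv
  obtain ⟨v, k, vv, hvz, hkv, hkR, hR⟩ := f.ex
  refine h.false_cls ?_ (w := w) (mem_map.2 hw) (congrArg Subtype.val ww) (fun e => w1 (Subtype.ext e))
    (fun e => wz (Subtype.ext e)) (v := v) (k := k) v.2 k.2 (congrArg Subtype.val vv)
    (congrArg Subtype.val hvz) (congrArg Subtype.val hkv) (fun e => hkR ?_) ?_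
  · intro p hp hpp hp1
    obtain ⟨k', hk'⟩ := f.one ⟨p, hp⟩ (Subtype.ext hpp) (fun e => hp1 (congrArg Subtype.val e))
    exact ⟨k', k'.2, congrArg Subtype.val hk'⟩
  · exact mem_map.1 e
  · rintro _ ⟨r, hr, rfl⟩ hvr
    obtain ⟨g, hgz, hgv⟩ := hR r hr (Subtype.ext hvr)
    exact ⟨g, g.2, congrArg Subtype.val hgz, congrArg Subtype.val hgv⟩

/-- the centre of `K` -/
theorem center_eq_bot {K : Type*} [Group K] {z : K} {R : Subgroup K} (f : FactsOut.Cls z R) :
    center K = ⊥ := by
  rw [eq_bot_iff]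
  intro x hx
  rw [mem_bot]
  have hx' := mem_center_iff.1 hx
  rcases f.cR x (hx' z).symm (fun r _ => (hx' r).symm) with h1 | h1
  · exact h1
  · exfalso
    obtain ⟨v, k, -, -, -, hkR, -⟩ := f.ex
    apply hkR
    have h2 : k⁻¹ * z * k = z := by
      rw [← h1, mul_assoc, ← hx' k, ← mul_assoc, inv_mul_cancel, one_mul]
    rw [h2]; exact f.zR

/-- **The row**: one class of involutions, `|Out(K)| ≤ 2` -/
theorem row_cls {G : Type u} [Group G] (hG : Iface.Ctx G) {K : Subgroup G} (hK : Iface.Std G K)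
    (hC : Iface.Cyc K) {z : ↥K} {R : Subgroup ↥K} (f : FactsOut.Cls z R) (a : FactsOut.Aut z R)
    (hNI : (⟨(z : G), mem_centralizer_singleton_iff.2 rfl⟩ : ↥(centralizer ({(z : G)} : Set G))) ∉
      layer ↥(centralizer ({(z : G)} : Set G))) : False := by
  have := hG.fin
  obtain ⟨t, q, st⟩ := exists_start hG hK hC (center_eq_bot f)
  refine false_of_cls (commutator_eq_top hG) (index_ne_two hG) st f a ⟨?_, hNI⟩
  apply Soft.core_eq_bot
  apply hG.bal
  have h1 : (z : G) ≠ 1 := fun e => f.z1 (Subtype.ext e)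
  exact orderOf_eq_prime (by rw [pow_two]; exact congrArg Subtype.val f.zz) h1

end Cfsg.Agent.OddHalf.D6.QThree.FrontOut
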