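import Cfsg.Agent.OddHalf.D6.QThree.NI
import Cfsg.Agent.OddHalf.CaseM.End

/-!
# ODD half, D6, `q = 3`: `C_G(z)` has no component (helper135, bb #10784)

`noComp`: `G` in the frame `Ctx G`, `X = C_G(z)` with `NI.Hyp`, `t ∈ X'`, `Q₁`, `Q₂` not normal in `X` (`NINorm`, or
conjugate in `C_K(z)`): then `X` has no component (given `CaseM.Intr`, `CaseM.IntrSign` as for D8). S1309 is not used.
-/

set_option autoImplicit false

namespace Cfsg.Agent.OddHalf.D6.QThree.NIEnd

open Subgroup Cfsg
open Cfsg.Agent.OddHalf Cfsg.Agent.OddHalf.Iface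
open Cfsg.Agent.OddHalf.CaseM (IntrSign rank_two compOf_map even_card)
open Cfsg.Agent.Cit (cj mem_cj conj_mem_cj)
open Cfsg.Agent.OddHalf.D6.QThree.NISide

universe u

variable {G : Type u} [Group G]

/-- **the theorem** -/
theorem noComp (hGW : SylowSp4.Hyps.GW.{u}) (hI : CaseM.Intr.{u}) (hS : IntrSign.{u}) (C : Ctx G) {z t : G}
    (hz : orderOf z = 2) (htz : t * z = z * t) {z' t' a₁ a₂ : ↥(centralizer ({z} : Set G))} (hz' : (z' : G) = z)
    (ht' : (t' : G) = t) {Q₁ Q₂ : Subgroup ↥(centralizer ({z} : Set G))} (h : NI.Hyp z' t' a₁ a₂ Q₁ Q₂)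
    (hn₁ : ¬ Q₁.Normal) (hn₂ : ¬ Q₂.Normal)
    (hcom : t' ∈ commutator ↥(centralizer ({z} : Set G))) (M : Subgroup ↥(centralizer ({z} : Set G))) :
    ¬ IsComponent M := by
  intro hM
  have hfin := C.fin
  have hsimp := C.simple
  -- no sign
  have hlam : ∀ lam : ↥(centralizer ({z} : Set G)) →* ℤˣ, lam t' ≠ -1 := by
    intro lam hl
    have h1 : commutator ↥(centralizer ({z} : Set G)) ≤ lam.ker := Abelianization.commutator_subset_ker lam
    have h2 : lam t' = 1 := h1 hcom
    rw [h2] at hl
    exact absurd hl (by decide)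
  rcases h.main hM with ⟨M₁, hM₁, hzM₁, huniq⟩ | ⟨lam, hl⟩ | (hn | hn) | ⟨huniq, hMn, hQ, hcase⟩
  · -- rank one
    have hcomp := compOf_map hM₁
    refine rank_two C hGW hz hcomp ⟨_, hzM₁, hz'⟩ ?_
    intro E _ hE
    have hEz : ∀ x ∈ E, x = 1 ∨ ((x : ↥(M₁.map (centralizer ({z} : Set G)).subtype)) : G) = z := by
      intro x hx
      obtain ⟨y, hy, hyx⟩ := x.2
      have h1 : ((x : ↥(M₁.map (centralizer ({z} : Set G)).subtype)) : G) *
          ((x : ↥(M₁.map (centralizer ({z} : Set G)).subtype)) : G) = 1 := by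
        have := congrArg Subtype.val (hE x hx)
        rw [pow_two] at this
        exact this
      have hyx' : (y : G) = ((x : ↥(M₁.map (centralizer ({z} : Set G)).subtype)) : G) := hyx
      rcases huniq y hy (Subtype.ext (by
        show (y : G) * y = 1
        rw [hyx']; exact h1)) with e | e
      · left
        apply Subtype.ext
        rw [← hyx', e]; rfl
      · right
        rw [← hyx', e, hz']
    have hle : E ≤ zpowers (⟨z, ⟨z', hzM₁, hz'⟩⟩ : ↥(M₁.map (centralizer ({z} : Set G)).subtype)) := by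
      intro x hx
      rcases hEz x hx with e | e
      · rw [e]; exact one_mem _
      · have : x = ⟨z, ⟨z', hzM₁, hz'⟩⟩ := Subtype.ext e
        rw [this]; exact mem_zpowers _
    have hcard := Subgroup.card_le_of_le hle
    rw [Nat.card_zpowers] at hcard
    have ho : orderOf (⟨z, ⟨z', hzM₁, hz'⟩⟩ : ↥(M₁.map (centralizer ({z} : Set G)).subtype)) = 2 := by
      rw [← Subgroup.orderOf_coe]; exact hz
    rw [ho] at hcard
    exact hcard
  · exact hlam lam hl
  · exact hn₁ hn
  · exact hn₂ hn
  -- `M` is normal in `C(z)` and contains `z`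
  have hzM' : z' ∈ M := by
    rcases hQ with hQ | hQ
    · exact hQ h.s₁.zQ
    · exact hQ h.s₂.zQ
  have hcomp := compOf_map hM
  have htH : t ∈ centralizer ({z} : Set G) := mem_centralizer_singleton_iff.2 htz
  have htt' : t' = ⟨t, htH⟩ := Subtype.ext ht'
  have htt : t * t = 1 := by
    have := congrArg Subtype.val h.tt
    rw [htt'] at this
    exact this
  set MG : Subgroup G := M.map (centralizer ({z} : Set G)).subtype with hMG
  have hzM : z ∈ MG := ⟨z', hzM', hz'⟩
  have hrk := rank_two C hGW hz hcomp hzM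
  have hq := Soft.CompOf.quasisimple hcomp
  have hnt := Soft.CompOf.ne_top C.na hz hcomp
  have hkn := Known.known_quotient C.kproper _ hnt _ hq.2 (Soft.quo_na hq)
  have hnc : ∃ x ∈ MG, t * x ≠ x * t := by
    by_contra hcon
    push Not at hcon
    refine h.not_le hM.2 (fun x hx => ?_)
    apply Subtype.ext
    show (x : G) * t' = t' * x
    rw [ht']
    exact (hcon x ⟨x, hx, rfl⟩).symm
  rcases hcase with ⟨htM, hcM⟩ | htM
  · -- `t ∈ M`, `C(M) = ⟨z⟩`
    obtain ⟨-, hcent, hnorm, hstd⟩ := Table.lemmaS (D₀ := (MG : Set G)) hz htt hcomp.1 hcomp.2 hzM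
      (fun d hd => hd) (by
        intro y hyz _ hyM
        have hyH : y ∈ centralizer ({z} : Set G) := mem_centralizer_singleton_iff.2 hyz
        rcases hcM ⟨y, hyH⟩ (by
          rw [mem_centralizer_iff]
          intro x hx
          exact Subtype.ext (hyM x ⟨x, hx, rfl⟩).symm) with e | e
        · exact Or.inl (congrArg Subtype.val e)
        · exact Or.inr (Or.inr (Or.inl (by
            have := congrArg Subtype.val e
            rw [hz'] at this
            exact this))))
      ⟨t, ⟨t', htM, ht'⟩, fun x _ => rfl⟩ hnc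
    exact hI G C _ z
      { hz := hz
        comp := hcomp
        zM := hzM
        cent := hcent
        norm := hnorm
        std := hstd
        ne_top := hnt
        z2 := Soft.CompOf.center_isPGroup (C.bal _ hz) hcomp
        rk2 := hrk
        simple := hq.2
        quo_na := Soft.quo_na hq
        known := hkn }
  · -- `t ∉ M C(M)`
    have hn : ∀ g ∈ centralizer ({z} : Set G), ∀ x ∈ MG, g * x * g⁻¹ ∈ MG := by
      rintro g hg _ ⟨x, hx, rfl⟩
      exact ⟨⟨g, hg⟩ * x * ⟨g, hg⟩⁻¹, hMn.conj_mem x hx _, rfl⟩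
    have hperf : ⁅MG, MG⁆ = MG := by
      rw [hMG, ← map_commutator, isPerfect_iff.1 hM.2.1]
    obtain ⟨lam, hl, -, -⟩ := Table.exists_lam_sub hcomp.1 hn hperf (MulEquiv.refl _)
      (hS G C _ z hz hcomp hzM hrk hq.2 (Soft.quo_na hq) hkn) htH (by
        intro x _
        rw [htt, one_mul, mul_one]) (by
        rintro _ ⟨x, hx, rfl⟩ c hc hcx e
        apply htM
        have e1 : t' = x * ⟨c, hc⟩ := Subtype.ext (ht'.trans e)
        rw [e1]
        refine mul_mem (mem_sup_left hx) (mem_sup_right ?_)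
        rw [mem_centralizer_iff]
        intro y hy
        exact Subtype.ext (hcx y ⟨y, hy, rfl⟩).symm)
    refine hlam lam ?_
    rw [htt']; exact hl

end Cfsg.Agent.OddHalf.D6.QThree.NIEnd
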