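import Cfsg.Agent.OddHalf.D6.QThree.Core
import Cfsg.Agent.S1442

/-!
# ODD half, D6, `q = 3`: the contradiction, `t ∈ O₂(C_G(z))` (helper143, after helper135 #7766 (4))

`Pos t z K R F`: the situation `Loc`, a self-centralising normal 2-subgroup `F` of `C_G(z)` with `t ∈ F`, `t` not
conjugate to `z`, an element `s` with `t^s = t z`, `z^s = z`.

* `Pos.ytrick`;
* `Pos.false_one` (`G₂(3)`, `L₄(3)`), `Pos.false_two` (`U₄(3)`), `Pos.false_three` (`PSp₄(3)`).
-/

set_option autoImplicit false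

namespace Cfsg.Agent.OddHalf.D6.QThree.End

open Subgroup Cfsg Cfsg.Agent.OddHalf.D6.QThree.Sit Cfsg.Agent.OddHalf.D6.QThree.Core

variable {G : Type*} [Group G] {t z : G} {K R F : Subgroup G}

/-! ### groups abelian modulo a normal subgroup -/

theorem comm_mem_of_gen {X D : Subgroup G} {T : Set G} (hD : ∀ x ∈ X, ∀ d ∈ D, x * d * x⁻¹ ∈ D)
    (hTX : T ⊆ X) (hDX : D ≤ X) (hX : X ≤ closure (T ∪ D)) (hT : ∀ a ∈ T, ∀ b ∈ T, a * b * a⁻¹ * b⁻¹ ∈ D) :
    ∀ a ∈ X, ∀ b ∈ X, a * b * a⁻¹ * b⁻¹ ∈ D := by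
  -- the elements commuting with `b` modulo `D`
  let C : G → Subgroup G := fun b =>
    { carrier := {a | a ∈ X ∧ (b ∈ X → a * b * a⁻¹ * b⁻¹ ∈ D)}
      one_mem' := ⟨X.one_mem, fun _ => by
        have e : (1 : G) * b * 1⁻¹ * b⁻¹ = 1 := by group
        rw [e]; exact D.one_mem⟩
      mul_mem' := by
        rintro x y ⟨hx, hx'⟩ ⟨hy, hy'⟩
        refine ⟨X.mul_mem hx hy, fun hb => ?_⟩
        have e : x * y * b * (x * y)⁻¹ * b⁻¹ = (x * (y * b * y⁻¹ * b⁻¹) * x⁻¹) * (x * b * x⁻¹ * b⁻¹) := by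
          group
        rw [e]; exact D.mul_mem (hD x hx _ (hy' hb)) (hx' hb)
      inv_mem' := by
        rintro x ⟨hx, hx'⟩
        refine ⟨X.inv_mem hx, fun hb => ?_⟩
        have e : x⁻¹ * b * x⁻¹⁻¹ * b⁻¹ = x⁻¹ * (x * b * x⁻¹ * b⁻¹)⁻¹ * x⁻¹⁻¹ := by group
        rw [e]; exact hD _ (X.inv_mem hx) _ (D.inv_mem (hx' hb)) }
  have hDC : ∀ b, D ≤ C b := by
    intro b d hd
    refine ⟨hDX hd, fun hb => ?_⟩
    have e : d * b * d⁻¹ * b⁻¹ = d * (b * d⁻¹ * b⁻¹) := by group
    rw [e]; exact D.mul_mem hd (hD b hb _ (D.inv_mem hd))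
  have h1 : ∀ b ∈ T, X ≤ C b := by
    intro b hb
    refine hX.trans ((closure_le _).2 ?_)
    rintro a (ha | ha)
    · exact ⟨hTX ha, fun _ => hT a ha b hb⟩
    · exact hDC b ha
  have h2 : ∀ b ∈ X, X ≤ C b := by
    intro b hb
    refine hX.trans ((closure_le _).2 ?_)
    rintro a (ha | ha)
    · refine ⟨hTX ha, fun hb' => ?_⟩
      have h3 := (h1 a ha hb').2 (hTX ha)
      have e : a * b * a⁻¹ * b⁻¹ = (b * a * b⁻¹ * a⁻¹)⁻¹ := by group
      rw [e]; exact D.inv_mem h3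
    · exact hDC b ha
  intro a ha b hb
  exact (h2 b hb ha).2 hb

theorem mem_of_commutator {X D : Subgroup G} (h : ∀ a ∈ X, ∀ b ∈ X, a * b * a⁻¹ * b⁻¹ ∈ D) {t : G}
    (htX : t ∈ X) (ht : (⟨t, htX⟩ : X) ∈ _root_.commutator X) : t ∈ D := by
  have h1 : _root_.commutator X ≤ D.subgroupOf X := by
    rw [_root_.commutator_def, commutator_le]
    rintro ⟨a, ha⟩ - ⟨b, hb⟩ -
    exact h a ha b hb
  exact h1 ht

/-- the position -/
structure Pos (t z : G) (K R F : Subgroup G) : Prop extends Loc t z K R where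
  F' : IsF z F
  tF : t ∈ F
  nc : ∀ g, g * t * g⁻¹ ≠ z
  sw : ∃ s : G, s * t * s⁻¹ = t * z ∧ s * z * s⁻¹ = z

namespace Pos

theorem ncj (h : Pos t z K R F) {a b : G} (ha : IsConj t a) (hb : IsConj z b) : ¬ IsConj a b := by
  intro hab
  obtain ⟨g, hg⟩ := isConj_iff.1 ((ha.trans hab).trans hb.symm)
  exact h.nc g hg

/-- `t ~ t v` for `v ~_K z` -/
theorem conj_tv (h : Pos t z K R F) {v k : G} (hk : k ∈ K) (hkv : k * z * k⁻¹ = v) : IsConj t (t * v) := by
  obtain ⟨s, hs, -⟩ := h.sw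
  refine isConj_iff.2 ⟨k * s, ?_⟩
  calc k * s * t * (k * s)⁻¹ = k * (s * t * s⁻¹) * k⁻¹ := by group
    _ = (k * t) * z * k⁻¹ := by rw [hs]; group
    _ = t * (k * z * k⁻¹) := by rw [h.Kt k hk]; group
    _ = t * v := by rw [hkv]

theorem swap_inv {s t z : G} (zz : z * z = 1) (hs : s * t * s⁻¹ = t * z) (hsz : s * z * s⁻¹ = z) :
    s⁻¹ * t * s = t * z ∧ s⁻¹ * z * s = z := by
  have h2 : s⁻¹ * z * s = z := by
    calc s⁻¹ * z * s = s⁻¹ * (s * z * s⁻¹) * s := by rw [hsz]
      _ = z := by group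
  refine ⟨?_, h2⟩
  have h3 : t = s⁻¹ * t * s * (s⁻¹ * z * s) := by
    calc t = s⁻¹ * (s * t * s⁻¹) * s := by group
      _ = s⁻¹ * t * s * (s⁻¹ * z * s) := by rw [hs]; group
  rw [h2] at h3
  calc s⁻¹ * t * s = s⁻¹ * t * s * z * z := by rw [mul_assoc _ z z, zz, mul_one]
    _ = t * z := by rw [← h3]

/-- `s` maps `C(t) ∩ C(z)` to itself -/
theorem swap_cen {s t z x : G} (zz : z * z = 1) (hs : s * t * s⁻¹ = t * z) (hsz : s * z * s⁻¹ = z)
    (hxt : x * t = t * x) (hxz : x * z = z * x) :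
    (s * x * s⁻¹) * t = t * (s * x * s⁻¹) ∧ (s * x * s⁻¹) * z = z * (s * x * s⁻¹) := by
  obtain ⟨h1, h2⟩ := swap_inv zz hs hsz
  exact Loc.norm_cen (Or.inr (Or.inr h1)) (Or.inr (Or.inl h2)) x hxt hxz

theorem swap_cen_inv {s t z x : G} (hs : s * t * s⁻¹ = t * z) (hsz : s * z * s⁻¹ = z)
    (hxt : x * t = t * x) (hxz : x * z = z * x) :
    (s⁻¹ * x * s) * t = t * (s⁻¹ * x * s) ∧ (s⁻¹ * x * s) * z = z * (s⁻¹ * x * s) := by
  have := Loc.norm_cen (g := s⁻¹) (t := t) (z := z) (Or.inr (Or.inr (by rwa [inv_inv])))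
    (Or.inr (Or.inl (by rwa [inv_inv]))) x hxt hxz
  rwa [inv_inv] at this

/-- elements of `F ∩ K` lie in `R` -/
theorem mem_R (h : Pos t z K R F) {x : G} (hx : x ∈ F) (hxK : x ∈ K) : x ∈ R :=
  proj_mem h.toLoc h.F'.pF h.F'.le (fun g _ hgz => h.F'.nor g hgz) hxK (Or.inl hx)

/-- **the y-trick** -/
theorem ytrick (h : Pos t z K R F) {v k y : G} (hk : k ∈ K)
    (hkv : k * z * k⁻¹ = v) (hkR : k⁻¹ * z * k ∉ R) (hyv : y * v * y⁻¹ = v) (hyt : y * t * y⁻¹ = t * z) :
    False := by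
  apply hkR
  have hkt : k⁻¹ * t * k = t := by
    have h1 : Commute k t := h.Kt k hk
    rw [h1.inv_left.eq, mul_assoc, inv_mul_cancel, mul_one]
  have hkt2 : k * t * k⁻¹ = t := by
    rw [h.Kt k hk, mul_assoc, mul_inv_cancel, mul_one]
  have hkv2 : k⁻¹ * v * k = z := by rw [← hkv]; group
  set x : G := k⁻¹ * y * k with hx
  have hxz : x * z = z * x := by
    have h1 : x * z * x⁻¹ = z := by
      calc x * z * x⁻¹ = k⁻¹ * (y * (k * z * k⁻¹) * y⁻¹) * k := by rw [hx]; group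
        _ = z := by rw [hkv, hyv, hkv2]
    rwa [mul_inv_eq_iff_eq_mul] at h1
  have h2 : x * t * x⁻¹ = t * (k⁻¹ * z * k) := by
    calc x * t * x⁻¹ = k⁻¹ * (y * (k * t * k⁻¹) * y⁻¹) * k := by rw [hx]; group
      _ = (k⁻¹ * t * k) * (k⁻¹ * z * k) := by rw [hkt2, hyt]; group
      _ = t * (k⁻¹ * z * k) := by rw [hkt]
  have h3 : t * (k⁻¹ * z * k) ∈ F := by
    rw [← h2]; exact h.F'.nor x hxz t h.tF
  have h4 : k⁻¹ * z * k ∈ F := by
    have := F.mul_mem h.tF h3
    rwa [h.tmul] at this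
  exact h.mem_R h4 (K.mul_mem (K.mul_mem (K.inv_mem hk) h.zK) hk)

/-- **`G₂(3)`, `L₄(3)`** -/
theorem false_one (h : Pos t z K R F) {v k : G} (hv : v ∈ K) (hk : k ∈ K) (vv : v * v = 1)
    (hvz : v * z = z * v) (hkv : k * z * k⁻¹ = v) (hkR : k⁻¹ * z * k ∉ R)
    (hinv : ∀ d ∈ K, d * z = z * d → orderOf d = 3 → v * d * v⁻¹ * d ∈ R)
    (huni : ∀ p ∈ K, p * z = z * p → p * p = 1 →
      (∀ d ∈ K, d * z = z * d → orderOf d = 3 → p * d * p⁻¹ * d ∈ R) →
      ∃ h ∈ K, h * z = z * h ∧ h * p * h⁻¹ = v) : False := by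
  obtain ⟨s, hs, hsz⟩ := h.sw
  set w : G := s * v * s⁻¹ with hw
  obtain ⟨hwt, hwz⟩ := swap_cen h.zz hs hsz (h.Kt v hv) hvz
  have hww : w * w = 1 := by
    calc w * w = s * (v * v) * s⁻¹ := by rw [hw]; group
      _ = 1 := by rw [vv]; group
  -- the inversion of `d` modulo `R`
  have hwd : ∀ d ∈ K, d * z = z * d → orderOf d = 3 → w * d * w⁻¹ * d ∈ K → w * d * w⁻¹ * d ∈ R := by
    intro d hd hdz hd3 hK
    obtain ⟨h1, h2⟩ := swap_cen_inv hs hsz (h.Kt d hd) hdz
    have ho : orderOf (s⁻¹ * d * s) = 3 := by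
      rw [← hd3]
      have := orderOf_injective (MulAut.conj s⁻¹).toMonoidHom (MulAut.conj s⁻¹).injective d
      have e : (MulAut.conj s⁻¹).toMonoidHom d = s⁻¹ * d * s := by
        show s⁻¹ * d * s⁻¹⁻¹ = _
        rw [inv_inv]
      rwa [e] at this
    have h3 : s⁻¹ * d * s ∈ K := h.mem_of_odd h1 (by rw [ho]; decide)
    have h4 := hinv _ h3 h2 ho
    -- `s R s⁻¹`
    refine proj_mem h.toLoc (B := R.map (MulAut.conj s).toMonoidHom) (h.pR.map _) ?_ ?_ hK (Or.inl ?_)
    · rintro _ ⟨r, hr, rfl⟩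
      exact (swap_cen h.zz hs hsz (h.Kt r (h.RK hr)) (h.RP r hr)).2
    · rintro g hg hgz _ ⟨r, hr, rfl⟩
      obtain ⟨h5, h6⟩ := swap_cen_inv hs hsz (h.Kt g hg) hgz
      refine ⟨(s⁻¹ * g * s) * r * (s⁻¹ * g * s)⁻¹, ?_, ?_⟩
      · rcases h.cen _ h5 with h7 | h7
        · exact h.nR _ h7 h6 r hr
        · have h8 : t * (s⁻¹ * g * s) * z = z * (t * (s⁻¹ * g * s)) := by
            have c1 : Commute t z := h.comm
            have c2 : Commute (s⁻¹ * g * s) z := h6
            exact c1.mul_left c2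
          have h9 := h.nR _ h7 h8 r hr
          have e : t * (s⁻¹ * g * s) * r * (t * (s⁻¹ * g * s))⁻¹ =
              t * ((s⁻¹ * g * s) * r * (s⁻¹ * g * s)⁻¹) * t⁻¹ := by group
          rw [e] at h9
          have h10 := h.Kt _ (h.RK h9)
          have h11 : (s⁻¹ * g * s) * r * (s⁻¹ * g * s)⁻¹ =
              t⁻¹ * (t * ((s⁻¹ * g * s) * r * (s⁻¹ * g * s)⁻¹) * t⁻¹) * t := by group
          rw [h11, mul_assoc, h10, ← mul_assoc, inv_mul_cancel, one_mul]
          exact h9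
      · show s * ((s⁻¹ * g * s) * r * (s⁻¹ * g * s)⁻¹) * s⁻¹ = g * (s * r * s⁻¹) * g⁻¹
        group
    · refine ⟨_, h4, ?_⟩
      show s * (v * (s⁻¹ * d * s) * v⁻¹ * (s⁻¹ * d * s)) * s⁻¹ = w * d * w⁻¹ * d
      rw [hw]; group
  rcases h.cen w hwt with h1 | h1
  · obtain ⟨g, hg, hgz, hgw⟩ := huni w h1 hwz hww (fun d hd hdz hd3 => hwd d hd hdz hd3
      (K.mul_mem (K.mul_mem (K.mul_mem h1 hd) (K.inv_mem h1)) hd))
    apply h.ytrick hk hkv hkR (y := g * s)
    · calc g * s * v * (g * s)⁻¹ = g * w * g⁻¹ := by rw [hw]; group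
        _ = v := hgw
    · calc g * s * t * (g * s)⁻¹ = g * (s * t * s⁻¹) * g⁻¹ := by group
        _ = (g * t) * z * g⁻¹ := by rw [hs]; group
        _ = t * (g * z) * g⁻¹ := by rw [h.Kt g hg]; group
        _ = t * z := by rw [hgz]; group
  · have hpt := h.Kt _ h1
    have hctw : Commute t w := (show Commute w t from hwt).symm
    have hptp : (t * w) * (t * w) = 1 := by
      calc (t * w) * (t * w) = (t * w) * (w * t) := by rw [hctw.eq]
        _ = t * (w * w) * t := by group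
        _ = 1 := by rw [hww, mul_one, h.tt]
    have hptz : (t * w) * z = z * (t * w) := by
      have c1 : Commute t z := h.comm
      have c2 : Commute w z := hwz
      exact c1.mul_left c2
    have hd' : ∀ d ∈ K, (t * w) * d * (t * w)⁻¹ * d = w * d * w⁻¹ * d := by
      intro d hd
      have c1 : Commute t d := (h.Kt d hd).symm
      have c2 : Commute t (w * d * w⁻¹) := (hctw.mul_right c1).mul_right hctw.inv_right
      calc (t * w) * d * (t * w)⁻¹ * d = (t * (w * d * w⁻¹)) * t⁻¹ * d := by group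
        _ = w * d * w⁻¹ * d := by rw [c2.eq]; group
    obtain ⟨g, hg, hgz, hgw⟩ := huni (t * w) h1 hptz hptp (fun d hd hdz hd3 => by
      rw [hd' d hd]
      apply hwd d hd hdz hd3
      rw [← hd' d hd]
      exact K.mul_mem (K.mul_mem (K.mul_mem h1 hd) (K.inv_mem h1)) hd)
    -- `w ~ t v ~ t`, `w ~ v ~ z`
    have h2 : g * w * g⁻¹ = t * v := by
      have c1 : Commute t g := (h.Kt g hg).symm
      calc g * w * g⁻¹ = g * (t * (t * w)) * g⁻¹ := by rw [h.tmul]
        _ = (g * t) * (t * w) * g⁻¹ := by group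
        _ = t * (g * (t * w) * g⁻¹) := by rw [← c1.eq]; group
        _ = t * v := by rw [hgw]
    apply h.ncj (h.conj_tv hk hkv) (isConj_iff.2 ⟨k, hkv⟩)
    have h3 : IsConj v w := isConj_iff.2 ⟨s, rfl⟩
    have h4 : IsConj w (t * v) := isConj_iff.2 ⟨g, h2⟩
    exact (h3.trans h4).symm

/-- Case I -/
theorem conj_t_of_le [Finite G] (h : Pos t z K R F) (hFt : ∀ x ∈ F, x * t = t * x) {x : G} (hxz : x * z = z * x) :
    x * t * x⁻¹ = t ∨ x * t * x⁻¹ = t * z := by
  have hxi : x⁻¹ * z = z * x⁻¹ := (Commute.inv_left (show Commute x z from hxz)).eq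
  have hB : x * t * x⁻¹ ∈ F ⊓ centralizer (F : Set G) := by
    refine ⟨h.F'.nor x hxz t h.tF, mem_centralizer_iff.2 ?_⟩
    intro f hf
    have h1 := h.F'.nor x⁻¹ hxi f hf
    rw [inv_inv] at h1
    have h2 := hFt _ h1
    calc f * (x * t * x⁻¹) = x * ((x⁻¹ * f * x) * t) * x⁻¹ := by group
      _ = x * (t * (x⁻¹ * f * x)) * x⁻¹ := by rw [h2]
      _ = x * t * x⁻¹ * f := by group
  have hBn : ∀ g ∈ K, g * z = z * g → ∀ b ∈ F ⊓ centralizer (F : Set G),
      g * b * g⁻¹ ∈ F ⊓ centralizer (F : Set G) := by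
    intro g _ hgz b hb
    refine ⟨h.F'.nor g hgz b hb.1, mem_centralizer_iff.2 ?_⟩
    intro f hf
    have hgi : g⁻¹ * z = z * g⁻¹ := (Commute.inv_left (show Commute g z from hgz)).eq
    have h1 := h.F'.nor g⁻¹ hgi f hf
    rw [inv_inv] at h1
    have h2 := mem_centralizer_iff.1 hb.2 _ h1
    calc f * (g * b * g⁻¹) = g * ((g⁻¹ * f * g) * b) * g⁻¹ := by group
      _ = g * (b * (g⁻¹ * f * g)) * g⁻¹ := by rw [h2]
      _ = g * b * g⁻¹ * f := by group
  rcases abel_mem h.toLoc (h.F'.pF.to_le inf_le_left) (fun b hb => hFt b hb.1) (fun b hb => h.F'.le b hb.1)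
    (fun a ha b hb => mem_centralizer_iff.1 hb.2 a ha.1) hBn hB with (h1 | h1) | h1 | h1
  · exact absurd (conj_eq_one_iff.1 h1) h.t1
  · exact absurd h1 (h.nc x)
  · exact Or.inl h1
  · exact Or.inr h1

/-- Case II -/
theorem exists_mem [Finite G] (h : Pos t z K R F) (hFt : ¬ ∀ x ∈ F, x * t = t * x) :
    ∃ s ∈ F, s * t * s⁻¹ = t * z := by
  set F₁ : Subgroup G := F ⊓ centralizer ({t} : Set G) with hF₁
  have hlt : F₁ < F := by
    refine lt_of_le_of_ne inf_le_left ?_
    intro e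
    apply hFt
    intro x hx
    rw [← e] at hx
    exact mem_centralizer_singleton_iff.1 hx.2
  have : Group.IsNilpotent F := h.F'.pF.isNilpotent
  obtain ⟨x, hxF, hxF₁, hxN⟩ := Cfsg.Agent.Transfer.FrobeniusFusion.exists_mem_normalizer_notMem hlt
  have htF₁ : t ∈ F₁ := ⟨h.tF, mem_centralizer_singleton_iff.2 rfl⟩
  have hB : x * t * x⁻¹ ∈ F₁ ⊓ centralizer (F₁ : Set G) := by
    refine ⟨(mem_normalizer_iff.1 hxN t).1 htF₁, mem_centralizer_iff.2 ?_⟩
    intro f hf
    have h1 : x⁻¹ * f * x ∈ F₁ := by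
      apply (mem_normalizer_iff.1 hxN _).2
      have e : x * (x⁻¹ * f * x) * x⁻¹ = f := by group
      rw [e]; exact hf
    have h2 := mem_centralizer_singleton_iff.1 h1.2
    calc f * (x * t * x⁻¹) = x * ((x⁻¹ * f * x) * t) * x⁻¹ := by group
      _ = x * (t * (x⁻¹ * f * x)) * x⁻¹ := by rw [h2]
      _ = x * t * x⁻¹ * f := by group
  have hF₁n : ∀ g, g * t = t * g → g * z = z * g → ∀ f ∈ F₁, g * f * g⁻¹ ∈ F₁ := by
    intro g hgt hgz f hf
    have c1 : Commute g t := hgt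
    have c2 : Commute f t := mem_centralizer_singleton_iff.1 hf.2
    exact ⟨h.F'.nor g hgz f hf.1, mem_centralizer_singleton_iff.2 ((c1.mul_left c2).mul_left c1.inv_left)⟩
  have hBn : ∀ g ∈ K, g * z = z * g → ∀ b ∈ F₁ ⊓ centralizer (F₁ : Set G),
      g * b * g⁻¹ ∈ F₁ ⊓ centralizer (F₁ : Set G) := by
    intro g hg hgz b hb
    refine ⟨hF₁n g (h.Kt g hg) hgz b hb.1, mem_centralizer_iff.2 ?_⟩
    intro f hf
    have hgi : g⁻¹ * z = z * g⁻¹ := (Commute.inv_left (show Commute g z from hgz)).eq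
    have hgti : g⁻¹ * t = t * g⁻¹ := (Commute.inv_left (show Commute g t from h.Kt g hg)).eq
    have h1 := hF₁n g⁻¹ hgti hgi f hf
    rw [inv_inv] at h1
    have h2 := mem_centralizer_iff.1 hb.2 _ h1
    calc f * (g * b * g⁻¹) = g * ((g⁻¹ * f * g) * b) * g⁻¹ := by group
      _ = g * (b * (g⁻¹ * f * g)) * g⁻¹ := by rw [h2]
      _ = g * b * g⁻¹ * f := by group
  refine ⟨x, hxF, ?_⟩
  rcases abel_mem h.toLoc (h.F'.pF.to_le (inf_le_left.trans inf_le_left))
    (fun b hb => mem_centralizer_singleton_iff.1 hb.1.2) (fun b hb => h.F'.le b hb.1.1)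
    (fun a ha b hb => mem_centralizer_iff.1 hb.2 a ha.1) hBn hB with (h1 | h1) | h1 | h1
  · exact absurd (conj_eq_one_iff.1 h1) h.t1
  · exact absurd h1 (h.nc x)
  · exfalso
    apply hxF₁
    refine ⟨hxF, mem_centralizer_singleton_iff.2 ?_⟩
    rwa [mul_inv_eq_iff_eq_mul] at h1
  · exact h1

/-- Case I: `C(z) = M ∪ s M` -/
theorem mem_or_of_le [Finite G] (h : Pos t z K R F) (hFt : ∀ x ∈ F, x * t = t * x) {s : G}
    (hs : s * t * s⁻¹ = t * z) {x : G} (hxz : x * z = z * x) : x * t = t * x ∨ (s⁻¹ * x) * t = t * (s⁻¹ * x) := by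
  rcases h.conj_t_of_le hFt hxz with h1 | h1
  · left
    rwa [mul_inv_eq_iff_eq_mul] at h1
  · right
    have h2 : x * t * x⁻¹ = s * t * s⁻¹ := by rw [h1, hs]
    calc (s⁻¹ * x) * t = s⁻¹ * (x * t * x⁻¹) * x := by group
      _ = s⁻¹ * (s * t * s⁻¹) * x := by rw [h2]
      _ = t * (s⁻¹ * x) := by group

/-- commutators of elements of `C(t)` lie in `K` -/
theorem comm_mem_K (h : Pos t z K R F) {a b : G} (ha : a * t = t * a) (hb : b * t = t * b) :
    a * b * a⁻¹ * b⁻¹ ∈ K := by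
  have hct : ∀ x : G, x * t = t * x → ∃ c y, (c = 1 ∨ c = t) ∧ y ∈ K ∧ x = c * y := by
    intro x hx
    rcases h.cen x hx with h1 | h1
    · exact ⟨1, x, Or.inl rfl, h1, (one_mul x).symm⟩
    · exact ⟨t, t * x, Or.inr rfl, h1, (h.tmul x).symm⟩
  obtain ⟨c, a', hc, ha', rfl⟩ := hct a ha
  obtain ⟨d, b', hd, hb', rfl⟩ := hct b hb
  have hcy : ∀ c y, (c = 1 ∨ c = t) → y ∈ K → Commute c y := by
    rintro c y (rfl | rfl) hy
    · exact Commute.one_left _
    · exact (show Commute y c from h.Kt y hy).symm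
  have cd : Commute c d := by
    rcases hc with rfl | rfl <;> rcases hd with rfl | rfl
    exacts [Commute.one_left _, Commute.one_left _, Commute.one_right _, Commute.refl _]
  rw [Loc.comm_aux (hcy c a' hc ha') (hcy c b' hc hb') (hcy d a' hd ha') (hcy d b' hd hb') cd]
  exact K.mul_mem (K.mul_mem (K.mul_mem ha' hb') (K.inv_mem ha')) (K.inv_mem hb')

/-- Case II: `s v s⁻¹ ∈ v R ∪ t v R` -/
theorem exists_of_mem (h : Pos t z K R F) {s v : G} (hsF : s ∈ F) (hs : s * t * s⁻¹ = t * z) (hv : v ∈ K)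
    (vv : v * v = 1) (hvz : v * z = z * v) :
    ∃ r ∈ R, v * r * (v * r) = 1 ∧ (s * v * s⁻¹ = v * r ∨ s * v * s⁻¹ = t * (v * r)) := by
  have hsz : s * z * s⁻¹ = z := by rw [h.F'.le s hsF]; group
  have hvt := h.Kt v hv
  obtain ⟨hwt, hwz⟩ := swap_cen h.zz hs hsz hvt hvz
  set w : G := s * v * s⁻¹ with hw
  have hww : w * w = 1 := by
    calc w * w = s * (v * v) * s⁻¹ := by rw [hw]; group
      _ = 1 := by rw [vv]; group
  have hfF : w * v⁻¹ ∈ F := by
    have e : w * v⁻¹ = s * (v * s⁻¹ * v⁻¹) := by rw [hw]; group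
    rw [e]; exact F.mul_mem hsF (h.F'.nor v hvz _ (F.inv_mem hsF))
  have hvi : v⁻¹ * z = z * v⁻¹ := (Commute.inv_left (show Commute v z from hvz)).eq
  rcases h.cen w hwt with h1 | h1
  · have h2 : w * v⁻¹ ∈ R := h.mem_R hfF (K.mul_mem h1 (K.inv_mem hv))
    have h3 := h.nR v⁻¹ (K.inv_mem hv) hvi _ h2
    have e : v⁻¹ * (w * v⁻¹) * v⁻¹⁻¹ = v⁻¹ * w := by group
    rw [e] at h3
    have e2 : v * (v⁻¹ * w) = w := by group
    exact ⟨_, h3, by rw [e2]; exact hww, Or.inl e2.symm⟩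
  · have h2 : t * (w * v⁻¹) ∈ R := by
      apply h.mem_R (F.mul_mem h.tF hfF)
      rw [← mul_assoc]; exact K.mul_mem h1 (K.inv_mem hv)
    have h3 := h.nR v⁻¹ (K.inv_mem hv) hvi _ h2
    have e : v⁻¹ * (t * (w * v⁻¹)) * v⁻¹⁻¹ = v⁻¹ * (t * w) := by group
    rw [e] at h3
    have e2 : v * (v⁻¹ * (t * w)) = t * w := by group
    have c1 : Commute t w := (show Commute w t from hwt).symm
    refine ⟨_, h3, ?_, Or.inr ?_⟩
    · rw [e2]
      calc (t * w) * (t * w) = (t * w) * (w * t) := by rw [c1.eq]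
        _ = t * (w * w) * t := by group
        _ = 1 := by rw [hww, mul_one, h.tt]
    · rw [e2, h.tmul]

/-- elements conjugate to `z` -/
theorem conj_ne_t (h : Pos t z K R F) {a : G} (ha : IsConj z a) : ¬ IsConj t a := fun h1 =>
  h.ncj (IsConj.refl t) ha h1

/-- **`U₄(3)`** (and `G₂(3)`) -/
theorem false_two [Finite G] (h : Pos t z K R F)
    (htc : (⟨t, mem_centralizer_singleton_iff.2 h.comm⟩ : centralizer ({z} : Set G)) ∈
      _root_.commutator (centralizer ({z} : Set G)))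
    (hone : ∀ p ∈ K, p * p = 1 → p ≠ 1 → ∃ k ∈ K, k * z * k⁻¹ = p)
    (hgen : ∀ g ∈ K, g * z = z * g → g ∈ closure {p : G | p ∈ K ∧ p * z = z * p ∧ p * p = 1})
    {v k : G} (hv : v ∈ K) (hk : k ∈ K) (vv : v * v = 1)
    (hvz : v * z = z * v) (hkv : k * z * k⁻¹ = v) (hkR : k⁻¹ * z * k ∉ R)
    (hR : ∀ r ∈ R, v * r * (v * r) = 1 → ∃ h ∈ K, h * z = z * h ∧ h * (v * r) * h⁻¹ = v) : False := by
  have hzv : IsConj z v := isConj_iff.2 ⟨k, hkv⟩
  by_cases hFt : ∀ x ∈ F, x * t = t * x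
  · obtain ⟨s, hs, hsz⟩ := h.sw
    set D : Subgroup G := K ⊓ centralizer ({z} : Set G) with hD
    have hsD : ∀ d ∈ D, s * d * s⁻¹ ∈ D := by
      have hle : D ≤ D.comap (MulAut.conj s).toMonoidHom := by
        have h1 : D ≤ closure {p : G | p ∈ K ∧ p * z = z * p ∧ p * p = 1} := fun d hd =>
          hgen d hd.1 (mem_centralizer_singleton_iff.1 hd.2)
        refine h1.trans ((closure_le _).2 ?_)
        rintro p ⟨hpK, hpz, hpp⟩
        show s * p * s⁻¹ ∈ D
        obtain ⟨h2, h3⟩ := swap_cen h.zz hs hsz (h.Kt p hpK) hpz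
        refine ⟨?_, mem_centralizer_singleton_iff.2 h3⟩
        by_cases hp1 : p = 1
        · rw [hp1, mul_one, mul_inv_cancel]; exact K.one_mem
        obtain ⟨k', hk', hk'p⟩ := hone p hpK hpp hp1
        rcases h.cen _ h2 with h4 | h4
        · exact h4
        · exfalso
          have hzp : IsConj z p := isConj_iff.2 ⟨k', hk'p⟩
          have hpw : IsConj p (s * p * s⁻¹) := isConj_iff.2 ⟨s, rfl⟩
          have c1 : Commute t (s * p * s⁻¹) := (show Commute (s * p * s⁻¹) t from h2).symm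
          have h5 : t * (s * p * s⁻¹) * (t * (s * p * s⁻¹)) = 1 := by
            calc (t * (s * p * s⁻¹)) * (t * (s * p * s⁻¹)) = (t * (s * p * s⁻¹)) * ((s * p * s⁻¹) * t) := by
                  rw [c1.eq]
              _ = t * (s * (p * p) * s⁻¹) * t := by group
              _ = 1 := by rw [hpp, mul_one, mul_inv_cancel, mul_one, h.tt]
          by_cases h6 : t * (s * p * s⁻¹) = 1
          · have h7 : s * p * s⁻¹ = t := by rw [← h.tmul (s * p * s⁻¹), h6, mul_one]
            rw [h7] at hpw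
            exact h.conj_ne_t hzp hpw.symm
          · obtain ⟨k2, hk2, hk2p⟩ := hone _ h4 h5 h6
            have h8 := h.conj_tv hk2 hk2p
            rw [h.tmul] at h8
            exact h.conj_ne_t (hzp.trans hpw) h8
      intro d hd
      exact hle hd
    have hXD : centralizer ({z} : Set G) ≤ closure (({t, s} : Set G) ∪ D) := by
      intro x hx
      have hxz := mem_centralizer_singleton_iff.1 hx
      have hM : ∀ y : G, y * t = t * y → y * z = z * y → y ∈ closure (({t, s} : Set G) ∪ D) := by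
        intro y hyt hyz
        rcases h.cen y hyt with h1 | h1
        · exact subset_closure (Or.inr ⟨h1, mem_centralizer_singleton_iff.2 hyz⟩)
        · have c1 : Commute t z := h.comm
          have c2 : Commute y z := hyz
          have h2 : t * y ∈ D := ⟨h1, mem_centralizer_singleton_iff.2 (c1.mul_left c2).eq⟩
          rw [← h.tmul y]
          exact mul_mem (subset_closure (Or.inl (Or.inl rfl))) (subset_closure (Or.inr h2))
      rcases h.mem_or_of_le hFt hs hxz with h1 | h1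
      · exact hM x h1 hxz
      · have h2 : (s⁻¹ * x) * z = z * (s⁻¹ * x) := by
          have c1 : Commute s z := by
            show s * z = z * s
            rwa [mul_inv_eq_iff_eq_mul] at hsz
          have c2 : Commute x z := hxz
          exact c1.inv_left.mul_left c2
        have e : x = s * (s⁻¹ * x) := by group
        rw [e]
        exact mul_mem (subset_closure (Or.inl (Or.inr rfl))) (hM _ h1 h2)
    have hnorm : centralizer ({z} : Set G) ≤ normalizer (D : Set G) := by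
      refine hXD.trans ((closure_le _).2 ?_)
      rintro a ((ha | ha) | ha)
      · rw [ha, SetLike.mem_coe]
        refine mem_normalizer_fintype fun d hd => ?_
        have : t * d * t⁻¹ = d := by rw [← h.Kt d hd.1, mul_assoc, mul_inv_cancel, mul_one]
        rw [this]; exact hd
      · have ha' : a = s := ha
        rw [ha', SetLike.mem_coe]
        exact mem_normalizer_fintype fun d hd => hsD d hd
      · exact le_normalizer ha
    have hcomm := comm_mem_of_gen (X := centralizer ({z} : Set G)) (D := D) (T := {t, s})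
      (fun x hx d hd => (mem_normalizer_iff.1 (hnorm hx) d).1 hd) ?_ inf_le_right hXD ?_
    · exact h.tK (mem_of_commutator hcomm _ htc).1
    · rintro a (rfl | ha)
      · exact mem_centralizer_singleton_iff.2 h.comm
      · have ha' : a = s := ha
        rw [ha']
        refine mem_centralizer_singleton_iff.2 ?_
        rwa [mul_inv_eq_iff_eq_mul] at hsz
    · have hzD : z ∈ D := ⟨h.zK, mem_centralizer_singleton_iff.2 rfl⟩
      have hst : s * t * s⁻¹ * t⁻¹ = z := by
        rw [hs, h.comm, mul_assoc, mul_inv_cancel, mul_one]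
      have hself : ∀ a : G, a * a * a⁻¹ * a⁻¹ = 1 := fun a => by group
      have hts : t * s * t⁻¹ * s⁻¹ = (s * t * s⁻¹ * t⁻¹)⁻¹ := by group
      rintro a ha b hb
      have ha' : a = t ∨ a = s := ha
      have hb' : b = t ∨ b = s := hb
      rcases ha' with ha' | ha' <;> rcases hb' with hb' | hb' <;> rw [ha', hb']
      · rw [hself]; exact D.one_mem
      · rw [hts, hst]; exact D.inv_mem hzD
      · rw [hst]; exact hzD
      · rw [hself]; exact D.one_mem
  · obtain ⟨s, hsF, hs⟩ := h.exists_mem hFt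
    obtain ⟨r, hr, hvr, h1⟩ := h.exists_of_mem hsF hs hv vv hvz
    rcases h1 with h1 | h1
    · obtain ⟨g, hg, hgz, hgv⟩ := hR r hr hvr
      apply h.ytrick hk hkv hkR (y := g * s)
      · calc g * s * v * (g * s)⁻¹ = g * (s * v * s⁻¹) * g⁻¹ := by group
          _ = v := by rw [h1, hgv]
      · calc g * s * t * (g * s)⁻¹ = g * (s * t * s⁻¹) * g⁻¹ := by group
          _ = (g * t) * z * g⁻¹ := by rw [hs]; group
          _ = t * (g * z) * g⁻¹ := by rw [h.Kt g hg]; group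
          _ = t * z := by rw [hgz]; group
    · have hvw : IsConj v (s * v * s⁻¹) := isConj_iff.2 ⟨s, rfl⟩
      by_cases h2 : v * r = 1
      · rw [h1, h2, mul_one] at hvw
        exact h.conj_ne_t hzv hvw.symm
      · obtain ⟨k2, hk2, hk2p⟩ := hone _ (K.mul_mem hv (h.RK hr)) hvr h2
        have h8 := h.conj_tv hk2 hk2p
        rw [← h1] at h8
        exact h.conj_ne_t (hzv.trans hvw) h8

/-- the subgroup generated by the elements of odd order of `C_K(z)` -/
def oddGen (K : Subgroup G) (z : G) : Subgroup G := closure {x : G | x ∈ K ∧ x * z = z * x ∧ Odd (orderOf x)}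

theorem oddGen_le : oddGen K z ≤ K := (closure_le K).2 fun _ hx => hx.1

theorem oddGen_le' : oddGen K z ≤ centralizer ({z} : Set G) :=
  (closure_le _).2 fun _ hx => mem_centralizer_singleton_iff.2 hx.2.1

/-- Case I for `PSp₄(3)` -/
theorem false_three_le [Finite G] (h : Pos t z K R F) (hFt : ∀ x ∈ F, x * t = t * x)
    (htc : (⟨t, mem_centralizer_singleton_iff.2 h.comm⟩ : centralizer ({z} : Set G)) ∈
      _root_.commutator (centralizer ({z} : Set G)))
    {v k : G} (hv : v ∈ K) (hk : k ∈ K) (vv : v * v = 1)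
    (hvz : v * z = z * v) (hkv : k * z * k⁻¹ = v)
    (hD : ∀ g ∈ K, g * z = z * g → g ∈ oddGen K z ∨ v * g ∈ oddGen K z)
    (huni : ∀ p ∈ K, p * z = z * p → p * p = 1 → p ∉ oddGen K z →
      ∃ h ∈ K, h * z = z * h ∧ (h * p * h⁻¹ = v ∨ h * p * h⁻¹ = v * z)) : False := by
  have hzv : IsConj z v := isConj_iff.2 ⟨k, hkv⟩
  have htv : IsConj t (t * v) := h.conj_tv hk hkv
  have hvt := h.Kt v hv
  obtain ⟨s, hs, hsz⟩ := h.sw
  set D : Subgroup G := oddGen K z with hDdef
  have hDK : D ≤ K := oddGen_le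
  have hDz : D ≤ centralizer ({z} : Set G) := oddGen_le'
  have hzD : z ∈ D := h.oz
  have hMD : ∀ g : G, g * t = t * g → g * z = z * g → ∀ d ∈ D, g * d * g⁻¹ ∈ D := by
    intro g hgt hgz d hd
    refine h.conj_mem (fun x hxt hxz => ?_) hd
    have c1 : Commute g t := hgt
    have c2 : Commute g z := hgz
    have c3 : Commute x t := hxt
    have c4 : Commute x z := hxz
    exact ⟨(c1.mul_left c3).mul_left c1.inv_left, (c2.mul_left c4).mul_left c2.inv_left⟩
  have hsD : ∀ d ∈ D, s * d * s⁻¹ ∈ D := fun d hd =>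
    h.conj_mem (fun x hxt hxz => swap_cen h.zz hs hsz hxt hxz) hd
  have hsD' : ∀ d ∈ D, s⁻¹ * d * s ∈ D := by
    intro d hd
    have h1 := h.conj_mem (g := s⁻¹) (fun x hxt hxz => by
      rw [inv_inv]; exact swap_cen_inv hs hsz hxt hxz) hd
    rwa [inv_inv] at h1
  have hvD : ∀ d ∈ D, v * d * v⁻¹ ∈ D := hMD v hvt hvz
  have hvi : v⁻¹ = v := inv_eq_of_mul_eq_one_left vv
  -- `[s, v] ∈ D`
  have hsv : s * v * s⁻¹ * v⁻¹ ∈ D := by
    obtain ⟨hwt, hwz⟩ := swap_cen h.zz hs hsz hvt hvz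
    set w : G := s * v * s⁻¹ with hw
    have hww : w * w = 1 := by
      calc w * w = s * (v * v) * s⁻¹ := by rw [hw]; group
        _ = 1 := by rw [vv]; group
    have c1 : Commute t w := (show Commute w t from hwt).symm
    have hvw : IsConj v w := isConj_iff.2 ⟨s, rfl⟩
    rcases h.cen w hwt with h1 | h1
    · rcases hD w h1 hwz with h2 | h2
      · have h3 := hsD' w h2
        have e : s⁻¹ * w * s = v := by rw [hw]; group
        rw [e] at h3
        exact D.mul_mem h2 (D.inv_mem h3)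
      · have h3 := hvD _ h2
        have e : v * (v * w) * v⁻¹ = w * v⁻¹ := by rw [← mul_assoc v v w, vv, one_mul]
        rwa [e] at h3
    · exfalso
      have hp2 : t * w * (t * w) = 1 := by
        calc (t * w) * (t * w) = (t * w) * (w * t) := by rw [c1.eq]
          _ = t * (w * w) * t := by group
          _ = 1 := by rw [hww, mul_one, h.tt]
      have hpz : (t * w) * z = z * (t * w) := by
        have c2 : Commute t z := h.comm
        have c3 : Commute w z := hwz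
        exact c2.mul_left c3
      by_cases hpD : t * w ∈ D
      · -- `v = s⁻¹ w s = t z d`
        apply h.tK
        have h3 := hsD' _ hpD
        have e : s⁻¹ * (t * w) * s = t * z * v := by
          obtain ⟨e1, -⟩ := swap_inv h.zz hs hsz
          calc s⁻¹ * (t * w) * s = (s⁻¹ * t * s) * (s⁻¹ * w * s) := by group
            _ = t * z * v := by rw [e1, hw]; group
        rw [e] at h3
        have h4 := K.mul_mem (K.mul_mem (hDK h3) (K.inv_mem hv)) (K.inv_mem h.zK)
        have e2 : t * z * v * v⁻¹ * z⁻¹ = t := by group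
        rwa [e2] at h4
      · obtain ⟨g, hg, hgz, hgp⟩ := huni _ h1 hpz hp2 hpD
        have c2 : Commute t g := (h.Kt g hg).symm
        have e : g * w * g⁻¹ = t * (g * (t * w) * g⁻¹) := by
          calc g * w * g⁻¹ = g * (t * (t * w)) * g⁻¹ := by rw [h.tmul]
            _ = (g * t) * (t * w) * g⁻¹ := by group
            _ = t * (g * (t * w) * g⁻¹) := by rw [← c2.eq]; group
        rcases hgp with h5 | h5
        · rw [h5] at e
          have h6 : IsConj w (t * v) := isConj_iff.2 ⟨g, e⟩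
          exact h.conj_ne_t ((hzv.trans hvw).trans h6) htv
        · rw [h5] at e
          -- `(g s) (t v) (g s)⁻¹ = v`
          have e2 : (g * s) * (t * v) * (g * s)⁻¹ = v := by
            calc (g * s) * (t * v) * (g * s)⁻¹ = (g * (s * t * s⁻¹) * g⁻¹) * (g * w * g⁻¹) := by
                  rw [hw]; group
              _ = ((g * t) * z * g⁻¹) * (t * (v * z)) := by rw [hs, e]; group
              _ = (t * (g * z) * g⁻¹) * (t * (v * z)) := by rw [← c2.eq]; group
              _ = (t * z) * (t * (v * z)) := by rw [hgz]; group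
              _ = (t * z) * (t * (z * v)) := by rw [hvz]
              _ = t * (z * t) * z * v := by group
              _ = t * (t * z) * z * v := by rw [h.comm]
              _ = v := by rw [h.tmul, h.zz, one_mul]
          exact h.conj_ne_t hzv (htv.trans (isConj_iff.2 ⟨g * s, e2⟩))
  have hst : s * t * s⁻¹ * t⁻¹ = z := by
    rw [hs, h.comm, mul_assoc, mul_inv_cancel, mul_one]
  have hsc : s * z = z * s := by rwa [mul_inv_eq_iff_eq_mul] at hsz
  set T : Set G := {t, s, v} with hT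
  have hXD : centralizer ({z} : Set G) ≤ closure (T ∪ D) := by
    intro x hx
    have hxz := mem_centralizer_singleton_iff.1 hx
    have hK : ∀ y ∈ K, y * z = z * y → y ∈ closure (T ∪ D) := by
      intro y hy hyz
      rcases hD y hy hyz with h1 | h1
      · exact subset_closure (Or.inr h1)
      · have e : y = v * (v * y) := by rw [← mul_assoc, vv, one_mul]
        rw [e]
        exact mul_mem (subset_closure (Or.inl (Or.inr (Or.inr rfl)))) (subset_closure (Or.inr h1))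
    have hM : ∀ y : G, y * t = t * y → y * z = z * y → y ∈ closure (T ∪ D) := by
      intro y hyt hyz
      rcases h.cen y hyt with h1 | h1
      · exact hK y h1 hyz
      · have c1 : Commute t z := h.comm
        have c2 : Commute y z := hyz
        rw [← h.tmul y]
        exact mul_mem (subset_closure (Or.inl (Or.inl rfl))) (hK _ h1 (c1.mul_left c2).eq)
    rcases h.mem_or_of_le hFt hs hxz with h1 | h1
    · exact hM x h1 hxz
    · have h2 : (s⁻¹ * x) * z = z * (s⁻¹ * x) := by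
        have c1 : Commute s z := hsc
        have c2 : Commute x z := hxz
        exact c1.inv_left.mul_left c2
      have e : x = s * (s⁻¹ * x) := by group
      rw [e]
      exact mul_mem (subset_closure (Or.inl (Or.inr (Or.inl rfl)))) (hM _ h1 h2)
  have hnorm : centralizer ({z} : Set G) ≤ normalizer (D : Set G) := by
    refine hXD.trans ((closure_le _).2 ?_)
    rintro a ((ha | ha | ha) | ha)
    · rw [ha, SetLike.mem_coe]
      exact mem_normalizer_fintype fun d hd => hMD t rfl h.comm d hd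
    · rw [ha, SetLike.mem_coe]
      exact mem_normalizer_fintype fun d hd => hsD d hd
    · have ha' : a = v := ha
      rw [ha', SetLike.mem_coe]
      exact mem_normalizer_fintype fun d hd => hvD d hd
    · exact le_normalizer ha
  have hcomm := comm_mem_of_gen (X := centralizer ({z} : Set G)) (D := D) (T := T)
    (fun x hx d hd => (mem_normalizer_iff.1 (hnorm hx) d).1 hd) ?_ hDz hXD ?_
  · exact h.tK (hDK (mem_of_commutator hcomm _ htc))
  · rintro a (ha | ha | ha)
    · rw [ha]; exact mem_centralizer_singleton_iff.2 h.comm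
    · rw [ha]; exact mem_centralizer_singleton_iff.2 hsc
    · have ha' : a = v := ha
      rw [ha']; exact mem_centralizer_singleton_iff.2 hvz
  · have hself : ∀ a : G, a * a * a⁻¹ * a⁻¹ = 1 := fun a => by group
    have hswap : ∀ a b : G, a * b * a⁻¹ * b⁻¹ ∈ D → b * a * b⁻¹ * a⁻¹ ∈ D := by
      intro a b hab
      have e : b * a * b⁻¹ * a⁻¹ = (a * b * a⁻¹ * b⁻¹)⁻¹ := by group
      rw [e]; exact D.inv_mem hab
    have h11 : v * t * v⁻¹ * t⁻¹ = 1 := by rw [hvt]; group
    have h1 : v * t * v⁻¹ * t⁻¹ ∈ D := by rw [h11]; exact D.one_mem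
    have h2 : s * t * s⁻¹ * t⁻¹ ∈ D := by rw [hst]; exact hzD
    rintro a ha b hb
    have ha' : a = t ∨ a = s ∨ a = v := ha
    have hb' : b = t ∨ b = s ∨ b = v := hb
    rcases ha' with ha' | ha' | ha' <;> rcases hb' with hb' | hb' | hb' <;> rw [ha', hb']
    · rw [hself]; exact D.one_mem
    · exact hswap _ _ h2
    · exact hswap _ _ h1
    · exact h2
    · rw [hself]; exact D.one_mem
    · exact hsv
    · exact h1
    · exact hswap _ _ hsv
    · rw [hself]; exact D.one_mem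

/-- Case II for `PSp₄(3)`: `R ≤ F` -/
theorem R_le [Finite G] (h : Pos t z K R F)
    (hirr : ∀ N : Subgroup G, N ≤ R → (∀ g ∈ K, g * z = z * g → ∀ n ∈ N, g * n * g⁻¹ ∈ N) →
      (∀ n ∈ N, n = 1 ∨ n = z) ∨ N = R) : R ≤ F := by
  rcases hirr (F ⊓ R) inf_le_right (fun g hg hgz n hn =>
    ⟨h.F'.nor g hgz n hn.1, h.nR g hg hgz n hn.2⟩) with h1 | h1
  · exfalso
    -- `C_F(t) ≤ ⟨t, z⟩`
    have h2 : ∀ x ∈ F, x * t = t * x → x = 1 ∨ x = z ∨ x = t ∨ x = t * z := by
      intro x hx hxt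
      rcases h.cen x hxt with h3 | h3
      · rcases h1 x ⟨hx, h.mem_R hx h3⟩ with h4 | h4
        · exact Or.inl h4
        · exact Or.inr (Or.inl h4)
      · have h5 : t * x ∈ F := F.mul_mem h.tF hx
        right; right
        rcases h1 _ ⟨h5, h.mem_R h5 h3⟩ with h4 | h4
        · left; rw [← h.tmul x, h4, mul_one]
        · right; rw [← h.tmul x, h4]
    -- elements of odd order of `P` centralise `F`
    have h3 : ∀ d ∈ K, d * z = z * d → Odd (orderOf d) → d = 1 := by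
      intro d hd hdz hdo
      have hdt := h.Kt d hd
      have c1 : Commute d t := hdt
      have c2 : Commute d z := hdz
      have hnil : Group.IsNilpotent F := h.F'.pF.isNilpotent
      have hA : zpowers d ≤ normalizer (F : Set G) := by
        rw [zpowers_le]
        exact mem_normalizer_fintype fun x hx => h.F'.nor d hdz x hx
      have hcop : (Nat.card ↥(zpowers d)).Coprime (Nat.card ↥F) := by
        rw [Nat.card_zpowers]
        obtain ⟨n, hn⟩ := IsPGroup.iff_card.1 h.F'.pF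
        rw [hn]
        exact Nat.Coprime.pow_right n (Nat.coprime_two_right.2 hdo)
      have h4 := Cfsg.Agent.S1442.result F (zpowers d) hnil hA hcop (by
        rintro x ⟨hxF, hxC⟩
        refine ⟨hxF, ?_⟩
        have htC : t ∈ F ⊓ centralizer ((zpowers d : Subgroup G) : Set G) := by
          refine ⟨h.tF, mem_centralizer_iff.2 ?_⟩
          intro y hy
          obtain ⟨i, rfl⟩ := mem_zpowers_iff.1 hy
          exact (c1.zpow_left i).eq
        have hxt : x * t = t * x := (mem_centralizer_iff.1 hxC t htC).symm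
        refine mem_centralizer_iff.2 ?_
        intro y hy
        obtain ⟨i, rfl⟩ := mem_zpowers_iff.1 hy
        have h5 : Commute d x := by
          rcases h2 x hxF hxt with h6 | h6 | h6 | h6 <;> rw [h6]
          · exact Commute.one_right d
          · exact c2
          · exact c1
          · exact c1.mul_right c2
        exact (h5.zpow_left i).eq)
      have h5 : d ∈ F := by
        refine h.F'.self d hdz fun x hx => ?_
        have h6 := mem_centralizer_iff.1 (h4 (mem_zpowers d)) x hx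
        exact h6.symm
      obtain ⟨n, hn⟩ := h.F'.pF ⟨d, h5⟩
      have hn' : d ^ 2 ^ n = 1 := congrArg Subtype.val hn
      have h7 := orderOf_dvd_of_pow_eq_one hn'
      obtain ⟨j, -, hj⟩ := (Nat.dvd_prime_pow Nat.prime_two).1 h7
      rcases Nat.eq_zero_or_pos j with h8 | h8
      · rw [h8, pow_zero, orderOf_eq_one_iff] at hj
        exact hj
      · exfalso
        rw [hj] at hdo
        have h9 : 2 ∣ 2 ^ j := dvd_pow_self 2 h8.ne'
        rw [Nat.odd_iff] at hdo
        omega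
    have h4 : oddGen K z ≤ ⊥ := (closure_le _).2 fun x hx => by
      rw [SetLike.mem_coe, mem_bot]
      exact h3 x hx.1 hx.2.1 hx.2.2
    exact h.z1 (mem_bot.1 (h4 h.oz))
  · rw [← h1]; exact inf_le_left

/-- **`PSp₄(3)`** -/
theorem false_three [Finite G] (h : Pos t z K R F)
    (htc : (⟨t, mem_centralizer_singleton_iff.2 h.comm⟩ : centralizer ({z} : Set G)) ∈
      _root_.commutator (centralizer ({z} : Set G)))
    (hirr : ∀ N : Subgroup G, N ≤ R → (∀ g ∈ K, g * z = z * g → ∀ n ∈ N, g * n * g⁻¹ ∈ N) →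
      (∀ n ∈ N, n = 1 ∨ n = z) ∨ N = R)
    (hcl : ∀ w ∈ K, w * w = 1 → w ≠ 1 → (∃ k ∈ K, k * z * k⁻¹ = w) ∨
      ∀ N : Subgroup G, N ≤ K → IsPGroup 2 N → (∀ n ∈ N, n * w = w * n) →
        (∀ g ∈ K, g * w = w * g → ∀ n ∈ N, g * n * g⁻¹ ∈ N) → ∀ a ∈ N, ∀ b ∈ N, a * b = b * a)
    {v k : G} (hv : v ∈ K) (hk : k ∈ K) (vv : v * v = 1)
    (hvz : v * z = z * v) (hkv : k * z * k⁻¹ = v) (hkR : k⁻¹ * z * k ∉ R) (hvR : v ∉ R)
    (hR : ∀ r ∈ R, v * r * (v * r) = 1 → ∃ h ∈ R, h * (v * r) * h⁻¹ = v ∨ h * (v * r) * h⁻¹ = v * z)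
    (hD : ∀ g ∈ K, g * z = z * g → g ∈ oddGen K z ∨ v * g ∈ oddGen K z)
    (huni : ∀ p ∈ K, p * z = z * p → p * p = 1 → p ∉ oddGen K z →
      ∃ h ∈ K, h * z = z * h ∧ (h * p * h⁻¹ = v ∨ h * p * h⁻¹ = v * z)) : False := by
  by_cases hFt : ∀ x ∈ F, x * t = t * x
  · exact h.false_three_le hFt htc hv hk vv hvz hkv hD huni
  have hzv : IsConj z v := isConj_iff.2 ⟨k, hkv⟩
  have htv : IsConj t (t * v) := h.conj_tv hk hkv
  have hRF := h.R_le hirr
  obtain ⟨s, hsF, hs⟩ := h.exists_mem hFt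
  have hsz := h.F'.le s hsF
  have hsz' : s * z * s⁻¹ = z := by rw [hsz]; group
  have hvt := h.Kt v hv
  obtain ⟨r, hr, hvr, h1⟩ := h.exists_of_mem hsF hs hv vv hvz
  obtain ⟨g, hg, hgv⟩ := hR r hr hvr
  have hgK := h.RK hg
  have hgz := h.RP g hg
  have cgt : Commute g t := h.Kt g hgK
  set y : G := g * s with hy
  have hyF : y ∈ F := F.mul_mem (hRF hg) hsF
  have hyt : y * t * y⁻¹ = t * z := by
    calc g * s * t * (g * s)⁻¹ = g * (s * t * s⁻¹) * g⁻¹ := by group
      _ = (g * t) * z * g⁻¹ := by rw [hs]; group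
      _ = t * (g * z) * g⁻¹ := by rw [cgt.eq]; group
      _ = t * z := by rw [hgz]; group
  have hyz : y * z = z * y := h.F'.le y hyF
  have hyz' : y * z * y⁻¹ = z := by rw [hyz]; group
  have hyv : y * v * y⁻¹ = g * (s * v * s⁻¹) * g⁻¹ := by rw [hy]; group
  have htvz : ¬ (y * v * y⁻¹ = t * (v * z)) := by
    intro e
    have e2 : y * (t * v) * y⁻¹ = v := by
      calc y * (t * v) * y⁻¹ = (y * t * y⁻¹) * (y * v * y⁻¹) := by group
        _ = (t * z) * (t * (v * z)) := by rw [hyt, e]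
        _ = (t * z) * (t * (z * v)) := by rw [hvz]
        _ = t * (z * t) * z * v := by group
        _ = t * (t * z) * z * v := by rw [h.comm]
        _ = v := by rw [h.tmul, h.zz, one_mul]
    exact h.conj_ne_t hzv (htv.trans (isConj_iff.2 ⟨y, e2⟩))
  have htv' : ¬ (y * v * y⁻¹ = t * v) := by
    intro e
    have h2 : IsConj v (t * v) := isConj_iff.2 ⟨y, e⟩
    exact h.conj_ne_t (hzv.trans h2) htv
  rcases h1 with h1 | h1
  swap
  · -- `s v s⁻¹ = t v r`
    have e : g * (t * (v * r)) * g⁻¹ = t * (g * (v * r) * g⁻¹) := by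
      calc g * (t * (v * r)) * g⁻¹ = (g * t) * (v * r) * g⁻¹ := by group
        _ = t * (g * (v * r) * g⁻¹) := by rw [cgt.eq]; group
    rw [h1, e] at hyv
    rcases hgv with h2 | h2
    · rw [h2] at hyv; exact htv' hyv
    · rw [h2] at hyv; exact htvz hyv
  rw [h1] at hyv
  rcases hgv with h2 | h2
  · rw [h2] at hyv
    exact h.ytrick hk hkv hkR hyv hyt
  rw [h2] at hyv
  -- the element `g₀` with `t ↦ t v`
  have hkt : k * t * k⁻¹ = t := by rw [h.Kt k hk, mul_assoc, mul_inv_cancel, mul_one]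
  set g₀ : G := k * s * k⁻¹ with hg₀
  have hg₀t : g₀ * t * g₀⁻¹ = t * v := by
    have hkt' : k⁻¹ * t * k = t := by
      calc k⁻¹ * t * k = k⁻¹ * (k * t * k⁻¹) * k := by rw [hkt]
        _ = t := by group
    calc g₀ * t * g₀⁻¹ = k * (s * (k⁻¹ * t * k) * s⁻¹) * k⁻¹ := by rw [hg₀]; group
      _ = (k * t * k⁻¹) * (k * z * k⁻¹) := by rw [hkt', hs]; group
      _ = t * v := by rw [hkt, hkv]
  -- pull back
  have hpull : ∀ a : G, a * (t * v) = (t * v) * a → (g₀⁻¹ * a * g₀) * t = t * (g₀⁻¹ * a * g₀) := by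
    intro a ha
    calc (g₀⁻¹ * a * g₀) * t = g₀⁻¹ * (a * (g₀ * t * g₀⁻¹)) * g₀ := by group
      _ = g₀⁻¹ * ((g₀ * t * g₀⁻¹) * a) * g₀ := by rw [hg₀t, ha]
      _ = t * (g₀⁻¹ * a * g₀) := by group
  have hpush : ∀ a : G, a * t = t * a → (g₀ * a * g₀⁻¹) * (t * v) = (t * v) * (g₀ * a * g₀⁻¹) := by
    intro a ha
    rw [← hg₀t]
    calc g₀ * a * g₀⁻¹ * (g₀ * t * g₀⁻¹) = g₀ * (a * t) * g₀⁻¹ := by group
      _ = g₀ * (t * a) * g₀⁻¹ := by rw [ha]
      _ = g₀ * t * g₀⁻¹ * (g₀ * a * g₀⁻¹) := by group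
  have htC : t * (t * v) = (t * v) * t := by rw [mul_assoc, hvt]
  have hyC : y * (t * v) = (t * v) * y := by
    have e : y * (t * v) * y⁻¹ = t * v := by
      calc y * (t * v) * y⁻¹ = (y * t * y⁻¹) * (y * v * y⁻¹) := by group
        _ = (t * z) * (v * z) := by rw [hyt, hyv]
        _ = (t * z) * (z * v) := by rw [hvz]
        _ = t * (z * z) * v := by group
        _ = t * v := by rw [h.zz, mul_one]
    rwa [mul_inv_eq_iff_eq_mul] at e
  set w : G := g₀⁻¹ * z * g₀ with hw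
  have hww : w * w = 1 := by
    calc w * w = g₀⁻¹ * (z * z) * g₀ := by rw [hw]; group
      _ = 1 := by rw [h.zz]; group
  have hw1 : w ≠ 1 := by
    intro e
    apply h.z1
    calc z = g₀ * w * g₀⁻¹ := by rw [hw]; group
      _ = 1 := by rw [e]; group
  -- `w = [y', t'] ∈ K`
  have hwc : (g₀⁻¹ * y * g₀) * (g₀⁻¹ * t * g₀) * (g₀⁻¹ * y * g₀)⁻¹ * (g₀⁻¹ * t * g₀)⁻¹ = w := by
    calc (g₀⁻¹ * y * g₀) * (g₀⁻¹ * t * g₀) * (g₀⁻¹ * y * g₀)⁻¹ * (g₀⁻¹ * t * g₀)⁻¹
        = g₀⁻¹ * ((y * t * y⁻¹) * t⁻¹) * g₀ := by group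
      _ = g₀⁻¹ * ((z * t) * t⁻¹) * g₀ := by rw [hyt, h.comm]
      _ = w := by rw [hw]; group
  have hwK : w ∈ K := by
    rw [← hwc]
    exact h.comm_mem_K (hpull y hyC) (hpull t htC)
  rcases hcl w hwK hww hw1 with ⟨k2, hk2, hk2w⟩ | hab
  · -- `w ~ z` in `K`
    set x : G := g₀ * k2 with hx
    have hxz : x * z = z * x := by
      have e : x * z * x⁻¹ = z := by
        calc x * z * x⁻¹ = g₀ * (k2 * z * k2⁻¹) * g₀⁻¹ := by rw [hx]; group
          _ = z := by rw [hk2w, hw]; group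
      rwa [mul_inv_eq_iff_eq_mul] at e
    have hxt : x * t * x⁻¹ = t * v := by
      calc x * t * x⁻¹ = g₀ * (k2 * t * k2⁻¹) * g₀⁻¹ := by rw [hx]; group
        _ = g₀ * t * g₀⁻¹ := by rw [h.Kt k2 hk2, mul_assoc t, mul_inv_cancel, mul_one]
        _ = t * v := hg₀t
    apply hvR
    have h3 := h.F'.nor x hxz t h.tF
    rw [hxt] at h3
    have h4 := F.mul_mem h.tF h3
    rw [h.tmul] at h4
    exact h.mem_R h4 hv
  · -- `w` not conjugate to `z`
    set B : Subgroup G := (F ⊓ centralizer ({t * v} : Set G)).map (MulAut.conj g₀⁻¹).toMonoidHom with hB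
    have hBmem : ∀ a ∈ F, a * (t * v) = (t * v) * a → g₀⁻¹ * a * g₀ ∈ B := by
      intro a ha hac
      refine ⟨a, ⟨ha, mem_centralizer_singleton_iff.2 hac⟩, ?_⟩
      show g₀⁻¹ * a * g₀⁻¹⁻¹ = _
      rw [inv_inv]
    have hBex : ∀ b ∈ B, ∃ a ∈ F, a * (t * v) = (t * v) * a ∧ b = g₀⁻¹ * a * g₀ := by
      rintro _ ⟨a, ⟨ha, hac⟩, rfl⟩
      refine ⟨a, ha, mem_centralizer_singleton_iff.1 hac, ?_⟩
      show g₀⁻¹ * a * g₀⁻¹⁻¹ = _
      rw [inv_inv]
    have hBp : IsPGroup 2 B := (h.F'.pF.to_le inf_le_left).map _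
    have hwt : w * t = t * w := h.Kt w hwK
    have hBw : ∀ b ∈ B, b * w = w * b := by
      intro b hb
      obtain ⟨a, ha, -, rfl⟩ := hBex b hb
      have h3 := h.F'.le a ha
      calc g₀⁻¹ * a * g₀ * w = g₀⁻¹ * (a * z) * g₀ := by rw [hw]; group
        _ = g₀⁻¹ * (z * a) * g₀ := by rw [h3]
        _ = w * (g₀⁻¹ * a * g₀) := by rw [hw]; group
    have hBn : ∀ c ∈ K, c * w = w * c → ∀ b ∈ B, c * b * c⁻¹ ∈ B := by
      intro c hc hcw b hb
      obtain ⟨a, ha, hac, rfl⟩ := hBex b hb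
      have hcz : (g₀ * c * g₀⁻¹) * z = z * (g₀ * c * g₀⁻¹) := by
        calc (g₀ * c * g₀⁻¹) * z = g₀ * (c * w) * g₀⁻¹ := by rw [hw]; group
          _ = g₀ * (w * c) * g₀⁻¹ := by rw [hcw]
          _ = z * (g₀ * c * g₀⁻¹) := by rw [hw]; group
      have hctv := hpush c (h.Kt c hc)
      have h3 := h.F'.nor _ hcz a ha
      have h4 : ((g₀ * c * g₀⁻¹) * a * (g₀ * c * g₀⁻¹)⁻¹) * (t * v) =
          (t * v) * ((g₀ * c * g₀⁻¹) * a * (g₀ * c * g₀⁻¹)⁻¹) := by
        have c1 : Commute (g₀ * c * g₀⁻¹) (t * v) := hctv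
        have c2 : Commute a (t * v) := hac
        exact (c1.mul_left c2).mul_left c1.inv_left
      have h5 := hBmem _ h3 h4
      have e : g₀⁻¹ * ((g₀ * c * g₀⁻¹) * a * (g₀ * c * g₀⁻¹)⁻¹) * g₀ = c * (g₀⁻¹ * a * g₀) * c⁻¹ := by
        group
      rwa [e] at h5
    have hNab := hab (proj h.toLoc B) (proj_le _ _) (isPGroup_proj h.toLoc hBp)
      (proj_comm h.toLoc hwt hBw) (fun c hc hcw => proj_conj h.toLoc hc (hBn c hc hcw))
    -- `y'` and `t'` commute
    have hy' := hBmem y hyF hyC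
    have ht' := hBmem t h.tF htC
    have hyt' := hpull y hyC
    have htt' := hpull t htC
    have key : Commute (g₀⁻¹ * y * g₀) (g₀⁻¹ * t * g₀) := by
      have c1 : Commute t (g₀⁻¹ * y * g₀) := (show Commute (g₀⁻¹ * y * g₀) t from hyt').symm
      have c2 : Commute t (g₀⁻¹ * t * g₀) := (show Commute (g₀⁻¹ * t * g₀) t from htt').symm
      rcases mem_proj_or h.toLoc hy' hyt' with h3 | h3 <;> rcases mem_proj_or h.toLoc ht' htt' with h4 | h4
      · exact hNab _ h3 _ h4
      · have h5 : Commute (g₀⁻¹ * y * g₀) (t * (g₀⁻¹ * t * g₀)) := hNab _ h3 _ h4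
        have h6 := c1.symm.mul_right h5
        rwa [h.tmul] at h6
      · have h5 : Commute (t * (g₀⁻¹ * y * g₀)) (g₀⁻¹ * t * g₀) := hNab _ h3 _ h4
        have h6 := c2.mul_left h5
        rwa [h.tmul] at h6
      · have h5 : Commute (t * (g₀⁻¹ * y * g₀)) (t * (g₀⁻¹ * t * g₀)) := hNab _ h3 _ h4
        have h6 : Commute (t * (g₀⁻¹ * y * g₀)) t := (Commute.refl t).mul_left c1.symm
        have h7 := h6.mul_right h5
        rw [h.tmul] at h7
        have h8 := c2.mul_left h7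
        rwa [h.tmul] at h8
    apply hw1
    rw [← hwc, key.eq]
    group

end Pos

end Cfsg.Agent.OddHalf.D6.QThree.End
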