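import Cfsg.Agent.OddHalf.D6.QThree.Abs
import Cfsg.Agent.OddHalf.D6.QThree.End

/-!
# ODD half, D6, `q = 3`: `C_G(t)` with an outer part (helper143)

`OLoc t z K R`: `K` is normal in `C(t)`, the normal 2-subgroups of `M = C(t) ∩ C(z)` lie in `⟨t⟩ × R` and only
`⟨t, z⟩` centralises `C_K(z)`.

`OPos.false_cls`: contradiction, when all the involutions of `K` are conjugate in `K`.
-/

set_option autoImplicit false

namespace Cfsg.Agent.OddHalf.D6.QThree.Outer

open Subgroup Cfsg Cfsg.Agent.OddHalf.D6.QThree.Sit Cfsg.Agent.OddHalf.D6.QThree.Core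
open Cfsg.Agent.OddHalf.D6.QThree.End (Pos.swap_cen Pos.swap_cen_inv)

variable {G : Type*} [Group G] {t z : G} {K R F : Subgroup G}

/-- the local situation -/
structure OLoc (t z : G) (K R : Subgroup G) : Prop where
  tt : t * t = 1
  tK : t ∉ K
  Kt : ∀ x ∈ K, x * t = t * x
  nK : ∀ g, g * t = t * g → ∀ x ∈ K, g * x * g⁻¹ ∈ K
  zK : z ∈ K
  RK : R ≤ K
  zz : z * z = 1
  z1 : z ≠ 1
  zR : z ∈ R
  pR : IsPGroup 2 R
  RP : ∀ r ∈ R, r * z = z * r
  nR : ∀ g, g * t = t * g → g * z = z * g → ∀ r ∈ R, g * r * g⁻¹ ∈ R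
  cR : ∀ g ∈ K, g * z = z * g → (∀ r ∈ R, g * r = r * g) → g = 1 ∨ g = z
  ab : ∀ B : Subgroup G, B ≤ R → (∀ a ∈ B, ∀ b ∈ B, a * b = b * a) →
    (∀ g ∈ K, g * z = z * g → ∀ b ∈ B, g * b * g⁻¹ ∈ B) → ∀ b ∈ B, b = 1 ∨ b = z
  /-- normal 2-subgroups of `M = C(t) ∩ C(z)` lie in `⟨t⟩ × R` -/
  oR : ∀ N : Subgroup G, IsPGroup 2 N → (∀ n ∈ N, n * t = t * n) → (∀ n ∈ N, n * z = z * n) →
    (∀ g, g * t = t * g → g * z = z * g → ∀ n ∈ N, g * n * g⁻¹ ∈ N) → ∀ n ∈ N, n ∈ R ∨ t * n ∈ R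
  /-- the elements of `C(t)` centralising `C_K(z)` -/
  oD : ∀ g, g * t = t * g → (∀ x ∈ K, x * z = z * x → g * x = x * g) →
    g = 1 ∨ g = z ∨ g = t ∨ g = t * z

namespace OLoc

theorem comm (h : OLoc t z K R) : t * z = z * t := (h.Kt z h.zK).symm

theorem t1 (h : OLoc t z K R) : t ≠ 1 := fun e => h.tK (e ▸ K.one_mem)

theorem tmul (h : OLoc t z K R) (x : G) : t * (t * x) = x := by rw [← mul_assoc, h.tt, one_mul]

theorem z_mem [Finite G] (h : OLoc t z K R) {N : Subgroup G} (hNK : N ≤ K) (hNz : ∀ n ∈ N, n * z = z * n)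
    (hn : ∀ g ∈ K, g * z = z * g → ∀ n ∈ N, g * n * g⁻¹ ∈ N) {n : G} (hnN : n ∈ N) (hn1 : n ≠ 1) :
    z ∈ N := by
  by_cases hbot : N ⊓ R = ⊥
  · have h1 : ∀ r ∈ R, n * r = r * n := by
      intro r hr
      have h2 : n * r * n⁻¹ * r⁻¹ ∈ N ⊓ R := by
        constructor
        · have h3 : r * n⁻¹ * r⁻¹ ∈ N := hn r (h.RK hr) (h.RP r hr) _ (N.inv_mem hnN)
          have e : n * r * n⁻¹ * r⁻¹ = n * (r * n⁻¹ * r⁻¹) := by group
          rw [e]; exact N.mul_mem hnN h3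
        · exact R.mul_mem (h.nR n (h.Kt n (hNK hnN)) (hNz n hnN) r hr) (R.inv_mem hr)
      rw [hbot, mem_bot, mul_inv_eq_one, mul_inv_eq_iff_eq_mul] at h2
      exact h2
    rcases h.cR n (hNK hnN) (hNz n hnN) h1 with h2 | h2
    · exact absurd h2 hn1
    · rwa [← h2]
  · set L : Subgroup G := N ⊓ R with hL
    have hLp : IsPGroup 2 L := h.pR.to_le inf_le_right
    have hLnt : Nontrivial L := (nontrivial_iff_ne_bot L).2 hbot
    have hLn : ∀ g ∈ K, g * z = z * g → ∀ x ∈ L, g * x * g⁻¹ ∈ L := fun g hg hgz x hx =>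
      ⟨hn g hg hgz x hx.1, h.nR g (h.Kt g hg) hgz x hx.2⟩
    have hc := hLp.center_nontrivial
    obtain ⟨⟨b, hb⟩, hb1⟩ := exists_ne (1 : center L)
    set B : Subgroup G := L ⊓ centralizer (L : Set G) with hB
    have hbB : (b : G) ∈ B := ⟨b.2, mem_centralizer_iff.2 fun x hx =>
      congrArg Subtype.val (mem_center_iff.1 hb ⟨x, hx⟩)⟩
    have hBn : ∀ g ∈ K, g * z = z * g → ∀ x ∈ B, g * x * g⁻¹ ∈ B := by
      intro g hg hgz x hx
      refine ⟨hLn g hg hgz x hx.1, mem_centralizer_iff.2 ?_⟩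
      intro y hy
      have hgi : g⁻¹ * z = z * g⁻¹ := (Commute.inv_left (show Commute g z from hgz)).eq
      have h3 := hLn g⁻¹ (K.inv_mem hg) hgi y hy
      rw [inv_inv] at h3
      have h4 := mem_centralizer_iff.1 hx.2 _ h3
      calc y * (g * x * g⁻¹) = g * ((g⁻¹ * y * g) * x) * g⁻¹ := by group
        _ = g * (x * (g⁻¹ * y * g)) * g⁻¹ := by rw [h4]
        _ = g * x * g⁻¹ * y := by group
    rcases h.ab B (fun x hx => hx.1.2) (fun a ha b hb => mem_centralizer_iff.1 hb.2 a ha.1) hBn b hbB with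
      h1 | h1
    · exfalso
      apply hb1
      exact Subtype.ext (Subtype.ext h1)
    · rw [← h1]; exact hbB.1.1

/-- the two abstract facts -/
theorem data [Finite G] (h : OLoc t z K R) : Abs.Data t z where
  tt := h.tt
  t1 := h.t1
  zz := h.zz
  z1 := h.z1
  comm := h.comm
  eq := by
    intro M hMt hMz hn hz m hm
    have hK : ∀ x ∈ M ⊓ K, x = 1 := by
      intro x hx
      by_contra hx1
      apply hz
      exact (h.z_mem (N := M ⊓ K) inf_le_right (fun n hn => hMz n hn.1)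
        (fun g hg hgz n hn' => ⟨hn g (h.Kt g hg) hgz n hn'.1, K.mul_mem (K.mul_mem hg hn'.2) (K.inv_mem hg)⟩)
        hx hx1).1
    have h2 : ∀ g ∈ K, g * z = z * g → m * g = g * m := by
      intro g hg hgz
      have h3 : g * m * g⁻¹ * m⁻¹ ∈ M ⊓ K := by
        refine ⟨M.mul_mem (hn g (h.Kt g hg) hgz m hm) (M.inv_mem hm), ?_⟩
        have e : g * m * g⁻¹ * m⁻¹ = g * (m * g⁻¹ * m⁻¹) := by group
        rw [e]
        exact K.mul_mem hg (h.nK m (hMt m hm) _ (K.inv_mem hg))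
      have h4 := hK _ h3
      rw [mul_inv_eq_one, mul_inv_eq_iff_eq_mul] at h4
      exact h4.symm
    rcases h.oD m (hMt m hm) h2 with h5 | h5 | h5 | h5
    · exact Or.inl h5
    · exact absurd (h5 ▸ hm) hz
    · exact Or.inr (Or.inl h5)
    · exact Or.inr (Or.inr h5)
  abel := by
    intro B hB hBt hBz hBab hBn b hb
    have h1 := h.oR B hB hBt hBz hBn
    set A : Subgroup G := B ⊔ zpowers t with hA
    have hAab : A ≤ centralizer (A : Set G) := by
      rw [hA, sup_le_iff]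
      constructor
      · rw [le_centralizer_iff, sup_le_iff]
        constructor
        · intro x hx
          exact mem_centralizer_iff.2 fun y hy => hBab y hy x hx
        · rw [zpowers_le]
          exact mem_centralizer_iff.2 fun y hy => hBt y hy
      · rw [zpowers_le, mem_centralizer_iff]
        have h2 : B ⊔ zpowers t ≤ centralizer ({t} : Set G) := by
          rw [sup_le_iff]
          refine ⟨fun x hx => mem_centralizer_singleton_iff.2 (hBt x hx), ?_⟩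
          rw [zpowers_le]
          exact mem_centralizer_singleton_iff.2 rfl
        intro y hy
        exact mem_centralizer_singleton_iff.1 (h2 hy)
    have hAn : ∀ g ∈ K, g * z = z * g → ∀ x ∈ A, g * x * g⁻¹ ∈ A := by
      intro g hg hgz x hx
      have h2 : A ≤ A.comap (MulAut.conj g).toMonoidHom := by
        rw [hA, sup_le_iff]
        constructor
        · intro x hx
          show g * x * g⁻¹ ∈ B ⊔ zpowers t
          exact (le_sup_left : B ≤ B ⊔ zpowers t) (hBn g (h.Kt g hg) hgz x hx)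
        · rw [zpowers_le]
          show g * t * g⁻¹ ∈ B ⊔ zpowers t
          rw [h.Kt g hg, mul_assoc, mul_inv_cancel, mul_one]
          exact (le_sup_right : zpowers t ≤ B ⊔ zpowers t) (mem_zpowers t)
      exact h2 hx
    have key := h.ab (A ⊓ R) inf_le_right (fun a ha b hb => mem_centralizer_iff.1 (hAab hb.1) a ha.1)
      (fun g hg hgz x hx => ⟨hAn g hg hgz x hx.1, h.nR g (h.Kt g hg) hgz x hx.2⟩)
    have hbA : b ∈ A := (le_sup_left : B ≤ _) hb
    have htA : t ∈ A := (le_sup_right : zpowers t ≤ _) (mem_zpowers t)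
    rcases h1 b hb with h2 | h2
    · exact Or.inl (key b ⟨hbA, h2⟩)
    · right
      rcases key _ ⟨A.mul_mem htA hbA, h2⟩ with h3 | h3
      · left; rw [← h.tmul b, h3, mul_one]
      · right; rw [← h.tmul b, h3]

/-- an element normalising `M = C(t) ∩ C(z)` (here `s`) maps `R` into `⟨t⟩ × R` -/
theorem swap_R (h : OLoc t z K R) {s : G} (hs : s * t * s⁻¹ = t * z) (hsz : s * z * s⁻¹ = z) {r : G}
    (hr : r ∈ R) : s * r * s⁻¹ ∈ R ∨ t * (s * r * s⁻¹) ∈ R := by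
  refine h.oR (R.map (MulAut.conj s).toMonoidHom) (h.pR.map _) ?_ ?_ ?_ _ ⟨r, hr, rfl⟩
  · rintro _ ⟨r, hr, rfl⟩
    exact (Pos.swap_cen h.zz hs hsz (h.Kt r (h.RK hr)) (h.RP r hr)).1
  · rintro _ ⟨r, hr, rfl⟩
    exact (Pos.swap_cen h.zz hs hsz (h.Kt r (h.RK hr)) (h.RP r hr)).2
  · rintro g hgt hgz _ ⟨r, hr, rfl⟩
    obtain ⟨h1, h2⟩ := Pos.swap_cen_inv hs hsz hgt hgz
    refine ⟨(s⁻¹ * g * s) * r * (s⁻¹ * g * s)⁻¹, h.nR _ h1 h2 r hr, ?_⟩
    show s * ((s⁻¹ * g * s) * r * (s⁻¹ * g * s)⁻¹) * s⁻¹ = g * (s * r * s⁻¹) * g⁻¹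
    group

end OLoc

/-- the position -/
structure OPos (t z : G) (K R F : Subgroup G) : Prop extends OLoc t z K R where
  F' : IsF z F
  tF : t ∈ F
  nc : ∀ g, g * t * g⁻¹ ≠ z
  sw : ∃ s : G, s * t * s⁻¹ = t * z ∧ s * z * s⁻¹ = z

namespace OPos

theorem ncj (h : OPos t z K R F) {a b : G} (ha : IsConj t a) (hb : IsConj z b) : ¬ IsConj a b := by
  intro hab
  obtain ⟨g, hg⟩ := isConj_iff.1 ((ha.trans hab).trans hb.symm)
  exact h.nc g hg

theorem conj_ne_t (h : OPos t z K R F) {a : G} (ha : IsConj z a) : ¬ IsConj t a := fun h1 =>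
  h.ncj (IsConj.refl t) ha h1

/-- `t ~ t v` for `v ~_K z` -/
theorem conj_tv (h : OPos t z K R F) {v k : G} (hk : k ∈ K) (hkv : k * z * k⁻¹ = v) : IsConj t (t * v) := by
  obtain ⟨s, hs, -⟩ := h.sw
  refine isConj_iff.2 ⟨k * s, ?_⟩
  calc k * s * t * (k * s)⁻¹ = k * (s * t * s⁻¹) * k⁻¹ := by group
    _ = (k * t) * z * k⁻¹ := by rw [hs]; group
    _ = t * (k * z * k⁻¹) := by rw [h.Kt k hk]; group
    _ = t * v := by rw [hkv]

/-- `F ∩ C(t) ≤ ⟨t⟩ × R` -/
theorem mem_or (h : OPos t z K R F) {x : G} (hx : x ∈ F) (hxt : x * t = t * x) : x ∈ R ∨ t * x ∈ R := by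
  refine h.oR (F ⊓ centralizer ({t} : Set G)) (h.F'.pF.to_le inf_le_left)
    (fun n hn => mem_centralizer_singleton_iff.1 hn.2) (fun n hn => h.F'.le n hn.1) ?_ x
    ⟨hx, mem_centralizer_singleton_iff.2 hxt⟩
  intro g hgt hgz n hn
  have c1 : Commute g t := hgt
  have c2 : Commute n t := mem_centralizer_singleton_iff.1 hn.2
  exact ⟨h.F'.nor g hgz n hn.1, mem_centralizer_singleton_iff.2 ((c1.mul_left c2).mul_left c1.inv_left)⟩

/-- elements of `F ∩ K` lie in `R` -/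
theorem mem_R (h : OPos t z K R F) {x : G} (hx : x ∈ F) (hxK : x ∈ K) : x ∈ R := by
  rcases h.mem_or hx (h.Kt x hxK) with h1 | h1
  · exact h1
  · exfalso
    apply h.tK
    have h2 := K.mul_mem (h.RK h1) (K.inv_mem hxK)
    rwa [mul_assoc, mul_inv_cancel, mul_one] at h2

/-- **the y-trick** -/
theorem ytrick (h : OPos t z K R F) {v k y : G} (hk : k ∈ K)
    (hkv : k * z * k⁻¹ = v) (hkR : k⁻¹ * z * k ∉ R) (hyv : y * v * y⁻¹ = v) (hyt : y * t * y⁻¹ = t * z) :
    False := by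
  apply hkR
  have hkt : k⁻¹ * t * k = t := by
    have h1 : Commute k t := h.Kt k hk
    rw [h1.inv_left.eq, mul_assoc, inv_mul_cancel, mul_one]
  have hkt2 : k * t * k⁻¹ = t := by
    rw [h.Kt k hk, mul_assoc, mul_inv_cancel, mul_one]
  have hkv2 : k⁻¹ * v * k = z := by rw [← hkv]; group
  set x : G := k⁻¹ * y * k with hx
  have hxz : x * z = z * x := by
    have h1 : x * z * x⁻¹ = z := by
      calc x * z * x⁻¹ = k⁻¹ * (y * (k * z * k⁻¹) * y⁻¹) * k := by rw [hx]; group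
        _ = z := by rw [hkv, hyv, hkv2]
    rwa [mul_inv_eq_iff_eq_mul] at h1
  have h2 : x * t * x⁻¹ = t * (k⁻¹ * z * k) := by
    calc x * t * x⁻¹ = k⁻¹ * (y * (k * t * k⁻¹) * y⁻¹) * k := by rw [hx]; group
      _ = (k⁻¹ * t * k) * (k⁻¹ * z * k) := by rw [hkt2, hyt]; group
      _ = t * (k⁻¹ * z * k) := by rw [hkt]
  have h3 : t * (k⁻¹ * z * k) ∈ F := by
    rw [← h2]; exact h.F'.nor x hxz t h.tF
  have h4 : k⁻¹ * z * k ∈ F := by
    have := F.mul_mem h.tF h3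
    rwa [h.tmul] at this
  exact h.mem_R h4 (K.mul_mem (K.mul_mem (K.inv_mem hk) h.zK) hk)

/-- Case II: `s v s⁻¹ ∈ v R ∪ t v R` -/
theorem exists_of_mem (h : OPos t z K R F) {s v : G} (hsF : s ∈ F) (hs : s * t * s⁻¹ = t * z) (hv : v ∈ K)
    (vv : v * v = 1) (hvz : v * z = z * v) :
    ∃ r ∈ R, v * r * (v * r) = 1 ∧ (s * v * s⁻¹ = v * r ∨ s * v * s⁻¹ = t * (v * r)) := by
  have hsz : s * z * s⁻¹ = z := by rw [h.F'.le s hsF]; group
  have hvt := h.Kt v hv
  obtain ⟨hwt, hwz⟩ := Pos.swap_cen h.zz hs hsz hvt hvz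
  set w : G := s * v * s⁻¹ with hw
  have hww : w * w = 1 := by
    calc w * w = s * (v * v) * s⁻¹ := by rw [hw]; group
      _ = 1 := by rw [vv]; group
  have hfF : w * v⁻¹ ∈ F := by
    have e : w * v⁻¹ = s * (v * s⁻¹ * v⁻¹) := by rw [hw]; group
    rw [e]; exact F.mul_mem hsF (h.F'.nor v hvz _ (F.inv_mem hsF))
  have hvi : v⁻¹ * z = z * v⁻¹ := (Commute.inv_left (show Commute v z from hvz)).eq
  have hvti : v⁻¹ * t = t * v⁻¹ := (Commute.inv_left (show Commute v t from hvt)).eq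
  have hft : (w * v⁻¹) * t = t * (w * v⁻¹) := by
    have c1 : Commute w t := hwt
    have c2 : Commute v⁻¹ t := hvti
    exact c1.mul_left c2
  rcases h.mem_or hfF hft with h2 | h2
  · have h3 := h.nR v⁻¹ hvti hvi _ h2
    have e : v⁻¹ * (w * v⁻¹) * v⁻¹⁻¹ = v⁻¹ * w := by group
    rw [e] at h3
    have e2 : v * (v⁻¹ * w) = w := by group
    exact ⟨_, h3, by rw [e2]; exact hww, Or.inl e2.symm⟩
  · have h3 := h.nR v⁻¹ hvti hvi _ h2
    have e : v⁻¹ * (t * (w * v⁻¹)) * v⁻¹⁻¹ = v⁻¹ * (t * w) := by group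
    rw [e] at h3
    have e2 : v * (v⁻¹ * (t * w)) = t * w := by group
    have c1 : Commute t w := (show Commute w t from hwt).symm
    refine ⟨_, h3, ?_, Or.inr ?_⟩
    · rw [e2]
      calc (t * w) * (t * w) = (t * w) * (w * t) := by rw [c1.eq]
        _ = t * (w * w) * t := by group
        _ = 1 := by rw [hww, mul_one, h.tt]
    · rw [e2, h.tmul]

/-- Case I: all the involutions of `K` are conjugate, `⟨t, z⟩` is normal in `C(z)` -/
theorem false_case_one (h : OPos t z K R F)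
    (hT : ∀ x, x * z = z * x → x * t * x⁻¹ = t ∨ x * t * x⁻¹ = t * z)
    (hone : ∀ p ∈ K, p * p = 1 → p ≠ 1 → ∃ k ∈ K, k * z * k⁻¹ = p)
    {w : G} (hw : w ∈ R) (ww : w * w = 1) (w1 : w ≠ 1) (wz : w ≠ z) : False := by
  obtain ⟨s, hs, hsz⟩ := h.sw
  obtain ⟨k, hk, hkw⟩ := hone w (h.RK hw) ww w1
  have hzw : IsConj z w := isConj_iff.2 ⟨k, hkw⟩
  have hwu : IsConj w (s * w * s⁻¹) := isConj_iff.2 ⟨s, rfl⟩
  set u : G := s * w * s⁻¹ with hu
  have uu : u * u = 1 := by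
    calc u * u = s * (w * w) * s⁻¹ := by rw [hu]; group
      _ = 1 := by rw [ww]; group
  have hut : u * t = t * u := (Pos.swap_cen h.zz hs hsz (h.Kt w (h.RK hw)) (h.RP w hw)).1
  have huK : u ∈ K := by
    rcases h.toOLoc.swap_R hs hsz hw with h1 | h1
    · exact h.RK h1
    · exfalso
      have c1 : Commute t u := (show Commute u t from hut).symm
      have h5 : t * u * (t * u) = 1 := by
        calc (t * u) * (t * u) = (t * u) * (u * t) := by rw [c1.eq]
          _ = t * (u * u) * t := by group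
          _ = 1 := by rw [uu, mul_one, h.tt]
      by_cases h6 : t * u = 1
      · have h7 : u = t := by rw [← h.tmul u, h6, mul_one]
        rw [h7] at hwu
        exact h.conj_ne_t (hzw.trans hwu) (IsConj.refl t)
      · obtain ⟨k2, hk2, hk2p⟩ := hone _ (h.RK h1) h5 h6
        have h8 := h.conj_tv hk2 hk2p
        rw [h.tmul] at h8
        exact h.conj_ne_t (hzw.trans hwu) h8
  have hu1 : u ≠ 1 := by
    intro e
    apply w1
    calc w = s⁻¹ * u * s := by rw [hu]; group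
      _ = 1 := by rw [e]; group
  obtain ⟨k', hk', hk'u⟩ := hone u huK uu hu1
  set x : G := k'⁻¹ * s * k with hx
  have hkt : k * t * k⁻¹ = t := by
    rw [h.Kt k hk, mul_assoc, mul_inv_cancel, mul_one]
  have hk't : k'⁻¹ * t * k' = t := by
    have h1 : Commute k' t := h.Kt k' hk'
    rw [h1.inv_left.eq, mul_assoc, inv_mul_cancel, mul_one]
  have hxz : x * z = z * x := by
    have h1 : x * z * x⁻¹ = z := by
      calc x * z * x⁻¹ = k'⁻¹ * (s * (k * z * k⁻¹) * s⁻¹) * k' := by rw [hx]; group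
        _ = k'⁻¹ * u * k' := by rw [hkw]
        _ = z := by rw [← hk'u]; group
    rwa [mul_inv_eq_iff_eq_mul] at h1
  have hxt : x * t * x⁻¹ = t * (k'⁻¹ * z * k') := by
    calc x * t * x⁻¹ = k'⁻¹ * (s * (k * t * k⁻¹) * s⁻¹) * k' := by rw [hx]; group
      _ = (k'⁻¹ * t * k') * (k'⁻¹ * z * k') := by rw [hkt, hs]; group
      _ = t * (k'⁻¹ * z * k') := by rw [hk't]
  have h9 : k'⁻¹ * z * k' = z := by
    rcases hT x hxz with h1 | h1
    · exfalso
      rw [hxt, mul_eq_left] at h1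
      apply h.z1
      calc z = k' * (k'⁻¹ * z * k') * k'⁻¹ := by group
        _ = 1 := by rw [h1]; group
    · rw [hxt] at h1
      exact mul_left_cancel h1
  have h10 : u = z := by
    rw [← hk'u]
    calc k' * z * k'⁻¹ = k' * (k'⁻¹ * z * k') * k'⁻¹ := by rw [h9]
      _ = z := by group
  apply wz
  have h11 : s * w * s⁻¹ = s * z * s⁻¹ := by rw [hsz]; exact h10
  exact mul_left_cancel (mul_right_cancel h11)

/-- **one class of involutions** -/
theorem false_cls [Finite G] (h : OPos t z K R F)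
    (hone : ∀ p ∈ K, p * p = 1 → p ≠ 1 → ∃ k ∈ K, k * z * k⁻¹ = p)
    {w : G} (hw : w ∈ R) (ww : w * w = 1) (w1 : w ≠ 1) (wz : w ≠ z)
    {v k : G} (hv : v ∈ K) (hk : k ∈ K) (vv : v * v = 1)
    (hvz : v * z = z * v) (hkv : k * z * k⁻¹ = v) (hkR : k⁻¹ * z * k ∉ R)
    (hR : ∀ r ∈ R, v * r * (v * r) = 1 → ∃ h ∈ K, h * z = z * h ∧ h * (v * r) * h⁻¹ = v) : False := by
  have hzv : IsConj z v := isConj_iff.2 ⟨k, hkv⟩
  have hd := h.toOLoc.data
  by_cases hFt : ∀ x ∈ F, x * t = t * x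
  · exact h.false_case_one (fun x hx => hd.conj_t_of_le h.F' h.tF h.nc hFt hx) hone hw ww w1 wz
  · obtain ⟨s, hsF, hs⟩ := hd.exists_mem h.F' h.tF h.nc hFt
    obtain ⟨r, hr, hvr, h1⟩ := h.exists_of_mem hsF hs hv vv hvz
    rcases h1 with h1 | h1
    · obtain ⟨g, hg, hgz, hgv⟩ := hR r hr hvr
      apply h.ytrick hk hkv hkR (y := g * s)
      · calc g * s * v * (g * s)⁻¹ = g * (s * v * s⁻¹) * g⁻¹ := by group
          _ = v := by rw [h1, hgv]
      · calc g * s * t * (g * s)⁻¹ = g * (s * t * s⁻¹) * g⁻¹ := by group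
          _ = (g * t) * z * g⁻¹ := by rw [hs]; group
          _ = t * (g * z) * g⁻¹ := by rw [h.Kt g hg]; group
          _ = t * z := by rw [hgz]; group
    · have hvw : IsConj v (s * v * s⁻¹) := isConj_iff.2 ⟨s, rfl⟩
      by_cases h2 : v * r = 1
      · rw [h1, h2, mul_one] at hvw
        exact h.conj_ne_t hzv hvw.symm
      · obtain ⟨k2, hk2, hk2p⟩ := hone _ (K.mul_mem hv (h.RK hr)) hvr h2
        have h8 := h.conj_tv hk2 hk2p
        rw [← h1] at h8
        exact h.conj_ne_t (hzv.trans hvw) h8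

end OPos

end Cfsg.Agent.OddHalf.D6.QThree.Outer
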