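import Cfsg.Agent.OddHalf.D6.QThree.NIFacts
import Cfsg.Agent.OddHalf.D6.QThree.Outer
import Cfsg.Agent.Lib.NormalAbelian

/-!
# ODD half, D6, `q = 3`: the quaternion factors of `R` are not normal in `C_G(z)` (helper135)

`not_normal`: `t ≁ z`, `t^s = t z` with `s ∈ C_G(z)`, all the involutions of `K` are conjugate in `K`, `z` is the only
involution of `C_K(z)` centralising `D` (`R = Q D = Q₈ * Q₈`): then `D` is not normal in `C_G(z)`. No S1309.

Proof. `s` a 2-element, `w = q d` (`q ∈ Q`, `d ∈ D` of order four) with `w^s ∈ w ⟨t, z⟩`; `w ~ z ≁ t ~ t w`, so that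
`w^s ∈ {w, w z}`, and `g ∈ s D` maps `t` to `t z`, `w` to `w`. `D^k` is normal in `C(w)` (`z^k = w`), centralised by `t`,
so by `t z`: `z` centralises `D^k`: `z^{k⁻¹} = z`.
-/

set_option autoImplicit false

namespace Cfsg.Agent.OddHalf.D6.QThree.NINorm

open Subgroup
open Cfsg.Agent.OddHalf.D6.QThree.NISide
open Cfsg.Agent.OddHalf.D6.QThree.Outer (OLoc)

variable {G : Type*} [Group G]

theorem mem_normalizer_of [Finite G] {H : Subgroup G} {s : G} (h : ∀ x ∈ H, s * x * s⁻¹ ∈ H) :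
    s ∈ normalizer (H : Set G) := by
  have hpow : ∀ n : ℕ, ∀ x ∈ H, s ^ n * x * (s ^ n)⁻¹ ∈ H := by
    intro n
    induction n with
    | zero => intro x hx; simpa using hx
    | succ n ih =>
      intro x hx
      have h1 := h _ (ih x hx)
      have e : s ^ (n + 1) * x * (s ^ (n + 1))⁻¹ = s * (s ^ n * x * (s ^ n)⁻¹) * s⁻¹ := by
        rw [pow_succ']; group
      rwa [e]
  rw [mem_normalizer_iff]
  intro x
  refine ⟨fun hx => h x hx, fun hx => ?_⟩
  have h1 := hpow (orderOf s - 1) _ hx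
  have h2 : s ^ (orderOf s - 1) = s⁻¹ := by
    have h3 : s ^ (orderOf s - 1) * s = 1 := by
      rw [← pow_succ, Nat.sub_add_cancel (orderOf_pos s), pow_orderOf_eq_one]
    exact eq_inv_of_mul_eq_one_left h3
  rw [h2] at h1
  have e : s⁻¹ * (s * x * s⁻¹) * s⁻¹⁻¹ = x := by group
  rwa [e] at h1

/-- a 2-element acting on the section `V / Z₀` has a nontrivial fixed coset -/
theorem exists_coset [Finite G] {V Z₀ : Subgroup G} {s : G} (hV : IsPGroup 2 V) (hs : IsPGroup 2 (zpowers s))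
    (hsV : ∀ v ∈ V, s * v * s⁻¹ ∈ V) (hne : ∃ v ∈ V, v ∉ Z₀) (hsZ : ∀ x ∈ Z₀, s * x * s⁻¹ ∈ Z₀)
    (hVZ : ∀ v ∈ V, ∀ x ∈ Z₀, v * x * v⁻¹ ∈ Z₀) : ∃ v ∈ V, v ∉ Z₀ ∧ v⁻¹ * (s * v * s⁻¹) ∈ Z₀ := by
  have : Fact (Nat.Prime 2) := ⟨Nat.prime_two⟩
  have hsN : s ∈ normalizer (V : Set G) := mem_normalizer_of hsV
  set P : Subgroup G := V ⊔ zpowers s with hP
  have hPp : IsPGroup 2 P := IsPGroup.to_sup_of_normal_left' hV hs (by rw [zpowers_le]; exact hsN)
  have hPV : P ≤ normalizer (V : Set G) := sup_le le_normalizer (by rw [zpowers_le]; exact hsN)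
  have hPZ : P ≤ normalizer (Z₀ : Set G) := by
    refine sup_le (fun v hv => mem_normalizer_of (hVZ v hv)) ?_
    rw [zpowers_le]; exact mem_normalizer_of hsZ
  have hsP : s ∈ P := (le_sup_right : zpowers s ≤ P) (mem_zpowers s)
  have hVP : V ≤ P := le_sup_left
  have n1 : (Z₀.subgroupOf P).Normal := by
    constructor
    intro x hx g
    rw [mem_subgroupOf] at hx ⊢
    exact (mem_normalizer_iff.1 (hPZ g.2) _).1 hx
  have n2 : (V.subgroupOf P).Normal := by
    constructor
    intro x hx g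
    rw [mem_subgroupOf] at hx ⊢
    exact (mem_normalizer_iff.1 (hPV g.2) _).1 hx
  set π := QuotientGroup.mk' (Z₀.subgroupOf P) with hπ
  have hπs : Function.Surjective π := QuotientGroup.mk'_surjective _
  have hnil : Group.IsNilpotent (P ⧸ Z₀.subgroupOf P) := (hPp.to_quotient _).isNilpotent
  have n3 : ((V.subgroupOf P).map π).Normal := n2.map π hπs
  have hne' : (V.subgroupOf P).map π ≠ ⊥ := by
    intro e
    obtain ⟨v, hv, hvZ⟩ := hne
    apply hvZ
    have h1 : π ⟨v, hVP hv⟩ ∈ (V.subgroupOf P).map π := ⟨_, mem_subgroupOf.2 hv, rfl⟩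
    rw [e, mem_bot] at h1
    exact mem_subgroupOf.1 ((QuotientGroup.eq_one_iff _).1 h1)
  have h2 := Cfsg.Agent.Lib.NormalAbelian.normal_inf_center_ne_bot ((V.subgroupOf P).map π) hne'
  obtain ⟨⟨x, hx, hxc⟩, hx1⟩ := ne_bot_iff_exists_ne_one.1 h2
  obtain ⟨v, hv, rfl⟩ := hx
  refine ⟨v, mem_subgroupOf.1 hv, fun hvZ => hx1 (Subtype.ext ?_), ?_⟩
  · exact (QuotientGroup.eq_one_iff _).2 (mem_subgroupOf.2 hvZ)
  · have h3 : π ⟨s, hsP⟩ * π v = π v * π ⟨s, hsP⟩ := mem_center_iff.1 hxc _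
    have h4 : π (v⁻¹ * (⟨s, hsP⟩ * v * (⟨s, hsP⟩ : P)⁻¹)) = 1 := by
      rw [map_mul, map_mul, map_mul, map_inv, map_inv, h3]
      group
    exact mem_subgroupOf.1 ((QuotientGroup.eq_one_iff _).1 h4)

/-- the odd power of an element which is a 2-element -/
theorem exists_odd_pow [Finite G] (s : G) : ∃ m : ℕ, Odd m ∧ IsPGroup 2 (zpowers (s ^ m)) := by
  obtain ⟨k, m, hm, he⟩ := Nat.exists_eq_two_pow_mul_odd (n := orderOf s) (orderOf_pos s).ne'
  refine ⟨m, hm, ?_⟩
  apply IsPGroup.of_card (n := k)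
  rw [Nat.card_zpowers, orderOf_pow' s (by rintro rfl; exact absurd hm (by decide)), he]
  rw [Nat.gcd_eq_right (Dvd.intro_left _ rfl)]
  exact Nat.mul_div_cancel _ hm.pos

/-- `⟨t⟩ × H` -/
def ext (H : Subgroup G) {t : G} (tt : t * t = 1) (hc : ∀ x ∈ H, x * t = t * x) : Subgroup G where
  carrier := {x | x ∈ H ∨ t * x ∈ H}
  one_mem' := Or.inl H.one_mem
  mul_mem' := by
    have key : ∀ x, t * x ∈ H → x * t = t * x := by
      intro x hx
      have h1 : Commute (t * x) t := hc _ hx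
      have h2 : Commute (t * (t * x)) t := (Commute.refl t).mul_left h1
      rwa [← mul_assoc, tt, one_mul] at h2
    rintro x y (hx | hx) (hy | hy)
    · exact Or.inl (H.mul_mem hx hy)
    · right
      have e : t * (x * y) = x * (t * y) := by rw [← mul_assoc, ← hc x hx, mul_assoc]
      rw [e]; exact H.mul_mem hx hy
    · right
      rw [← mul_assoc]; exact H.mul_mem hx hy
    · left
      have e : x * y = (t * x) * (t * y) := by
        calc x * y = x * (t * t) * y := by rw [tt, mul_one]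
          _ = (x * t) * (t * y) := by group
          _ = (t * x) * (t * y) := by rw [key x hx]
      rw [e]; exact H.mul_mem hx hy
  inv_mem' := by
    rintro x (hx | hx)
    · exact Or.inl (H.inv_mem hx)
    · right
      have h1 : Commute (t * x) t := hc _ hx
      have h2 : Commute (t * (t * x)) t := (Commute.refl t).mul_left h1
      rw [← mul_assoc, tt, one_mul] at h2
      have e : t * x⁻¹ = (t * x)⁻¹ := by
        rw [mul_inv_rev, inv_eq_of_mul_eq_one_right tt, h2.inv_left.eq]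
      rw [e]; exact H.inv_mem hx

theorem mem_ext {H : Subgroup G} {t : G} {tt : t * t = 1} {hc : ∀ x ∈ H, x * t = t * x} {x : G} :
    x ∈ ext H tt hc ↔ x ∈ H ∨ t * x ∈ H := Iff.rfl

theorem ext_comm {H : Subgroup G} {t : G} {tt : t * t = 1} {hc : ∀ x ∈ H, x * t = t * x} {x : G}
    (hx : x ∈ ext H tt hc) : x * t = t * x := by
  rcases hx with hx | hx
  · exact hc x hx
  · have h1 : Commute (t * x) t := hc _ hx
    have h2 : Commute (t * (t * x)) t := (Commute.refl t).mul_left h1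
    rwa [← mul_assoc, tt, one_mul] at h2

theorem isPGroup_ext {H : Subgroup G} {t : G} {tt : t * t = 1} {hc : ∀ x ∈ H, x * t = t * x}
    (hH : IsPGroup 2 H) : IsPGroup 2 (ext H tt hc) := by
  rintro ⟨x, hx⟩
  have h1 : x * x ∈ H := by
    have h2 := ext_comm hx
    rcases hx with hx | hx
    · exact H.mul_mem hx hx
    · have e : x * x = (t * x) * (t * x) := by
        calc x * x = x * (t * t) * x := by rw [tt, mul_one]
          _ = (x * t) * (t * x) := by group
          _ = (t * x) * (t * x) := by rw [h2]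
      rw [e]; exact H.mul_mem hx hx
  obtain ⟨n, hn⟩ := hH ⟨x * x, h1⟩
  refine ⟨n + 1, Subtype.ext ?_⟩
  have h3 : (x * x) ^ 2 ^ n = 1 := congrArg Subtype.val hn
  show x ^ 2 ^ (n + 1) = 1
  rw [pow_succ', pow_mul, pow_two]; exact h3

variable {t z : G} {K R : Subgroup G}

theorem not_normal [Finite G] (h : OLoc t z K R) (nc : ∀ g : G, g * t * g⁻¹ ≠ z)
    (sw : ∃ s : G, s * t * s⁻¹ = t * z ∧ s * z * s⁻¹ = z) {a b : G} {Q D : Subgroup G}
    (sQ : Side z t a Q D) (sD : Side z t b D Q) (comm : ∀ x ∈ Q, ∀ y ∈ D, x * y = y * x)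
    (hQR : Q ≤ R) (hDR : D ≤ R) (hR : ∀ r ∈ R, ∃ x ∈ Q, ∃ y ∈ D, r = x * y)
    (one : ∀ p ∈ K, p * p = 1 → p ≠ 1 → ∃ k ∈ K, k * z * k⁻¹ = p)
    (inv : ∀ u ∈ K, u * z = z * u → u * u = 1 → (∀ y ∈ D, u * y = y * u) → u = 1 ∨ u = z)
    (hn : ∀ g, g * z = z * g → ∀ y ∈ D, g * y * g⁻¹ ∈ D) : False := by
  have : Fact (Nat.Prime 2) := ⟨Nat.prime_two⟩
  have hzD : ∀ y ∈ D, y * z = z * y := fun y hy => h.RP y (hDR hy)
  have hzQ : ∀ y ∈ Q, y * z = z * y := fun y hy => h.RP y (hQR hy)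
  have hztz := h.comm
  -- `s` a 2-element
  obtain ⟨s, hst, hsz, hs2⟩ : ∃ s : G, s * t * s⁻¹ = t * z ∧ s * z = z * s ∧ IsPGroup 2 (zpowers s) := by
    obtain ⟨s, hst, hsz⟩ := sw
    obtain ⟨m, hm, hp⟩ := exists_odd_pow s
    have hsz' : s * z = z * s := mul_inv_eq_iff_eq_mul.1 hsz
    have h2 : (s * s) * t * (s * s)⁻¹ = t := by
      have h6 : s * (t * z) * s⁻¹ = (s * t * s⁻¹) * (s * z * s⁻¹) := by group
      calc (s * s) * t * (s * s)⁻¹ = s * (s * t * s⁻¹) * s⁻¹ := by group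
        _ = s * (t * z) * s⁻¹ := by rw [hst]
        _ = (s * t * s⁻¹) * (s * z * s⁻¹) := h6
        _ = t := by rw [hst, hsz, mul_assoc, h.zz, mul_one]
    have h3 : Commute (s * s) t := mul_inv_eq_iff_eq_mul.1 h2
    obtain ⟨n, hn⟩ := hm
    refine ⟨s ^ m, ?_, (Commute.pow_left (show Commute s z from hsz') m).eq, hp⟩
    have h4 : s ^ m = s * (s * s) ^ n := by rw [hn, pow_succ', pow_mul, pow_two]
    have h5 : Commute ((s * s) ^ n) t := h3.pow_left n
    rw [h4]
    calc s * (s * s) ^ n * t * (s * (s * s) ^ n)⁻¹ = s * ((s * s) ^ n * t * ((s * s) ^ n)⁻¹) * s⁻¹ := by group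
      _ = t * z := by rw [h5.eq, mul_inv_cancel_right, hst]
  have hsR := fun r hr => h.swap_R hst (mul_inv_eq_iff_eq_mul.2 hsz) (r := r) hr
  -- the fixed coset in `D`
  have hpD : IsPGroup 2 D := sD.pQ
  have hpz : ∀ x ∈ zpowers z, x = 1 ∨ x = z := by
    intro x hx
    have h1 : x ^ 2 = 1 := by
      obtain ⟨k, rfl⟩ := mem_zpowers_iff.1 hx
      rw [← zpow_natCast, ← zpow_mul, mul_comm, zpow_mul]
      have : z ^ ((2 : ℕ) : ℤ) = 1 := by rw [zpow_natCast, pow_two, h.zz]
      rw [this, one_zpow]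
    have h2 : orderOf z = 2 := orderOf_eq_prime (by rw [pow_two, h.zz]) h.z1
    obtain ⟨k, hk⟩ := mem_zpowers_iff.1 hx
    rcases Int.even_or_odd k with ⟨n, hn⟩ | ⟨n, hn⟩
    · left
      rw [← hk, hn, ← two_mul, zpow_mul, zpow_ofNat, pow_two, h.zz, one_zpow]
    · right
      rw [← hk, hn, zpow_add, zpow_mul, zpow_ofNat, pow_two, h.zz, one_zpow, one_mul, zpow_one]
  obtain ⟨d, hd, hdz, hsd⟩ : ∃ d ∈ D, d ∉ zpowers z ∧ d⁻¹ * (s * d * s⁻¹) ∈ zpowers z := by
    apply exists_coset hpD hs2 (hn s hsz)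
    · obtain ⟨q, hq, h1, h2⟩ := sD.exists_ne
      exact ⟨q, hq, fun h3 => (hpz q h3).elim h1 h2⟩
    · intro x hx
      rcases hpz x hx with rfl | rfl
      · rw [mul_one, mul_inv_cancel]; exact one_mem _
      · rw [hsz, mul_inv_cancel_right]; exact mem_zpowers _
    · intro v hv x hx
      rcases hpz x hx with rfl | rfl
      · rw [mul_one, mul_inv_cancel]; exact one_mem _
      · rw [hzD v hv, mul_inv_cancel_right]; exact mem_zpowers _
  -- the fixed coset in `⟨t⟩ × Q`
  have hcz : ∀ x ∈ zpowers z, x * t = t * x := by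
    intro x hx
    rcases hpz x hx with rfl | rfl
    · rw [one_mul, mul_one]
    · exact hztz.symm
  set A : Subgroup G := ext Q h.tt sQ.ct with hA
  set Z₀ : Subgroup G := ext (zpowers z) h.tt hcz with hZ₀
  have hmemQ : ∀ r ∈ R, (∀ y ∈ D, r * y = y * r) → r ∈ Q := by
    intro r hr hrD
    obtain ⟨x, hx, y, hy, rfl⟩ := hR r hr
    have h1 : ∀ y' ∈ D, y * y' = y' * y := by
      intro y' hy'
      have h2 := hrD y' hy'
      have h3 : Commute x y' := comm x hx y' hy'
      apply mul_left_cancel (a := x)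
      calc x * (y * y') = (x * y) * y' := by group
        _ = y' * (x * y) := h2
        _ = (y' * x) * y := by group
        _ = x * (y' * y) := by rw [← h3.eq]; group
    rcases sD.center hy h1 with e | e
    · rw [e, mul_one]; exact hx
    · rw [e]; exact Q.mul_mem hx sQ.zQ
  have hsD : ∀ y ∈ D, s⁻¹ * y * s ∈ D := by
    intro y hy
    have := hn s⁻¹ (show Commute s z from hsz).inv_left.eq y hy
    rwa [inv_inv] at this
  have hsQ : ∀ q ∈ Q, s * q * s⁻¹ ∈ A := by
    intro q hq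
    have hc : ∀ y ∈ D, s * q * s⁻¹ * y = y * (s * q * s⁻¹) := by
      intro y hy
      have h1 := comm q hq _ (hsD y hy)
      calc s * q * s⁻¹ * y = s * (q * (s⁻¹ * y * s)) * s⁻¹ := by group
        _ = s * (s⁻¹ * y * s * q) * s⁻¹ := by rw [h1]
        _ = y * (s * q * s⁻¹) := by group
    rcases hsR q (hQR hq) with h1 | h1
    · exact Or.inl (hmemQ _ h1 hc)
    · refine Or.inr (hmemQ _ h1 fun y hy => ?_)
      exact ((show Commute t y from (sD.ct y hy).symm).mul_left (show Commute _ y from hc y hy)).eq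
  have hzA : z ∈ A := Or.inl sQ.zQ
  have htA : t ∈ A := Or.inr (by rw [h.tt]; exact Q.one_mem)
  have hsA : ∀ v ∈ A, s * v * s⁻¹ ∈ A := by
    rintro v (hv | hv)
    · exact hsQ v hv
    · have h1 := A.mul_mem (A.mul_mem htA hzA) (hsQ _ hv)
      have e : s * v * s⁻¹ = t * z * (s * (t * v) * s⁻¹) := by
        rw [← hst]
        calc s * v * s⁻¹ = s * ((t * t) * v) * s⁻¹ := by rw [h.tt, one_mul]
          _ = s * t * s⁻¹ * (s * (t * v) * s⁻¹) := by group
      rw [e]; exact h1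
  have hcen : ∀ x ∈ Z₀, (x = 1 ∨ x = z) ∨ (x = t ∨ x = t * z) := by
    rintro x (hx | hx)
    · exact Or.inl (hpz x hx)
    · right
      rcases hpz _ hx with e | e
      · left; rw [← h.tmul x, e, mul_one]
      · right; rw [← h.tmul x, e]
  have hz0 : z ∈ Z₀ := Or.inl (mem_zpowers _)
  have ht0 : t ∈ Z₀ := Or.inr (by rw [h.tt]; exact one_mem _)
  obtain ⟨v, hv, hvz, hsv⟩ : ∃ v ∈ A, v ∉ Z₀ ∧ v⁻¹ * (s * v * s⁻¹) ∈ Z₀ := by
    apply exists_coset (isPGroup_ext sQ.pQ) hs2 hsA
    · obtain ⟨q, hq, h1, h2⟩ := sQ.exists_ne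
      refine ⟨q, Or.inl hq, fun h3 => ?_⟩
      rcases hcen q h3 with (e | e) | (e | e)
      · exact h1 e
      · exact h2 e
      · exact h.tK (h.RK (hQR (e ▸ hq)))
      · apply h.tK
        have h4 := K.mul_mem (h.RK (hQR hq)) (K.inv_mem h.zK)
        rwa [e, mul_inv_cancel_right] at h4
    · intro x hx
      rcases hcen x hx with (rfl | rfl) | (rfl | rfl)
      · rw [mul_one, mul_inv_cancel]; exact one_mem _
      · rw [hsz, mul_inv_cancel_right]; exact hz0
      · rw [hst]; exact Z₀.mul_mem ht0 hz0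
      · have e : s * (t * z) * s⁻¹ = (s * t * s⁻¹) * (s * z * s⁻¹) := by group
        rw [e, hst, hsz, mul_inv_cancel_right, mul_assoc, h.zz, mul_one]; exact ht0
    · intro v hv x hx
      have hvt : Commute v t := ext_comm hv
      have hvz : Commute v z := by
        rcases hv with hv | hv
        · exact hzQ v hv
        · have h1 : Commute (t * (t * v)) z := (show Commute t z from hztz).mul_left (hzQ _ hv)
          rwa [h.tmul] at h1
      rcases hcen x hx with (rfl | rfl) | (rfl | rfl)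
      · rw [mul_one, mul_inv_cancel]; exact one_mem _
      · rw [hvz.eq, mul_inv_cancel_right]; exact hz0
      · rw [hvt.eq, mul_inv_cancel_right]; exact ht0
      · rw [(hvt.mul_right hvz).eq, mul_inv_cancel_right]; exact Z₀.mul_mem ht0 hz0
  obtain ⟨q, hq, hqz, hsq⟩ : ∃ q ∈ Q, q ∉ zpowers z ∧ q⁻¹ * (s * q * s⁻¹) ∈ Z₀ := by
    have hvt : Commute v t := ext_comm hv
    rcases hv with hv | hv
    · exact ⟨v, hv, fun h1 => hvz (Or.inl h1), hsv⟩
    · refine ⟨t * v, hv, fun h1 => hvz (Or.inr h1), ?_⟩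
      have e : (t * v)⁻¹ * (s * (t * v) * s⁻¹) = v⁻¹ * t⁻¹ * (s * t * s⁻¹) * (s * v * s⁻¹) := by group
      have e2 : t⁻¹ = t := inv_eq_of_mul_eq_one_right h.tt
      have hsvz : Commute (s * v * s⁻¹) z := by
        have hsz' : Commute s z := hsz
        have hvz' : Commute v z := by
          have h1 : Commute (t * (t * v)) z := (show Commute t z from hztz).mul_left (hzQ _ hv)
          rwa [h.tmul] at h1
        exact (hsz'.mul_left hvz').mul_left hsz'.inv_left
      rw [e, hst, e2, mul_assoc v⁻¹, ← mul_assoc t, h.tt, one_mul, mul_assoc, ← hsvz.eq, ← mul_assoc]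
      exact Z₀.mul_mem hsv hz0
  -- the involution `w`
  have hd1 : d ≠ 1 := fun e => hdz (e ▸ one_mem _)
  have hdz' : d ≠ z := fun e => hdz (e ▸ mem_zpowers _)
  have hq1 : q ≠ 1 := fun e => hqz (e ▸ one_mem _)
  have hqz' : q ≠ z := fun e => hqz (e ▸ mem_zpowers _)
  set w : G := q * d with hw
  have hqd : Commute q d := comm q hq d hd
  have hwR : w ∈ R := R.mul_mem (hQR hq) (hDR hd)
  have hwK : w ∈ K := h.RK hwR
  have ww : w * w = 1 := by
    calc w * w = q * (d * q) * d := by rw [hw]; group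
      _ = q * q * (d * d) := by rw [← hqd.eq]; group
      _ = 1 := by rw [sQ.sq q hq hq1 hqz', sD.sq d hd hd1 hdz', h.zz]
  have hwz : w ∉ zpowers z := by
    intro h1
    have h2 : q ∈ D := by
      have h3 : z ∈ D := sD.zQ
      have h4 : w ∈ D := by
        rcases hpz w h1 with e | e
        · rw [e]; exact D.one_mem
        · rw [e]; exact h3
      have h5 := D.mul_mem h4 (D.inv_mem hd)
      rwa [hw, mul_inv_cancel_right] at h5
    rcases sQ.center hq (fun x hx => (comm x hx q h2).symm) with e | e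
    · exact hq1 e
    · exact hqz' e
  have hw1 : w ≠ 1 := fun e => hwz (e ▸ one_mem _)
  have hwz' : w ≠ z := fun e => hwz (e ▸ mem_zpowers _)
  have hwzc : w * z = z * w := h.RP w hwR
  -- `w^s ∈ w ⟨t, z⟩`
  have hsw : w⁻¹ * (s * w * s⁻¹) ∈ Z₀ := by
    have hd0 : d⁻¹ * (s * d * s⁻¹) ∈ Z₀ := Or.inl hsd
    have hc : Commute d (q⁻¹ * (s * q * s⁻¹)) := by
      rcases hcen _ hsq with (e | e) | (e | e) <;> rw [e]
      · exact Commute.one_right _
      · exact hzD d hd
      · exact sD.ct d hd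
      · exact (show Commute d t from sD.ct d hd).mul_right (hzD d hd)
    have e : w⁻¹ * (s * w * s⁻¹) = (q⁻¹ * (s * q * s⁻¹)) * (d⁻¹ * (s * d * s⁻¹)) := by
      calc w⁻¹ * (s * w * s⁻¹) = d⁻¹ * (q⁻¹ * (s * q * s⁻¹)) * (s * d * s⁻¹) := by rw [hw]; group
        _ = (q⁻¹ * (s * q * s⁻¹)) * d⁻¹ * (s * d * s⁻¹) := by rw [hc.inv_left.eq]
        _ = _ := by group
    rw [e]; exact Z₀.mul_mem hsq hd0
  -- `t x ~ t` for the involutions `x` of `K`
  have conj_t : ∀ x ∈ K, x * x = 1 → x ≠ 1 → ∃ g : G, g * t * g⁻¹ = t * x := by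
    intro x hx hxx hx1
    obtain ⟨k, hk, hkx⟩ := one x hx hxx hx1
    refine ⟨k * s, ?_⟩
    have hkt : Commute k t := h.Kt k hk
    calc k * s * t * (k * s)⁻¹ = k * (s * t * s⁻¹) * k⁻¹ := by group
      _ = k * t * k⁻¹ * (k * z * k⁻¹) := by rw [hst]; group
      _ = t * x := by rw [hkt.eq, mul_inv_cancel_right, hkx]
  have conj_false : ∀ x ∈ K, x * x = 1 → x ≠ 1 → s * w * s⁻¹ ≠ t * x := by
    intro x hx hxx hx1 e
    obtain ⟨g, hg⟩ := conj_t x hx hxx hx1
    obtain ⟨k, hk, hkw⟩ := one w hwK ww hw1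
    apply nc ((s * k)⁻¹ * g)
    calc (s * k)⁻¹ * g * t * ((s * k)⁻¹ * g)⁻¹ = k⁻¹ * s⁻¹ * (g * t * g⁻¹) * s * k := by group
      _ = k⁻¹ * s⁻¹ * (s * w * s⁻¹) * s * k := by rw [hg, e]
      _ = k⁻¹ * w * k := by group
      _ = k⁻¹ * (k * z * k⁻¹) * k := by rw [hkw]
      _ = z := by group
  -- an element fixing `w`
  obtain ⟨g, hgt, hgz, hgw⟩ : ∃ g : G, g * t * g⁻¹ = t * z ∧ g * z = z * g ∧ g * w = w * g := by
    rcases hcen _ hsw with (e | e) | (e | e)
    · refine ⟨s, hst, hsz, ?_⟩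
      have h1 : s * w * s⁻¹ = w := (inv_mul_eq_one.1 e).symm
      exact mul_inv_eq_iff_eq_mul.1 h1
    · have h1 : s * w * s⁻¹ = w * z := by rw [← e]; group
      -- an element of `D` not commuting with `d`
      have hd' := sD.act d hd hd1 hdz'
      set y := b * d * b⁻¹ with hy
      have hyD : y ∈ D := sD.aQ d hd
      refine ⟨y * s, ?_, ?_, ?_⟩
      · have c1 : Commute y t := sD.ct y hyD
        have c2 : Commute y z := hzD y hyD
        calc y * s * t * (y * s)⁻¹ = y * (s * t * s⁻¹) * y⁻¹ := by group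
          _ = t * z := by rw [hst, (c1.mul_right c2).eq, mul_inv_cancel_right]
      · exact ((show Commute y z from hzD y hyD).mul_left (show Commute s z from hsz)).eq
      · have hyd : y * d * (y * d) = z := by
          apply sD.sq _ (D.mul_mem hyD hd)
          · intro e2
            apply hd'
            have h3 : y = d⁻¹ := eq_inv_of_mul_eq_one_left e2
            rw [h3, mul_inv_cancel, inv_mul_cancel]
          · intro e2
            apply hd'
            have h3 : y = z * d⁻¹ := by rw [← e2]; group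
            rw [h3]
            calc d * (z * d⁻¹) = z * d * d⁻¹ := by rw [← mul_assoc, hzD d hd]
              _ = z * d⁻¹ * d := by group
        have hzi : z⁻¹ = z := inv_eq_of_mul_eq_one_right h.zz
        have hyy : y * y = z := by
          apply sD.sq y hyD
          · intro e2; apply hd'; rw [e2, one_mul, mul_one]
          · intro e2; apply hd'; rw [e2]; exact hzD d hd
        have hdd : d * d = z := sD.sq d hd hd1 hdz'
        have h3 : y * d * y⁻¹ = d * z := by
          have h4 : y * d * y = z * d⁻¹ := by rw [← hyd]; group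
          calc y * d * y⁻¹ = y * d * y * (y * y)⁻¹ := by group
            _ = z * d⁻¹ * z := by rw [h4, hyy, hzi]
            _ = z * (d⁻¹ * z) := by group
            _ = z * (z * d⁻¹) := by rw [(show Commute d z from hzD d hd).inv_left.eq]
            _ = d⁻¹ := by rw [← mul_assoc, h.zz, one_mul]
            _ = d * (d * d)⁻¹ := by group
            _ = d * z := by rw [hdd, hzi]
        have hyq : Commute q y := comm q hq y hyD
        have h4 : y * (w * z) * y⁻¹ = w := by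
          calc y * (w * z) * y⁻¹ = y * q * d * z * y⁻¹ := by rw [hw]; group
            _ = q * (y * d * y⁻¹) * (y * z * y⁻¹) := by rw [← hyq.eq]; group
            _ = q * (d * z) * z := by rw [h3, hzD y hyD, mul_inv_cancel_right]
            _ = w := by rw [← mul_assoc, mul_assoc, h.zz, mul_one]
        have h5 : y * s * w * (y * s)⁻¹ = w := by
          calc y * s * w * (y * s)⁻¹ = y * (s * w * s⁻¹) * y⁻¹ := by group
            _ = w := by rw [h1, h4]
        exact mul_inv_eq_iff_eq_mul.1 h5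
    · exfalso
      have h1 : s * w * s⁻¹ = t * w := by
        have : s * w * s⁻¹ = w * t := by rw [← e]; group
        rw [this, h.Kt w hwK]
      exact conj_false w hwK ww hw1 h1
    · exfalso
      have h1 : s * w * s⁻¹ = t * (w * z) := by
        have : s * w * s⁻¹ = w * (t * z) := by rw [← e]; group
        rw [this, ← mul_assoc, h.Kt w hwK, mul_assoc]
      refine conj_false (w * z) (K.mul_mem hwK h.zK) ?_ (fun e2 => hwz' ?_) h1
      · calc w * z * (w * z) = w * (z * w) * z := by group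
          _ = w * w * (z * z) := by rw [← hwzc]; group
          _ = 1 := by rw [ww, h.zz, one_mul]
      · have := eq_inv_of_mul_eq_one_left e2
        rw [this]; exact inv_eq_of_mul_eq_one_right h.zz
  -- the kill
  obtain ⟨k, hk, hkw⟩ := one w hwK ww hw1
  have hsurj : ∀ y ∈ D, ∃ y' ∈ D, g * (k * y' * k⁻¹) * g⁻¹ = k * y * k⁻¹ := by
    intro y hy
    have h0 : (k⁻¹ * g * k) * z = z * (k⁻¹ * g * k) := by
      have : z = k⁻¹ * w * k := by rw [← hkw]; group
      rw [this]
      calc k⁻¹ * g * k * (k⁻¹ * w * k) = k⁻¹ * (g * w) * k := by group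
        _ = k⁻¹ * (w * g) * k := by rw [hgw]
        _ = k⁻¹ * w * k * (k⁻¹ * g * k) := by group
    have h1 : (k⁻¹ * g * k)⁻¹ * z = z * (k⁻¹ * g * k)⁻¹ := (show Commute _ z from h0).inv_left.eq
    refine ⟨_, hn _ h1 y hy, ?_⟩
    group
  have hcent : ∀ y ∈ D, k * y * k⁻¹ * z = z * (k * y * k⁻¹) := by
    intro y hy
    obtain ⟨y', hy', e⟩ := hsurj y hy
    have hky' : k * y' * k⁻¹ ∈ K := K.mul_mem (K.mul_mem hk (h.RK (hDR hy'))) (K.inv_mem hk)
    have hky : k * y * k⁻¹ ∈ K := K.mul_mem (K.mul_mem hk (h.RK (hDR hy))) (K.inv_mem hk)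
    have c1 : Commute (k * y' * k⁻¹) t := h.Kt _ hky'
    have c2 : Commute (k * y * k⁻¹) (t * z) := by
      rw [← e, ← hgt]
      show g * (k * y' * k⁻¹) * g⁻¹ * (g * t * g⁻¹) = g * t * g⁻¹ * (g * (k * y' * k⁻¹) * g⁻¹)
      calc g * (k * y' * k⁻¹) * g⁻¹ * (g * t * g⁻¹) = g * ((k * y' * k⁻¹) * t) * g⁻¹ := by group
        _ = g * (t * (k * y' * k⁻¹)) * g⁻¹ := by rw [c1.eq]
        _ = _ := by group
    have c3 : Commute (k * y * k⁻¹) t := h.Kt _ hky
    have c4 := c3.mul_right c2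
    rw [h.tmul] at c4
    exact c4.eq
  -- `u = z^{k⁻¹}`
  have hzw : z * w = w * z := hwzc.symm
  rcases inv (k⁻¹ * z * k) (K.mul_mem (K.mul_mem (K.inv_mem hk) h.zK) hk) (by
      have : z = k⁻¹ * w * k := by rw [← hkw]; group
      calc k⁻¹ * z * k * z = k⁻¹ * z * k * (k⁻¹ * w * k) := by rw [← this]
        _ = k⁻¹ * (z * w) * k := by group
        _ = k⁻¹ * (w * z) * k := by rw [hzw]
        _ = k⁻¹ * w * k * (k⁻¹ * z * k) := by group
        _ = z * (k⁻¹ * z * k) := by rw [← this]) (by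
      calc k⁻¹ * z * k * (k⁻¹ * z * k) = k⁻¹ * (z * z) * k := by group
        _ = 1 := by rw [h.zz]; group) (by
      intro y hy
      have h1 := hcent y hy
      calc k⁻¹ * z * k * y = k⁻¹ * (z * (k * y * k⁻¹)) * k := by group
        _ = k⁻¹ * (k * y * k⁻¹ * z) * k := by rw [h1]
        _ = y * (k⁻¹ * z * k) := by group) with e | e
  · apply h.z1
    calc z = k * (k⁻¹ * z * k) * k⁻¹ := by group
      _ = 1 := by rw [e]; group
  · apply hwz'
    have h1 : k * z = z * k := by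
      calc k * z = k * (k⁻¹ * z * k) := by rw [e]
        _ = z * k := by group
    rw [← hkw, h1, mul_inv_cancel_right]

end Cfsg.Agent.OddHalf.D6.QThree.NINorm
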