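import Cfsg.Agent.OddHalf.D6.QThree.NISolv
import Cfsg.Agent.OddHalf.D6.QThree.NIEnd
import Cfsg.Agent.OddHalf.D6.QThree.NINorm
import Cfsg.Agent.OddHalf.D6.QThree.FrontOut

/-!
# ODD half, D6, `q = 3`: `E(C_G(z)) = 1` from the position (helper135)

`at_of_pos`: `Main.At z` for the position `FrontOut.Pos` (any outer part with `OLoc`), `at_of_loc`: for `Sit.Loc`
(`C_G(t) = ⟨t⟩ × K`). K-facts: `NIFacts.Full z R`.
-/

set_option autoImplicit false

namespace Cfsg.Agent.OddHalf.D6.QThree.NIBridge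

open Subgroup Cfsg
open Cfsg.Agent.OddHalf Cfsg.Agent.OddHalf.Iface
open Cfsg.Agent.OddHalf.D6.QThree.NIFacts
open Cfsg.Agent.OddHalf.D6.QThree.NISide
open Cfsg.Agent.OddHalf.D6.QThree.Outer (OLoc)

theorem Frame.lift {G : Type*} [Group G] {H : Subgroup G} {z i j k l a b : G} (f : Frame z i j k l a b)
    (hz : z ∈ H) (hi : i ∈ H) (hj : j ∈ H) (hk : k ∈ H) (hl : l ∈ H) (ha : a ∈ H) (hb : b ∈ H) :
    Frame (⟨z, hz⟩ : ↥H) ⟨i, hi⟩ ⟨j, hj⟩ ⟨k, hk⟩ ⟨l, hl⟩ ⟨a, ha⟩ ⟨b, hb⟩ where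
  zz := Subtype.ext f.zz
  z1 := fun e => f.z1 (congrArg Subtype.val e)
  iz := Subtype.ext f.iz
  jz := Subtype.ext f.jz
  kz := Subtype.ext f.kz
  lz := Subtype.ext f.lz
  ii := Subtype.ext f.ii
  jj := Subtype.ext f.jj
  kk := Subtype.ext f.kk
  ll := Subtype.ext f.ll
  ji := Subtype.ext f.ji
  lk := Subtype.ext f.lk
  ki := Subtype.ext f.ki
  li := Subtype.ext f.li
  kj := Subtype.ext f.kj
  lj := Subtype.ext f.lj
  act_a := ⟨Subtype.ext f.act_a.z, Subtype.ext f.act_a.i, Subtype.ext f.act_a.j, Subtype.ext f.act_a.k,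
    Subtype.ext f.act_a.l⟩
  act_b := ⟨Subtype.ext f.act_b.z, Subtype.ext f.act_b.i, Subtype.ext f.act_b.j, Subtype.ext f.act_b.k,
    Subtype.ext f.act_b.l⟩

variable {G : Type*} [Group G] {t z : G} {K R : Subgroup G}

/-- the centralizer of `R` in `C(t) ∩ C(z)` -/
theorem cR_of (h : OLoc t z K R) {g : G} (hgt : g * t = t * g) (hgz : g * z = z * g)
    (hg : ∀ r ∈ R, g * r = r * g) : g = 1 ∨ g = z ∨ g = t ∨ g = t * z := by
  let B : Subgroup G :=
    { carrier := {x | x * t = t * x ∧ x * z = z * x ∧ ∀ r ∈ R, x * r = r * x}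
      one_mem' := ⟨by rw [one_mul, mul_one], by rw [one_mul, mul_one], fun r _ => by rw [one_mul, mul_one]⟩
      mul_mem' := by
        rintro x y ⟨hx1, hx2, hx3⟩ ⟨hy1, hy2, hy3⟩
        exact ⟨(show Commute x t from hx1).mul_left hy1, (show Commute x z from hx2).mul_left hy2,
          fun r hr => (show Commute x r from hx3 r hr).mul_left (hy3 r hr)⟩
      inv_mem' := by
        rintro x ⟨hx1, hx2, hx3⟩
        exact ⟨(show Commute x t from hx1).inv_left, (show Commute x z from hx2).inv_left,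
          fun r hr => (show Commute x r from hx3 r hr).inv_left⟩ }
  have hnorm : ∀ x, x * t = t * x → x * z = z * x → ∀ y ∈ B, x * y * x⁻¹ ∈ B := by
    rintro x hxt hxz y ⟨hy1, hy2, hy3⟩
    refine ⟨?_, ?_, fun r hr => ?_⟩
    · exact ((show Commute x t from hxt).mul_left hy1).mul_left (show Commute x t from hxt).inv_left
    · exact ((show Commute x z from hxz).mul_left hy2).mul_left (show Commute x z from hxz).inv_left
    · have h1 : x⁻¹ * r * x ∈ R := by
        have := h.nR x⁻¹ (show Commute x t from hxt).inv_left (show Commute x z from hxz).inv_left r hr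
        rwa [inv_inv] at this
      have h2 := hy3 _ h1
      calc x * y * x⁻¹ * r = x * (y * (x⁻¹ * r * x)) * x⁻¹ := by group
        _ = x * (x⁻¹ * r * x * y) * x⁻¹ := by rw [h2]
        _ = r * (x * y * x⁻¹) := by group
  have hBK : ∀ y ∈ B, y ∈ K → y = 1 ∨ y = z := fun y hy hyK => h.cR y hyK hy.2.1 hy.2.2
  -- squares centralise `C_K(z)`
  have hsq : ∀ y ∈ B, y * y = 1 ∨ y * y = z ∨ y * y = t ∨ y * y = t * z := by
    intro y hy
    apply h.oD _ ((show Commute y t from hy.1).mul_left hy.1)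
    intro x hx hxz
    have h1 : y * x * y⁻¹ * x⁻¹ = 1 ∨ y * x * y⁻¹ * x⁻¹ = z := by
      apply hBK
      · have h2 := B.mul_mem hy (hnorm x (h.Kt x hx) hxz _ (B.inv_mem hy))
        have e : y * (x * y⁻¹ * x⁻¹) = y * x * y⁻¹ * x⁻¹ := by group
        rwa [e] at h2
      · exact K.mul_mem (h.nK y hy.1 x hx) (K.inv_mem hx)
    have h3 : y * (y * x * y⁻¹) * y⁻¹ = x := by
      rcases h1 with h1 | h1
      · have h4 : y * x * y⁻¹ = x := mul_inv_eq_one.1 h1
        rw [h4, h4]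
      · have h4 : y * x * y⁻¹ = z * x := by rw [← h1]; group
        have h5 : y * z * y⁻¹ = z := by rw [hy.2.1]; group
        have h6 : y * (z * x) * y⁻¹ = (y * z * y⁻¹) * (y * x * y⁻¹) := by group
        calc y * (y * x * y⁻¹) * y⁻¹ = y * (z * x) * y⁻¹ := by rw [h4]
          _ = (y * z * y⁻¹) * (y * x * y⁻¹) := h6
          _ = z * (z * x) := by rw [h5, h4]
          _ = x := by rw [← mul_assoc, h.zz, one_mul]
    calc y * y * x = y * (y * x * y⁻¹) * y⁻¹ * (y * y) := by group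
      _ = x * (y * y) := by rw [h3]
  have hB2 : IsPGroup 2 B := by
    rintro ⟨y, hy⟩
    refine ⟨2, Subtype.ext ?_⟩
    show y ^ 2 ^ 2 = 1
    have h1 : y ^ 2 ^ 2 = (y * y) * (y * y) := by
      rw [show (2 ^ 2 : ℕ) = 2 * 2 from rfl, pow_mul, pow_two, pow_two]
    rw [h1]
    rcases hsq y hy with e | e | e | e <;> rw [e]
    · rw [one_mul]
    · exact h.zz
    · exact h.tt
    · have := h.comm
      calc t * z * (t * z) = t * (z * t) * z := by group
        _ = (t * t) * (z * z) := by rw [← this]; group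
        _ = 1 := by rw [h.tt, h.zz, one_mul]
  have hgB : g ∈ B := ⟨hgt, hgz, hg⟩
  rcases h.oR B hB2 (fun n hn => hn.1) (fun n hn => hn.2.1) hnorm g hgB with h1 | h1
  · rcases h.cR g (h.RK h1) hgz hg with e | e
    · exact Or.inl e
    · exact Or.inr (Or.inl e)
  · have hzt := h.comm
    rcases h.cR (t * g) (h.RK h1) ((show Commute t z from hzt).mul_left hgz)
        (fun r hr => ((show Commute t r from (h.Kt r (h.RK hr)).symm).mul_left (hg r hr))) with e | e
    · right; right; left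
      rw [← h.tmul g, e, mul_one]
    · right; right; right
      rw [← h.tmul g, e]

/-- `NI.Hyp` in `C_G(z)` -/
theorem hyp [Finite G] (h : OLoc t z K R) {i j k l a b : G} (f : Frame z i j k l a b) (hR : R = closure {i, j, k, l})
    (hat : a * t = t * a) (hbt : b * t = t * b)
    (hO : pPrimeCore 2 ↥(centralizer ({z} : Set G)) = ⊥) :
    ∃ (a b : ↥(centralizer ({z} : Set G))) (Q₁ Q₂ : Subgroup ↥(centralizer ({z} : Set G))),
      NI.Hyp (⟨z, mem_centralizer_singleton_iff.2 rfl⟩ : ↥(centralizer ({z} : Set G)))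
        ⟨t, mem_centralizer_singleton_iff.2 h.comm⟩ a b Q₁ Q₂ ∧
      (∀ y : ↥(centralizer ({z} : Set G)), y ∈ Q₁ ↔ (y : G) ∈ f.Q₁) ∧
      (∀ y : ↥(centralizer ({z} : Set G)), y ∈ Q₂ ↔ (y : G) ∈ f.Q₂) := by
  set X : Subgroup G := centralizer ({z} : Set G) with hX
  have hRX : R ≤ X := fun r hr => mem_centralizer_singleton_iff.2 (h.RP r hr)
  have hsub : ∀ x ∈ ({i, j, k, l} : Set G), x ∈ R := fun x hx => by rw [hR]; exact subset_closure hx
  have hi : i ∈ R := hsub i (by simp)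
  have hj : j ∈ R := hsub j (by simp)
  have hk : k ∈ R := hsub k (by simp)
  have hl : l ∈ R := hsub l (by simp)
  have haz : a ∈ X := mem_centralizer_singleton_iff.2 (mul_inv_eq_iff_eq_mul.1 f.act_a.z)
  have hbz : b ∈ X := mem_centralizer_singleton_iff.2 (mul_inv_eq_iff_eq_mul.1 f.act_b.z)
  set z' : ↥X := ⟨z, mem_centralizer_singleton_iff.2 rfl⟩ with hz'
  set t' : ↥X := ⟨t, mem_centralizer_singleton_iff.2 h.comm⟩ with ht'
  have F : Frame z' (⟨i, hRX hi⟩ : ↥X) ⟨j, hRX hj⟩ ⟨k, hRX hk⟩ ⟨l, hRX hl⟩ ⟨a, haz⟩ ⟨b, hbz⟩ :=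
    Frame.lift f _ _ _ _ _ _ _
  set i' : ↥X := ⟨i, hRX hi⟩ with hi'
  set j' : ↥X := ⟨j, hRX hj⟩ with hj'
  set k' : ↥X := ⟨k, hRX hk⟩ with hk'
  set l' : ↥X := ⟨l, hRX hl⟩ with hl'
  set a' : ↥X := ⟨a, haz⟩ with ha'
  set b' : ↥X := ⟨b, hbz⟩ with hb'
  have hmem : ∀ x : ↥X, x ∈ closure ({i', j', k', l'} : Set ↥X) ↔ (x : G) ∈ R := by
    intro x
    have h1 : (closure ({i', j', k', l'} : Set ↥X)).map X.subtype = R := by
      rw [hR, MonoidHom.map_closure]
      congr 1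
      simp [Set.image_insert_eq, hi', hj', hk', hl']
    constructor
    · intro hx
      rw [← h1]; exact ⟨x, hx, rfl⟩
    · intro hx
      rw [← h1] at hx
      obtain ⟨y, hy, hyx⟩ := hx
      have : y = x := Subtype.ext hyx
      rwa [← this]
  have zc : ∀ x : ↥X, x * z' = z' * x := fun x => Subtype.ext (mem_centralizer_singleton_iff.1 x.2)
  have tt : t' * t' = 1 := Subtype.ext h.tt
  have ct : ∀ r ∈ R, r * t = t * r := fun r hr => h.Kt r (h.RK hr)
  have nor : ∀ g : ↥X, g * t' = t' * g → ∀ r ∈ closure ({i', j', k', l'} : Set ↥X),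
      g * r * g⁻¹ ∈ closure ({i', j', k', l'} : Set ↥X) := by
    intro g hg r hr
    rw [hmem] at hr ⊢
    exact h.nR g (congrArg Subtype.val hg) (mem_centralizer_singleton_iff.1 g.2) r hr
  have cR : ∀ g : ↥X, g * t' = t' * g → (∀ x ∈ F.Q₁, g * x = x * g) → (∀ y ∈ F.Q₂, g * y = y * g) →
      g = 1 ∨ g = z' ∨ g = t' ∨ g = t' * z' := by
    intro g hg h1 h2
    rcases cR_of h (congrArg Subtype.val hg) (mem_centralizer_singleton_iff.1 g.2) (by
      intro r hr
      have hr' : (⟨r, hRX hr⟩ : ↥X) ∈ closure ({i', j', k', l'} : Set ↥X) := (hmem _).2 hr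
      obtain ⟨x, hx, y, hy, e⟩ := F.exists_mul hr'
      have h3 : g * (⟨r, hRX hr⟩ : ↥X) = ⟨r, hRX hr⟩ * g := by
        rw [e]; exact (show Commute g x from h1 x hx).mul_right (h2 y hy)
      exact congrArg Subtype.val h3) with e | e | e | e
    · exact Or.inl (Subtype.ext e)
    · exact Or.inr (Or.inl (Subtype.ext e))
    · exact Or.inr (Or.inr (Or.inl (Subtype.ext e)))
    · exact Or.inr (Or.inr (Or.inr (Subtype.ext e)))
  have hone : ∀ x : ↥X, x * 1 = 1 * x := fun x => by rw [one_mul, mul_one]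
  have hmem₁ : ∀ y : ↥X, y ∈ F.Q₁ ↔ (y : G) ∈ f.Q₁ := by
    intro y
    have h1 : F.Q₁.map X.subtype = f.Q₁ := by
      rw [F.Q₁_eq, f.Q₁_eq, MonoidHom.map_closure]
      congr 1
      simp [Set.image_insert_eq, hi', hj']
    rw [← h1]
    constructor
    · intro hy
      exact ⟨y, hy, rfl⟩
    · rintro ⟨x, hx, hxy⟩
      have : x = y := Subtype.ext hxy
      rwa [← this]
  have hmem₂ : ∀ y : ↥X, y ∈ F.Q₂ ↔ (y : G) ∈ f.Q₂ := by
    intro y
    have h1 : F.Q₂.map X.subtype = f.Q₂ := by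
      rw [F.Q₂_eq, f.Q₂_eq, MonoidHom.map_closure]
      congr 1
      simp [Set.image_insert_eq, hk', hl']
    rw [← h1]
    constructor
    · intro hy
      exact ⟨y, hy, rfl⟩
    · rintro ⟨x, hx, hxy⟩
      have : x = y := Subtype.ext hxy
      rwa [← this]
  refine ⟨a', b', F.Q₁, F.Q₂,
    { zc := zc
      zz := F.zz
      z1 := F.z1
      tt := tt
      t1 := fun e => h.t1 (congrArg Subtype.val e)
      tz := fun e => h.tK (by
        have e1 : t = z := congrArg Subtype.val e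
        rw [e1]; exact h.zK)
      O := hO
      sol := NISolv.solvable F zc tt nor cR (F.side₁ (hone _) (hone _) (hone _) (hone _) (hone _))
        (F.side₂ (hone _) (hone _) (hone _) (hone _) (hone _))
      s₁ := F.side₁ (Subtype.ext (ct i hi)) (Subtype.ext (ct j hj)) (Subtype.ext (ct k hk)) (Subtype.ext (ct l hl))
        (Subtype.ext hat)
      s₂ := F.side₂ (Subtype.ext (ct i hi)) (Subtype.ext (ct j hj)) (Subtype.ext (ct k hk)) (Subtype.ext (ct l hl))
        (Subtype.ext hbt)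
      comm := F.comm
      nor := by
        intro g hg x hx y hy
        exact F.exists_mul (nor g hg _ (mul_mem (F.le₁ hx) (F.le₂ hy)))
      cR := cR
      rad := ?_ }, hmem₁, hmem₂⟩
  intro N hNt hN2 hNn n hn
  have h1 := h.oR (N.map X.subtype) (hN2.map _) (by
      rintro _ ⟨y, hy, rfl⟩
      exact congrArg Subtype.val (hNt y hy)) (by
      rintro _ ⟨y, -, rfl⟩
      exact mem_centralizer_singleton_iff.1 y.2) (by
      rintro g hgt hgz _ ⟨y, hy, rfl⟩
      exact ⟨_, hNn ⟨g, mem_centralizer_singleton_iff.2 hgz⟩ (Subtype.ext hgt) y hy, rfl⟩) n ⟨n, hn, rfl⟩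
  rcases h1 with h1 | h1
  · obtain ⟨x, hx, y, hy, e⟩ := F.exists_mul ((hmem n).2 h1)
    exact ⟨x, hx, y, hy, Or.inl e⟩
  · obtain ⟨x, hx, y, hy, e⟩ := F.exists_mul ((hmem (t' * n)).2 h1)
    refine ⟨x, hx, y, hy, Or.inr ?_⟩
    rw [← e, ← mul_assoc, tt, one_mul]

/-- `C_G(t) = ⟨t⟩ × K` -/
theorem oloc_of_loc [Finite G] (h : Sit.Loc t z K R) : OLoc t z K R where
  tt := h.tt
  tK := h.tK
  Kt := h.Kt
  nK := by
    intro g hg x hx
    rcases h.cen g hg with h1 | h1
    · exact K.mul_mem (K.mul_mem h1 hx) (K.inv_mem h1)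
    · have h2 := K.mul_mem (K.mul_mem h1 hx) (K.inv_mem h1)
      have c1 : Commute t (g * x * g⁻¹) := by
        have c2 : Commute g t := hg
        have c3 : Commute x t := h.Kt x hx
        exact ((c2.mul_left c3).mul_left c2.inv_left).symm
      have e : t * g * x * (t * g)⁻¹ = g * x * g⁻¹ := by
        calc t * g * x * (t * g)⁻¹ = t * (g * x * g⁻¹) * t⁻¹ := by group
          _ = g * x * g⁻¹ := by rw [c1.eq]; group
      rwa [e] at h2
  zK := h.zK
  RK := h.RK
  zz := h.zz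
  z1 := h.z1
  zR := h.zR
  pR := h.pR
  RP := h.RP
  nR := by
    intro g hg hgz r hr
    rcases h.cen g hg with h1 | h1
    · exact h.nR g h1 hgz r hr
    · have c2 : Commute g t := hg
      have h2 := h.nR (t * g) h1 ((show Commute t z from h.comm).mul_left hgz) r hr
      have c3 : Commute r t := h.Kt r (h.RK hr)
      have c1 : Commute t (g * r * g⁻¹) := ((c2.mul_left c3).mul_left c2.inv_left).symm
      have e : t * g * r * (t * g)⁻¹ = g * r * g⁻¹ := by
        calc t * g * r * (t * g)⁻¹ = t * (g * r * g⁻¹) * t⁻¹ := by group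
          _ = g * r * g⁻¹ := by rw [c1.eq]; group
      rwa [e] at h2
  cR := h.cR
  ab := h.ab
  oR := by
    intro N hN hNt hNz hn n hnN
    have key : ∀ k ∈ K, (k ∈ N ∨ t * k ∈ N) → k ∈ R := fun k hk hkN =>
      Core.proj_mem h hN hNz (fun g hg hgz => hn g (h.Kt g hg) hgz) hk hkN
    rcases h.cen n (hNt n hnN) with h1 | h1
    · exact Or.inl (key n h1 (Or.inl hnN))
    · exact Or.inr (key _ h1 (Or.inr (by rw [h.tmul]; exact hnN)))
  oD := by
    intro g hg hgP
    have hgz : g * z = z * g := hgP z h.zK rfl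
    have hgR : ∀ r ∈ R, g * r = r * g := fun r hr => hgP r (h.RK hr) (h.RP r hr)
    rcases h.cen g hg with h1 | h1
    · rcases h.cR g h1 hgz hgR with e | e
      · exact Or.inl e
      · exact Or.inr (Or.inl e)
    · rcases h.cR (t * g) h1 ((show Commute t z from h.comm).mul_left hgz)
          (fun r hr => (show Commute t r from (h.Kt r (h.RK hr)).symm).mul_left (hgR r hr)) with e | e
      · right; right; left
        rw [← h.tmul g, e, mul_one]
      · right; right; right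
        rw [← h.tmul g, e]

/-- the facts on `K`, in `G` -/
def GN (z : G) (K : Subgroup G) (i j k l : G) : Prop :=
  (∃ s, s * z = z * s ∧ s * i * s⁻¹ = k) ∨
  ((∀ p ∈ K, p * p = 1 → p ≠ 1 → ∃ g ∈ K, g * z * g⁻¹ = p) ∧
    (∀ u ∈ K, u * z = z * u → u * u = 1 → u * i = i * u → u * j = j * u → u = 1 ∨ u = z) ∧
    ∀ u ∈ K, u * z = z * u → u * u = 1 → u * k = k * u → u * l = l * u → u = 1 ∨ u = z)

/-- `Q₁` is not normal in `C_G(z)` -/
theorem not_normal₁ [Finite G] (h : OLoc t z K R) (nc : ∀ g : G, g * t * g⁻¹ ≠ z)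
    (sw : ∃ s : G, s * t * s⁻¹ = t * z ∧ s * z * s⁻¹ = z) {i j k l a b : G} (f : Frame z i j k l a b)
    (hR : R = closure {i, j, k, l}) (hat : a * t = t * a) (hbt : b * t = t * b) (N : GN z K i j k l)
    (hn : ∀ g, g * z = z * g → ∀ y ∈ f.Q₁, g * y * g⁻¹ ∈ f.Q₁) : False := by
  have hsub : ∀ x ∈ ({i, j, k, l} : Set G), x * t = t * x := fun x hx =>
    h.Kt x (h.RK (by rw [hR]; exact subset_closure hx))
  have s₁ := f.side₁ (hsub i (by simp)) (hsub j (by simp)) (hsub k (by simp)) (hsub l (by simp)) hat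
  have s₂ := f.side₂ (hsub i (by simp)) (hsub j (by simp)) (hsub k (by simp)) (hsub l (by simp)) hbt
  rcases N with ⟨s, hs, hi⟩ | ⟨h1, h2, h3⟩
  · have h4 := hn s hs i f.mem_i₁
    rw [hi] at h4
    rcases s₂.center f.mem_k₂ (fun q hq => f.comm _ h4 q hq) with e | e
    · have := f.kk
      rw [e, one_mul] at this
      exact f.z1 this.symm
    · have := f.kk
      rw [e, f.zz] at this
      exact f.z1 this.symm
  · refine NINorm.not_normal h nc sw s₂ s₁ (fun x hx y hy => (f.comm y hy x hx).symm)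
      (by rw [hR]; exact f.le₂) (by rw [hR]; exact f.le₁) ?_ h1 ?_ hn
    · intro r hr
      rw [hR] at hr
      obtain ⟨x, hx, y, hy, e⟩ := f.exists_mul hr
      exact ⟨y, hy, x, hx, by rw [e, f.comm x hx y hy]⟩
    · intro u hu huz huu hc
      exact h2 u hu huz huu (hc i f.mem_i₁) (hc j f.mem_j₁)

theorem not_normal₂ [Finite G] (h : OLoc t z K R) (nc : ∀ g : G, g * t * g⁻¹ ≠ z)
    (sw : ∃ s : G, s * t * s⁻¹ = t * z ∧ s * z * s⁻¹ = z) {i j k l a b : G} (f : Frame z i j k l a b)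
    (hR : R = closure {i, j, k, l}) (hat : a * t = t * a) (hbt : b * t = t * b) (N : GN z K i j k l)
    (hn : ∀ g, g * z = z * g → ∀ y ∈ f.Q₂, g * y * g⁻¹ ∈ f.Q₂) : False := by
  have hsub : ∀ x ∈ ({i, j, k, l} : Set G), x * t = t * x := fun x hx =>
    h.Kt x (h.RK (by rw [hR]; exact subset_closure hx))
  have s₁ := f.side₁ (hsub i (by simp)) (hsub j (by simp)) (hsub k (by simp)) (hsub l (by simp)) hat
  have s₂ := f.side₂ (hsub i (by simp)) (hsub j (by simp)) (hsub k (by simp)) (hsub l (by simp)) hbt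
  rcases N with ⟨s, hs, hi⟩ | ⟨h1, h2, h3⟩
  · have h4 := hn s⁻¹ (show Commute s z from hs).inv_left.eq k f.mem_k₂
    have e0 : s⁻¹ * k * s⁻¹⁻¹ = i := by rw [← hi]; group
    rw [e0] at h4
    rcases s₁.center f.mem_i₁ (fun q hq => (f.comm q hq _ h4).symm) with e | e
    · have := f.ii
      rw [e, one_mul] at this
      exact f.z1 this.symm
    · have := f.ii
      rw [e, f.zz] at this
      exact f.z1 this.symm
  · refine NINorm.not_normal h nc sw s₁ s₂ f.comm
      (by rw [hR]; exact f.le₁) (by rw [hR]; exact f.le₂) ?_ h1 ?_ hn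
    · intro r hr
      rw [hR] at hr
      exact f.exists_mul hr
    · intro u hu huz huu hc
      exact h3 u hu huz huu (hc k f.mem_k₂) (hc l f.mem_l₂)

universe u

/-- **`E(C_G(z)) = 1`** -/
theorem layer_eq_bot {G : Type u} [Group G] (hGW : SylowSp4.Hyps.GW.{u}) (hI : CaseM.Intr.{u})
    (hS : CaseM.IntrSign.{u}) (C : Ctx G) {t z : G} {K R : Subgroup G} (h : OLoc t z K R)
    (nc : ∀ g : G, g * t * g⁻¹ ≠ z) (sw : ∃ s : G, s * t * s⁻¹ = t * z ∧ s * z * s⁻¹ = z)
    (hex : ∃ i j k l a b : G, Frame z i j k l a b ∧ R = closure {i, j, k, l} ∧ a * t = t * a ∧ b * t = t * b ∧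
      GN z K i j k l)
    (hcom : (⟨t, mem_centralizer_singleton_iff.2 h.comm⟩ : ↥(centralizer ({z} : Set G))) ∈
      commutator ↥(centralizer ({z} : Set G))) :
    pPrimeCore 2 ↥(centralizer ({z} : Set G)) = ⊥ ∧ layer ↥(centralizer ({z} : Set G)) = ⊥ := by
  have hfin := C.fin
  have hz : orderOf z = 2 := orderOf_eq_prime (by rw [pow_two]; exact h.zz) h.z1
  have hO : pPrimeCore 2 ↥(centralizer ({z} : Set G)) = ⊥ := Soft.core_eq_bot (C.bal _ hz)
  refine ⟨hO, ?_⟩
  obtain ⟨i, j, k, l, a, b, f, hR, hat, hbt, N⟩ := hex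
  obtain ⟨a', b', Q₁, Q₂, H, hm₁, hm₂⟩ := hyp h f hR hat hbt hO
  have hcz : ∀ Q : Subgroup G, Q ≤ R → ∀ y ∈ Q, y * z = z * y := fun Q hQ y hy => h.RP y (hQ hy)
  rw [Cfsg.Agent.SignalizersComponents.ComponentExists.layer_eq_bot_iff]
  intro M
  refine NIEnd.noComp hGW hI hS C hz h.comm rfl rfl H ?_ ?_ hcom M
  · intro hn
    refine not_normal₁ h nc sw f hR hat hbt N fun g hg y hy => ?_
    have hyz := hcz f.Q₁ (by rw [hR]; exact f.le₁) y hy
    have h1 := hn.conj_mem ⟨y, mem_centralizer_singleton_iff.2 hyz⟩ ((hm₁ _).2 hy)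
      ⟨g, mem_centralizer_singleton_iff.2 hg⟩
    exact (hm₁ _).1 h1
  · intro hn
    refine not_normal₂ h nc sw f hR hat hbt N fun g hg y hy => ?_
    have hyz := hcz f.Q₂ (by rw [hR]; exact f.le₂) y hy
    have h1 := hn.conj_mem ⟨y, mem_centralizer_singleton_iff.2 hyz⟩ ((hm₂ _).2 hy)
      ⟨g, mem_centralizer_singleton_iff.2 hg⟩
    exact (hm₂ _).1 h1

theorem exists_frame {G : Type*} [Group G] {t : G} {K : Subgroup G} {z : ↥K} {R : Subgroup ↥K}
    (hKt : ∀ x ∈ K, x * t = t * x) (f : NIFacts.Full z R) : ∃ i j k l a b : G, Frame (z : G) i j k l a b ∧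
      R.map K.subtype = closure {i, j, k, l} ∧ a * t = t * a ∧ b * t = t * b ∧ GN (z : G) K i j k l := by
  obtain ⟨i, j, k, l, a, b, hF, hR, hN⟩ := f
  refine ⟨i, j, k, l, a, b, hF.map K.subtype K.subtype_injective, ?_, hKt a a.2, hKt b b.2, ?_⟩
  · rw [hR, MonoidHom.map_closure]
    congr 1
    simp [Set.image_insert_eq]
  · rcases hN with ⟨s, hs, hi⟩ | ⟨h1, h2, h3⟩
    · exact Or.inl ⟨s, congrArg Subtype.val hs, congrArg Subtype.val hi⟩
    · right
      refine ⟨fun p hp hpp hp1 => ?_, fun u hu huz huu e1 e2 => ?_, fun u hu huz huu e1 e2 => ?_⟩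
      · obtain ⟨g, hg⟩ := h1 ⟨p, hp⟩ (Subtype.ext hpp) (fun e => hp1 (congrArg Subtype.val e))
        exact ⟨g, g.2, congrArg Subtype.val hg⟩
      · rcases h2 ⟨u, hu⟩ (Subtype.ext huz) (Subtype.ext huu) (Subtype.ext e1) (Subtype.ext e2) with e | e
        · exact Or.inl (congrArg Subtype.val e)
        · exact Or.inr (congrArg Subtype.val e)
      · rcases h3 ⟨u, hu⟩ (Subtype.ext huz) (Subtype.ext huu) (Subtype.ext e1) (Subtype.ext e2) with e | e
        · exact Or.inl (congrArg Subtype.val e)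
        · exact Or.inr (congrArg Subtype.val e)

/-- the position with an outer part -/
theorem at_of_pos {G : Type u} [Group G] (hGW : SylowSp4.Hyps.GW.{u}) (hI : CaseM.Intr.{u})
    (hS : CaseM.IntrSign.{u}) (C : Ctx G) {t : G} {K : Subgroup G} {z : ↥K} {R : Subgroup ↥K}
    (p : FrontOut.Pos K t z R) (f : NIFacts.Full z R) : Main.At (z : G) := by
  obtain ⟨h1, h2⟩ := layer_eq_bot hGW hI hS C p.oloc p.nc p.sw (exists_frame p.oloc.Kt f) p.tH
  refine ⟨h1, ?_⟩
  rw [h2, mem_bot]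
  intro e
  exact p.oloc.z1 (congrArg Subtype.val e)

/-- the clean case -/
theorem at_of_cen {G : Type u} [Group G] (hGW : SylowSp4.Hyps.GW.{u}) (hI : CaseM.Intr.{u})
    (hS : CaseM.IntrSign.{u}) (C : Ctx G) {t : G} {K : Subgroup G} {z : ↥K} {R : Subgroup ↥K}
    (hC : Main.Cen t K) (b : Facts.Base z R) (f : NIFacts.Full z R) : Main.At (z : G) := by
  have hfin := C.fin
  have L := Sit.Loc.of_base hC.tt hC.tK hC.Kt hC.cen b
  obtain ⟨hs, hn, hc⟩ := L.start (Front.FE.commutator_eq_top C)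
  obtain ⟨h1, h2⟩ := layer_eq_bot hGW hI hS C (oloc_of_loc L) hn hs (exists_frame hC.Kt f) hc
  refine ⟨h1, ?_⟩
  rw [h2, mem_bot]
  intro e
  exact L.z1 (congrArg Subtype.val e)

/-- **The row**: one class of involutions, `|Out(K)| ≤ 2` -/
theorem row_cls {G : Type u} [Group G] (hGW : SylowSp4.Hyps.GW.{u}) (hI : CaseM.Intr.{u})
    (hS : CaseM.IntrSign.{u}) (hG : Ctx G) {K : Subgroup G} (hK : Std G K)
    (hC : Cyc K) {z : ↥K} {R : Subgroup ↥K} (f : FactsOut.Cls z R) (a : FactsOut.Aut z R)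
    (n : NIFacts.Full z R) : False := by
  have := hG.fin
  obtain ⟨t, q, st⟩ := Front.FE.exists_start hG hK hC (FrontOut.center_eq_bot f)
  have E : FrontOut.Emb K t q z R := ⟨st, f.toBase, a⟩
  exact FrontOut.false_of_cls (Front.FE.commutator_eq_top hG) (Front.FE.index_ne_two hG) st f a
    (at_of_pos hGW hI hS hG (E.pos (Front.FE.commutator_eq_top hG) (Front.FE.index_ne_two hG)) n)

end Cfsg.Agent.OddHalf.D6.QThree.NIBridge
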