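import Cfsg.Agent.OddHalf.D6.QThree.G23Out
import Cfsg.Agent.OddHalf.D6.QThree.NIBridge
import Cfsg.Agent.OddHalf.D6.QThree.NICase
import Cfsg.Agent.OddHalf.D6.Cut

/-!
# ODD half, D6, `q = 3`: the row `G₂(3)` (helper143; K-facts: helper618)

`row`: the field `g2` of `D6.Cut.Three`.
-/

set_option autoImplicit false

namespace Cfsg.Agent.OddHalf.D6.QThree.RowG2

open Subgroup Cfsg Cfsg.Lie Cfsg.Agent.OddHalf Cfsg.Agent.OddHalf.Iface
open Cfsg.Agent.OddHalf.D6.QThree.G23Out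

theorem exists_full : ∃ (z : ↥Cfsg.Agent.GTwoThree.Model.Gp) (R : Subgroup ↥Cfsg.Agent.GTwoThree.Model.Gp), FactsOut.Cls z R ∧ FactsOut.Aut z R ∧
    NIFacts.Full z R :=
  ⟨_, _, cls words2, aut words2, NICase.of_case9c (C words2) (cls words2).one⟩

/-- the K-facts of the row -/
theorem exists_all {K : Type*} [Group K] (F : Type) [Field F] [Fintype F] (hF : Fintype.card F = 3)
    (e : K ≃* ↥(chevG2.group F)) : ∃ (z : K) (R : Subgroup K), FactsOut.Cls z R ∧ FactsOut.Aut z R ∧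
      NIFacts.Full z R := by
  have h3 : Fintype.card (ZMod 3) = Fintype.card F := by rw [hF]; rfl
  let φ : ZMod 3 ≃+* F := FiniteField.ringEquivOfCardEq h3
  obtain ⟨z, R, h, h', h''⟩ := exists_full
  exact ⟨_, _, h.map ((Cfsg.Agent.ChevalleyStructure.FieldIso.groupEquiv chevG2 φ).trans e.symm),
    h'.map ((Cfsg.Agent.ChevalleyStructure.FieldIso.groupEquiv chevG2 φ).trans e.symm),
    h''.map ((Cfsg.Agent.ChevalleyStructure.FieldIso.groupEquiv chevG2 φ).trans e.symm)⟩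

universe u

/-- **The row `G₂(3)`** (the field `g2` of `D6.Cut.Three`) -/
theorem row (hGW : SylowSp4.Hyps.GW.{u}) (hI : CaseM.Intr.{u}) (hS : CaseM.IntrSign.{u}) :
    D6.Cut.Row.{u} (fun X _ => LieOddFam.FG2 X 3) := by
  intro G _ hG K hK hC _ hX
  obtain ⟨F, _, _, hF, ⟨e⟩⟩ := hX
  obtain ⟨z, R, f, a, n⟩ := exists_all F hF e
  exact NIBridge.row_cls hGW hI hS hG hK hC f a n

end Cfsg.Agent.OddHalf.D6.QThree.RowG2
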