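import Cfsg.Agent.OddHalf.D6.QThree.SpOne
import Cfsg.Agent.OddHalf.D6.QThree.FrontOut

/-!
# ODD half, D6, `q = 3`: the row of `PSp₄(3)`, any `|Q|`, with or without outer part (helper143)

`row_sp`: `K` with the facts `FactsOut.Sp`, `FactsOut.Aut`.
-/

set_option autoImplicit false

namespace Cfsg.Agent.OddHalf.D6.QThree.SpMain

open Subgroup Cfsg Cfsg.Agent.OddHalf.Front.FE Cfsg.Agent.OddHalf.Front
open Cfsg.Agent.OddHalf.D8.GlueE (nmh_apply exists_of_conj isPGroup_nmh)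
open Cfsg.Agent.OddHalf.Front.Cyclic (mem_M KQ conjK conjK')
open Cfsg.Agent.OddHalf.D6.QThree.Outer Cfsg.Agent.OddHalf.D6.QThree.SpSit
open Cfsg.Agent.OddHalf.D6.QThree.FrontOut (Emb mem_map)
open Cfsg.Agent.OddHalf.D6.QThree.Main (mem_oddGen)
open Cfsg.Agent.OddHalf.D6.QThree.End (Pos.oddGen Pos.oddGen_le Pos.oddGen_le')

/-! ### on `K` -/

/-- automorphisms map `z` to a conjugate -/
theorem exists_conj {K : Type*} [Group K] [Finite K] {z : K} {R : Subgroup K} (b : Facts.Base z R)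
    (α : MulAut K) : ∃ k : K, k * z * k⁻¹ = α z := by
  obtain ⟨S0, hS0p, hzc, hRS, hSmax⟩ := Sit.exists_sylow b
  set S : Sylow 2 K :=
    { toSubgroup := S0
      isPGroup' := hS0p
      is_maximal' := fun {Q} hQ hle => le_antisymm (hSmax Q hQ hle) hle } with hS
  have hZ : ∀ y ∈ S, (∀ x ∈ S, x * y = y * x) → y = 1 ∨ y = z := by
    intro y hy hc
    exact b.cR y (hzc y hy) (fun r hr => (hc r (hRS hr)).symm)
  have hp : IsPGroup 2 ((S0.map α.toMonoidHom : Subgroup K)) := hS0p.map _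
  obtain ⟨T, hT⟩ := hp.exists_le_sylow
  have hcard : Nat.card (S0.map α.toMonoidHom) = Nat.card S0 :=
    (Nat.card_congr (S0.equivMapOfInjective _ α.injective).toEquiv).symm
  have hTS : Nat.card T = Nat.card S := by
    rw [Sylow.card_eq_multiplicity, Sylow.card_eq_multiplicity]
  have hTe : S0.map α.toMonoidHom = (T : Subgroup K) := by
    apply Subgroup.eq_of_le_of_card_ge hT
    rw [hcard]
    exact hTS.le
  obtain ⟨g, hg⟩ := MulAction.exists_smul_eq K S T
  have hmem : ∀ x : K, x ∈ (T : Subgroup K) ↔ g⁻¹ * x * g ∈ S := by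
    intro x
    rw [← hg, Sylow.coe_subgroup_smul, Subgroup.mem_pointwise_smul_iff_inv_smul_mem]
    have e : (MulAut.conj g)⁻¹ • x = g⁻¹ * x * g := by
      rw [← map_inv, MulAut.smul_def, MulAut.conj_apply, inv_inv]
    rw [← e]
    rfl
  have hzT : α z ∈ (T : Subgroup K) := by
    rw [← hTe]; exact ⟨z, hRS b.zR, rfl⟩
  have hzS : g⁻¹ * α z * g ∈ S := (hmem _).1 hzT
  have hc : ∀ x ∈ S, x * (g⁻¹ * α z * g) = g⁻¹ * α z * g * x := by
    intro x hx
    have h1 : g * x * g⁻¹ ∈ (T : Subgroup K) := by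
      rw [hmem]
      have e : g⁻¹ * (g * x * g⁻¹) * g = x := by group
      rw [e]; exact hx
    rw [← hTe] at h1
    obtain ⟨y, hy, hyx⟩ := h1
    have hyx' : α y = g * x * g⁻¹ := hyx
    have h2 : α y * α z = α z * α y := by
      rw [← map_mul, ← map_mul, hzc y hy]
    rw [hyx'] at h2
    calc x * (g⁻¹ * α z * g) = g⁻¹ * ((g * x * g⁻¹) * α z) * g := by group
      _ = g⁻¹ * (α z * (g * x * g⁻¹)) * g := by rw [h2]
      _ = g⁻¹ * α z * g * x := by group
  rcases hZ _ hzS hc with h1 | h1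
  · exfalso
    apply b.z1
    have h2 : α z = 1 := by
      calc α z = g * (g⁻¹ * α z * g) * g⁻¹ := by group
        _ = 1 := by rw [h1]; group
    exact (map_eq_one_iff α α.injective).1 h2
  · refine ⟨g, ?_⟩
    calc g * z * g⁻¹ = g * (g⁻¹ * α z * g) * g⁻¹ := by rw [h1]
      _ = α z := by group

/-- the centre of `K` -/
theorem center_eq_bot {K : Type*} [Group K] {z : K} {R : Subgroup K} (f : Facts.Three z R) :
    center K = ⊥ := by
  rw [eq_bot_iff]
  intro x hx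
  rw [mem_bot]
  have hx' := mem_center_iff.1 hx
  rcases f.cR x (hx' z).symm (fun r _ => (hx' r).symm) with h1 | h1
  · exact h1
  · exfalso
    obtain ⟨v, k, -, -, -, hkR, -⟩ := f.ex
    apply hkR
    have h2 : k⁻¹ * z * k = z := by
      rw [← h1, mul_assoc, ← hx' k, ← mul_assoc, inv_mul_cancel, one_mul]
    rw [h2]; exact f.zR

/-! ### in `G` -/

universe u

variable {G : Type u} [Group G] {K : Subgroup G} {t q : G} {z : K} {R : Subgroup K}

/-- `Q = ⟨t⟩` -/
theorem Q_eq [Finite G] (E : Emb K t q z R) (hG : _root_.commutator G = ⊤)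
    (hG2 : ∀ H : Subgroup G, H.index ≠ 2) : ∀ y ∈ zpowers q, y = 1 ∨ y = t := by
  obtain ⟨T, F⟩ := E.facts
  obtain ⟨Fr, hQ, -⟩ := CycT.main F hG hG2
  exact hQ

/-- an element of `C(t)` inducing an inner automorphism -/
theorem mem_of_inn (E : Emb K t q z R) (hQ : ∀ y ∈ zpowers q, y = 1 ∨ y = t) {y : G} (hyt : y * t = t * y)
    (hy : K.normalizerMonoidHom ⟨y, E.st.nK y hyt⟩ ∈ (MulAut.conj : K →* MulAut K).range) :
    y ∈ K ∨ t * y ∈ K := by
  obtain ⟨a, ha, k, hk, e⟩ := (mem_M E.st.toStart0).1 (OfSheet.mem_of_inn E.st hyt hy)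
  rcases hQ a ha with h1 | h1
  · left; rw [e, h1, one_mul]; exact hk
  · right; rw [e, h1, ← mul_assoc, E.st.tt, one_mul]; exact hk

/-- `|C(t) : ⟨t⟩ K| ≤ 2` -/
theorem index_two (E : Emb K t q z R) (hQ : ∀ y ∈ zpowers q, y = 1 ∨ y = t) {a b : G} (ha : a * t = t * a)
    (hb : b * t = t * b) (haK : a ∉ K) (hatK : t * a ∉ K) (hbK : b ∉ K) (hbtK : t * b ∉ K) :
    a * b ∈ K ∨ t * (a * b) ∈ K := by
  have hinn : (MulAut.conj : K →* MulAut K).range.Normal := OfSheet.inn_normal K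
  set I : Subgroup (MulAut K) := (MulAut.conj : K →* MulAut K).range with hI
  have hab : (a * b) * t = t * (a * b) := by
    have c1 : Commute a t := ha
    have c2 : Commute b t := hb
    exact c1.mul_left c2
  apply mem_of_inn E hQ hab
  have e : K.normalizerMonoidHom ⟨a * b, E.st.nK (a * b) hab⟩ =
      K.normalizerMonoidHom ⟨a, E.st.nK a ha⟩ * K.normalizerMonoidHom ⟨b, E.st.nK b hb⟩ := by
    rw [← map_mul]; rfl
  rw [e]
  rcases (Nat.dvd_prime Nat.prime_two).1 E.a.out with h1 | h1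
  · have h3 : I = ⊤ := Subgroup.index_eq_one.1 h1
    rw [← hI, h3]; exact mem_top _
  · rw [← hI, mul_mem_iff_of_index_two h1]
    constructor
    · intro h2
      rcases mem_of_inn E hQ ha h2 with h3 | h3
      · exact absurd h3 haK
      · exact absurd h3 hatK
    · intro h2
      rcases mem_of_inn E hQ hb h2 with h3 | h3
      · exact absurd h3 hbK
      · exact absurd h3 hbtK

/-- `C(t)`-conjugates of `z` -/
theorem kz [Finite G] (E : Emb K t q z R) {g : G} (hg : g * t = t * g) :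
    ∃ k ∈ K, k * (z : G) * k⁻¹ = g * z * g⁻¹ := by
  obtain ⟨k, hk⟩ := exists_conj E.b (K.normalizerMonoidHom ⟨g, E.st.nK g hg⟩)
  refine ⟨k, k.2, ?_⟩
  have h1 := congrArg Subtype.val hk
  rw [nmh_apply] at h1
  exact h1

theorem sloc [Finite G] (E : Emb K t q z R) (hQ : ∀ y ∈ zpowers q, y = 1 ∨ y = t) (f : FactsOut.Sp z R) :
    SLoc t (z : G) K (R.map K.subtype) where
  toOLoc := E.oloc hQ
  mo := fun _ hg ho => E.mem_of_odd hg ho
  oz := mem_oddGen.2 f.oz
  irr := by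
    intro N hN hn
    have hNK : N ≤ K := hN.trans (E.oloc hQ).RK
    rcases f.irr (N.subgroupOf K) (fun x hx => mem_map.1 (hN hx))
      (fun g hgz n hn' => hn g g.2 (congrArg Subtype.val hgz) n hn') with h1 | h1
    · left
      intro n hn'
      rcases h1 ⟨n, hNK hn'⟩ hn' with h2 | h2
      · exact Or.inl (congrArg Subtype.val h2)
      · exact Or.inr (congrArg Subtype.val h2)
    · right
      rw [← h1, subgroupOf_map_subtype, inf_eq_left.2 hNK]
  rr := by
    rintro _ ⟨a, ha, rfl⟩ _ ⟨b, hb, rfl⟩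
    rcases f.rr a ha b hb with h1 | h1
    · exact Or.inl (congrArg Subtype.val h1)
    · exact Or.inr (congrArg Subtype.val h1)
  RD := by
    rintro _ ⟨a, ha, rfl⟩
    exact mem_oddGen.2 (f.RD ha)
  kz := fun g hg => kz E hg
  zR1 := by
    intro k hk h1
    have h2 := f.zR1 ⟨k, hk⟩ ((mem_map (x := ⟨k, hk⟩ * z * (⟨k, hk⟩ : ↥K)⁻¹)).1 h1)
    exact congrArg Subtype.val h2
  p2 := by
    intro k hk k' hk' h1 h2 h3
    exact f.p2 ⟨k, hk⟩ ⟨k', hk'⟩ (Subtype.ext h1) (fun e => h2 (congrArg Subtype.val e)) (Subtype.ext h3)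
  p4 := by
    rintro _ ⟨r, hr, rfl⟩ hr1 hrz
    obtain ⟨p, hpz, hpc, hp1, hp2⟩ := f.p4 r hr (fun e => hr1 (congrArg Subtype.val e))
      (fun e => hrz (congrArg Subtype.val e))
    exact ⟨p, p.2, congrArg Subtype.val hpz, congrArg Subtype.val hpc, fun e => hp1 (Subtype.ext e),
      fun e => hp2 (Subtype.ext e)⟩

/-- the frame -/
theorem exists_fr (f : FactsOut.Sp z R) : ∃ z₁ z₂ z₃ z₄ k₁ k₂ c₃ c₄ : G,
    SpTwo.Fr (z : G) K (R.map K.subtype) z₁ z₂ z₃ z₄ k₁ k₂ c₃ c₄ := by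
  obtain ⟨z₁, z₂, z₃, z₄, k₁, k₂, c₃, c₄, e1, e2, e3, e4, z1z, z2z, z3z, z4z, c12, c13, c24, n12, n13, n24, n31,
    prod, d3, d4, p3⟩ := f.frame
  refine ⟨z₁, z₂, z₃, z₄, k₁, k₂, c₃, c₄,
    { k1 := k₁.2
      k2 := k₂.2
      c3 := c₃.2
      c4 := c₄.2
      e1 := congrArg Subtype.val e1
      e2 := congrArg Subtype.val e2
      e3 := congrArg Subtype.val e3
      e4 := congrArg Subtype.val e4
      z1z := congrArg Subtype.val z1z
      z2z := congrArg Subtype.val z2z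
      z3z := congrArg Subtype.val z3z
      z4z := congrArg Subtype.val z4z
      c12 := congrArg Subtype.val c12
      c13 := congrArg Subtype.val c13
      c24 := congrArg Subtype.val c24
      n12 := fun e => n12 (Subtype.ext e)
      n13 := fun e => n13 (Subtype.ext e)
      n24 := fun e => n24 (Subtype.ext e)
      n31 := fun e => n31 (Subtype.ext e)
      prod := congrArg Subtype.val prod
      d3 := congrArg Subtype.val d3
      d4 := congrArg Subtype.val d4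
      p3 := ?_ }⟩
  rintro _ ⟨r, hr, rfl⟩ hrr hr1 hrz
  obtain ⟨p, hpz, hp⟩ := p3 r hr (Subtype.ext hrr) (fun e => hr1 (congrArg Subtype.val e))
    (fun e => hrz (congrArg Subtype.val e))
  exact ⟨p, p.2, congrArg Subtype.val hpz, congrArg Subtype.val hp⟩

/-- the action on `D / R` -/
theorem exists_dl [Finite G] (E : Emb K t q z R) (hQ : ∀ y ∈ zpowers q, y = 1 ∨ y = t) (f : FactsOut.Sp z R) :
    ∃ v d e : G, SpOne.Dl t (z : G) K (R.map K.subtype) v d e := by
  have hOD : ∀ {x : G}, x ∈ Pos.oddGen K (z : G) → ∃ hx : x ∈ K, (⟨x, hx⟩ : K) ∈ FactsOut.OD z :=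
    fun {x} hx => ⟨Pos.oddGen_le hx, mem_oddGen.1 hx⟩
  obtain ⟨v, d, e, vv, vz, vD, PD, dD, eD, dR, eR, vd, ve, cd, ce, gen⟩ := f.delta
  have hRm : ∀ x : K, (x : G) ∈ R.map K.subtype ↔ x ∈ R := fun x => mem_map
  refine ⟨v, d, e,
    { vK := v.2
      vv := congrArg Subtype.val vv
      vz := congrArg Subtype.val vz
      vD := fun h1 => vD (mem_oddGen.1 h1)
      PD := ?_
      dD := mem_oddGen.2 dD
      eD := mem_oddGen.2 eD
      dR := fun h1 => dR (mem_map.1 h1)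
      eR := fun h1 => eR (mem_map.1 h1)
      vd := (hRm (v * d * v⁻¹ * d⁻¹)).2 vd
      ve := (hRm (v * e * v⁻¹ * e)).2 ve
      cd := ?_
      ce := ?_
      gen := ?_
      dd := ?_
      o2 := ?_
      ix := fun a b ha hb h1 h2 h3 h4 => index_two E hQ ha hb h1 h2 h3 h4 }⟩
  · intro g hg hgz
    rcases PD ⟨g, hg⟩ (Subtype.ext hgz) with h1 | h1
    · exact Or.inl (mem_oddGen.2 h1)
    · exact Or.inr (mem_oddGen.2 h1)
  · intro x hx h1
    obtain ⟨hxK, hxD⟩ := hOD hx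
    rcases cd ⟨x, hxK⟩ hxD ((hRm (v * ⟨x, hxK⟩ * v⁻¹ * (⟨x, hxK⟩ : K)⁻¹)).1 h1) with h2 | h2 | h2
    · exact Or.inl ((hRm _).2 h2)
    · exact Or.inr (Or.inl ((hRm (⟨x, hxK⟩ * d⁻¹)).2 h2))
    · exact Or.inr (Or.inr ((hRm (⟨x, hxK⟩ * d)).2 h2))
  · intro x hx h1
    obtain ⟨hxK, hxD⟩ := hOD hx
    rcases ce ⟨x, hxK⟩ hxD ((hRm (v * ⟨x, hxK⟩ * v⁻¹ * (⟨x, hxK⟩ : K))).1 h1) with h2 | h2 | h2
    · exact Or.inl ((hRm _).2 h2)
    · exact Or.inr (Or.inl ((hRm (⟨x, hxK⟩ * e⁻¹)).2 h2))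
    · exact Or.inr (Or.inr ((hRm (⟨x, hxK⟩ * e)).2 h2))
  · intro x hx
    obtain ⟨hxK, hxD⟩ := hOD hx
    have h1 : x ∈ (closure (({d, e} : Set K) ∪ (R : Set K))).map K.subtype := ⟨_, gen hxD, rfl⟩
    rw [MonoidHom.map_closure] at h1
    refine closure_mono ?_ h1
    rintro _ ⟨y, (hy | hy) | hy, rfl⟩
    · rw [hy]; exact Or.inl (Or.inl rfl)
    · have hy' : y = e := hy
      rw [hy']; exact Or.inl (Or.inr rfl)
    · exact Or.inr ⟨y, hy, rfl⟩
  · intro a ha b hb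
    obtain ⟨haK, haD⟩ := hOD ha
    obtain ⟨hbK, hbD⟩ := hOD hb
    exact (hRm (⟨a, haK⟩ * ⟨b, hbK⟩ * (⟨a, haK⟩ : K)⁻¹ * (⟨b, hbK⟩ : K)⁻¹)).2 (f.dd _ haD _ hbD)
  · intro n hgt hgz h2 hn
    set α := K.normalizerMonoidHom ⟨n, E.st.nK n hgt⟩ with hα
    have hαz : α z = z := by
      apply Subtype.ext
      rw [nmh_apply, hgz]
      group
    obtain ⟨r, hr, hαr⟩ := E.a.a2 α (isPGroup_nmh (E.st.nK n hgt) h2) hαz (by
      intro x hxz hxo
      apply (hRm _).1
      show ((K.normalizerMonoidHom ⟨n, E.st.nK n hgt⟩ x : K) : G) * (x : G)⁻¹ ∈ R.map K.subtype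
      rw [nmh_apply]
      exact hn x (subset_closure ⟨x.2, congrArg Subtype.val hxz, by
        rw [Subgroup.orderOf_coe]; exact hxo⟩))
    have h4 := exists_of_conj (E.st.nK n hgt) hαr
    have h5 : (r : G)⁻¹ * n ∈ zpowers q := by
      apply E.st.cK
      · have h6 := E.st.Kt (r : G)⁻¹ (K.inv_mem r.2)
        calc (r : G)⁻¹ * n * t = (r : G)⁻¹ * (n * t) := by group
          _ = ((r : G)⁻¹ * t) * n := by rw [hgt]; group
          _ = t * ((r : G)⁻¹ * n) := by rw [h6]; group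
      · exact h4
    rcases hQ _ h5 with h6 | h6
    · left
      have : n = r := (inv_mul_eq_one.1 h6).symm
      rw [this]; exact ⟨r, hr, rfl⟩
    · right
      have : n = r * t := by rw [← h6]; group
      rw [this, E.st.Kt r r.2, ← mul_assoc, E.st.tt, one_mul]
      exact ⟨r, hr, rfl⟩

/-- **`PSp₄(3)`, `|Out(K)| ≤ 2`** -/
theorem false_of_sp [Finite G] (hG : _root_.commutator G = ⊤) (hG2 : ∀ H : Subgroup G, H.index ≠ 2)
    (st : Start K t q) (f : FactsOut.Sp z R) (a : FactsOut.Aut z R) (hz : Main.At (z : G)) : False := by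
  have E : Emb K t q z R := ⟨st, f.toBase, a⟩
  have hQ := Q_eq E hG hG2
  have P := E.pos hG hG2
  have L := sloc E hQ f
  by_cases hcl : ∀ g, g * t = t * g → g ∈ K ∨ t * g ∈ K
  · exact Main.false_of_three hG ⟨st.tt, E.tK, st.Kt, hcl⟩ f.toThree hz
  -- an outer element in `C(t) ∩ C(z)`
  push Not at hcl
  obtain ⟨g, hgt, hgK, hgtK⟩ := hcl
  obtain ⟨k, hk, hkz⟩ := kz E hgt
  have hkt := st.Kt k hk
  obtain ⟨F, hF, htF⟩ := P.oloc.data.exists_core P.tH hz.core hz.ni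
  have mk : ∀ F' : Subgroup G, Core.IsF (z : G) F' → t ∈ F' → SPos t (z : G) K (R.map K.subtype) F' :=
    fun F' hF' ht =>
      { toSLoc := L
        F' := hF'
        tF := ht
        nc := P.nc
        sw := P.sw
        lam := L.toOLoc.data.hlam P.tH }
  obtain ⟨z₁, z₂, z₃, z₄, k₁, k₂, c₃, c₄, fr⟩ := exists_fr f
  have hle : ∀ F' : Subgroup G, Core.IsF (z : G) F' → t ∈ F' → ∀ x ∈ F', x * t = t * x := by
    intro F' hF' ht
    by_contra hcon
    exact SpTwo.false_two (mk F' hF' ht) hcon fr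
  have H : SpOne.HPos t (z : G) K (R.map K.subtype) F := { toSPos := mk F hF htF, hle := hle }
  obtain ⟨v, d, e, l⟩ := exists_dl E hQ f
  refine H.false_one l P.tH (f := k⁻¹ * g) ?_ ?_ ?_ ?_
  · have c1 : Commute k t := hkt
    have c2 : Commute g t := hgt
    exact c1.inv_left.mul_left c2
  · calc k⁻¹ * g * (z : G) = k⁻¹ * (g * z * g⁻¹) * g := by group
      _ = k⁻¹ * (k * z * k⁻¹) * g := by rw [hkz]
      _ = z * (k⁻¹ * g) := by group
  · intro h1
    apply hgK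
    have h2 := K.mul_mem hk h1
    rwa [mul_inv_cancel_left] at h2
  · intro h1
    apply hgtK
    have h2 := K.mul_mem hk h1
    have e : k * (t * (k⁻¹ * g)) = t * g := by
      calc k * (t * (k⁻¹ * g)) = (k * t) * k⁻¹ * g := by group
        _ = t * g := by rw [hkt]; group
    rwa [e] at h2

/-- **The row of `PSp₄(3)`** -/
theorem row_sp {G : Type u} [Group G] (hG : Iface.Ctx G) {K : Subgroup G} (hK : Iface.Std G K)
    (hC : Iface.Cyc K) {z : ↥K} {R : Subgroup ↥K} (f : FactsOut.Sp z R) (a : FactsOut.Aut z R)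
    (hNI : (⟨(z : G), mem_centralizer_singleton_iff.2 rfl⟩ : ↥(centralizer ({(z : G)} : Set G))) ∉
      layer ↥(centralizer ({(z : G)} : Set G))) : False := by
  have := hG.fin
  obtain ⟨t, q, st⟩ := exists_start hG hK hC (center_eq_bot f.toThree)
  refine false_of_sp (commutator_eq_top hG) (index_ne_two hG) st f a ⟨?_, hNI⟩
  apply Soft.core_eq_bot
  apply hG.bal
  have h1 : (z : G) ≠ 1 := fun e => f.z1 (Subtype.ext e)
  exact orderOf_eq_prime (by rw [pow_two]; exact congrArg Subtype.val f.zz) h1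

end Cfsg.Agent.OddHalf.D6.QThree.SpMain
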