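import Cfsg.Agent.KFacts.PSpFourThree.Sp
import Cfsg.Agent.OddHalf.D6.QThree.SpMain
import Cfsg.Agent.OddHalf.D6.QThree.NIBridge
import Cfsg.Agent.OddHalf.D6.QThree.NICase
import Cfsg.Agent.OddHalf.D6.Cut

/-!
# ODD half, D6, `q = 3`: the row `PSp₄(3)` (helper143)

`row`: the field `sp4` of `D6.Cut.Three`.
-/

set_option autoImplicit false

namespace Cfsg.Agent.OddHalf.D6.QThree.RowSp

open Subgroup Cfsg Cfsg.Agent.OddHalf Cfsg.Agent.OddHalf.Iface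
open Cfsg.Agent.KFacts.PSpFourThree
open Cfsg.Agent.Lib.FieldThree (F3)

/-! ### `NIFacts.Full` -/

theorem mul_eq {p q r : PE} (hp : p.Ok) (hq : q.Ok) (hr : r.Ok) (h : (p.mul q).beqs r = true) :
    p.el * q.el = r.el := by
  rw [← PE.el_mul hp hq]; exact PE.eq_el (hp.mul hq) hr h

theorem cj_eq {p q r : PE} (hp : p.Ok) (hq : q.Ok) (hr : r.Ok) (h : (PE.cj p q).beqs r = true) :
    p.el * q.el * p.el⁻¹ = r.el := by
  rw [← PE.el_cj hp hq]; exact PE.eq_el (PE.ok_cj hp hq) hr h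

theorem full : NIFacts.Full PE.z PE.R := by
  have hz : PE.z = PE.zz.el := rfl
  refine ⟨PE.r1.el, PE.r2.el, PE.r3.el, PE.r4.el, PE.d1.el, PE.d2.el, ?_, ?_, ?_⟩
  · refine ⟨⟨PE.z_mul_z, PE.z_ne, PE.z_comm PE.ok_r1, PE.z_comm PE.ok_r2, PE.z_comm PE.ok_r3, PE.z_comm PE.ok_r4,
      ?_, ?_, ?_, ?_, ?_, ?_, ?_, ?_, ?_, ?_⟩, ⟨?_, ?_, ?_, ?_, ?_⟩, ⟨?_, ?_, ?_, ?_, ?_⟩⟩
    · exact mul_eq PE.ok_r1 PE.ok_r1 PE.ok_zz (by decide)
    · exact mul_eq PE.ok_r2 PE.ok_r2 PE.ok_zz (by decide)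
    · exact mul_eq PE.ok_r3 PE.ok_r3 PE.ok_zz (by decide)
    · exact mul_eq PE.ok_r4 PE.ok_r4 PE.ok_zz (by decide)
    · rw [hz, ← PE.el_mul PE.ok_r1 PE.ok_r2, ← PE.el_mul (PE.ok_r1.mul PE.ok_r2) PE.ok_zz]
      exact mul_eq PE.ok_r2 PE.ok_r1 ((PE.ok_r1.mul PE.ok_r2).mul PE.ok_zz) (by decide)
    · rw [hz, ← PE.el_mul PE.ok_r3 PE.ok_r4, ← PE.el_mul (PE.ok_r3.mul PE.ok_r4) PE.ok_zz]
      exact mul_eq PE.ok_r4 PE.ok_r3 ((PE.ok_r3.mul PE.ok_r4).mul PE.ok_zz) (by decide)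
    · exact (PE.comm_iff PE.ok_r3 PE.ok_r1).2 (by decide)
    · exact (PE.comm_iff PE.ok_r4 PE.ok_r1).2 (by decide)
    · exact (PE.comm_iff PE.ok_r3 PE.ok_r2).2 (by decide)
    · exact (PE.comm_iff PE.ok_r4 PE.ok_r2).2 (by decide)
    · exact cj_eq PE.ok_d1 PE.ok_zz PE.ok_zz (by decide)
    · exact cj_eq PE.ok_d1 PE.ok_r1 PE.ok_r2 (by decide)
    · rw [← PE.el_mul PE.ok_r1 PE.ok_r2]
      exact cj_eq PE.ok_d1 PE.ok_r2 (PE.ok_r1.mul PE.ok_r2) (by decide)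
    · exact cj_eq PE.ok_d1 PE.ok_r3 PE.ok_r3 (by decide)
    · exact cj_eq PE.ok_d1 PE.ok_r4 PE.ok_r4 (by decide)
    · exact cj_eq PE.ok_d2 PE.ok_zz PE.ok_zz (by decide)
    · exact cj_eq PE.ok_d2 PE.ok_r1 PE.ok_r1 (by decide)
    · exact cj_eq PE.ok_d2 PE.ok_r2 PE.ok_r2 (by decide)
    · exact cj_eq PE.ok_d2 PE.ok_r3 PE.ok_r4 (by decide)
    · rw [← PE.el_mul PE.ok_r3 PE.ok_r4]
      exact cj_eq PE.ok_d2 PE.ok_r4 (PE.ok_r3.mul PE.ok_r4) (by decide)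
  · apply le_antisymm
    · have h1 : PE.r1.el ∈ closure {PE.r1.el, PE.r2.el, PE.r3.el, PE.r4.el} := subset_closure (by simp)
      have h2 : PE.r2.el ∈ closure {PE.r1.el, PE.r2.el, PE.r3.el, PE.r4.el} := subset_closure (by simp)
      have h3 : PE.r3.el ∈ closure {PE.r1.el, PE.r2.el, PE.r3.el, PE.r4.el} := subset_closure (by simp)
      have h4 : PE.r4.el ∈ closure {PE.r1.el, PE.r2.el, PE.r3.el, PE.r4.el} := subset_closure (by simp)
      refine PE.R_le ?_ h1 h2 h3 h4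
      have h5 : PE.r1.el * PE.r1.el = PE.zz.el := mul_eq PE.ok_r1 PE.ok_r1 PE.ok_zz (by decide)
      rw [hz, ← h5]
      exact mul_mem h1 h1
    · rw [closure_le]
      intro x hx
      have hx' : x = PE.r1.el ∨ x = PE.r2.el ∨ x = PE.r3.el ∨ x = PE.r4.el := by simpa using hx
      rcases hx' with rfl | rfl | rfl | rfl
      · exact (PE.mem_R PE.ok_r1).2 (by decide)
      · exact (PE.mem_R PE.ok_r2).2 (by decide)
      · exact (PE.mem_R PE.ok_r3).2 (by decide)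
      · exact (PE.mem_R PE.ok_r4).2 (by decide)
  · exact Or.inl ⟨PE.vv.el, PE.z_comm PE.ok_vv, cj_eq PE.ok_vv PE.ok_r1 PE.ok_r3 (by decide)⟩

/-- the K-facts of the row -/
theorem exists_all {K : Type*} [Group K] {F : Type*} [Field F] [Fintype F] (hF : Fintype.card F = 3)
    (e : Nonempty (K ≃* PSp 2 F)) : ∃ (z : K) (R : Subgroup K), FactsOut.Sp z R ∧ FactsOut.Aut z R ∧
      NIFacts.Full z R := by
  obtain ⟨e⟩ := e
  exact ⟨_, _, PE.sp_facts.map (e.trans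
    (Cfsg.Agent.LieClassical.FieldTransfer.pspCongr 2 (Cfsg.Agent.Lib.FieldThree.equivOfCard hF))).symm,
    PE.aut.map (e.trans
    (Cfsg.Agent.LieClassical.FieldTransfer.pspCongr 2 (Cfsg.Agent.Lib.FieldThree.equivOfCard hF))).symm,
    full.map (e.trans
    (Cfsg.Agent.LieClassical.FieldTransfer.pspCongr 2 (Cfsg.Agent.Lib.FieldThree.equivOfCard hF))).symm⟩

universe u

/-- `K` with the facts `Sp`, `Aut`, `Full` -/
theorem row_of {G : Type u} [Group G] (hGW : SylowSp4.Hyps.GW.{u}) (hI : CaseM.Intr.{u})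
    (hS : CaseM.IntrSign.{u}) (hG : Ctx G) {K : Subgroup G} (hK : Std G K)
    (hC : Cyc K) {z : ↥K} {R : Subgroup ↥K} (f : FactsOut.Sp z R) (a : FactsOut.Aut z R)
    (n : NIFacts.Full z R) : False := by
  have := hG.fin
  obtain ⟨t, q, st⟩ := Front.FE.exists_start hG hK hC (SpMain.center_eq_bot f.toThree)
  have E : FrontOut.Emb K t q z R := ⟨st, f.toBase, a⟩
  exact SpMain.false_of_sp (Front.FE.commutator_eq_top hG) (Front.FE.index_ne_two hG) st f a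
    (NIBridge.at_of_pos hGW hI hS hG
      (E.pos (Front.FE.commutator_eq_top hG) (Front.FE.index_ne_two hG)) n)

/-- **The row `PSp₄(3)`** (the field `sp4` of `D6.Cut.Three`) -/
theorem row (hGW : SylowSp4.Hyps.GW.{u}) (hI : CaseM.Intr.{u}) (hS : CaseM.IntrSign.{u}) :
    D6.Cut.Row.{u} (fun X _ => ∃ (F : Type) (_ : Field F) (_ : Fintype F), Fintype.card F = 3 ∧
      Nonempty (X ≃* PSp 2 F)) := by
  intro G _ hG K hK hC _ hX
  obtain ⟨F, _, _, hF, e⟩ := hX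
  obtain ⟨z, R, f, a, n⟩ := exists_all hF e
  exact row_of hGW hI hS hG hK hC f a n

end Cfsg.Agent.OddHalf.D6.QThree.RowSp
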