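import Cfsg.Agent.OddHalf.D6.QThree.Core

/-!
# ODD half, D6, `q = 3`: the core of `C_G(z)`, from two local facts (helper143)

`Data t z`: commuting involutions `t`, `z` such that, for `M = C(t) ∩ C(z)`,
* `eq`: the normal subgroups of `M` not containing `z` lie in `{1, t, t z}`;
* `abel`: the abelian normal 2-subgroups of `M` lie in `⟨t, z⟩`.

With `O(C(z)) = 1`, `z ∉ E(C(z))`, `t ∈ C(z)'`: `Data.exists_core`: a self-centralising normal 2-subgroup `F` of `C(z)`
with `t ∈ F`. Then either `F ≤ C(t)` and `⟨t, z⟩` is normal in `C(z)` (`conj_t_of_le`), or some `s ∈ F` maps `t` to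
`t z` (`exists_mem`).
-/

set_option autoImplicit false

namespace Cfsg.Agent.OddHalf.D6.QThree.Abs

open Subgroup Cfsg Cfsg.Agent.OddHalf.D6.QThree.Core

variable {G : Type*} [Group G] {t z : G} {F : Subgroup G}

/-- the two local facts -/
structure Data (t z : G) : Prop where
  tt : t * t = 1
  t1 : t ≠ 1
  zz : z * z = 1
  z1 : z ≠ 1
  comm : t * z = z * t
  /-- normal subgroups of `C(t) ∩ C(z)` not containing `z` -/
  eq : ∀ M : Subgroup G, (∀ m ∈ M, m * t = t * m) → (∀ m ∈ M, m * z = z * m) →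
    (∀ g, g * t = t * g → g * z = z * g → ∀ m ∈ M, g * m * g⁻¹ ∈ M) → z ∉ M →
    ∀ m ∈ M, m = 1 ∨ m = t ∨ m = t * z
  /-- abelian normal 2-subgroups of `C(t) ∩ C(z)` -/
  abel : ∀ B : Subgroup G, IsPGroup 2 B → (∀ b ∈ B, b * t = t * b) → (∀ b ∈ B, b * z = z * b) →
    (∀ a ∈ B, ∀ b ∈ B, a * b = b * a) →
    (∀ g, g * t = t * g → g * z = z * g → ∀ b ∈ B, g * b * g⁻¹ ∈ B) →
    ∀ b ∈ B, (b = 1 ∨ b = z) ∨ (b = t ∨ b = t * z)

namespace Data

/-- **(2)** `E(C_G(z)) = 1` -/
theorem layer_eq_bot [Finite G] (h : Data t z)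
    (hO : pPrimeCore 2 ↥(centralizer ({z} : Set G)) = ⊥)
    (hNI : (⟨z, mem_centralizer_singleton_iff.2 rfl⟩ : ↥(centralizer ({z} : Set G))) ∉
      layer ↥(centralizer ({z} : Set G))) :
    layer ↥(centralizer ({z} : Set G)) = ⊥ := by
  set X := centralizer ({z} : Set G) with hX
  set E : Subgroup ↥X := layer ↥X with hE
  have hEn : E.Normal := by rw [hE]; exact Cfsg.Agent.SignalizersComponents.LayerBasic.layer_normal _
  set t' : ↥X := ⟨t, mem_centralizer_singleton_iff.2 h.comm⟩ with ht'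
  set z' : ↥X := ⟨z, mem_centralizer_singleton_iff.2 rfl⟩ with hz'
  have ht2 : t' * t' = 1 := Subtype.ext h.tt
  -- a Sylow subgroup through `t`
  obtain ⟨W, hW⟩ : ∃ W : Sylow 2 ↥X, zpowers t' ≤ (W : Subgroup ↥X) :=
    (TR.Frame.isPGroup_zpowers ht2).exists_le_sylow
  have htW : t' ∈ (W : Subgroup ↥X) := hW (mem_zpowers t')
  set U : Subgroup ↥X := (W : Subgroup ↥X) ⊓ E with hU
  have hUp : IsPGroup 2 U := W.isPGroup'.to_le inf_le_left
  -- the centraliser of `t` in `E`
  have hcent : ∀ e ∈ E, e * t' = t' * e → e = 1 ∨ e = t' ∨ e = t' * z' := by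
    intro e he het
    have := h.eq ((E ⊓ centralizer ({t'} : Set ↥X)).map X.subtype) ?_ ?_ ?_ ?_
      (e : G) ⟨e, ⟨he, mem_centralizer_singleton_iff.2 het⟩, rfl⟩
    · rcases this with h1 | h1 | h1
      · exact Or.inl (Subtype.ext h1)
      · exact Or.inr (Or.inl (Subtype.ext h1))
      · exact Or.inr (Or.inr (Subtype.ext h1))
    · rintro _ ⟨y, hy, rfl⟩
      exact congrArg Subtype.val (mem_centralizer_singleton_iff.1 hy.2)
    · rintro _ ⟨y, -, rfl⟩
      exact mem_centralizer_singleton_iff.1 y.2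
    · rintro g hgt hgz _ ⟨y, hy, rfl⟩
      set g' : ↥X := ⟨g, mem_centralizer_singleton_iff.2 hgz⟩ with hg'
      have h1 : Commute g' t' := Subtype.ext hgt
      have h2 : Commute y t' := mem_centralizer_singleton_iff.1 hy.2
      exact ⟨g' * y * g'⁻¹, ⟨hEn.conj_mem y hy.1 g', mem_centralizer_singleton_iff.2
        ((h1.mul_left h2).mul_left h1.inv_left)⟩, rfl⟩
    · rintro ⟨y, hy, hyz⟩
      have : y = z' := Subtype.ext hyz
      rw [this] at hy
      exact hNI hy.1
  by_contra hne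
  -- `U ≠ 1`
  have hUne : U ≠ ⊥ := by
    intro hU0
    apply hne
    have h1 : Nat.card ↥E = E.index * 0 + Nat.card ↥E := by omega
    have h2 : (Nat.card ↥E).Coprime 2 := by
      have h3 := (Cfsg.Agent.ClassificationK.GTwoFactorGen.sylowInf W E).card_eq_multiplicity
      have h4 : Nat.card ((Cfsg.Agent.ClassificationK.GTwoFactorGen.sylowInf W E : Sylow 2 ↥E) :
          Subgroup ↥E) = 1 := by
        rw [Cfsg.Agent.ClassificationK.GTwoFactorGen.coe_sylowInf, Subgroup.card_eq_one, subgroupOf_eq_bot]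
        rw [disjoint_iff]; exact hU0
      rw [h4] at h3
      rw [Nat.coprime_comm, Nat.Prime.coprime_iff_not_dvd Nat.prime_two]
      intro h5
      have h6 := Nat.prime_two.factorization_pos_of_dvd Nat.card_pos.ne' h5
      have h7 : 1 < 2 ^ (Nat.card ↥E).factorization 2 := Nat.one_lt_two_pow h6.ne'
      omega
    have h3 := Cfsg.Agent.Lib.Cores.le_pPrimeCore hEn h2
    rw [hO, le_bot_iff] at h3
    exact h3
  -- `U` has order 2
  obtain ⟨c, hcU, hcW, hc1⟩ : ∃ c ∈ U, (∀ w ∈ (W : Subgroup ↥X), w * c = c * w) ∧ c ≠ 1 := by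
    have hn : (U.subgroupOf (W : Subgroup ↥X)).Normal := by
      refine ⟨fun x hx w => ?_⟩
      rw [mem_subgroupOf] at hx ⊢
      exact ⟨(w * x * w⁻¹).2, hEn.conj_mem _ hx.2 _⟩
    have hnb : U.subgroupOf (W : Subgroup ↥X) ≠ ⊥ := by
      intro h1
      rw [subgroupOf_eq_bot, disjoint_iff, inf_eq_left.2 (inf_le_left : U ≤ (W : Subgroup ↥X))] at h1
      exact hUne h1
    obtain ⟨x, hx1, hx2, hx3⟩ := Cfsg.Agent.Transfer.PGroupNormal.exists_mem_inf_center_orderOf
      W.isPGroup' (U.subgroupOf (W : Subgroup ↥X)) hnb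
    refine ⟨(x : ↥X), hx1, ?_, ?_⟩
    · intro w hw
      exact congrArg Subtype.val (mem_center_iff.1 hx2 ⟨w, hw⟩)
    · intro h1
      have h2 : x = 1 := Subtype.ext h1
      rw [h2, orderOf_one] at hx3
      omega
  have hz'c : ∀ x : ↥X, x * z' = z' * x := fun x => Subtype.ext (mem_centralizer_singleton_iff.1 x.2)
  have hzz' : z' * z' = 1 := Subtype.ext h.zz
  have hU2 : ∀ u ∈ U, u = 1 ∨ u = c := by
    intro u hu
    have hct := hcent c hcU.2 (hcW t' htW).symm
    have huc := hcW u hu.1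
    have hut : u * t' = t' * u := by
      rcases hct with h1 | h1 | h1
      · exact absurd h1 hc1
      · rw [← h1]; exact huc
      · rw [h1] at huc
        have h2 : (u * t') * z' = (t' * u) * z' := by
          rw [mul_assoc, huc, mul_assoc, mul_assoc, ← hz'c u]
        exact mul_right_cancel h2
    have hzE : z' ∉ E := hNI
    rcases hcent u hu.2 hut with h1 | h1 | h1
    · exact Or.inl h1
    · right
      rcases hct with h2 | h2 | h2
      · exact absurd h2 hc1
      · rw [h1, h2]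
      · exfalso
        apply hzE
        have h3 := E.mul_mem hu.2 hcU.2
        rwa [h1, h2, ← mul_assoc, ht2, one_mul] at h3
    · right
      rcases hct with h2 | h2 | h2
      · exact absurd h2 hc1
      · exfalso
        apply hzE
        have h3 := E.mul_mem hcU.2 hu.2
        rwa [h1, h2, ← mul_assoc, ht2, one_mul] at h3
      · rw [h1, h2]
  -- a normal complement of the Sylow subgroup of `E`
  set PE := Cfsg.Agent.ClassificationK.GTwoFactorGen.sylowInf W E with hPE
  have hPEmem : ∀ x : ↥E, x ∈ (PE : Subgroup ↥E) → x = 1 ∨ (x : ↥X) = c := by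
    intro x hx
    rcases hU2 (x : ↥X) ⟨hx, x.2⟩ with h1 | h1
    · exact Or.inl (Subtype.ext h1)
    · exact Or.inr h1
  have hPEc : IsCyclic ↥(PE : Subgroup ↥E) := by
    refine ⟨⟨⟨c, hcU.2⟩, hcU.1⟩, ?_⟩
    rintro ⟨x, hx⟩
    rcases hPEmem x hx with h1 | h1
    · have : (⟨x, hx⟩ : ↥(PE : Subgroup ↥E)) = 1 := Subtype.ext h1
      rw [this]; exact (zpowers _).one_mem
    · have : (⟨x, hx⟩ : ↥(PE : Subgroup ↥E)) = ⟨⟨c, hcU.2⟩, hcU.1⟩ := Subtype.ext (Subtype.ext h1)
      rw [this]; exact mem_zpowers _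
  obtain ⟨N, hNodd, hNP, hN⟩ := Cfsg.Agent.CharactersDeep.QuatSylow.exists_two_complement PE hPEc
  have hNn : N.Normal := by
    refine ⟨fun x hx g => ?_⟩
    rw [hN] at hx ⊢
    have : orderOf (g * x * g⁻¹) = orderOf x :=
      orderOf_injective (MulAut.conj g).toMonoidHom (MulAut.conj g).injective x
    rw [this]; exact hx
  have hcyc : IsCyclic (↥E ⧸ N) := by
    have hsurj : Function.Surjective ((QuotientGroup.mk' N).comp (PE : Subgroup ↥E).subtype) := by
      rw [← MonoidHom.range_eq_top, MonoidHom.range_comp, range_subtype, eq_top_iff]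
      have h1 : (N ⊔ (PE : Subgroup ↥E)).map (QuotientGroup.mk' N) = ⊤ := by
        rw [hNP, ← MonoidHom.range_eq_map]
        exact MonoidHom.range_eq_top.2 (QuotientGroup.mk'_surjective N)
      rw [Subgroup.map_sup, (QuotientGroup.map_mk'_self N), bot_sup_eq] at h1
      rw [h1]
    exact isCyclic_of_surjective _ hsurj
  have hcomm : commutator ↥E ≤ N := by
    have h1 : IsMulCommutative (↥E ⧸ N) := IsCyclic.isMulCommutative
    rw [_root_.commutator_def, commutator_le]
    intro a _ b _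
    rw [← QuotientGroup.eq_one_iff]
    have h2 : ((a : ↥E ⧸ N)) * b = b * a := h1.is_comm.comm _ _
    show ((a * b * a⁻¹ * b⁻¹ : ↥E) : ↥E ⧸ N) = 1
    rw [QuotientGroup.mk_mul, QuotientGroup.mk_mul, QuotientGroup.mk_mul, QuotientGroup.mk_inv,
      QuotientGroup.mk_inv, h2]
    group
  have hperf : commutator ↥E = ⊤ := by
    have h1 := Cfsg.Agent.SignalizersComponents.LayerBasic.layer_perfect ↥X
    have h2 : (commutator ↥E).map E.subtype = ⁅E, E⁆ := by
      rw [_root_.commutator_def, map_commutator, ← MonoidHom.range_eq_map, range_subtype]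
    rw [eq_top_iff]
    intro x _
    have h3 : (x : ↥X) ∈ (commutator ↥E).map E.subtype := by
      rw [h2]
      have h4 : (x : ↥X) ∈ E := x.2
      have h5 : ⁅E, E⁆ = E := h1
      rw [h5]; exact h4
    obtain ⟨y, hy, hyx⟩ := h3
    have : y = x := Subtype.ext hyx
    rwa [← this]
  have hcN : (⟨c, hcU.2⟩ : ↥E) ∈ N := hcomm (by rw [hperf]; exact mem_top _)
  rw [hN] at hcN
  obtain ⟨k, hk⟩ := hUp ⟨c, hcU⟩
  have hk' : c ^ 2 ^ k = 1 := congrArg Subtype.val hk
  have hk2 : (⟨c, hcU.2⟩ : ↥E) ^ 2 ^ k = 1 := Subtype.ext hk'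
  have h6 := orderOf_dvd_of_pow_eq_one hk2
  obtain ⟨j, -, hj⟩ := (Nat.dvd_prime_pow Nat.prime_two).1 h6
  rcases Nat.eq_zero_or_pos j with h7 | h7
  · rw [h7, pow_zero, orderOf_eq_one_iff] at hj
    exact hc1 (congrArg Subtype.val hj)
  · rw [hj] at hcN
    have h8 : 2 ∣ 2 ^ j := dvd_pow_self 2 h7.ne'
    rw [Nat.odd_iff] at hcN
    omega

/-- **(3)** -/
theorem t_mem [Finite G] (h : Data t z) (hF : IsF z F)
    (htc : (⟨t, mem_centralizer_singleton_iff.2 h.comm⟩ : centralizer ({z} : Set G)) ∈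
      _root_.commutator (centralizer ({z} : Set G))) : t ∈ F := by
  by_contra htF
  have hzF : z ∈ F := hF.self z rfl fun x hx => (hF.le x hx).symm
  obtain ⟨lam, hlam⟩ := D8.Lam.exists_lam (t := t) (z := z)
    (N := centralizer ({t} : Set G) ⊓ centralizer ({z} : Set G)) (F := F)
    { hN := fun n hn => ⟨mem_centralizer_singleton_iff.1 hn.2,
        Or.inl (by rw [mem_centralizer_singleton_iff.1 hn.1]; group)⟩
      tt := h.tt
      zz := h.zz
      z1 := h.z1
      comm := h.comm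
      pF := hF.pF
      le := hF.le
      nor := hF.nor
      self := hF.self
      tF := htF
      ab := by
        intro B hB hBt hBab hBn' b hb
        have hBn : ∀ n, n * t = t * n → n * z = z * n → ∀ b ∈ B, n * b * n⁻¹ ∈ B := fun n h1 h2 =>
          hBn' n ⟨mem_centralizer_singleton_iff.2 h1, mem_centralizer_singleton_iff.2 h2⟩
        rcases h.abel B (hF.pF.to_le hB) hBt (fun b hb => hF.le b (hB hb)) hBab hBn b hb with h1 | h1 | h1
        · exact h1
        · exfalso
          apply htF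
          rw [← h1]; exact hB hb
        · exfalso
          apply htF
          have h5 := F.mul_mem (hB hb) hzF
          rwa [h1, mul_assoc, h.zz, mul_one] at h5 }
  have h1 : lam ⟨t, mem_centralizer_singleton_iff.2 h.comm⟩ = 1 := by
    have h2 : _root_.commutator (centralizer ({z} : Set G)) ≤ lam.ker := by
      rw [_root_.commutator_def, commutator_le]
      intro a _ b _
      rw [MonoidHom.mem_ker, commutatorElement_def, map_mul, map_mul, map_mul, map_inv, map_inv,
        mul_comm (lam a) (lam b), mul_assoc (lam b), mul_inv_cancel, mul_one, mul_inv_cancel]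
    exact h2 htc
  rw [h1] at hlam
  exact absurd hlam (by decide)

/-- **(2) + (3)** -/
theorem exists_core [Finite G] (h : Data t z)
    (htc : (⟨t, mem_centralizer_singleton_iff.2 h.comm⟩ : centralizer ({z} : Set G)) ∈
      _root_.commutator (centralizer ({z} : Set G)))
    (hO : pPrimeCore 2 ↥(centralizer ({z} : Set G)) = ⊥)
    (hNI : (⟨z, mem_centralizer_singleton_iff.2 rfl⟩ : ↥(centralizer ({z} : Set G))) ∉
      layer ↥(centralizer ({z} : Set G))) :
    ∃ F : Subgroup G, IsF z F ∧ t ∈ F := by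
  set X := centralizer ({z} : Set G) with hX
  have h1 := (Cfsg.Agent.SignalizersComponents.PConstrained.centralizer_pCore_le_iff_layer_eq_bot 2 hO).2
    (layer_eq_bot h hO hNI)
  set Q : Subgroup ↥X := pCore 2 ↥X with hQ
  have hQn : Q.Normal := Cfsg.Agent.Lib.Cores.pCore_normal 2
  have hQp : IsPGroup 2 Q := Cfsg.Agent.Lib.Cores.pCore_isPGroup 2
  have hF : IsF z (Q.map X.subtype) :=
    { pF := hQp.map _
      le := by
        rintro _ ⟨y, -, rfl⟩
        exact mem_centralizer_singleton_iff.1 y.2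
      nor := by
        rintro g hg _ ⟨y, hy, rfl⟩
        exact ⟨⟨g, mem_centralizer_singleton_iff.2 hg⟩ * y * ⟨g, mem_centralizer_singleton_iff.2 hg⟩⁻¹,
          hQn.conj_mem y hy _, rfl⟩
      self := by
        intro g hg hc
        refine ⟨⟨g, mem_centralizer_singleton_iff.2 hg⟩, h1 (mem_centralizer_iff.2 ?_), rfl⟩
        intro y hy
        exact Subtype.ext (hc y ⟨y, hy, rfl⟩).symm }
  exact ⟨_, hF, t_mem h hF htc⟩

/-- Case I: `F ≤ C(t)` -/
theorem conj_t_of_le (h : Data t z) (hF : IsF z F) (htF : t ∈ F) (nc : ∀ g, g * t * g⁻¹ ≠ z)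
    (hFt : ∀ x ∈ F, x * t = t * x) {x : G} (hxz : x * z = z * x) :
    x * t * x⁻¹ = t ∨ x * t * x⁻¹ = t * z := by
  have hxi : x⁻¹ * z = z * x⁻¹ := (Commute.inv_left (show Commute x z from hxz)).eq
  have hB : x * t * x⁻¹ ∈ F ⊓ centralizer (F : Set G) := by
    refine ⟨hF.nor x hxz t htF, mem_centralizer_iff.2 ?_⟩
    intro f hf
    have h1 := hF.nor x⁻¹ hxi f hf
    rw [inv_inv] at h1
    have h2 := hFt _ h1
    calc f * (x * t * x⁻¹) = x * ((x⁻¹ * f * x) * t) * x⁻¹ := by group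
      _ = x * (t * (x⁻¹ * f * x)) * x⁻¹ := by rw [h2]
      _ = x * t * x⁻¹ * f := by group
  have hBn : ∀ g, g * t = t * g → g * z = z * g → ∀ b ∈ F ⊓ centralizer (F : Set G),
      g * b * g⁻¹ ∈ F ⊓ centralizer (F : Set G) := by
    intro g _ hgz b hb
    refine ⟨hF.nor g hgz b hb.1, mem_centralizer_iff.2 ?_⟩
    intro f hf
    have hgi : g⁻¹ * z = z * g⁻¹ := (Commute.inv_left (show Commute g z from hgz)).eq
    have h1 := hF.nor g⁻¹ hgi f hf
    rw [inv_inv] at h1
    have h2 := mem_centralizer_iff.1 hb.2 _ h1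
    calc f * (g * b * g⁻¹) = g * ((g⁻¹ * f * g) * b) * g⁻¹ := by group
      _ = g * (b * (g⁻¹ * f * g)) * g⁻¹ := by rw [h2]
      _ = g * b * g⁻¹ * f := by group
  rcases h.abel _ (hF.pF.to_le inf_le_left) (fun b hb => hFt b hb.1) (fun b hb => hF.le b hb.1)
    (fun a ha b hb => mem_centralizer_iff.1 hb.2 a ha.1) hBn _ hB with (h1 | h1) | h1 | h1
  · exact absurd (conj_eq_one_iff.1 h1) h.t1
  · exact absurd h1 (nc x)
  · exact Or.inl h1
  · exact Or.inr h1

/-- Case II: `F` is not contained in `C(t)` -/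
theorem exists_mem [Finite G] (h : Data t z) (hF : IsF z F) (htF : t ∈ F) (nc : ∀ g, g * t * g⁻¹ ≠ z)
    (hFt : ¬ ∀ x ∈ F, x * t = t * x) :
    ∃ s ∈ F, s * t * s⁻¹ = t * z := by
  set F₁ : Subgroup G := F ⊓ centralizer ({t} : Set G) with hF₁
  have hlt : F₁ < F := by
    refine lt_of_le_of_ne inf_le_left ?_
    intro e
    apply hFt
    intro x hx
    rw [← e] at hx
    exact mem_centralizer_singleton_iff.1 hx.2
  have : Group.IsNilpotent F := hF.pF.isNilpotent
  obtain ⟨x, hxF, hxF₁, hxN⟩ := Cfsg.Agent.Transfer.FrobeniusFusion.exists_mem_normalizer_notMem hlt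
  have htF₁ : t ∈ F₁ := ⟨htF, mem_centralizer_singleton_iff.2 rfl⟩
  have hB : x * t * x⁻¹ ∈ F₁ ⊓ centralizer (F₁ : Set G) := by
    refine ⟨(mem_normalizer_iff.1 hxN t).1 htF₁, mem_centralizer_iff.2 ?_⟩
    intro f hf
    have h1 : x⁻¹ * f * x ∈ F₁ := by
      apply (mem_normalizer_iff.1 hxN _).2
      have e : x * (x⁻¹ * f * x) * x⁻¹ = f := by group
      rw [e]; exact hf
    have h2 := mem_centralizer_singleton_iff.1 h1.2
    calc f * (x * t * x⁻¹) = x * ((x⁻¹ * f * x) * t) * x⁻¹ := by group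
      _ = x * (t * (x⁻¹ * f * x)) * x⁻¹ := by rw [h2]
      _ = x * t * x⁻¹ * f := by group
  have hF₁n : ∀ g, g * t = t * g → g * z = z * g → ∀ f ∈ F₁, g * f * g⁻¹ ∈ F₁ := by
    intro g hgt hgz f hf
    have c1 : Commute g t := hgt
    have c2 : Commute f t := mem_centralizer_singleton_iff.1 hf.2
    exact ⟨hF.nor g hgz f hf.1, mem_centralizer_singleton_iff.2 ((c1.mul_left c2).mul_left c1.inv_left)⟩
  have hBn : ∀ g, g * t = t * g → g * z = z * g → ∀ b ∈ F₁ ⊓ centralizer (F₁ : Set G),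
      g * b * g⁻¹ ∈ F₁ ⊓ centralizer (F₁ : Set G) := by
    intro g hgt hgz b hb
    refine ⟨hF₁n g hgt hgz b hb.1, mem_centralizer_iff.2 ?_⟩
    intro f hf
    have hgi : g⁻¹ * z = z * g⁻¹ := (Commute.inv_left (show Commute g z from hgz)).eq
    have hgti : g⁻¹ * t = t * g⁻¹ := (Commute.inv_left (show Commute g t from hgt)).eq
    have h1 := hF₁n g⁻¹ hgti hgi f hf
    rw [inv_inv] at h1
    have h2 := mem_centralizer_iff.1 hb.2 _ h1
    calc f * (g * b * g⁻¹) = g * ((g⁻¹ * f * g) * b) * g⁻¹ := by group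
      _ = g * (b * (g⁻¹ * f * g)) * g⁻¹ := by rw [h2]
      _ = g * b * g⁻¹ * f := by group
  refine ⟨x, hxF, ?_⟩
  rcases h.abel _ (hF.pF.to_le (inf_le_left.trans inf_le_left))
    (fun b hb => mem_centralizer_singleton_iff.1 hb.1.2) (fun b hb => hF.le b hb.1.1)
    (fun a ha b hb => mem_centralizer_iff.1 hb.2 a ha.1) hBn _ hB with (h1 | h1) | h1 | h1
  · exact absurd (conj_eq_one_iff.1 h1) h.t1
  · exact absurd h1 (nc x)
  · exfalso
    apply hxF₁
    refine ⟨hxF, mem_centralizer_singleton_iff.2 ?_⟩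
    rwa [mul_inv_eq_iff_eq_mul] at h1
  · exact h1

end Data

end Cfsg.Agent.OddHalf.D6.QThree.Abs
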