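import Cfsg.Agent.OddHalf.D6.QThree.Sit
import Cfsg.Agent.OddHalf.D8.Lam
import Cfsg.Agent.SignalizersComponents.PConstrained
import Cfsg.Agent.SignalizersComponents.LayerBasic
import Cfsg.Agent.ClassificationK.GTwoFactorGen
import Cfsg.Agent.CharactersDeep.QuatSylow
import Cfsg.Agent.Transfer.PGroupNormal

/-!
# ODD half, D6, `q = 3`: `E(C_G(z)) = 1` and `t ∈ O₂(C_G(z))` (helper143, after helper135 #7766 (2), (3))

`X = C_G(z)`, `O(X) = 1`, `z ∉ E(X)`: then `E(X) = 1` (`layer_eq_bot`); with the homomorphism of helper821 (`Lam`) and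
`t ∈ X'` we get `t ∈ O₂(X)` (`exists_core`).
-/

set_option autoImplicit false

namespace Cfsg.Agent.OddHalf.D6.QThree.Core

open Subgroup Cfsg Cfsg.Agent.OddHalf.D6.QThree.Sit

variable {G : Type*} [Group G] {t z : G} {K R : Subgroup G}

/-- a nontrivial subgroup of `P = C_K(z)` normal in `P` contains `z` -/
theorem z_mem [Finite G] (h : Loc t z K R) {N : Subgroup G} (hNK : N ≤ K) (hNz : ∀ n ∈ N, n * z = z * n)
    (hn : ∀ g ∈ K, g * z = z * g → ∀ n ∈ N, g * n * g⁻¹ ∈ N) {n : G} (hnN : n ∈ N) (hn1 : n ≠ 1) :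
    z ∈ N := by
  by_cases hbot : N ⊓ R = ⊥
  · -- `N` centralises `R`
    have h1 : ∀ r ∈ R, n * r = r * n := by
      intro r hr
      have h2 : n * r * n⁻¹ * r⁻¹ ∈ N ⊓ R := by
        constructor
        · have h3 : r * n⁻¹ * r⁻¹ ∈ N := hn r (h.RK hr) (h.RP r hr) _ (N.inv_mem hnN)
          have e : n * r * n⁻¹ * r⁻¹ = n * (r * n⁻¹ * r⁻¹) := by group
          rw [e]; exact N.mul_mem hnN h3
        · exact R.mul_mem (h.nR n (hNK hnN) (hNz n hnN) r hr) (R.inv_mem hr)
      rw [hbot, mem_bot, mul_inv_eq_one, mul_inv_eq_iff_eq_mul] at h2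
      exact h2
    rcases h.cR n (hNK hnN) (hNz n hnN) h1 with h2 | h2
    · exact absurd h2 hn1
    · rwa [← h2]
  · set L : Subgroup G := N ⊓ R with hL
    have hLp : IsPGroup 2 L := h.pR.to_le inf_le_right
    have hLnt : Nontrivial L := (nontrivial_iff_ne_bot L).2 hbot
    have hLn : ∀ g ∈ K, g * z = z * g → ∀ x ∈ L, g * x * g⁻¹ ∈ L := fun g hg hgz x hx =>
      ⟨hn g hg hgz x hx.1, h.nR g hg hgz x hx.2⟩
    have hc := hLp.center_nontrivial
    obtain ⟨⟨b, hb⟩, hb1⟩ := exists_ne (1 : center L)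
    set B : Subgroup G := L ⊓ centralizer (L : Set G) with hB
    have hbB : (b : G) ∈ B := ⟨b.2, mem_centralizer_iff.2 fun x hx =>
      congrArg Subtype.val (mem_center_iff.1 hb ⟨x, hx⟩)⟩
    have hBn : ∀ g ∈ K, g * z = z * g → ∀ x ∈ B, g * x * g⁻¹ ∈ B := by
      intro g hg hgz x hx
      refine ⟨hLn g hg hgz x hx.1, mem_centralizer_iff.2 ?_⟩
      intro y hy
      have hgi : g⁻¹ * z = z * g⁻¹ := (Commute.inv_left (show Commute g z from hgz)).eq
      have h3 := hLn g⁻¹ (K.inv_mem hg) hgi y hy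
      rw [inv_inv] at h3
      have h4 := mem_centralizer_iff.1 hx.2 _ h3
      calc y * (g * x * g⁻¹) = g * ((g⁻¹ * y * g) * x) * g⁻¹ := by group
        _ = g * (x * (g⁻¹ * y * g)) * g⁻¹ := by rw [h4]
        _ = g * x * g⁻¹ * y := by group
    rcases h.ab B (fun x hx => hx.1.2) (fun a ha b hb => mem_centralizer_iff.1 hb.2 a ha.1) hBn b hbB with
      h1 | h1
    · exfalso
      apply hb1
      exact Subtype.ext (Subtype.ext h1)
    · rw [← h1]; exact hbB.1.1

/-- normal subgroups of `⟨t⟩ × P` not containing `z` -/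
theorem eq_of_normal [Finite G] (h : Loc t z K R) {M : Subgroup G} (hMt : ∀ m ∈ M, m * t = t * m)
    (hMz : ∀ m ∈ M, m * z = z * m)
    (hn : ∀ g, g * t = t * g → g * z = z * g → ∀ m ∈ M, g * m * g⁻¹ ∈ M) (hz : z ∉ M) {m : G}
    (hm : m ∈ M) : m = 1 ∨ m = t ∨ m = t * z := by
  have hK : ∀ x ∈ M ⊓ K, x = 1 := by
    intro x hx
    by_contra hx1
    apply hz
    exact (z_mem h (N := M ⊓ K) inf_le_right (fun n hn => hMz n hn.1)
      (fun g hg hgz n hn' => ⟨hn g (h.Kt g hg) hgz n hn'.1, K.mul_mem (K.mul_mem hg hn'.2) (K.inv_mem hg)⟩)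
      hx hx1).1
  rcases h.cen m (hMt m hm) with h1 | h1
  · exact Or.inl (hK m ⟨hm, h1⟩)
  · right
    -- `m` commutes with `P`
    have h2 : ∀ g ∈ K, g * z = z * g → g * m = m * g := by
      intro g hg hgz
      have hgt := h.Kt g hg
      have h3 : g * m * g⁻¹ * m⁻¹ ∈ M ⊓ K := by
        refine ⟨M.mul_mem (hn g hgt hgz m hm) (M.inv_mem hm), ?_⟩
        have e : g * m * g⁻¹ * m⁻¹ = g * (t * m) * g⁻¹ * (t * m)⁻¹ := by
          have hc : Commute t g := hgt.symm
          calc g * m * g⁻¹ * m⁻¹ = g * m * (t * t⁻¹) * g⁻¹ * m⁻¹ := by group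
            _ = g * (m * t) * (t⁻¹ * g⁻¹) * m⁻¹ := by group
            _ = g * (t * m) * (g⁻¹ * t⁻¹) * m⁻¹ := by rw [hMt m hm, hc.inv_inv.eq]
            _ = g * (t * m) * g⁻¹ * (m * t)⁻¹ := by group
            _ = g * (t * m) * g⁻¹ * (t * m)⁻¹ := by rw [hMt m hm]
        rw [e]
        exact K.mul_mem (K.mul_mem (K.mul_mem hg h1) (K.inv_mem hg)) (K.inv_mem h1)
      have h4 := hK _ h3
      rw [mul_inv_eq_one, mul_inv_eq_iff_eq_mul] at h4
      exact h4
    have h5 : (t * m) * z = z * (t * m) := by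
      rw [mul_assoc, hMz m hm, ← mul_assoc, h.comm, mul_assoc]
    have h6 : ∀ r ∈ R, t * m * r = r * (t * m) := by
      intro r hr
      have h7 := h2 r (h.RK hr) (h.RP r hr)
      have h8 := h.Kt r (h.RK hr)
      rw [mul_assoc, ← h7, ← mul_assoc, ← h8, mul_assoc]
    rcases h.cR (t * m) h1 h5 h6 with h9 | h9
    · left
      rw [← h.tmul m, h9, mul_one]
    · right
      rw [← h.tmul m, h9]

/-- **(2)** `E(C_G(z)) = 1` -/
theorem layer_eq_bot [Finite G] (h : Loc t z K R)
    (hO : pPrimeCore 2 ↥(centralizer ({z} : Set G)) = ⊥)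
    (hNI : (⟨z, mem_centralizer_singleton_iff.2 rfl⟩ : ↥(centralizer ({z} : Set G))) ∉
      layer ↥(centralizer ({z} : Set G))) :
    layer ↥(centralizer ({z} : Set G)) = ⊥ := by
  set X := centralizer ({z} : Set G) with hX
  set E : Subgroup ↥X := layer ↥X with hE
  have hEn : E.Normal := by rw [hE]; exact Cfsg.Agent.SignalizersComponents.LayerBasic.layer_normal _
  set t' : ↥X := ⟨t, mem_centralizer_singleton_iff.2 h.comm⟩ with ht'
  set z' : ↥X := ⟨z, mem_centralizer_singleton_iff.2 rfl⟩ with hz'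
  have ht2 : t' * t' = 1 := Subtype.ext h.tt
  -- a Sylow subgroup through `t`
  obtain ⟨W, hW⟩ : ∃ W : Sylow 2 ↥X, zpowers t' ≤ (W : Subgroup ↥X) :=
    (TR.Frame.isPGroup_zpowers ht2).exists_le_sylow
  have htW : t' ∈ (W : Subgroup ↥X) := hW (mem_zpowers t')
  set U : Subgroup ↥X := (W : Subgroup ↥X) ⊓ E with hU
  have hUp : IsPGroup 2 U := W.isPGroup'.to_le inf_le_left
  -- the centraliser of `t` in `E`
  have hcent : ∀ e ∈ E, e * t' = t' * e → e = 1 ∨ e = t' ∨ e = t' * z' := by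
    intro e he het
    have := eq_of_normal h (M := (E ⊓ centralizer ({t'} : Set ↥X)).map X.subtype) ?_ ?_ ?_ ?_
      (m := (e : G)) ⟨e, ⟨he, mem_centralizer_singleton_iff.2 het⟩, rfl⟩
    · rcases this with h1 | h1 | h1
      · exact Or.inl (Subtype.ext h1)
      · exact Or.inr (Or.inl (Subtype.ext h1))
      · exact Or.inr (Or.inr (Subtype.ext h1))
    · rintro _ ⟨y, hy, rfl⟩
      exact congrArg Subtype.val (mem_centralizer_singleton_iff.1 hy.2)
    · rintro _ ⟨y, -, rfl⟩
      exact mem_centralizer_singleton_iff.1 y.2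
    · rintro g hgt hgz _ ⟨y, hy, rfl⟩
      set g' : ↥X := ⟨g, mem_centralizer_singleton_iff.2 hgz⟩ with hg'
      have h1 : Commute g' t' := Subtype.ext hgt
      have h2 : Commute y t' := mem_centralizer_singleton_iff.1 hy.2
      exact ⟨g' * y * g'⁻¹, ⟨hEn.conj_mem y hy.1 g', mem_centralizer_singleton_iff.2
        ((h1.mul_left h2).mul_left h1.inv_left)⟩, rfl⟩
    · rintro ⟨y, hy, hyz⟩
      have : y = z' := Subtype.ext hyz
      rw [this] at hy
      exact hNI hy.1
  by_contra hne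
  -- `U ≠ 1`
  have hUne : U ≠ ⊥ := by
    intro hU0
    apply hne
    have h1 : Nat.card ↥E = E.index * 0 + Nat.card ↥E := by omega
    have h2 : (Nat.card ↥E).Coprime 2 := by
      have h3 := (Cfsg.Agent.ClassificationK.GTwoFactorGen.sylowInf W E).card_eq_multiplicity
      have h4 : Nat.card ((Cfsg.Agent.ClassificationK.GTwoFactorGen.sylowInf W E : Sylow 2 ↥E) :
          Subgroup ↥E) = 1 := by
        rw [Cfsg.Agent.ClassificationK.GTwoFactorGen.coe_sylowInf, Subgroup.card_eq_one, subgroupOf_eq_bot]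
        rw [disjoint_iff]; exact hU0
      rw [h4] at h3
      rw [Nat.coprime_comm, Nat.Prime.coprime_iff_not_dvd Nat.prime_two]
      intro h5
      have h6 := Nat.prime_two.factorization_pos_of_dvd Nat.card_pos.ne' h5
      have h7 : 1 < 2 ^ (Nat.card ↥E).factorization 2 := Nat.one_lt_two_pow h6.ne'
      omega
    have h3 := Cfsg.Agent.Lib.Cores.le_pPrimeCore hEn h2
    rw [hO, le_bot_iff] at h3
    exact h3
  -- `U` has order 2
  obtain ⟨c, hcU, hcW, hc1⟩ : ∃ c ∈ U, (∀ w ∈ (W : Subgroup ↥X), w * c = c * w) ∧ c ≠ 1 := by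
    have hn : (U.subgroupOf (W : Subgroup ↥X)).Normal := by
      refine ⟨fun x hx w => ?_⟩
      rw [mem_subgroupOf] at hx ⊢
      exact ⟨(w * x * w⁻¹).2, hEn.conj_mem _ hx.2 _⟩
    have hnb : U.subgroupOf (W : Subgroup ↥X) ≠ ⊥ := by
      intro h1
      rw [subgroupOf_eq_bot, disjoint_iff, inf_eq_left.2 (inf_le_left : U ≤ (W : Subgroup ↥X))] at h1
      exact hUne h1
    obtain ⟨x, hx1, hx2, hx3⟩ := Cfsg.Agent.Transfer.PGroupNormal.exists_mem_inf_center_orderOf
      W.isPGroup' (U.subgroupOf (W : Subgroup ↥X)) hnb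
    refine ⟨(x : ↥X), hx1, ?_, ?_⟩
    · intro w hw
      exact congrArg Subtype.val (mem_center_iff.1 hx2 ⟨w, hw⟩)
    · intro h1
      have h2 : x = 1 := Subtype.ext h1
      rw [h2, orderOf_one] at hx3
      omega
  have hz'c : ∀ x : ↥X, x * z' = z' * x := fun x => Subtype.ext (mem_centralizer_singleton_iff.1 x.2)
  have hzz' : z' * z' = 1 := Subtype.ext h.zz
  have hU2 : ∀ u ∈ U, u = 1 ∨ u = c := by
    intro u hu
    have hct := hcent c hcU.2 (hcW t' htW).symm
    have huc := hcW u hu.1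
    have hut : u * t' = t' * u := by
      rcases hct with h1 | h1 | h1
      · exact absurd h1 hc1
      · rw [← h1]; exact huc
      · rw [h1] at huc
        have h2 : (u * t') * z' = (t' * u) * z' := by
          rw [mul_assoc, huc, mul_assoc, mul_assoc, ← hz'c u]
        exact mul_right_cancel h2
    have hzE : z' ∉ E := hNI
    rcases hcent u hu.2 hut with h1 | h1 | h1
    · exact Or.inl h1
    · right
      rcases hct with h2 | h2 | h2
      · exact absurd h2 hc1
      · rw [h1, h2]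
      · exfalso
        apply hzE
        have h3 := E.mul_mem hu.2 hcU.2
        rwa [h1, h2, ← mul_assoc, ht2, one_mul] at h3
    · right
      rcases hct with h2 | h2 | h2
      · exact absurd h2 hc1
      · exfalso
        apply hzE
        have h3 := E.mul_mem hcU.2 hu.2
        rwa [h1, h2, ← mul_assoc, ht2, one_mul] at h3
      · rw [h1, h2]
  -- a normal complement of the Sylow subgroup of `E`
  set PE := Cfsg.Agent.ClassificationK.GTwoFactorGen.sylowInf W E with hPE
  have hPEmem : ∀ x : ↥E, x ∈ (PE : Subgroup ↥E) → x = 1 ∨ (x : ↥X) = c := by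
    intro x hx
    rcases hU2 (x : ↥X) ⟨hx, x.2⟩ with h1 | h1
    · exact Or.inl (Subtype.ext h1)
    · exact Or.inr h1
  have hPEc : IsCyclic ↥(PE : Subgroup ↥E) := by
    refine ⟨⟨⟨c, hcU.2⟩, hcU.1⟩, ?_⟩
    rintro ⟨x, hx⟩
    rcases hPEmem x hx with h1 | h1
    · have : (⟨x, hx⟩ : ↥(PE : Subgroup ↥E)) = 1 := Subtype.ext h1
      rw [this]; exact (zpowers _).one_mem
    · have : (⟨x, hx⟩ : ↥(PE : Subgroup ↥E)) = ⟨⟨c, hcU.2⟩, hcU.1⟩ := Subtype.ext (Subtype.ext h1)
      rw [this]; exact mem_zpowers _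
  obtain ⟨N, hNodd, hNP, hN⟩ := Cfsg.Agent.CharactersDeep.QuatSylow.exists_two_complement PE hPEc
  have hNn : N.Normal := by
    refine ⟨fun x hx g => ?_⟩
    rw [hN] at hx ⊢
    have : orderOf (g * x * g⁻¹) = orderOf x :=
      orderOf_injective (MulAut.conj g).toMonoidHom (MulAut.conj g).injective x
    rw [this]; exact hx
  have hcyc : IsCyclic (↥E ⧸ N) := by
    have hsurj : Function.Surjective ((QuotientGroup.mk' N).comp (PE : Subgroup ↥E).subtype) := by
      rw [← MonoidHom.range_eq_top, MonoidHom.range_comp, range_subtype, eq_top_iff]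
      have h1 : (N ⊔ (PE : Subgroup ↥E)).map (QuotientGroup.mk' N) = ⊤ := by
        rw [hNP, ← MonoidHom.range_eq_map]
        exact MonoidHom.range_eq_top.2 (QuotientGroup.mk'_surjective N)
      rw [Subgroup.map_sup, (QuotientGroup.map_mk'_self N), bot_sup_eq] at h1
      rw [h1]
    exact isCyclic_of_surjective _ hsurj
  have hcomm : commutator ↥E ≤ N := by
    have h1 : IsMulCommutative (↥E ⧸ N) := IsCyclic.isMulCommutative
    rw [_root_.commutator_def, commutator_le]
    intro a _ b _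
    rw [← QuotientGroup.eq_one_iff]
    have h2 : ((a : ↥E ⧸ N)) * b = b * a := h1.is_comm.comm _ _
    show ((a * b * a⁻¹ * b⁻¹ : ↥E) : ↥E ⧸ N) = 1
    rw [QuotientGroup.mk_mul, QuotientGroup.mk_mul, QuotientGroup.mk_mul, QuotientGroup.mk_inv,
      QuotientGroup.mk_inv, h2]
    group
  have hperf : commutator ↥E = ⊤ := by
    have h1 := Cfsg.Agent.SignalizersComponents.LayerBasic.layer_perfect ↥X
    have h2 : (commutator ↥E).map E.subtype = ⁅E, E⁆ := by
      rw [_root_.commutator_def, map_commutator, ← MonoidHom.range_eq_map, range_subtype]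
    rw [eq_top_iff]
    intro x _
    have h3 : (x : ↥X) ∈ (commutator ↥E).map E.subtype := by
      rw [h2]
      have h4 : (x : ↥X) ∈ E := x.2
      have h5 : ⁅E, E⁆ = E := h1
      rw [h5]; exact h4
    obtain ⟨y, hy, hyx⟩ := h3
    have : y = x := Subtype.ext hyx
    rwa [← this]
  have hcN : (⟨c, hcU.2⟩ : ↥E) ∈ N := hcomm (by rw [hperf]; exact mem_top _)
  rw [hN] at hcN
  obtain ⟨k, hk⟩ := hUp ⟨c, hcU⟩
  have hk' : c ^ 2 ^ k = 1 := congrArg Subtype.val hk
  have hk2 : (⟨c, hcU.2⟩ : ↥E) ^ 2 ^ k = 1 := Subtype.ext hk'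
  have h6 := orderOf_dvd_of_pow_eq_one hk2
  obtain ⟨j, -, hj⟩ := (Nat.dvd_prime_pow Nat.prime_two).1 h6
  rcases Nat.eq_zero_or_pos j with h7 | h7
  · rw [h7, pow_zero, orderOf_eq_one_iff] at hj
    exact hc1 (congrArg Subtype.val hj)
  · rw [hj] at hcN
    have h8 : 2 ∣ 2 ^ j := dvd_pow_self 2 h7.ne'
    rw [Nat.odd_iff] at hcN
    omega

/-- `F` is a self-centralising normal 2-subgroup of `C_G(z)` -/
structure IsF (z : G) (F : Subgroup G) : Prop where
  pF : IsPGroup 2 F
  le : ∀ x ∈ F, x * z = z * x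
  nor : ∀ g, g * z = z * g → ∀ x ∈ F, g * x * g⁻¹ ∈ F
  self : ∀ g, g * z = z * g → (∀ x ∈ F, g * x = x * g) → g ∈ F

/-- the projection to `K` of a subgroup of `⟨t⟩ × K` -/
def proj (h : Loc t z K R) (B : Subgroup G) : Subgroup G where
  carrier := {x | x ∈ K ∧ (x ∈ B ∨ t * x ∈ B)}
  one_mem' := ⟨K.one_mem, Or.inl B.one_mem⟩
  mul_mem' := by
    rintro x y ⟨hxK, hx⟩ ⟨hyK, hy⟩
    refine ⟨K.mul_mem hxK hyK, ?_⟩
    have hxt := h.Kt x hxK
    rcases hx with hx | hx <;> rcases hy with hy | hy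
    · exact Or.inl (B.mul_mem hx hy)
    · right
      have e : t * (x * y) = x * (t * y) := by rw [← mul_assoc, ← hxt, mul_assoc]
      rw [e]; exact B.mul_mem hx hy
    · right
      rw [← mul_assoc]; exact B.mul_mem hx hy
    · left
      have e : x * y = (t * x) * (t * y) := by
        calc x * y = x * (t * t) * y := by rw [h.tt, mul_one]
          _ = (x * t) * (t * y) := by group
          _ = (t * x) * (t * y) := by rw [hxt]
      rw [e]; exact B.mul_mem hx hy
  inv_mem' := by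
    rintro x ⟨hxK, hx⟩
    refine ⟨K.inv_mem hxK, ?_⟩
    rcases hx with hx | hx
    · exact Or.inl (B.inv_mem hx)
    · right
      have e : t * x⁻¹ = (t * x)⁻¹ := by
        have h1 : Commute x t := h.Kt x hxK
        rw [mul_inv_rev, h.t_inv, h1.inv_left.eq]
      rw [e]; exact B.inv_mem hx

theorem mem_proj (h : Loc t z K R) {B : Subgroup G} {x : G} :
    x ∈ proj h B ↔ x ∈ K ∧ (x ∈ B ∨ t * x ∈ B) := Iff.rfl

theorem proj_le (h : Loc t z K R) (B : Subgroup G) : proj h B ≤ K := fun _ hx => hx.1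

/-- every element of `B ≤ C(t)` has its projection in `proj B` -/
theorem mem_proj_or (h : Loc t z K R) {B : Subgroup G} {b : G} (hb : b ∈ B) (hbt : b * t = t * b) :
    b ∈ proj h B ∨ t * b ∈ proj h B := by
  rcases h.cen b hbt with h1 | h1
  · exact Or.inl ⟨h1, Or.inl hb⟩
  · exact Or.inr ⟨h1, Or.inr (by rw [h.tmul]; exact hb)⟩

theorem isPGroup_proj (h : Loc t z K R) {B : Subgroup G} (hB : IsPGroup 2 B) : IsPGroup 2 (proj h B) := by
  rintro ⟨x, hxK, hx⟩
  have hc : Commute t x := (h.Kt x hxK).symm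
  have hx2 : x * x ∈ B := by
    rcases hx with hx | hx
    · exact B.mul_mem hx hx
    · have e : x * x = (t * x) * (t * x) := by
        calc x * x = x * (t * t) * x := by rw [h.tt, mul_one]
          _ = (x * t) * (t * x) := by group
          _ = (t * x) * (t * x) := by rw [hc.eq]
      rw [e]; exact B.mul_mem hx hx
  obtain ⟨n, hn⟩ := hB ⟨x * x, hx2⟩
  refine ⟨n + 1, Subtype.ext ?_⟩
  have h1 : (x * x) ^ 2 ^ n = 1 := congrArg Subtype.val hn
  show x ^ 2 ^ (n + 1) = 1
  rw [pow_succ', pow_mul, pow_two]; exact h1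

theorem proj_comm (h : Loc t z K R) {B : Subgroup G} {c : G} (hct : c * t = t * c)
    (hBc : ∀ b ∈ B, b * c = c * b) : ∀ b ∈ proj h B, b * c = c * b := by
  rintro x ⟨hxK, hx⟩
  rcases hx with hx | hx
  · exact hBc x hx
  · have h1 : Commute (t * x) c := hBc _ hx
    have h2 : Commute t c := (show Commute c t from hct).symm
    have h3 : Commute (t * (t * x)) c := h2.mul_left h1
    rw [h.tmul] at h3
    exact h3

theorem proj_conj (h : Loc t z K R) {B : Subgroup G} {g : G} (hg : g ∈ K)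
    (hn : ∀ b ∈ B, g * b * g⁻¹ ∈ B) : ∀ b ∈ proj h B, g * b * g⁻¹ ∈ proj h B := by
  rintro x ⟨hxK, hx⟩
  refine ⟨K.mul_mem (K.mul_mem hg hxK) (K.inv_mem hg), ?_⟩
  rcases hx with hx | hx
  · exact Or.inl (hn x hx)
  · right
    have e : t * (g * x * g⁻¹) = g * (t * x) * g⁻¹ := by
      calc t * (g * x * g⁻¹) = (t * g) * x * g⁻¹ := by group
        _ = (g * t) * x * g⁻¹ := by rw [h.Kt g hg]
        _ = g * (t * x) * g⁻¹ := by group
    rw [e]; exact hn _ hx

/-- the elements of `F` commuting with `t`, projected to `K`, lie in `R` -/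
theorem proj_mem (h : Loc t z K R) {B : Subgroup G} (hB : IsPGroup 2 B)
    (hBz : ∀ b ∈ B, b * z = z * b)
    (hn : ∀ g ∈ K, g * z = z * g → ∀ b ∈ B, g * b * g⁻¹ ∈ B) {k : G} (hk : k ∈ K)
    (hkB : k ∈ B ∨ t * k ∈ B) : k ∈ R :=
  h.max (proj h B) (proj_le h B) (isPGroup_proj h hB) (proj_comm h h.comm.symm hBz)
    (fun g hg hgz => proj_conj h hg (hn g hg hgz)) ⟨hk, hkB⟩

/-- abelian 2-subgroups of `⟨t⟩ × P` normalised by `P` -/
theorem abel_mem (h : Loc t z K R) {B : Subgroup G} (hB : IsPGroup 2 B) (hBt : ∀ b ∈ B, b * t = t * b)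
    (hBz : ∀ b ∈ B, b * z = z * b) (hBab : ∀ a ∈ B, ∀ b ∈ B, a * b = b * a)
    (hn : ∀ g ∈ K, g * z = z * g → ∀ b ∈ B, g * b * g⁻¹ ∈ B) {b : G} (hb : b ∈ B) :
    (b = 1 ∨ b = z) ∨ (b = t ∨ b = t * z) := by
  have hpR : proj h B ≤ R := fun x hx => proj_mem h hB hBz hn hx.1 hx.2
  have hpab : ∀ a ∈ proj h B, ∀ b ∈ proj h B, a * b = b * a := by
    intro a ha b hb
    apply proj_comm h (h.Kt b (proj_le h B hb)) (B := B) _ a ha
    intro c hc
    exact (proj_comm h (hBt c hc) (B := B) (fun d hd => hBab d hd c hc) b hb).symm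
  have key := h.ab (proj h B) hpR hpab (fun g hg hgz => proj_conj h hg (hn g hg hgz))
  rcases mem_proj_or h hb (hBt b hb) with h1 | h1
  · exact Or.inl (key b h1)
  · right
    rcases key _ h1 with h2 | h2
    · left; rw [← h.tmul b, h2, mul_one]
    · right; rw [← h.tmul b, h2]

/-- **(3)** -/
theorem t_mem [Finite G] (h : Loc t z K R) {F : Subgroup G} (hF : IsF z F)
    (htc : (⟨t, mem_centralizer_singleton_iff.2 h.comm⟩ : centralizer ({z} : Set G)) ∈
      _root_.commutator (centralizer ({z} : Set G))) : t ∈ F := by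
  by_contra htF
  have hzF : z ∈ F := hF.self z rfl fun x hx => (hF.le x hx).symm
  obtain ⟨lam, hlam⟩ := D8.Lam.exists_lam (t := t) (z := z)
    (N := centralizer ({t} : Set G) ⊓ centralizer ({z} : Set G)) (F := F)
    { hN := fun n hn => ⟨mem_centralizer_singleton_iff.1 hn.2,
        Or.inl (by rw [mem_centralizer_singleton_iff.1 hn.1]; group)⟩
      tt := h.tt
      zz := h.zz
      z1 := h.z1
      comm := h.comm
      pF := hF.pF
      le := hF.le
      nor := hF.nor
      self := hF.self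
      tF := htF
      ab := by
        intro B hB hBt hBab hBn' b hb
        have hBn : ∀ n, n * t = t * n → n * z = z * n → ∀ b ∈ B, n * b * n⁻¹ ∈ B := fun n h1 h2 =>
          hBn' n ⟨mem_centralizer_singleton_iff.2 h1, mem_centralizer_singleton_iff.2 h2⟩
        rcases abel_mem h (hF.pF.to_le hB) hBt (fun b hb => hF.le b (hB hb)) hBab
          (fun g hg hgz b hb => hBn g (h.Kt g hg) hgz b hb) hb with h1 | h1 | h1
        · exact h1
        · exfalso
          apply htF
          rw [← h1]; exact hB hb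
        · exfalso
          apply htF
          have h5 := F.mul_mem (hB hb) hzF
          rwa [h1, mul_assoc, h.zz, mul_one] at h5 }
  have h1 : lam ⟨t, mem_centralizer_singleton_iff.2 h.comm⟩ = 1 := by
    have h2 : _root_.commutator (centralizer ({z} : Set G)) ≤ lam.ker := by
      rw [_root_.commutator_def, commutator_le]
      intro a _ b _
      rw [MonoidHom.mem_ker, commutatorElement_def, map_mul, map_mul, map_mul, map_inv, map_inv,
        mul_comm (lam a) (lam b), mul_assoc (lam b), mul_inv_cancel, mul_one, mul_inv_cancel]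
    exact h2 htc
  rw [h1] at hlam
  exact absurd hlam (by decide)

/-- **(2) + (3)** -/
theorem exists_core [Finite G] (h : Loc t z K R) (hG : _root_.commutator G = ⊤)
    (hO : pPrimeCore 2 ↥(centralizer ({z} : Set G)) = ⊥)
    (hNI : (⟨z, mem_centralizer_singleton_iff.2 rfl⟩ : ↥(centralizer ({z} : Set G))) ∉
      layer ↥(centralizer ({z} : Set G))) :
    ∃ F : Subgroup G, IsF z F ∧ t ∈ F := by
  set X := centralizer ({z} : Set G) with hX
  have h1 := (Cfsg.Agent.SignalizersComponents.PConstrained.centralizer_pCore_le_iff_layer_eq_bot 2 hO).2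
    (layer_eq_bot h hO hNI)
  set Q : Subgroup ↥X := pCore 2 ↥X with hQ
  have hQn : Q.Normal := Cfsg.Agent.Lib.Cores.pCore_normal 2
  have hQp : IsPGroup 2 Q := Cfsg.Agent.Lib.Cores.pCore_isPGroup 2
  have hF : IsF z (Q.map X.subtype) :=
    { pF := hQp.map _
      le := by
        rintro _ ⟨y, -, rfl⟩
        exact mem_centralizer_singleton_iff.1 y.2
      nor := by
        rintro g hg _ ⟨y, hy, rfl⟩
        exact ⟨⟨g, mem_centralizer_singleton_iff.2 hg⟩ * y * ⟨g, mem_centralizer_singleton_iff.2 hg⟩⁻¹,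
          hQn.conj_mem y hy _, rfl⟩
      self := by
        intro g hg hc
        refine ⟨⟨g, mem_centralizer_singleton_iff.2 hg⟩, h1 (mem_centralizer_iff.2 ?_), rfl⟩
        intro y hy
        exact Subtype.ext (hc y ⟨y, hy, rfl⟩).symm }
  exact ⟨_, hF, t_mem h hF (h.start hG).2.2⟩

end Cfsg.Agent.OddHalf.D6.QThree.Core
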