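import Cfsg.Agent.OddHalf.D6.QThree.DiagSign

/-!
# ODD half, D6, `q = 3`: no noncyclic normal elementary abelian subgroup of `C_G(z)` (helper948; texts: helper801 #12978
(3)(4), helper577 #13013 (2)(3), helper948 #13194)

`Pos t z D R`: `D = O²(C(t) ∩ C(z))`, `R = O₂(D)`. `DiagAt t z b D M L`: `M ≠ M^t` components of `C(b)`,
`D ≤ L = {m m^t}`.

`DiagAt.exists_lam`: the diagonal case contradicts `t ∈ C(z)'`.
`Pos.le_of_normal`: every abelian normal 2-subgroup of exponent two of `C(z)` is contained in `⟨z⟩`.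
-/

set_option autoImplicit false

namespace Cfsg.Agent.OddHalf.D6.QThree.Diag

open Subgroup Cfsg
open Cfsg.Agent.Cit (cj mem_cj conj_mem_cj cj_mul cj_one)
open Cfsg.Agent.OddHalf.D6.QThree.DiagSign

variable {G : Type*} [Group G]

/-! ### subnormality -/

theorem sn_chain {A B C : Subgroup G} (hAB : A ≤ B) (h1 : (A.subgroupOf B).IsSubnormal)
    (h2 : (B.subgroupOf C).IsSubnormal) : (A.subgroupOf C).IsSubnormal := by
  refine IsSubnormal.trans (K := B.subgroupOf C) (fun x hx => hAB hx) ?_ h2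
  let f : ↥(B.subgroupOf C) →* ↥B :=
    { toFun := fun x => ⟨x.1.1, x.2⟩
      map_one' := rfl
      map_mul' := fun _ _ => rfl }
  exact h1.comap f

theorem sn_mono {A B C : Subgroup G} (hBC : B ≤ C) (h : (A.subgroupOf C).IsSubnormal) :
    (A.subgroupOf B).IsSubnormal :=
  h.comap (inclusion hBC)

theorem sn_of_conj {A B : Subgroup G} (h : ∀ b ∈ B, ∀ a ∈ A, b * a * b⁻¹ ∈ A) :
    (A.subgroupOf B).IsSubnormal := by
  have : (A.subgroupOf B).Normal := ⟨fun n hn g => h g g.2 n hn⟩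
  exact this.isSubnormal

/-! ### the position -/

/-- `X = C(t) ∩ C(z)`, `D = O²(X)`, `R = O₂(D)` -/
structure Pos (t z : G) (D R : Subgroup G) : Prop where
  tt : t * t = 1
  zz : z * z = 1
  z1 : z ≠ 1
  comm : t * z = z * t
  Dt : ∀ d ∈ D, d * t = t * d
  Dz : ∀ d ∈ D, d * z = z * d
  gen : D ≤ closure {x | x ∈ D ∧ Odd (orderOf x)}
  zR : z ∈ R
  RD : R ≤ D
  pR : IsPGroup 2 R
  nR : ∀ d ∈ D, ∀ r ∈ R, d * r * d⁻¹ ∈ R
  /-- `C_D(R) = ⟨z⟩` -/
  cR : ∀ d ∈ D, (∀ r ∈ R, d * r = r * d) → d = 1 ∨ d = z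
  /-- `C_X(R)` is smaller than `R` -/
  card : Nat.card {x : G // x * t = t * x ∧ ∀ r ∈ R, x * r = r * x} < Nat.card R

/-- the diagonal case at `b`: `M ≠ M^t` are components of `C(b)`, `L = {m m^t} ≥ D`, `D` subnormal in `L ∩ C(z)` -/
structure DiagAt (t z b : G) (D M L : Subgroup G) : Prop where
  Mb : ∀ m ∈ M, m * b = b * m
  com : ∀ m ∈ M, ∀ n ∈ M, m * (t * n * t⁻¹) = (t * n * t⁻¹) * m
  dis : ∀ m ∈ M, t * m * t⁻¹ ∈ M → m = 1
  perm : ∀ g, g * z = z * g → g * b = b * g → cj g M = M ∨ cj g M = cj t M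
  ML : ∀ m ∈ M, m * (t * m * t⁻¹) ∈ L
  LM : ∀ l ∈ L, ∃ m ∈ M, m * (t * m * t⁻¹) = l
  DL : D ≤ L
  sn : (D.subgroupOf (L ⊓ centralizer ({z} : Set G))).IsSubnormal

namespace DiagAt

variable {t z b : G} {D R M L : Subgroup G}

theorem dmul (A : DiagAt t z b D M L) {m n : G} (hm : m ∈ M) (hn : n ∈ M) :
    (m * n) * (t * (m * n) * t⁻¹) = (m * (t * m * t⁻¹)) * (n * (t * n * t⁻¹)) := by
  have h := A.com n hn m hm
  calc (m * n) * (t * (m * n) * t⁻¹) = m * (n * (t * m * t⁻¹)) * (t * n * t⁻¹) := by group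
    _ = m * ((t * m * t⁻¹) * n) * (t * n * t⁻¹) := by rw [h]
    _ = (m * (t * m * t⁻¹)) * (n * (t * n * t⁻¹)) := by group

theorem dinv (A : DiagAt t z b D M L) {m : G} (hm : m ∈ M) :
    m⁻¹ * (t * m⁻¹ * t⁻¹) = (m * (t * m * t⁻¹))⁻¹ := by
  have h := A.com m hm m hm
  calc m⁻¹ * (t * m⁻¹ * t⁻¹) = ((t * m * t⁻¹) * m)⁻¹ := by group
    _ = (m * (t * m * t⁻¹))⁻¹ := by rw [h]

theorem dinj (A : DiagAt t z b D M L) {m n : G} (hm : m ∈ M) (hn : n ∈ M)
    (h : m * (t * m * t⁻¹) = n * (t * n * t⁻¹)) : m = n := by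
  have h1 : t * (n * m⁻¹) * t⁻¹ = n⁻¹ * m := by
    calc t * (n * m⁻¹) * t⁻¹ = n⁻¹ * (n * (t * n * t⁻¹)) * (t * m * t⁻¹)⁻¹ := by group
      _ = n⁻¹ * (m * (t * m * t⁻¹)) * (t * m * t⁻¹)⁻¹ := by rw [h]
      _ = n⁻¹ * m := by group
  have h2 := A.dis (n * m⁻¹) (M.mul_mem hn (M.inv_mem hm)) (by
    rw [h1]; exact M.mul_mem (M.inv_mem hn) hm)
  exact (mul_inv_eq_one.1 h2).symm

/-- `M ∩ M^t = 1` -/
theorem eq_one (A : DiagAt t z b D M L) {x : G} (h1 : x ∈ M) (h2 : x ∈ cj t M) : x = 1 := by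
  have h3 := A.dis _ (mem_cj.1 h2) (by
    have e : t * (t⁻¹ * x * t) * t⁻¹ = x := by group
    rw [e]; exact h1)
  calc x = t * (t⁻¹ * x * t) * t⁻¹ := by group
    _ = 1 := by rw [h3]; group

/-- the subgroup of `M` over `B` -/
def pre (A : DiagAt t z b D M L) (B : Subgroup G) : Subgroup G where
  carrier := {m | m ∈ M ∧ m * (t * m * t⁻¹) ∈ B}
  one_mem' := ⟨M.one_mem, by
    have e : (1 : G) * (t * 1 * t⁻¹) = 1 := by group
    rw [e]; exact B.one_mem⟩
  mul_mem' := by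
    rintro x y ⟨hx, hx'⟩ ⟨hy, hy'⟩
    exact ⟨M.mul_mem hx hy, by rw [A.dmul hx hy]; exact B.mul_mem hx' hy'⟩
  inv_mem' := by
    rintro x ⟨hx, hx'⟩
    exact ⟨M.inv_mem hx, by rw [A.dinv hx]; exact B.inv_mem hx'⟩

theorem mem_pre (A : DiagAt t z b D M L) {B : Subgroup G} {x : G} :
    x ∈ A.pre B ↔ x ∈ M ∧ x * (t * x * t⁻¹) ∈ B := Iff.rfl

/-- `m ↦ m m^t` -/
def dh (A : DiagAt t z b D M L) : M →* G where
  toFun m := m * (t * m * t⁻¹)
  map_one' := by
    show (1 : G) * (t * 1 * t⁻¹) = 1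
    group
  map_mul' m n := A.dmul m.2 n.2

theorem dh_inj (A : DiagAt t z b D M L) : Function.Injective A.dh :=
  fun m n h => Subtype.ext (A.dinj m.2 n.2 h)

theorem orderOf_d (A : DiagAt t z b D M L) {m : G} (hm : m ∈ M) : orderOf (m * (t * m * t⁻¹)) = orderOf m := by
  have h1 : orderOf (A.dh ⟨m, hm⟩) = orderOf (⟨m, hm⟩ : M) := orderOf_injective A.dh A.dh_inj _
  have h2 : orderOf (⟨m, hm⟩ : M) = orderOf m := (Subgroup.orderOf_coe (⟨m, hm⟩ : M)).symm
  exact h1.trans h2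

/-- the element over `z` -/
theorem exists_z (P : Pos t z D R) (A : DiagAt t z b D M L) : ∃ z₁ ∈ M, z₁ * (t * z₁ * t⁻¹) = z :=
  A.LM z (A.DL (P.RD P.zR))

/-- `D₁ ≤ C(z)` -/
theorem pre_z (P : Pos t z D R) (A : DiagAt t z b D M L) {x : G} (hx : x ∈ A.pre D) : x * z = z * x := by
  obtain ⟨z₁, hz₁, e⟩ := A.exists_z P
  have h1 := P.Dz _ hx.2
  have h2 : x * z₁ = z₁ * x := by
    apply A.dinj (M.mul_mem hx.1 hz₁) (M.mul_mem hz₁ hx.1)
    rw [A.dmul hx.1 hz₁, A.dmul hz₁ hx.1, e]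
    exact h1
  have c1 : Commute x z₁ := h2
  have c2 : Commute x (t * z₁ * t⁻¹) := A.com x hx.1 z₁ hz₁
  rw [← e]
  exact (c1.mul_right c2).eq

/-- `D₁` is generated by its elements of odd order -/
theorem pre_gen (P : Pos t z D R) (A : DiagAt t z b D M L) :
    A.pre D ≤ closure {x | x ∈ A.pre D ∧ Odd (orderOf x)} := by
  intro m hm
  set C : Subgroup G := closure {x | x ∈ A.pre D ∧ Odd (orderOf x)} with hC
  have hCM : C ≤ M := (closure_le _).2 (fun x hx => hx.1.1)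
  have h1 : D ≤ (C.subgroupOf M).map A.dh := by
    refine P.gen.trans ((closure_le _).2 ?_)
    rintro x ⟨hx, ho⟩
    obtain ⟨n, hn, e⟩ := A.LM x (A.DL hx)
    have hnC : n ∈ C := by
      apply Subgroup.subset_closure
      refine ⟨⟨hn, by rw [e]; exact hx⟩, ?_⟩
      rw [← A.orderOf_d hn, e]; exact ho
    exact ⟨⟨n, hn⟩, hnC, e⟩
  obtain ⟨c, hc, e⟩ := h1 hm.2
  have h2 : (c : G) = m := A.dinj c.2 hm.1 e
  have h3 : (c : G) ∈ C := hc
  rwa [h2] at h3

/-- `D₁` is subnormal in `C(b) ∩ C(z)` -/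
theorem pre_sn (P : Pos t z D R) (A : DiagAt t z b D M L) (tb : t * b = b * t) :
    ((A.pre D).subgroupOf (centralizer ({b} : Set G) ⊓ centralizer ({z} : Set G))).IsSubnormal := by
  set Z : Subgroup G := centralizer ({z} : Set G) with hZ
  set Y : Subgroup G := centralizer ({b} : Set G) ⊓ Z with hY
  have hYz : ∀ g ∈ Y, g * z = z * g := fun g hg => mem_centralizer_singleton_iff.1 hg.2
  have hYb : ∀ g ∈ Y, g * b = b * g := fun g hg => mem_centralizer_singleton_iff.1 hg.1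
  have htY : t ∈ Y := ⟨mem_centralizer_singleton_iff.2 tb, mem_centralizer_singleton_iff.2 P.comm⟩
  have hne : cj t M ≠ M := by
    intro h
    obtain ⟨z₁, hz₁, e⟩ := A.exists_z P
    have h1 : z₁ = 1 := A.eq_one hz₁ (by rw [h]; exact hz₁)
    rw [h1] at e
    apply P.z1
    rw [← e]; group
  -- `D₁` subnormal in `M ∩ C(z)`
  have h1 : ((A.pre D).subgroupOf (M ⊓ Z)).IsSubnormal := by
    let f : ↥(M ⊓ Z) →* ↥(L ⊓ Z) :=
      { toFun := fun m => ⟨m * (t * m * t⁻¹), A.ML m m.2.1, by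
          have hc : Commute (m : G) z := mem_centralizer_singleton_iff.1 m.2.2
          have ht : Commute t z := P.comm
          exact mem_centralizer_singleton_iff.2
            (hc.mul_left ((ht.mul_left hc).mul_left ht.inv_left)).eq⟩
        map_one' := Subtype.ext (by
          show (1 : G) * (t * 1 * t⁻¹) = 1
          group)
        map_mul' := fun m n => Subtype.ext (A.dmul m.2.1 n.2.1) }
    have h2 := A.sn.comap f
    have e : (D.subgroupOf (L ⊓ Z)).comap f = (A.pre D).subgroupOf (M ⊓ Z) := by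
      ext x
      rw [mem_comap, mem_subgroupOf, mem_subgroupOf, A.mem_pre]
      exact ⟨fun h => ⟨x.2.1, h⟩, fun h => h.2⟩
    rwa [e] at h2
  -- `N = N_Y(M)`
  set N : Subgroup G := Y ⊓ normalizer (M : Set G) with hN
  have hNM : ∀ g ∈ Y, g ∈ N ↔ cj g M = M := by
    intro g hg
    constructor
    · intro h; exact Cfsg.Agent.Cit.mem_normalizer_iff_cj.1 h.2
    · intro h; exact ⟨hg, Cfsg.Agent.Cit.mem_normalizer_iff_cj.2 h⟩
  have hNt : ∀ g ∈ N, cj g (cj t M) = cj t M := by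
    intro g hg
    have h2 := (hNM g hg.1).1 hg
    have hgt : g * t ∈ Y := Y.mul_mem hg.1 htY
    rcases A.perm (g * t) (hYz _ hgt) (hYb _ hgt) with h3 | h3
    · exfalso
      rw [cj_mul] at h3
      have h4 : cj g (cj t M) = cj g M := h3.trans h2.symm
      exact hne (Cfsg.Agent.Cit.cj_inj.1 h4)
    · rwa [cj_mul] at h3
  have h2 : ((M ⊓ Z).subgroupOf N).IsSubnormal := by
    apply sn_of_conj
    rintro g hg m ⟨hm, hmz⟩
    refine ⟨?_, ?_⟩
    · have h3 := (hNM g hg.1).1 hg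
      have h4 : g * m * g⁻¹ ∈ cj g M := conj_mem_cj hm
      rwa [h3] at h4
    · have hc : Commute m z := mem_centralizer_singleton_iff.1 hmz
      have hg' : Commute g z := hYz g hg.1
      exact mem_centralizer_singleton_iff.2 ((hg'.mul_left hc).mul_left hg'.inv_left).eq
  have h3 : (N.subgroupOf Y).IsSubnormal := by
    apply sn_of_conj
    intro g hg n hn
    have hgn : g * n * g⁻¹ ∈ Y := Y.mul_mem (Y.mul_mem hg hn.1) (Y.inv_mem hg)
    rw [hNM _ hgn, cj_mul, cj_mul]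
    have hn' := (hNM n hn.1).1 hn
    rcases A.perm g⁻¹ (hYz _ (Y.inv_mem hg)) (hYb _ (Y.inv_mem hg)) with h4 | h4
    · rw [h4, hn']
      calc cj g M = cj g (cj g⁻¹ M) := by rw [h4]
        _ = M := Cfsg.Agent.Cit.cj_cj_inv g M
    · rw [h4, hNt n hn, ← h4]
      exact Cfsg.Agent.Cit.cj_cj_inv g M
  have hMN : M ⊓ Z ≤ N := by
    rintro m ⟨hm, hmz⟩
    refine ⟨⟨mem_centralizer_singleton_iff.2 (A.Mb m hm), hmz⟩, ?_⟩
    exact le_normalizer hm
  have hDM : A.pre D ≤ M ⊓ Z := fun x hx => ⟨hx.1, mem_centralizer_singleton_iff.2 (A.pre_z P hx)⟩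
  exact sn_chain hDM h1 (sn_chain hMN h2 h3)

/-- a normal subgroup `W` of `C(z)` centralised by `D`, with `b ∈ W`, is centralised by `D₁` -/
theorem pre_comm [Finite G] (P : Pos t z D R) (A : DiagAt t z b D M L) (tb : t * b = b * t) {W : Subgroup G}
    (hWz : ∀ w ∈ W, w * z = z * w) (hWb : ∀ w ∈ W, w * b = b * w) (hWp : IsPGroup 2 W)
    (hWn : ∀ g, g * z = z * g → ∀ w ∈ W, g * w * g⁻¹ ∈ W) (hWD : ∀ w ∈ W, ∀ d ∈ D, w * d = d * w) :
    ∀ w ∈ W, ∀ d ∈ A.pre D, w * d = d * w := by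
  intro w hw
  obtain ⟨z₁, hz₁, ez⟩ := A.exists_z P
  have hz1 : z₁ ≠ 1 := by
    intro h
    rw [h] at ez
    apply P.z1
    rw [← ez]; group
  have hne : cj t M ≠ M := fun h => hz1 (A.eq_one hz₁ (by rw [h]; exact hz₁))
  have htz : (w * t) * z = z * (w * t) :=
    ((show Commute w z from hWz w hw).mul_left (show Commute t z from P.comm)).eq
  have htb : (w * t) * b = b * (w * t) :=
    ((show Commute w b from hWb w hw).mul_left (show Commute t b from tb)).eq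
  have hwt := A.perm (w * t) htz htb
  rw [cj_mul] at hwt
  -- the equation
  have heq : ∀ d ∈ A.pre D, (w * d * w⁻¹) * (w * (t * d * t⁻¹) * w⁻¹) = d * (t * d * t⁻¹) := by
    intro d hd
    have h := hWD w hw _ hd.2
    calc (w * d * w⁻¹) * (w * (t * d * t⁻¹) * w⁻¹) = w * (d * (t * d * t⁻¹)) * w⁻¹ := by group
      _ = d * (t * d * t⁻¹) := by rw [h]; group
  rcases A.perm w (hWz w hw) (hWb w hw) with h1 | h1
  · -- `w` normalises `M`
    have h2 : cj w (cj t M) = cj t M := by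
      rcases hwt with h2 | h2
      · exact absurd (Cfsg.Agent.Cit.cj_inj.1 (h2.trans h1.symm)) hne
      · exact h2
    intro d hd
    have a1 : w * d * w⁻¹ ∈ M := by
      have := conj_mem_cj (g := w) hd.1
      rwa [h1] at this
    have a2 : w * (t * d * t⁻¹) * w⁻¹ ∈ cj t M := by
      have := conj_mem_cj (g := w) (conj_mem_cj (g := t) hd.1)
      rwa [h2] at this
    have h3 : d⁻¹ * (w * d * w⁻¹) = (t * d * t⁻¹) * (w * (t * d * t⁻¹) * w⁻¹)⁻¹ := by
      calc d⁻¹ * (w * d * w⁻¹) = d⁻¹ * ((w * d * w⁻¹) * (w * (t * d * t⁻¹) * w⁻¹)) *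
            (w * (t * d * t⁻¹) * w⁻¹)⁻¹ := by group
        _ = d⁻¹ * (d * (t * d * t⁻¹)) * (w * (t * d * t⁻¹) * w⁻¹)⁻¹ := by rw [heq d hd]
        _ = _ := by group
    have h4 : d⁻¹ * (w * d * w⁻¹) = 1 := by
      apply A.eq_one (M.mul_mem (M.inv_mem hd.1) a1)
      rw [h3]
      exact (cj t M).mul_mem (conj_mem_cj hd.1) ((cj t M).inv_mem a2)
    have h5 : d = w * d * w⁻¹ := inv_mul_eq_one.1 h4
    calc w * d = w * d * w⁻¹ * w := by group
      _ = d * w := by rw [← h5]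
  · -- `w` swaps
    exfalso
    have h2 : cj w (cj t M) = M := by
      rcases hwt with h2 | h2
      · exact h2
      · exact absurd (Cfsg.Agent.Cit.cj_inj.1 (h2.trans h1.symm)) hne
    have key : ∀ d ∈ A.pre D, Odd (orderOf d) → d = 1 := by
      intro d hd ho
      have a1 : w * d * w⁻¹ ∈ cj t M := by
        have := conj_mem_cj (g := w) hd.1
        rwa [h1] at this
      have a2 : w * (t * d * t⁻¹) * w⁻¹ ∈ M := by
        have := conj_mem_cj (g := w) (conj_mem_cj (g := t) hd.1)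
        rwa [h2] at this
      -- the two factors commute
      have a3 : (w * (t * d * t⁻¹) * w⁻¹) * (w * d * w⁻¹) = (w * d * w⁻¹) * (w * (t * d * t⁻¹) * w⁻¹) := by
        have h := A.com _ a2 _ (mem_cj.1 a1)
        have e : t * (t⁻¹ * (w * d * w⁻¹) * t) * t⁻¹ = w * d * w⁻¹ := by group
        rwa [e] at h
      have h3 : d⁻¹ * (w * (t * d * t⁻¹) * w⁻¹) = (t * d * t⁻¹) * (w * d * w⁻¹)⁻¹ := by
        calc d⁻¹ * (w * (t * d * t⁻¹) * w⁻¹) = d⁻¹ * ((w * (t * d * t⁻¹) * w⁻¹) * (w * d * w⁻¹)) *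
              (w * d * w⁻¹)⁻¹ := by group
          _ = d⁻¹ * (d * (t * d * t⁻¹)) * (w * d * w⁻¹)⁻¹ := by rw [a3, heq d hd]
          _ = _ := by group
      have h4 : d⁻¹ * (w * (t * d * t⁻¹) * w⁻¹) = 1 := by
        apply A.eq_one (M.mul_mem (M.inv_mem hd.1) a2)
        rw [h3]
        exact (cj t M).mul_mem (conj_mem_cj hd.1) ((cj t M).inv_mem a1)
      have h5 : w * d * w⁻¹ = t * d * t⁻¹ := by
        rw [h4] at h3
        exact (mul_inv_eq_one.1 h3.symm).symm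
      have hdz : Commute d z := A.pre_z P hd
      have h6 : d⁻¹ * (t * d * t⁻¹) ∈ W := by
        rw [← h5]
        have h7 := W.mul_mem (hWn d⁻¹ hdz.inv_left.eq w hw) (W.inv_mem hw)
        have e : d⁻¹ * w * d⁻¹⁻¹ * w⁻¹ = d⁻¹ * (w * d * w⁻¹) := by group
        rwa [e] at h7
      obtain ⟨n, hn⟩ := hWp ⟨_, h6⟩
      have hn' : (d⁻¹ * (t * d * t⁻¹)) ^ 2 ^ n = 1 := congrArg Subtype.val hn
      have hc : Commute d⁻¹ (t * d * t⁻¹) := (show Commute d (t * d * t⁻¹) from A.com d hd.1 d hd.1).inv_left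
      rw [hc.mul_pow, inv_pow, inv_mul_eq_one] at hn'
      have h7 : d ^ 2 ^ n = 1 := by
        apply A.eq_one (M.pow_mem hd.1 _)
        rw [hn']
        exact (cj t M).pow_mem (conj_mem_cj hd.1) _
      have hcop : Nat.Coprime (orderOf d) (2 ^ n) := (Nat.coprime_two_right.2 ho).pow_right n
      exact orderOf_eq_one_iff.1 (Nat.eq_one_of_dvd_coprimes hcop dvd_rfl (orderOf_dvd_of_pow_eq_one h7))
    have hz₁D : z₁ ∈ A.pre D := ⟨hz₁, by rw [ez]; exact P.RD P.zR⟩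
    have h8 : closure {x | x ∈ A.pre D ∧ Odd (orderOf x)} ≤ ⊥ :=
      (closure_le _).2 (fun x hx => mem_bot.2 (key x hx.1 hx.2))
    exact hz1 (mem_bot.1 (h8 (A.pre_gen P hz₁D)))

/-- **the diagonal case**: `t` is not in `C(z)'` -/
theorem exists_lam [Finite G] (P : Pos t z D R) (A : DiagAt t z b D M L) (tb : t * b = b * t) {W : Subgroup G}
    (hWz : ∀ w ∈ W, w * z = z * w) (hWb : ∀ w ∈ W, w * b = b * w) (hbW : b ∈ W) (hWp : IsPGroup 2 W)
    (hWn : ∀ g, g * z = z * g → ∀ w ∈ W, g * w * g⁻¹ ∈ W) (hWD : ∀ w ∈ W, ∀ d ∈ D, w * d = d * w) :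
    ∃ lam : ↥(centralizer ({z} : Set G)) →* ℤˣ, lam ⟨t, mem_centralizer_singleton_iff.2 P.comm⟩ = -1 := by
  obtain ⟨z₁, hz₁, ez⟩ := A.exists_z P
  have hcomm := A.pre_comm P tb hWz hWb hWp hWn hWD
  set Z : Subgroup G := centralizer ({z} : Set G) with hZ
  have memZ : ∀ g, g ∈ Z ↔ g * z = z * g := fun g => mem_centralizer_singleton_iff
  -- `D₁` is subnormal in `C(z)`
  set C : Subgroup G := centralizer (W : Set G) ⊓ Z with hC
  have hDC : A.pre D ≤ C := by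
    intro d hd
    exact ⟨mem_centralizer_iff.2 (fun w hw => hcomm w hw d hd), (memZ d).2 (A.pre_z P hd)⟩
  have hCY : C ≤ centralizer ({b} : Set G) ⊓ Z := by
    rintro c ⟨h1, h2⟩
    exact ⟨mem_centralizer_singleton_iff.2 ((mem_centralizer_iff.1 h1) b hbW).symm, h2⟩
  have hCn : (C.subgroupOf Z).IsSubnormal := by
    apply sn_of_conj
    rintro g hg c ⟨h1, h2⟩
    refine ⟨mem_centralizer_iff.2 (fun w hw => ?_), Z.mul_mem (Z.mul_mem hg h2) (Z.inv_mem hg)⟩
    have hgz : Commute g z := (memZ g).1 hg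
    have h3 := (mem_centralizer_iff.1 h1) _ (hWn g⁻¹ hgz.inv_left.eq w hw)
    calc w * (g * c * g⁻¹) = g * (g⁻¹ * w * g⁻¹⁻¹ * c) * g⁻¹ := by group
      _ = g * (c * (g⁻¹ * w * g⁻¹⁻¹)) * g⁻¹ := by rw [h3]
      _ = g * c * g⁻¹ * w := by group
  have hDsn : ((A.pre D).subgroupOf Z).IsSubnormal :=
    sn_chain hDC (sn_mono hCY (A.pre_sn P tb)) hCn
  have hDZ : A.pre D ≤ Z := hDC.trans inf_le_right
  -- `R₁`
  have hRD : A.pre R ≤ A.pre D := fun x hx => ⟨hx.1, P.RD hx.2⟩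
  have hRsn : ((A.pre R).subgroupOf Z).IsSubnormal := by
    refine sn_chain hRD (sn_of_conj ?_) hDsn
    rintro d hd r hr
    refine ⟨M.mul_mem (M.mul_mem hd.1 hr.1) (M.inv_mem hd.1), ?_⟩
    rw [A.dmul (M.mul_mem hd.1 hr.1) (M.inv_mem hd.1), A.dmul hd.1 hr.1, A.dinv hd.1]
    exact P.nR _ hd.2 _ hr.2
  have hRp : IsPGroup 2 (A.pre R) := by
    rintro ⟨x, hx⟩
    obtain ⟨n, hn⟩ := P.pR ⟨_, hx.2⟩
    have hn' : (x * (t * x * t⁻¹)) ^ 2 ^ n = 1 := congrArg Subtype.val hn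
    refine ⟨n, Subtype.ext ?_⟩
    show x ^ 2 ^ n = 1
    rw [← orderOf_dvd_iff_pow_eq_one, ← A.orderOf_d hx.1, orderOf_dvd_iff_pow_eq_one]
    exact hn'
  set z' : Z := ⟨z, (memZ z).2 rfl⟩ with hz'
  set t' : Z := ⟨t, (memZ t).2 P.comm⟩ with ht'
  have hz₁D : z₁ ∈ A.pre D := ⟨hz₁, by rw [ez]; exact P.RD P.zR⟩
  set y : Z := ⟨z₁, hDZ hz₁D⟩ with hy
  have T : Tri ((A.pre D).subgroupOf Z) ((A.pre R).subgroupOf Z) y :=
    { sn := hDsn
      gen := by
        intro x hx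
        have h1 : (x : G) ∈ A.pre D := hx
        have h2 := A.pre_gen P h1
        have h3 : closure {x | x ∈ A.pre D ∧ Odd (orderOf x)} ≤
            (closure {x : Z | x ∈ (A.pre D).subgroupOf Z ∧ Odd (orderOf x)}).map Z.subtype := by
          rw [MonoidHom.map_closure]
          apply Subgroup.closure_mono
          rintro u ⟨hu, ho⟩
          refine ⟨⟨u, hDZ hu⟩, ⟨hu, ?_⟩, rfl⟩
          rw [← Subgroup.orderOf_coe]; exact ho
        obtain ⟨v, hv, e⟩ := h3 h2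
        have e' : v = x := Subtype.ext e
        rwa [e'] at hv
      RD := fun x hx => hRD hx
      RP := Cfsg.Agent.SignalizersComponents.CompBasic.subnormal_pGroup_le_pCore hRsn
        (hRp.comap_of_injective Z.subtype Z.subtype_injective)
      cR := by
        intro d hd hc
        have hd' : (d : G) ∈ A.pre D := hd
        have h1 : ∀ r ∈ R, ((d : G) * (t * d * t⁻¹)) * r = r * ((d : G) * (t * d * t⁻¹)) := by
          intro r hr
          obtain ⟨n, hn, e⟩ := A.LM r (A.DL (P.RD hr))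
          have hnR : n ∈ A.pre R := ⟨hn, by rw [e]; exact hr⟩
          have h2 : (d : G) * n = n * d := congrArg Subtype.val (hc ⟨n, hDZ (hRD hnR)⟩ hnR)
          rw [← e, ← A.dmul hd'.1 hn, ← A.dmul hn hd'.1, h2]
        rcases P.cR _ hd'.2 h1 with h2 | h2
        · left
          apply Subtype.ext
          apply A.dinj hd'.1 M.one_mem
          rw [h2]
          group
        · right
          apply Subtype.ext
          exact A.dinj hd'.1 hz₁ (h2.trans ez.symm) }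
  have hz₁1 : z₁ * z₁ = 1 := by
    apply A.dinj (M.mul_mem hz₁ hz₁) M.one_mem
    rw [A.dmul hz₁ hz₁, ez, P.zz]; group
  have zc : ∀ x : Z, x * z' = z' * x := fun x => Subtype.ext ((memZ x).1 x.2)
  refine T.exists_lam (z := z') (t := t') zc (Subtype.ext P.zz) (fun h => P.z1 (congrArg Subtype.val h))
    (Subtype.ext P.tt) (Subtype.ext ?_) ?_
  · show t * z₁ * t⁻¹ = z₁ * z
    calc t * z₁ * t⁻¹ = (z₁ * z₁) * (t * z₁ * t⁻¹) := by rw [hz₁1, one_mul]
      _ = z₁ * (z₁ * (t * z₁ * t⁻¹)) := by group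
      _ = z₁ * z := by rw [ez]
  · -- the orders
    have h1 : Nat.card R ≤ Nat.card ((A.pre R).subgroupOf Z) := by
      have hx : ∀ x : (A.pre R).subgroupOf Z, (x.1 : G) ∈ A.pre R := fun x => x.2
      let f : (A.pre R).subgroupOf Z → R := fun x => ⟨(x.1 : G) * (t * x.1 * t⁻¹), (hx x).2⟩
      apply Nat.card_le_card_of_surjective f
      rintro ⟨r, hr⟩
      obtain ⟨n, hn, e⟩ := A.LM r (A.DL (P.RD hr))
      have hnR : n ∈ A.pre R := ⟨hn, by rw [e]; exact hr⟩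
      exact ⟨⟨⟨n, hDZ (hRD hnR)⟩, hnR⟩, Subtype.ext e⟩
    have h2 : Nat.card {x : Z // x * t' = t' * x ∧
        ∀ r ∈ (A.pre R).subgroupOf Z, x * (r * (t' * r * t'⁻¹)) = r * (t' * r * t'⁻¹) * x} ≤
        Nat.card {x : G // x * t = t * x ∧ ∀ r ∈ R, x * r = r * x} := by
      let f : {x : Z // x * t' = t' * x ∧
          ∀ r ∈ (A.pre R).subgroupOf Z, x * (r * (t' * r * t'⁻¹)) = r * (t' * r * t'⁻¹) * x} →
          {x : G // x * t = t * x ∧ ∀ r ∈ R, x * r = r * x} :=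
        fun x => ⟨x.1.1, congrArg Subtype.val x.2.1, by
          intro r hr
          obtain ⟨n, hn, e⟩ := A.LM r (A.DL (P.RD hr))
          have hnR : n ∈ A.pre R := ⟨hn, by rw [e]; exact hr⟩
          have h3 := congrArg Subtype.val (x.2.2 ⟨n, hDZ (hRD hnR)⟩ hnR)
          have h4 : (x.1.1 : G) * (n * (t * n * t⁻¹)) = n * (t * n * t⁻¹) * x.1.1 := h3
          rwa [e] at h4⟩
      have hf : Function.Injective f := by
        intro x x' h
        have h3 : (f x).1 = (f x').1 := congrArg Subtype.val h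
        exact Subtype.ext (Subtype.ext h3)
      exact Nat.card_le_card_of_injective f hf
    have h3 := P.card
    omega

end DiagAt

end Cfsg.Agent.OddHalf.D6.QThree.Diag
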