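import Cfsg.Agent.OddHalf.D6.QThree.NI
import Cfsg.Agent.Transfer.PGroupNormal

/-!
# ODD half, D6, `q = 3`: the diagonal case, sign argument (helper948, bb #13194; commuting trick: helper577 #13013 (3))

`lam_of_odd`: `z` central, `t y₁ t⁻¹ = y₁ z`, and `y₁⟨z⟩` is the only pair `{y, y z}` of conjugates of `y₁` interchanged
by `t`: then `t` is odd on the class of `y₁`.

`Tri D R y`: `D` subnormal, generated by elements of odd order, `R ≤ D ∩ O₂(X)`, `y ∈ R`, `C_D(R) ⊆ {1, y}`.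
`Tri.comm`: the groups `R`, `R'` of two such triples with `y ≠ y'` commute and intersect trivially.
`Tri.exists_lam`: `t y t⁻¹ = y z` and `C_X(⟨t, {r r^t}⟩)` of order less than `|R|`: `t ∉ X'`.
-/

set_option autoImplicit false

namespace Cfsg.Agent.OddHalf.D6.QThree.DiagSign

open Subgroup Cfsg
open Cfsg.Agent.Cit (cj mem_cj conj_mem_cj cj_mul cj_one)

variable {X : Type*} [Group X]

/-! ### the sign -/

/-- the conjugates of `y₁` -/
abbrev Cl (y₁ : X) : Type _ := {y : X // ∃ g : X, g * y₁ * g⁻¹ = y}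

/-- conjugation by `g` -/
def cjPerm (y₁ : X) : X →* Equiv.Perm (Cl y₁) where
  toFun g :=
    { toFun := fun y => ⟨g * y.1 * g⁻¹, by
        obtain ⟨h, hh⟩ := y.2
        exact ⟨g * h, by rw [← hh]; group⟩⟩
      invFun := fun y => ⟨g⁻¹ * y.1 * g, by
        obtain ⟨h, hh⟩ := y.2
        exact ⟨g⁻¹ * h, by rw [← hh]; group⟩⟩
      left_inv := fun y => Subtype.ext (by
        show g⁻¹ * (g * y.1 * g⁻¹) * g = y.1
        group)
      right_inv := fun y => Subtype.ext (by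
        show g * (g⁻¹ * y.1 * g) * g⁻¹ = y.1
        group) }
  map_one' := Equiv.ext fun y => Subtype.ext (by
      show 1 * y.1 * 1⁻¹ = y.1
      group)
  map_mul' g h := Equiv.ext fun y => Subtype.ext (by
      show g * h * y.1 * (g * h)⁻¹ = g * (h * y.1 * h⁻¹) * g⁻¹
      group)

theorem lam_of_odd [Finite X] {z t y₁ : X} (zc : ∀ x : X, x * z = z * x) (zz : z * z = 1) (z1 : z ≠ 1)
    (tt : t * t = 1) (h1 : t * y₁ * t⁻¹ = y₁ * z)
    (huniq : ∀ g : X, t * (g * y₁ * g⁻¹) * t⁻¹ = g * y₁ * g⁻¹ * z →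
      g * y₁ * g⁻¹ = y₁ ∨ g * y₁ * g⁻¹ = y₁ * z) : ∃ lam : X →* ℤˣ, lam t = -1 := by
  classical
  have ti : t⁻¹ = t := inv_eq_of_mul_eq_one_right tt
  have : Fintype (Cl y₁) := by
    unfold Cl
    exact Fintype.ofFinite _
  refine ⟨(Equiv.Perm.sign (α := Cl y₁)).comp (cjPerm y₁), ?_⟩
  show Equiv.Perm.sign (cjPerm y₁ t) = -1
  set σ := cjPerm y₁ t with hσ
  have hσσ : σ ^ 2 = 1 := by rw [hσ, ← map_pow, pow_two, tt, map_one]
  have hσv : ∀ y : Cl y₁, (σ y).1 = t * y.1 * t⁻¹ := fun y => rfl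
  -- multiplication by `z`
  have hz : ∀ y : Cl y₁, ∃ g : X, g * y₁ * g⁻¹ = y.1 * z := by
    rintro ⟨_, g, rfl⟩
    refine ⟨g * t, ?_⟩
    calc g * t * y₁ * (g * t)⁻¹ = g * (t * y₁ * t⁻¹) * g⁻¹ := by group
      _ = g * y₁ * (z * g⁻¹) := by rw [h1]; group
      _ = g * y₁ * g⁻¹ * z := by rw [← zc g⁻¹]; group
  have hzz : ∀ y : X, y * z * z = y := fun y => by rw [mul_assoc, zz, mul_one]
  set μ : Equiv.Perm (Cl y₁) :=
    { toFun := fun y => ⟨y.1 * z, hz y⟩
      invFun := fun y => ⟨y.1 * z, hz y⟩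
      left_inv := fun y => Subtype.ext (hzz y.1)
      right_inv := fun y => Subtype.ext (hzz y.1) } with hμ
  have hμv : ∀ y : Cl y₁, (μ y).1 = y.1 * z := fun y => rfl
  have hμμ : μ ^ 2 = 1 := Equiv.ext fun y => Subtype.ext (hzz y.1)
  have hcv : ∀ y : Cl y₁, ((σ * μ) y).1 = t * y.1 * t⁻¹ * z := by
    intro y
    show t * (y.1 * z) * t⁻¹ = t * y.1 * t⁻¹ * z
    rw [mul_assoc, mul_assoc, ← zc t⁻¹]
    group
  have hσμ : (σ * μ) ^ 2 = 1 := by
    refine Equiv.ext fun y => Subtype.ext ?_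
    rw [pow_two]
    show ((σ * μ) ((σ * μ) y)).1 = y.1
    rw [hcv, hcv, ti]
    calc t * (t * y.1 * t * z) * t * z = (t * t) * y.1 * (t * (z * t)) * z := by group
      _ = (t * t) * y.1 * (t * (t * z)) * z := by rw [zc t]
      _ = (t * t) * y.1 * ((t * t) * (z * z)) := by group
      _ = y.1 := by rw [tt, zz, one_mul, mul_one, mul_one]
  -- fixed points
  have f1 : Fintype.card (Function.fixedPoints μ) = 0 := by
    rw [Fintype.card_eq_zero_iff]
    refine ⟨fun y => z1 ?_⟩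
    have h2 : (μ y.1).1 = y.1.1 := congrArg Subtype.val y.2
    rw [hμv] at h2
    exact mul_eq_left.1 h2
  have hyz : y₁ * z ≠ y₁ := fun h => z1 (mul_eq_left.1 h)
  have f2 : Fintype.card (Function.fixedPoints (σ * μ)) = 2 := by
    have e : Function.fixedPoints (σ * μ) =
        ({⟨y₁, 1, by group⟩, ⟨y₁ * z, hz ⟨y₁, 1, by group⟩⟩} : Set (Cl y₁)) := by
      ext y
      rw [Set.mem_insert_iff, Set.mem_singleton_iff]
      constructor
      · intro hy
        obtain ⟨g, hg⟩ := y.2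
        have h2 : ((σ * μ) y).1 = y.1 := congrArg Subtype.val hy
        rw [hcv] at h2
        have h3 : t * (g * y₁ * g⁻¹) * t⁻¹ = g * y₁ * g⁻¹ * z := by
          rw [hg]
          calc t * y.1 * t⁻¹ = t * y.1 * t⁻¹ * z * z := (hzz _).symm
            _ = y.1 * z := by rw [h2]
        rcases huniq g h3 with h4 | h4
        · left; exact Subtype.ext (by rw [← hg, h4])
        · right; exact Subtype.ext (by rw [← hg, h4])
      · rintro (rfl | rfl)
        · apply Subtype.ext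
          rw [hcv]
          show t * y₁ * t⁻¹ * z = y₁
          rw [h1, hzz]
        · apply Subtype.ext
          rw [hcv]
          show t * (y₁ * z) * t⁻¹ * z = y₁ * z
          have : t * (y₁ * z) * t⁻¹ = t * y₁ * t⁻¹ * z := by
            rw [mul_assoc, mul_assoc, ← zc t⁻¹]
            group
          rw [this, h1, hzz]
    rw [← Nat.card_eq_fintype_card, e, Nat.card_coe_set_eq, Set.ncard_pair]
    intro h
    exact hyz (congrArg Subtype.val h).symm
  have s1 := Equiv.Perm.sign_of_pow_two_eq_one hμμ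
  have s2 := Equiv.Perm.sign_of_pow_two_eq_one hσμ
  rw [f1, Nat.sub_zero] at s1
  rw [f2] at s2
  -- the number of conjugates is even
  obtain ⟨k, hk⟩ : ∃ k, Fintype.card (Cl y₁) = 2 * k + 2 := by
    have h2 : 2 ∣ Fintype.card (Cl y₁) := by
      have h3 := Equiv.Perm.two_dvd_card_support hμμ
      have h4 : μ.support = Finset.univ := by
        ext y
        simp only [Equiv.Perm.mem_support, Finset.mem_univ, iff_true]
        intro h5
        apply z1
        have h6 : (μ y).1 = y.1 := congrArg Subtype.val h5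
        rw [hμv] at h6
        exact mul_eq_left.1 h6
      rwa [h4, Finset.card_univ] at h3
    obtain ⟨l, hl⟩ := h2
    have h3 : 0 < Fintype.card (Cl y₁) := Fintype.card_pos_iff.2 ⟨⟨y₁, 1, by group⟩⟩
    exact ⟨l - 1, by omega⟩
  rw [hk] at s1 s2
  have e1 : (2 * k + 2) / 2 = k + 1 := by omega
  have e2 : (2 * k + 2 - 2) / 2 = k := by omega
  rw [e1] at s1
  rw [e2, Equiv.Perm.sign_mul, s1, pow_succ] at s2
  have hu : ((-1 : ℤˣ) ^ k) * (-1 : ℤˣ) ^ k = 1 := by
    rw [← pow_add, ← two_mul, pow_mul]; simp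
  have h5 : Equiv.Perm.sign σ * ((-1 : ℤˣ) ^ k * (-1)) * ((-1 : ℤˣ) ^ k * (-1)) =
      (-1 : ℤˣ) ^ k * ((-1 : ℤˣ) ^ k * (-1)) := by rw [s2]
  rw [mul_assoc] at h5
  have h6 : ((-1 : ℤˣ) ^ k * (-1)) * ((-1 : ℤˣ) ^ k * (-1)) = 1 := by
    calc ((-1 : ℤˣ) ^ k * (-1)) * ((-1 : ℤˣ) ^ k * (-1)) = ((-1 : ℤˣ) ^ k * (-1 : ℤˣ) ^ k) * ((-1) * (-1)) := by
          rw [mul_mul_mul_comm]
      _ = 1 := by rw [hu]; simp
  rw [h6, mul_one, ← mul_assoc, hu, one_mul] at h5
  exact h5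

/-! ### subnormal subgroups generated by elements of odd order -/

/-- `O₂(X)` normalises a subnormal subgroup generated by elements of odd order -/
theorem conj_mem_of_subnormal [Finite X] {P D : Subgroup X} (hPn : P.Normal) (hP : IsPGroup 2 P)
    (hg : D ≤ closure {x | x ∈ D ∧ Odd (orderOf x)}) {K : Subgroup X} (hK : K.IsSubnormal) :
    D ≤ K → ∀ p ∈ P, ∀ d ∈ D, p * d * p⁻¹ ∈ K := by
  induction hK with
  | top => intro _ p _ d _; exact mem_top _
  | step H K hle hS hN ih =>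
    intro hDH p hp
    have h1 := ih (hDH.trans hle) p hp
    -- generators
    have key : D ≤ H.comap (MulAut.conj p).toMonoidHom := by
      refine hg.trans ((closure_le _).2 ?_)
      rintro d ⟨hd, ho⟩
      show p * d * p⁻¹ ∈ H
      have hdK : d ∈ K := hle (hDH hd)
      have hk : p * d * p⁻¹ ∈ K := h1 d hd
      have hc : p * d * p⁻¹ * d⁻¹ ∈ P := by
        have h2 := P.mul_mem hp (hPn.conj_mem _ (P.inv_mem hp) d)
        have e : p * (d * p⁻¹ * d⁻¹) = p * d * p⁻¹ * d⁻¹ := by group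
        rwa [e] at h2
      set N : Subgroup K := H.subgroupOf K with hNdef
      set k : K := ⟨p * d * p⁻¹, hk⟩ with hkd
      set c : K := ⟨p * d * p⁻¹ * d⁻¹, K.mul_mem hk (K.inv_mem hdK)⟩ with hcd
      have e1 : (QuotientGroup.mk' N k : K ⧸ N) = QuotientGroup.mk' N c := by
        have e : k = c * ⟨d, hdK⟩ := Subtype.ext (by
          show p * d * p⁻¹ = p * d * p⁻¹ * d⁻¹ * d
          group)
        have hd' : (⟨d, hdK⟩ : K) ∈ N := hDH hd
        rw [e, map_mul, (QuotientGroup.eq_one_iff (⟨d, hdK⟩ : K)).2 hd' |> fun h =>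
          (show QuotientGroup.mk' N (⟨d, hdK⟩ : K) = 1 from h), mul_one]
      have h3 : orderOf (QuotientGroup.mk' N k) ∣ orderOf d := by
        rw [orderOf_dvd_iff_pow_eq_one, ← map_pow]
        have : k ^ orderOf d = 1 := Subtype.ext (by
          show (p * d * p⁻¹) ^ orderOf d = 1
          rw [conj_pow, pow_orderOf_eq_one]; group)
        rw [this, map_one]
      obtain ⟨n, hn⟩ := hP ⟨_, hc⟩
      have h4 : orderOf (QuotientGroup.mk' N k) ∣ 2 ^ n := by
        rw [e1, orderOf_dvd_iff_pow_eq_one, ← map_pow]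
        have hn' : (p * d * p⁻¹ * d⁻¹) ^ 2 ^ n = 1 := congrArg Subtype.val hn
        have : c ^ 2 ^ n = 1 := Subtype.ext hn'
        rw [this, map_one]
      have h5 : orderOf (QuotientGroup.mk' N k) = 1 := by
        have hcop : Nat.Coprime (orderOf d) (2 ^ n) :=
          (Nat.coprime_two_right.2 ho).pow_right n
        exact Nat.eq_one_of_dvd_coprimes hcop h3 h4
      have h6 : QuotientGroup.mk' N k = 1 := orderOf_eq_one_iff.1 h5
      exact (QuotientGroup.eq_one_iff k).1 h6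
    exact fun d hd => key hd

/-! ### triples -/

structure Tri (D R : Subgroup X) (y : X) : Prop where
  sn : D.IsSubnormal
  gen : D ≤ closure {x | x ∈ D ∧ Odd (orderOf x)}
  RD : R ≤ D
  RP : R ≤ pCore 2 X
  cR : ∀ d ∈ D, (∀ r ∈ R, d * r = r * d) → d = 1 ∨ d = y

namespace Tri

variable {D R D' R' : Subgroup X} {y y' : X}

theorem conj (T : Tri D R y) (g : X) : Tri (cj g D) (cj g R) (g * y * g⁻¹) where
  sn := T.sn.map (MulAut.conj g).surjective
  gen := by
    have h1 : cj g D ≤ cj g (closure {x | x ∈ D ∧ Odd (orderOf x)}) := Cfsg.Agent.Cit.cj_mono g T.gen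
    refine h1.trans ?_
    rw [Cfsg.Agent.Cit.cj_def, MonoidHom.map_closure]
    apply Subgroup.closure_mono
    rintro _ ⟨x, ⟨hx, ho⟩, rfl⟩
    refine ⟨conj_mem_cj hx, ?_⟩
    have h2 : orderOf ((MulAut.conj g).toMonoidHom x) = orderOf x :=
      orderOf_injective (MulAut.conj g).toMonoidHom (MulAut.conj g).injective x
    rw [h2]; exact ho
  RD := Cfsg.Agent.Cit.cj_mono g T.RD
  RP := by
    rintro _ ⟨x, hx, rfl⟩
    exact (Lib.Cores.pCore_normal 2).conj_mem x (T.RP hx) g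
  cR := by
    intro d hd hc
    have h1 : g⁻¹ * d * g ∈ D := mem_cj.1 hd
    rcases T.cR _ h1 (fun r hr => by
      have h2 := hc _ (conj_mem_cj (g := g) hr)
      calc g⁻¹ * d * g * r = g⁻¹ * (d * (g * r * g⁻¹)) * g := by group
        _ = g⁻¹ * (g * r * g⁻¹ * d) * g := by rw [h2]
        _ = r * (g⁻¹ * d * g) := by group) with h3 | h3
    · left
      calc d = g * (g⁻¹ * d * g) * g⁻¹ := by group
        _ = 1 := by rw [h3]; group
    · right
      calc d = g * (g⁻¹ * d * g) * g⁻¹ := by group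
        _ = g * y * g⁻¹ := by rw [h3]

/-- **the commuting trick** -/
theorem comm [Finite X] (T : Tri D R y) (T' : Tri D' R' y') (hne : y ≠ y') :
    (∀ r ∈ R, ∀ r' ∈ R', r * r' = r' * r) ∧ ∀ r ∈ R, r ∈ R' → r = 1 := by
  have : Fact (Nat.Prime 2) := ⟨Nat.prime_two⟩
  set P : Subgroup X := pCore 2 X with hP
  have hPn : P.Normal := Lib.Cores.pCore_normal 2
  have hPp : IsPGroup 2 P := Lib.Cores.pCore_isPGroup 2
  have hD := conj_mem_of_subnormal hPn hPp T.gen T.sn le_rfl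
  have hD' := conj_mem_of_subnormal hPn hPp T'.gen T'.sn le_rfl
  -- the intersection
  have hN : ∀ x ∈ D, x ∈ D' → x ∈ P → x = 1 := by
    set N : Subgroup P := (D ⊓ D').subgroupOf P with hNd
    have hNn : N.Normal := by
      refine ⟨fun n hn g => ?_⟩
      rw [mem_subgroupOf] at hn ⊢
      exact ⟨hD g g.2 n hn.1, hD' g g.2 n hn.2⟩
    have hN0 : N = ⊥ := by
      by_contra hne'
      obtain ⟨x, hx, hxc, hxo⟩ := Cfsg.Agent.Transfer.PGroupNormal.exists_mem_inf_center_orderOf hPp N hne'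
      rw [mem_subgroupOf] at hx
      have hcen : ∀ p ∈ P, (x : X) * p = p * x := fun p hp =>
        (congrArg Subtype.val (mem_center_iff.1 hxc ⟨p, hp⟩)).symm
      have hx1 : (x : X) ≠ 1 := by
        intro h
        have h2 : x = 1 := Subtype.ext h
        rw [h2, orderOf_one] at hxo
        exact absurd hxo (by norm_num)
      have e1 : (x : X) = y := (T.cR x hx.1 (fun r hr => hcen r (T.RP hr))).resolve_left hx1
      have e2 : (x : X) = y' := (T'.cR x hx.2 (fun r hr => hcen r (T'.RP hr))).resolve_left hx1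
      exact hne (e1.symm.trans e2)
    intro x hx hx' hxP
    have h1 : (⟨x, hxP⟩ : P) ∈ N := by
      rw [mem_subgroupOf]; exact ⟨hx, hx'⟩
    rw [hN0, mem_bot] at h1
    exact congrArg Subtype.val h1
  refine ⟨fun r hr r' hr' => ?_, fun r hr hr' => hN r (T.RD hr) (T'.RD hr') (T.RP hr)⟩
  have h1 : r * (r' * r⁻¹ * r'⁻¹) ∈ D :=
    D.mul_mem (T.RD hr) (hD r' (T'.RP hr') _ (D.inv_mem (T.RD hr)))
  have h2 : (r * r' * r⁻¹) * r'⁻¹ ∈ D' :=
    D'.mul_mem (hD' r (T.RP hr) r' (T'.RD hr')) (D'.inv_mem (T'.RD hr'))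
  have h3 : r * (r' * r⁻¹ * r'⁻¹) ∈ P :=
    P.mul_mem (T.RP hr) (hPn.conj_mem _ (P.inv_mem (T.RP hr)) r')
  have e : r * (r' * r⁻¹ * r'⁻¹) = (r * r' * r⁻¹) * r'⁻¹ := by group
  have h4 := hN _ h1 (by rw [e]; exact h2) h3
  calc r * r' = r * (r' * r⁻¹ * r'⁻¹) * (r' * r) := by group
    _ = r' * r := by rw [h4, one_mul]

/-- **the sign**: `t y t⁻¹ = y z`, `C_X(⟨t, {r r^t}⟩)` smaller than `R` -/
theorem exists_lam [Finite X] (T : Tri D R y) {z t : X} (zc : ∀ x : X, x * z = z * x) (zz : z * z = 1)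
    (z1 : z ≠ 1) (tt : t * t = 1) (hy : t * y * t⁻¹ = y * z)
    (hB : Nat.card {x : X // x * t = t * x ∧
      ∀ r ∈ R, x * (r * (t * r * t⁻¹)) = r * (t * r * t⁻¹) * x} < Nat.card R) :
    ∃ lam : X →* ℤˣ, lam t = -1 := by
  have ti : t⁻¹ = t := inv_eq_of_mul_eq_one_right tt
  have hyz : ∀ u : X, u * z * z = u := fun u => by rw [mul_assoc, zz, mul_one]
  refine lam_of_odd zc zz z1 tt hy (fun g hg => ?_)
  by_contra hcon
  push Not at hcon
  obtain ⟨n1, n2⟩ := hcon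
  have T1 := T.conj g
  have T2 := T1.conj t
  have T3 := T.conj t
  rw [hg] at T2
  rw [hy] at T3
  set y' := g * y * g⁻¹ with hy'
  obtain ⟨c11, i11⟩ := T1.comm T n1
  obtain ⟨c13, -⟩ := T1.comm T3 n2
  obtain ⟨c21, -⟩ := T2.comm T (fun h => n2 (by rw [← h, hyz]))
  obtain ⟨c23, -⟩ := T2.comm T3 (fun h => n1 (mul_right_cancel h))
  obtain ⟨c12, i12⟩ := T1.comm T2 (fun h => z1 (mul_eq_left.1 h.symm))
  have hx1 : ∀ r : R, g * (r : X) * g⁻¹ ∈ cj g R := fun r => conj_mem_cj r.2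
  have hx2 : ∀ r : R, t * (g * (r : X) * g⁻¹) * t⁻¹ ∈ cj t (cj g R) := fun r => conj_mem_cj (hx1 r)
  let f : R → {x : X // x * t = t * x ∧ ∀ r ∈ R, x * (r * (t * r * t⁻¹)) = r * (t * r * t⁻¹) * x} :=
    fun r => ⟨g * r * g⁻¹ * (t * (g * r * g⁻¹) * t⁻¹), by
      have h := c12 _ (hx1 r) _ (hx2 r)
      rw [ti] at h ⊢
      calc g * r * g⁻¹ * (t * (g * r * g⁻¹) * t) * t = g * r * g⁻¹ * (t * (g * r * g⁻¹)) * (t * t) := by group
        _ = (t * t) * (g * r * g⁻¹) * (t * (g * r * g⁻¹)) := by rw [tt]; group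
        _ = t * (t * (g * r * g⁻¹) * t * (g * r * g⁻¹)) := by group
        _ = t * (g * r * g⁻¹ * (t * (g * r * g⁻¹) * t)) := by rw [h], by
      intro s hs
      have hs' : t * s * t⁻¹ ∈ cj t R := conj_mem_cj hs
      have a1 : Commute (g * (r : X) * g⁻¹) s := c11 _ (hx1 r) s hs
      have a2 : Commute (g * (r : X) * g⁻¹) (t * s * t⁻¹) := c13 _ (hx1 r) _ hs'
      have a3 : Commute (t * (g * (r : X) * g⁻¹) * t⁻¹) s := c21 _ (hx2 r) s hs
      have a4 : Commute (t * (g * (r : X) * g⁻¹) * t⁻¹) (t * s * t⁻¹) := c23 _ (hx2 r) _ hs'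
      exact ((a1.mul_right a2).mul_left (a3.mul_right a4)).eq⟩
  have hf : Function.Injective f := by
    intro r r' h
    have h1 : g * (r : X) * g⁻¹ * (t * (g * r * g⁻¹) * t⁻¹) =
        g * (r' : X) * g⁻¹ * (t * (g * r' * g⁻¹) * t⁻¹) := congrArg Subtype.val h
    have h2 : (g * (r' : X) * g⁻¹)⁻¹ * (g * r * g⁻¹) =
        (t * (g * r' * g⁻¹) * t⁻¹) * (t * (g * r * g⁻¹) * t⁻¹)⁻¹ := by
      calc (g * (r' : X) * g⁻¹)⁻¹ * (g * r * g⁻¹) =
          (g * (r' : X) * g⁻¹)⁻¹ * (g * (r : X) * g⁻¹ * (t * (g * r * g⁻¹) * t⁻¹)) *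
            (t * (g * r * g⁻¹) * t⁻¹)⁻¹ := by group
        _ = (g * (r' : X) * g⁻¹)⁻¹ * (g * (r' : X) * g⁻¹ * (t * (g * r' * g⁻¹) * t⁻¹)) *
            (t * (g * r * g⁻¹) * t⁻¹)⁻¹ := by rw [h1]
        _ = _ := by group
    have h3 : (g * (r' : X) * g⁻¹)⁻¹ * (g * r * g⁻¹) = 1 := by
      refine i12 _ ((cj g R).mul_mem ((cj g R).inv_mem (hx1 r')) (hx1 r)) ?_
      rw [h2]
      exact (cj t (cj g R)).mul_mem (hx2 r') ((cj t (cj g R)).inv_mem (hx2 r))
    have h4 : g * (r' : X) * g⁻¹ = g * r * g⁻¹ := inv_mul_eq_one.1 h3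
    exact Subtype.ext (mul_left_cancel (mul_right_cancel h4)).symm
  have h5 := Nat.card_le_card_of_injective f hf
  omega

end Tri

end Cfsg.Agent.OddHalf.D6.QThree.DiagSign
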