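import Cfsg.Agent.OddHalf.D6.QThree.Diag
import Cfsg.Agent.OddHalf.D8.Lam
import Cfsg.Agent.S1442

/-!
# ODD half, D6, `q = 3`: the end, `O₂(C_G(z))` extraspecial (helper253, bb #15179; step (5) of helper801's #12978)

`X = C(t) ∩ C(z)`, `D = O²(X)`, `R = O₂(D)`, `F = O₂(C(z))` extraspecial (`Large F z`). `Hyp` is contradictory:

* `Hyp.R_le`: `R ≤ F`; `Hyp.comm_D`: `D` centralises `C_F(R)`;
* `Hyp.diag_false`: the diagonal case (`Diag.DiagAt`) does not occur;
* `Hyp.mem_false`: `t ∉ F` (the y-trick);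
* `Hyp.not_mem_false`: `t ∈ F` (Dickson invariant, reflections, fusion of `t` and `t r`, `r ∈ R`).

No hypothesis on the order of `F`.
-/

set_option autoImplicit false

namespace Cfsg.Agent.OddHalf.D6.QThree.EndSym

open Subgroup Cfsg Module
open Cfsg.Agent.Co2Type.Quad Cfsg.Agent.LargeExtra.Base Cfsg.Agent.LargeExtra.TwoCentral
  Cfsg.Agent.LargeExtra.Dickson
open Cfsg.Agent.OddHalf.D6.QThree.Diag (Pos DiagAt)

variable {G : Type*} [Group G]

/-! ### the lemma on `⟨a⟩ × ⟨t⟩` -/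

/-- Thompson's lemma: `a` of odd order commuting with the involution `t`, both acting on the 2-group `P`; if `a`
centralises `C_P(t)`, then `a` centralises `P`. -/
theorem axb [Finite G] {P : Subgroup G} (hP : IsPGroup 2 P) {a t : G} (ho : Odd (orderOf a))
    (hat : a * t = t * a) (tt : t * t = 1) (haP : ∀ x ∈ P, a * x * a⁻¹ ∈ P)
    (htP : ∀ x ∈ P, t * x * t⁻¹ ∈ P) (h : ∀ x ∈ P, x * t = t * x → x * a = a * x) :
    ∀ x ∈ P, x * a = a * x := by
  have ti : t⁻¹ = t := inv_eq_of_mul_eq_one_right tt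
  have htP' : ∀ x ∈ P, t * x * t ∈ P := by
    intro x hx
    have := htP x hx
    rwa [ti] at this
  have hct : ∀ x : G, x * t * t = x := fun x => by rw [mul_assoc, tt, mul_one]
  let H : Subgroup G :=
    { carrier := {x | x ∈ P ∨ x * t ∈ P}
      one_mem' := Or.inl P.one_mem
      mul_mem' := by
        rintro x y (hx | hx) (hy | hy)
        · exact Or.inl (P.mul_mem hx hy)
        · right
          rw [mul_assoc]; exact P.mul_mem hx hy
        · right
          have e : x * y * t = (x * t) * (t * y * t) := by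
            calc x * y * t = (x * t * t) * y * t := by rw [hct]
              _ = _ := by group
          rw [e]; exact P.mul_mem hx (htP' y hy)
        · left
          have e : x * y = (x * t) * (t * (y * t) * t) := by
            calc x * y = (x * t * t) * (y * t * t) := by rw [hct, hct]
              _ = _ := by group
          rw [e]; exact P.mul_mem hx (htP' _ hy)
      inv_mem' := by
        rintro x (hx | hx)
        · exact Or.inl (P.inv_mem hx)
        · right
          have e : x⁻¹ * t = t * (x * t)⁻¹ * t := by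
            rw [mul_inv_rev, ti, ← mul_assoc t t, tt, one_mul]
          rw [e]; exact htP' _ (P.inv_mem hx) }
  have hmem : ∀ x, x ∈ H ↔ x ∈ P ∨ x * t ∈ P := fun x => Iff.rfl
  have hH : IsPGroup 2 H := by
    rintro ⟨x, hx⟩
    have hxx : x * x ∈ P := by
      rcases (hmem x).1 hx with h1 | h1
      · exact P.mul_mem h1 h1
      · have e : x * x = (x * t) * (t * (x * t) * t) := by
          calc x * x = (x * t * t) * (x * t * t) := by rw [hct]
            _ = _ := by group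
        rw [e]; exact P.mul_mem h1 (htP' _ h1)
    obtain ⟨n, hn⟩ := hP ⟨x * x, hxx⟩
    refine ⟨n + 1, Subtype.ext ?_⟩
    have h1 : (x * x) ^ 2 ^ n = 1 := congrArg Subtype.val hn
    show x ^ 2 ^ (n + 1) = 1
    rw [pow_succ', pow_mul, pow_two]; exact h1
  have hnil : Group.IsNilpotent H := by
    have : Fact (Nat.Prime 2) := ⟨Nat.prime_two⟩
    exact hH.isNilpotent
  have hA : zpowers a ≤ normalizer (H : Set G) := by
    rw [zpowers_le]
    refine mem_normalizer_fintype fun x hx => ?_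
    rcases (hmem x).1 hx with h1 | h1
    · exact Or.inl (haP x h1)
    · right
      have e : a * x * a⁻¹ * t = a * (x * t) * a⁻¹ := by
        have c : Commute a t := hat
        calc a * x * a⁻¹ * t = a * x * (a⁻¹ * t) := by group
          _ = a * x * (t * a⁻¹) := by rw [c.inv_left.eq]
          _ = a * (x * t) * a⁻¹ := by group
      show a * x * a⁻¹ * t ∈ P
      rw [e]; exact haP _ h1
  have hcop : (Nat.card ↥(zpowers a)).Coprime (Nat.card ↥H) := by
    have : Fact (Nat.Prime 2) := ⟨Nat.prime_two⟩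
    rw [Nat.card_zpowers]
    obtain ⟨n, hn⟩ := IsPGroup.iff_card.1 hH
    rw [hn]
    exact Nat.Coprime.pow_right n (Nat.coprime_two_right.2 ho)
  have ca : Commute a t := hat
  have h4 := Cfsg.Agent.S1442.result H (zpowers a) hnil hA hcop (by
    rintro x ⟨hxH, hxC⟩
    refine ⟨hxH, ?_⟩
    have htC : t ∈ H ⊓ centralizer ((zpowers a : Subgroup G) : Set G) := by
      refine ⟨Or.inr ?_, mem_centralizer_iff.2 ?_⟩
      · show t * t ∈ P
        rw [tt]; exact P.one_mem
      · intro y hy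
        obtain ⟨i, rfl⟩ := mem_zpowers_iff.1 hy
        exact (ca.zpow_left i).eq
    have hxt : x * t = t * x := (mem_centralizer_iff.1 hxC t htC).symm
    have hxa : Commute a x := by
      rcases (hmem x).1 hxH with h1 | h1
      · exact (h x h1 hxt).symm
      · have c1 : Commute (x * t) t := (show Commute x t from hxt).mul_left (Commute.refl t)
        have c2 : Commute a (x * t) := (h _ h1 c1).symm
        have c3 := c2.mul_right ca
        rwa [hct] at c3
    refine mem_centralizer_iff.2 ?_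
    intro y hy
    obtain ⟨i, rfl⟩ := mem_zpowers_iff.1 hy
    exact (hxa.zpow_left i).eq)
  intro x hx
  exact mem_centralizer_iff.1 (h4 (mem_zpowers a)) x (Or.inl hx)

/-! ### the hypotheses -/

/-- the elements of `⟨t, z⟩` -/
def Four (t z x : G) : Prop := x = 1 ∨ x = z ∨ x = t ∨ x = t * z

/-- the data for the y-trick -/
structure YT (t z : G) (R : Subgroup G) (v k h : G) : Prop where
  vt : v * t = t * v
  kt : k * t = t * k
  ht : h * t = t * h
  vv : v * v = 1
  vz : v * z = z * v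
  hz : h * z = z * h
  kv : k * z * k⁻¹ = v
  hv : h * v * h⁻¹ = v * z
  /-- `[v, C(t) ∩ C(R)] ≤ ⟨z⟩` -/
  vB : ∀ y, y * t = t * y → (∀ r ∈ R, y * r = r * y) → v * y * v⁻¹ = y ∨ v * y * v⁻¹ = y * z
  /-- `z^(k⁻¹)` is not in `O₂(C(t) ∩ C(z))` -/
  kF : ∀ N : Subgroup G, IsPGroup 2 N → (∀ n ∈ N, n * t = t * n) → (∀ n ∈ N, n * z = z * n) →
    (∀ g, g * t = t * g → g * z = z * g → ∀ n ∈ N, g * n * g⁻¹ ∈ N) → k⁻¹ * z * k ∉ N

/-- the hypotheses -/
structure Hyp (t z : G) (D R F : Subgroup G) : Prop extends Pos t z D R where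
  t1 : t ≠ 1
  tz : t ≠ z
  /-- `F = O₂(C(z))` is extraspecial -/
  L : Large F z
  nD : ∀ g, g * t = t * g → g * z = z * g → ∀ d ∈ D, g * d * g⁻¹ ∈ D
  nX : ∀ g, g * t = t * g → g * z = z * g → ∀ r ∈ R, g * r * g⁻¹ ∈ R
  /-- `R = O₂(D)` -/
  max : ∀ N : Subgroup G, N ≤ D → IsPGroup 2 N →
    (∀ g, g * t = t * g → g * z = z * g → ∀ n ∈ N, g * n * g⁻¹ ∈ N) → N ≤ R
  irr : ∀ N : Subgroup G, N ≤ R → (∀ g, g * t = t * g → g * z = z * g → ∀ n ∈ N, g * n * g⁻¹ ∈ N) →
    (∀ n ∈ N, n = 1 ∨ n = z) ∨ R ≤ N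
  /-- `C(t) ∩ C(R)` centralises `D` -/
  cRD : ∀ x, x * t = t * x → (∀ r ∈ R, x * r = r * x) → ∀ d ∈ D, x * d = d * x
  /-- centralizers in `B = C(t) ∩ C(R)` (`B / ⟨t⟩` is a subgroup of `D₈`) -/
  kb : ∀ x y, x * t = t * x → (∀ r ∈ R, x * r = r * x) → y * t = t * y → (∀ r ∈ R, y * r = r * y) →
    x * y = y * x → ¬ Four t z x → Four t z y ∨ Four t z (x⁻¹ * y)
  cyc : ∃ d ∈ D, ∀ r ∈ R, r * (d * r * d⁻¹) * (d * d * r * (d * d)⁻¹) = 1 ∨
    r * (d * r * d⁻¹) * (d * d * r * (d * d)⁻¹) = z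
  /-- the involutions of `B` outside `⟨t, z⟩` ("reflections") -/
  ref : ∀ b, b * t = t * b → (∀ r ∈ R, b * r = r * b) → b * b = 1 → ¬ Four t z b →
    (∀ g, g * b = b * g → g * z = z * g → ∀ d ∈ D, g * d * g⁻¹ ∈ D) ∨ ∃ M L : Subgroup G, DiagAt t z b D M L
  /-- the fusion of `t` and `t r` in `C(z)` -/
  fus : ∃ g r, g * z = z * g ∧ r ∈ R ∧ r ≠ 1 ∧ r ≠ z ∧ g * t * g⁻¹ = t * r
  yt : ∃ v k h, YT t z R v k h
  /-- `t ∈ C(z)'` -/
  lam : ∀ lam : ↥(centralizer ({z} : Set G)) →* ℤˣ, lam ⟨t, mem_centralizer_singleton_iff.2 comm⟩ ≠ -1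

namespace Hyp

variable {t z : G} {D R F : Subgroup G}

theorem ti (h : Hyp t z D R F) : t⁻¹ = t := inv_eq_of_mul_eq_one_right h.tt
theorem zi (h : Hyp t z D R F) : z⁻¹ = z := inv_eq_of_mul_eq_one_right h.zz

/-- elements of odd order of `C(z)` centralising `F` are trivial -/
theorem eq_one_of_odd [Finite G] (h : Hyp t z D R F) {d : G} (hd : d * z = z * d) (ho : Odd (orderOf d))
    (hc : ∀ x ∈ F, x * d = d * x) : d = 1 := by
  have h5 : d ∈ F := h.L.self d hd fun x hx => (hc x hx).symm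
  obtain ⟨n, hn⟩ := (isPGroup h.L) ⟨d, h5⟩
  have hn' : d ^ 2 ^ n = 1 := congrArg Subtype.val hn
  have hcop : Nat.Coprime (orderOf d) (2 ^ n) := (Nat.coprime_two_right.2 ho).pow_right n
  exact orderOf_eq_one_iff.1 (Nat.eq_one_of_dvd_coprimes hcop dvd_rfl (orderOf_dvd_of_pow_eq_one hn'))

/-- `x ↦ x z` under an element of odd order is impossible -/
theorem comm_of_odd (h : Hyp t z D R F) {x d : G} (hd : d * z = z * d) (ho : Odd (orderOf d))
    (e : x * d * x⁻¹ * d⁻¹ = 1 ∨ x * d * x⁻¹ * d⁻¹ = z) : x * d = d * x := by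
  rcases e with h4 | h4
  · calc x * d = x * d * x⁻¹ * d⁻¹ * (d * x) := by group
      _ = d * x := by rw [h4, one_mul]
  · exfalso
    have h5 : x * d * x⁻¹ = z * d := by rw [← h4]; group
    have h6 : (z * d) ^ orderOf d = 1 := by
      rw [← h5, conj_pow, pow_orderOf_eq_one]; group
    have hc : Commute z d := hd.symm
    obtain ⟨n, hn'⟩ := ho
    rw [hc.mul_pow, pow_orderOf_eq_one, mul_one, hn', pow_succ, pow_mul, pow_two, h.zz, one_pow, one_mul] at h6
    exact h.z1 h6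

/-- if the elements of odd order of `D` commute with `x`, then `D` does -/
theorem comm_of_gen (h : Hyp t z D R F) {x : G} (hx : ∀ d ∈ D, Odd (orderOf d) → x * d = d * x) :
    ∀ d ∈ D, x * d = d * x := by
  have h3 : D ≤ centralizer ({x} : Set G) :=
    h.gen.trans ((closure_le _).2 (fun y hy => mem_centralizer_singleton_iff.2 (hx y hy.1 hy.2).symm))
  exact fun d hd => (mem_centralizer_singleton_iff.1 (h3 hd)).symm

theorem exists_odd (h : Hyp t z D R F) : ∃ d ∈ D, Odd (orderOf d) ∧ d ≠ 1 := by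
  by_contra hcon
  push Not at hcon
  have h4 : D ≤ ⊥ := h.gen.trans ((closure_le _).2 fun x hx => mem_bot.2 (hcon x hx.1 hx.2))
  exact h.z1 (mem_bot.1 (h4 (h.RD h.zR)))

/-- `R ≤ F` -/
theorem R_le [Finite G] (h : Hyp t z D R F) : R ≤ F := by
  rcases h.irr (R ⊓ F) inf_le_left (fun g hgt hgz n hn =>
    ⟨h.nX g hgt hgz n hn.1, h.L.conj_mem g hgz n hn.2⟩) with h1 | h1
  · exfalso
    have hFD : F ⊓ D ≤ R := h.max (F ⊓ D) inf_le_right ((isPGroup h.L).to_le inf_le_left)
      (fun g hgt hgz n hn => ⟨h.L.conj_mem g hgz n hn.1, h.nD g hgt hgz n hn.2⟩)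
    obtain ⟨d, hd, ho, hd1⟩ := h.exists_odd
    have hdz := h.Dz d hd
    apply hd1
    apply h.eq_one_of_odd hdz ho
    refine axb (isPGroup h.L) ho (h.Dt d hd) h.tt (fun x hx => h.L.conj_mem d hdz x hx)
      (fun x hx => h.L.conj_mem t h.comm x hx) ?_
    intro x hx hxt
    have hxz := h.L.comm_z x hx
    apply h.comm_of_odd hdz ho
    have h3 : x * d * x⁻¹ * d⁻¹ ∈ F ⊓ D := by
      refine ⟨?_, D.mul_mem (h.nD x hxt hxz d hd) (D.inv_mem hd)⟩
      have h4 := F.mul_mem hx (h.L.conj_mem d hdz x⁻¹ (F.inv_mem hx))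
      have e : x * (d * x⁻¹ * d⁻¹) = x * d * x⁻¹ * d⁻¹ := by group
      rwa [e] at h4
    exact h1 _ ⟨hFD h3, h3.1⟩
  · exact h1.trans inf_le_right

/-- `D` centralises `C_F(R)` -/
theorem comm_D [Finite G] (h : Hyp t z D R F) {x : G} (hx : x ∈ F) (hxR : ∀ r ∈ R, x * r = r * x) :
    ∀ d ∈ D, x * d = d * x := by
  apply h.comm_of_gen
  intro d hd ho
  have hdz := h.Dz d hd
  refine axb (P := F ⊓ centralizer (R : Set G)) ((isPGroup h.L).to_le inf_le_left) ho (h.Dt d hd) h.tt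
    ?_ ?_ ?_ x ⟨hx, mem_centralizer_iff.2 fun r hr => (hxR r hr).symm⟩
  · rintro y ⟨hy, hyR⟩
    refine ⟨h.L.conj_mem d hdz y hy, mem_centralizer_iff.2 fun r hr => ?_⟩
    have h1 := h.nR d⁻¹ (D.inv_mem hd) r hr
    rw [inv_inv] at h1
    have h2 := mem_centralizer_iff.1 hyR _ h1
    calc r * (d * y * d⁻¹) = d * ((d⁻¹ * r * d) * y) * d⁻¹ := by group
      _ = d * (y * (d⁻¹ * r * d)) * d⁻¹ := by rw [h2]
      _ = d * y * d⁻¹ * r := by group
  · rintro y ⟨hy, hyR⟩
    refine ⟨h.L.conj_mem t h.comm y hy, mem_centralizer_iff.2 fun r hr => ?_⟩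
    have c1 : Commute r t := h.Dt r (h.RD hr)
    have c2 : Commute r y := mem_centralizer_iff.1 hyR r hr
    exact ((c1.mul_right c2).mul_right c1.inv_right).eq
  · rintro y ⟨hy, hyR⟩ hyt
    exact h.cRD y hyt (fun r hr => (mem_centralizer_iff.1 hyR r hr).symm) d hd

/-- `D` does not act trivially on `R / ⟨z⟩` -/
theorem exists_move [Finite G] (h : Hyp t z D R F) :
    ∃ d ∈ D, ∃ r ∈ R, ¬ (d * r * d⁻¹ * r⁻¹ = 1 ∨ d * r * d⁻¹ * r⁻¹ = z) := by
  by_contra hcon
  push Not at hcon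
  obtain ⟨d, hd, ho, hd1⟩ := h.exists_odd
  have hc : ∀ r ∈ R, ∀ d ∈ D, r * d = d * r := by
    intro r hr
    apply h.comm_of_gen
    intro d hd ho
    apply h.comm_of_odd (h.Dz d hd) ho
    have e : r * d * r⁻¹ * d⁻¹ = (d * r * d⁻¹ * r⁻¹)⁻¹ := by group
    rcases hcon d hd r hr with h2 | h2
    · left
      rw [e, h2, inv_one]
    · right
      rw [e, h2, h.zi]
  rcases h.cR d hd (fun r hr => (hc r hr d hd).symm) with h1 | h1
  · exact hd1 h1
  · rw [h1] at ho
    have h2 : orderOf z = 2 := orderOf_eq_prime (by rw [pow_two]; exact h.zz) h.z1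
    rw [h2] at ho
    exact absurd ho (by decide)

/-- the diagonal case does not occur -/
theorem diag_false [Finite G] (h : Hyp t z D R F) {b : G} {M L : Subgroup G} (A : DiagAt t z b D M L) :
    False := by
  have hRF := h.R_le
  obtain ⟨z₁, hz₁, ez⟩ := A.exists_z h.toPos
  have hzM : z ∉ M := by
    intro hz
    have h1 : t * z₁ * t⁻¹ ∈ M := by
      have e : t * z₁ * t⁻¹ = z₁⁻¹ * z := by rw [← ez]; group
      rw [e]; exact M.mul_mem (M.inv_mem hz₁) hz
    have h2 := A.dis z₁ hz₁ h1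
    apply h.z1
    rw [← ez, h2]; group
  obtain ⟨d', hd', r', hr', hne⟩ := h.exists_move
  obtain ⟨d, hd, ed⟩ := A.LM d' (A.DL hd')
  obtain ⟨r, hr, er⟩ := A.LM r' (A.DL (h.RD hr'))
  have hdz : d * z = z * d := A.pre_z h.toPos (A.mem_pre.2 ⟨hd, by rw [ed]; exact hd'⟩)
  have hrF : r * (t * r * t⁻¹) ∈ F := by rw [er]; exact hRF hr'
  -- `x = [d, r]`
  obtain ⟨x, hx⟩ : ∃ x, x = d * r * d⁻¹ * r⁻¹ := ⟨_, rfl⟩
  have hxM : x ∈ M := by
    rw [hx]; exact M.mul_mem (M.mul_mem (M.mul_mem hd hr) (M.inv_mem hd)) (M.inv_mem hr)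
  have hxF : x ∈ F := by
    have h1 := F.mul_mem (h.L.conj_mem d hdz _ hrF) (F.inv_mem hrF)
    have c1 : Commute d (t * r * t⁻¹) := A.com d hd r hr
    have e : d * (r * (t * r * t⁻¹)) * d⁻¹ * (r * (t * r * t⁻¹))⁻¹ = x := by
      rw [hx, mul_inv_rev]
      calc d * (r * (t * r * t⁻¹)) * d⁻¹ * ((t * r * t⁻¹)⁻¹ * r⁻¹)
          = d * r * ((t * r * t⁻¹) * d⁻¹) * (t * r * t⁻¹)⁻¹ * r⁻¹ := by group
        _ = d * r * (d⁻¹ * (t * r * t⁻¹)) * (t * r * t⁻¹)⁻¹ * r⁻¹ := by rw [c1.inv_left.eq]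
        _ = d * r * d⁻¹ * r⁻¹ := by group
    rwa [e] at h1
  -- `x` commutes with the first coordinates of `R`
  have hxy : ∀ y ∈ M, y * (t * y * t⁻¹) ∈ R → x * y = y * x := by
    intro y hy hyR
    have c1 : Commute x (t * y * t⁻¹) := A.com x hxM y hy
    rcases h.L.comm x hxF _ (hRF hyR) with h1 | h1
    · have h2 : x * y * (t * y * t⁻¹) = y * x * (t * y * t⁻¹) := by
        calc x * y * (t * y * t⁻¹) = x * (y * (t * y * t⁻¹)) := by group
          _ = y * ((t * y * t⁻¹) * x) := by rw [h1]; group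
          _ = y * (x * (t * y * t⁻¹)) := by rw [c1.eq]
          _ = y * x * (t * y * t⁻¹) := by group
      exact mul_right_cancel h2
    · exfalso
      apply hzM
      have e : z = (y * x)⁻¹ * (x * y) := by
        have h2 : x * y * (t * y * t⁻¹) = y * x * z * (t * y * t⁻¹) := by
          have c3 : Commute (y * (t * y * t⁻¹)) z := h.L.comm_z _ (hRF hyR)
          calc x * y * (t * y * t⁻¹) = x * (y * (t * y * t⁻¹)) := by group
            _ = y * ((t * y * t⁻¹) * x) * z := by rw [h1]; group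
            _ = y * (x * (t * y * t⁻¹)) * z := by rw [c1.eq]
            _ = y * x * ((t * y * t⁻¹) * z) := by group
            _ = y * x * (z * (t * y * t⁻¹)) := by
                have hyz : Commute y z := A.pre_z h.toPos (A.mem_pre.2 ⟨hy, h.RD hyR⟩)
                have htz : Commute t z := h.comm
                rw [((htz.mul_left hyz).mul_left htz.inv_left).eq]
            _ = y * x * z * (t * y * t⁻¹) := by group
        have h3 := mul_right_cancel h2
        rw [h3]; group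
      rw [e]
      exact M.mul_mem (M.inv_mem (M.mul_mem hy hxM)) (M.mul_mem hxM hy)
  -- the element `[d', r']`
  have e1 : x * (t * x * t⁻¹) = d' * r' * d'⁻¹ * r'⁻¹ := by
    rw [hx, A.dmul (M.mul_mem (M.mul_mem hd hr) (M.inv_mem hd)) (M.inv_mem hr),
      A.dmul (M.mul_mem hd hr) (M.inv_mem hd), A.dmul hd hr, A.dinv hd, A.dinv hr, ed, er]
  apply hne
  rw [← e1]
  apply h.cR
  · rw [e1]
    exact D.mul_mem (D.mul_mem (D.mul_mem hd' (h.RD hr')) (D.inv_mem hd')) (D.inv_mem (h.RD hr'))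
  · intro s hs
    obtain ⟨y, hy, ey⟩ := A.LM s (A.DL (h.RD hs))
    have h1 := hxy y hy (by rw [ey]; exact hs)
    rw [← ey, ← A.dmul hxM hy, ← A.dmul hy hxM, h1]

/-! ### `F = R C_F(R)` -/

theorem decomp [Finite G] (h : Hyp t z D R F) {f : G} (hf : f ∈ F) :
    ∃ r ∈ R, ∃ s ∈ F, (∀ y ∈ R, s * y = y * s) ∧ f = r * s := by
  have hRF := h.R_le
  have := finiteDim h.L
  let U : Submodule (ZMod 2) h.L.V :=
    { carrier := {v | ∃ (r : G) (hr : r ∈ R), v = h.L.pr ⟨r, hRF hr⟩}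
      zero_mem' := ⟨1, R.one_mem, rfl⟩
      add_mem' := by
        rintro _ _ ⟨r, hr, rfl⟩ ⟨r', hr', rfl⟩
        exact ⟨r * r', R.mul_mem hr hr', rfl⟩
      smul_mem' := by
        rintro c _ ⟨r, hr, rfl⟩
        rcases zmod_two c with h1 | h1
        · rw [h1, zero_smul]
          exact ⟨1, R.one_mem, rfl⟩
        · rw [h1, one_smul]
          exact ⟨r, hr, rfl⟩ }
  have hrefl : h.L.b.IsRefl := fun v w hvw => by rw [h.L.b_comm]; exact hvw
  have hort : ∀ v, v ∈ h.L.b.orthogonal U → ∀ (r : G) (hr : r ∈ R), h.L.b (h.L.pr ⟨r, hRF hr⟩) v = 0 :=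
    fun v hv r hr => hv _ ⟨r, hr, rfl⟩
  have hdis : Disjoint U (h.L.b.orthogonal U) := by
    rw [Submodule.disjoint_def]
    rintro _ ⟨r, hr, rfl⟩ hv
    rw [h.L.pr_eq_zero]
    apply h.cR r (h.RD hr)
    intro y hy
    exact ((h.L.b_pr _ _).1 (hort _ hv y hy)).symm
  have hc := (LinearMap.BilinForm.isCompl_orthogonal_iff_disjoint hrefl).2 hdis
  have h1 : h.L.pr ⟨f, hf⟩ ∈ U ⊔ h.L.b.orthogonal U := by
    rw [hc.sup_eq_top]; exact Submodule.mem_top
  obtain ⟨_, ⟨r, hr, rfl⟩, w, hw, e⟩ := Submodule.mem_sup.1 h1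
  obtain ⟨⟨s, hs⟩, rfl⟩ := h.L.pr_surjective w
  have hsR : ∀ y ∈ R, s * y = y * s := fun y hy => ((h.L.b_pr _ _).1 (hort _ hw y hy)).symm
  rw [← h.L.pr_mul, h.L.pr_eq_pr] at e
  have zc : ∀ y ∈ R, z * y = y * z := fun y hy => (h.Dz y (h.RD hy)).symm
  rcases e with e | e
  · exact ⟨r, hr, s, hs, hsR, e.symm⟩
  · refine ⟨r, hr, s * z, F.mul_mem hs h.L.z_mem, ?_, ?_⟩
    · intro y hy
      have c1 : Commute s y := hsR y hy
      have c2 : Commute z y := zc y hy
      exact (c1.mul_left c2).eq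
    · have e' : r * s = f * z := e
      rw [← mul_assoc, e', mul_assoc, h.zz, mul_one]

end Hyp

/-- `f⁻¹ f^w` commutes with the elements `c` fixed by `w` modulo `⟨z⟩` -/
theorem comm_gamma {F : Subgroup G} {z : G} (L : Large F z) {c f w : G} (hc : c ∈ F) (hf : f ∈ F)
    (hw : w * z = z * w) (hwc : w * c * w⁻¹ = c ∨ w * c * w⁻¹ = c * z) :
    c * (f⁻¹ * (w * f * w⁻¹)) = (f⁻¹ * (w * f * w⁻¹)) * c := by
  have hf' : w * f * w⁻¹ ∈ F := L.conj_mem w hw f hf
  have hcz : c * z = z * c := L.comm_z c hc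
  have key : L.b (L.pr ⟨c, hc⟩) (L.pr ⟨f, hf⟩) = L.b (L.pr ⟨c, hc⟩) (L.pr ⟨_, hf'⟩) := by
    have h2 := L.b_act ⟨w, mem_centralizer_singleton_iff.2 hw⟩ (L.pr ⟨c, hc⟩) (L.pr ⟨f, hf⟩)
    rw [L.act_pr, L.act_pr] at h2
    have h3 : L.pr (L.conjQ ⟨w, mem_centralizer_singleton_iff.2 hw⟩ ⟨c, hc⟩) = L.pr ⟨c, hc⟩ :=
      L.pr_eq_pr.2 hwc
    rw [h3] at h2
    exact h2.symm
  have h4 : L.b (L.pr ⟨c, hc⟩) (L.pr (⟨f, hf⟩⁻¹ * ⟨_, hf'⟩)) = 0 := by
    rw [L.pr_mul, L.pr_inv, L.neg_eq, map_add, key]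
    rcases zmod_two (L.b (L.pr ⟨c, hc⟩) (L.pr ⟨_, hf'⟩)) with h5 | h5 <;> rw [h5] <;> decide
  exact (L.b_pr _ _).1 h4

namespace Hyp

variable {t z : G} {D R F : Subgroup G}

/-- **`t ∉ F`** -/
theorem mem_false [Finite G] (h : Hyp t z D R F) (htF : t ∈ F) : False := by
  have hRF := h.R_le
  obtain ⟨v, k, g, y⟩ := h.yt
  -- an element `s`
  obtain ⟨s, hs, hsR, hst⟩ : ∃ s ∈ F, (∀ r ∈ R, s * r = r * s) ∧ s * t = t * s * z := by
    by_contra hcon
    push Not at hcon
    have hc : ∀ f ∈ F, t * f = f * t := by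
      intro f hf
      obtain ⟨r, hr, s, hs, hsR, rfl⟩ := h.decomp hf
      have c1 : Commute t s := by
        rcases h.L.comm s hs t htF with h2 | h2
        · exact h2.symm
        · exact absurd h2 (hcon s hs hsR)
      have c2 : Commute t r := (h.Dt r (h.RD hr)).symm
      exact (c2.mul_right c1).eq
    rcases h.L.cent t htF hc with h1 | h1
    · exact h.t1 h1
    · exact h.tz h1
  have hsz : Commute s z := h.L.comm_z s hs
  have htz : Commute t z := h.comm
  have hvz : Commute v z := y.vz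
  -- `s' = v s v⁻¹`, `y₀ = s⁻¹ s'`
  obtain ⟨s', hs'⟩ : ∃ s', s' = v * s * v⁻¹ := ⟨_, rfl⟩
  have hs'F : s' ∈ F := by rw [hs']; exact h.L.conj_mem v y.vz s hs
  have hy0F : s⁻¹ * s' ∈ F := F.mul_mem (F.inv_mem hs) hs'F
  have hs'R : ∀ r ∈ R, s' * r = r * s' := by
    intro r hr
    have hvi : v⁻¹ * t = t * v⁻¹ := (show Commute v t from y.vt).inv_left.eq
    have h1 := h.nX v⁻¹ hvi hvz.inv_left.eq r hr
    rw [inv_inv] at h1
    have h2 := hsR _ h1
    calc s' * r = v * (s * (v⁻¹ * r * v)) * v⁻¹ := by rw [hs']; group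
      _ = v * ((v⁻¹ * r * v) * s) * v⁻¹ := by rw [h2]
      _ = r * s' := by rw [hs']; group
  have key : ∀ x ∈ F, x * t = t * x → x * (s⁻¹ * s') = (s⁻¹ * s') * x := by
    intro x hx hxt
    obtain ⟨r, hr, x₁, hx₁, hx₁R, rfl⟩ := h.decomp hx
    have c1 : Commute r t := h.Dt r (h.RD hr)
    have c2 : Commute x₁ t := by
      have c3 : Commute (r * x₁) t := hxt
      have c4 := c1.inv_left.mul_left c3
      rwa [inv_mul_cancel_left] at c4
    have c5 : Commute x₁ (s⁻¹ * s') := by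
      rw [hs']
      exact comm_gamma h.L hx₁ hs y.vz (y.vB x₁ c2 hx₁R)
    have c6 : Commute r (s⁻¹ * s') :=
      (show Commute s r from hsR r hr).symm.inv_right.mul_right (show Commute s' r from hs'R r hr).symm
    exact (c6.mul_left c5).eq
  have hsq : ∀ e, s' = s * e → (e = t ∨ e = t * z) → False := by
    intro e he hte
    have h1 : s' * s' = s * s := by
      have h2 : s' * s' = v * (s * s) * v⁻¹ := by rw [hs']; group
      rw [h2]
      rcases h.L.sq s hs with h3 | h3 <;> rw [h3]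
      · group
      · rw [hvz.eq]; group
    have h4 : (s * t) * (s * t) = s * s * z := by
      have e1 : t * s = s * t * z := by
        rw [hst, mul_assoc, h.zz, mul_one]
      calc (s * t) * (s * t) = s * (t * s) * t := by group
        _ = s * s * (t * z) * t := by rw [e1]; group
        _ = s * s * (z * (t * t)) := by rw [htz.eq]; group
        _ = s * s * z := by rw [h.tt, mul_one]
    have h5 : s' * s' = s * s * z := by
      rcases hte with h6 | h6
      · rw [he, h6, h4]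
      · have c1 : Commute (s * t) z := hsz.mul_left htz
        have e2 : s * (t * z) * (s * (t * z)) = (s * t) * (s * t) * (z * z) := by
          calc s * (t * z) * (s * (t * z)) = (s * t) * (z * (s * t)) * z := by group
            _ = (s * t) * ((s * t) * z) * z := by rw [c1.eq]
            _ = (s * t) * (s * t) * (z * z) := by group
        rw [he, h6, e2, h.zz, mul_one, h4]
    rw [h1] at h5
    exact h.z1 (mul_eq_left.1 h5.symm)
  -- `v s v⁻¹ ∈ {s, s z}`
  have hvs : v * s * v⁻¹ = s ∨ v * s * v⁻¹ = s * z := by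
    have he : s' = s * (s⁻¹ * s') := by group
    rcases eq_of_cent h.L htF hy0F key with h1 | h1 | h1 | h1
    · left; rw [← hs', he, h1, mul_one]
    · right; rw [← hs', he, h1]
    · exact (hsq _ he (Or.inl h1)).elim
    · exact (hsq _ he (Or.inr h1)).elim
  -- the y-trick
  have trick : ∀ w : G, w * v * w⁻¹ = v → w * t * w⁻¹ = t * z → False := by
    intro w hwv hwt
    have ckt : Commute k t := y.kt
    have h1 : (k⁻¹ * w * k) * z = z * (k⁻¹ * w * k) := by
      rw [← mul_inv_eq_iff_eq_mul]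
      calc k⁻¹ * w * k * z * (k⁻¹ * w * k)⁻¹ = k⁻¹ * (w * (k * z * k⁻¹) * w⁻¹) * k := by group
        _ = k⁻¹ * (k * z * k⁻¹) * k := by rw [y.kv, hwv]
        _ = z := by group
    have h2 : (k⁻¹ * w * k) * t * (k⁻¹ * w * k)⁻¹ = t * (k⁻¹ * z * k) := by
      calc (k⁻¹ * w * k) * t * (k⁻¹ * w * k)⁻¹ = k⁻¹ * (w * (k * t * k⁻¹) * w⁻¹) * k := by group
        _ = k⁻¹ * (w * t * w⁻¹) * k := by rw [ckt.eq]; group
        _ = (k⁻¹ * t) * z * k := by rw [hwt]; group
        _ = t * (k⁻¹ * z * k) := by rw [ckt.inv_left.eq]; group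
    have h3 : k⁻¹ * z * k ∈ F := by
      have h4 := F.mul_mem (F.inv_mem htF) (h.L.conj_mem _ h1 t htF)
      rwa [h2, inv_mul_cancel_left] at h4
    refine y.kF (F ⊓ centralizer ({t} : Set G)) ((isPGroup h.L).to_le inf_le_left)
      (fun n hn => mem_centralizer_singleton_iff.1 hn.2) (fun n hn => h.L.comm_z n hn.1) ?_
      ⟨h3, mem_centralizer_singleton_iff.2 ?_⟩
    · intro x hxt hxz n hn
      have c1 : Commute x t := hxt
      have c2 : Commute n t := mem_centralizer_singleton_iff.1 hn.2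
      exact ⟨h.L.conj_mem x hxz n hn.1, mem_centralizer_singleton_iff.2
        ((c1.mul_left c2).mul_left c1.inv_left).eq⟩
    · exact ((ckt.inv_left.mul_left htz.symm).mul_left ckt).eq
  have hst' : s * t * s⁻¹ = t * z := by
    rw [hst]
    calc t * s * z * s⁻¹ = t * (s * z) * s⁻¹ := by group
      _ = t * z := by rw [hsz.eq]; group
  rcases hvs with h1 | h1
  · -- `s` commutes with `v`
    rw [mul_inv_eq_iff_eq_mul] at h1
    refine trick s ?_ hst'
    rw [← h1]; group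
  · refine trick (g * s) ?_ ?_
    · have h2 : s * v * s⁻¹ = v * z := by
        rw [mul_inv_eq_iff_eq_mul] at h1
        -- `v s = s z v`
        have h3 : s * v = v * s * z := by
          rw [h1]
          calc s * v = s * v * (z * z) := by rw [h.zz, mul_one]
            _ = s * (v * z) * z := by group
            _ = s * (z * v) * z := by rw [hvz.eq]
            _ = s * z * v * z := by group
        rw [h3]
        calc v * s * z * s⁻¹ = v * (s * z) * s⁻¹ := by group
          _ = v * z := by rw [hsz.eq]; group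
      have cgz : Commute g z := y.hz
      calc g * s * v * (g * s)⁻¹ = g * (s * v * s⁻¹) * g⁻¹ := by group
        _ = g * v * (z * g⁻¹) := by rw [h2]; group
        _ = (g * v * g⁻¹) * z := by rw [cgz.symm.inv_right.eq]; group
        _ = v := by rw [y.hv, mul_assoc, h.zz, mul_one]
    · have cgt : Commute g t := y.ht
      have cgz : Commute g z := y.hz
      calc g * s * t * (g * s)⁻¹ = g * (s * t * s⁻¹) * g⁻¹ := by group
        _ = (g * (t * z)) * g⁻¹ := by rw [hst']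
        _ = t * z := by rw [(cgt.mul_right cgz).eq]; group

end Hyp

end Cfsg.Agent.OddHalf.D6.QThree.EndSym
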