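import Cfsg.Agent.OddHalf.D6.QThree.EndSym

/-!
# ODD half, D6, `q = 3`: the end, part 2: `t ∈ O₂(C_G(z))` (helper253, bb #15179 (iii))

`Hyp.not_mem_false`, `Hyp.false`: `EndSym.Hyp` is contradictory.
-/

set_option autoImplicit false

namespace Cfsg.Agent.OddHalf.D6.QThree.EndSymB

open Subgroup Cfsg Module
open Cfsg.Agent.Co2Type.Quad Cfsg.Agent.LargeExtra.Base Cfsg.Agent.LargeExtra.TwoCentral
  Cfsg.Agent.LargeExtra.Dickson
open Cfsg.Agent.OddHalf.D6.QThree.Diag (Pos DiagAt)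
open Cfsg.Agent.OddHalf.D6.QThree.EndSym

variable {G : Type*} [Group G]

/-- the image of `v ↦ t v + v` is the space perpendicular to the fixed space -/
theorem exists_act_add {F : Subgroup G} {z : G} [Finite F] (L : Large F z)
    (t : centralizer ({z} : Set G)) (tt : (t : G) * t = 1) {a : L.V}
    (ha : ∀ v, L.act t v = v → L.b v a = 0) : ∃ v, L.act t v + v = a := by
  have := finiteDim L
  have hff : ∀ v, L.act t (L.act t v) = v := by
    intro v
    have h1 : L.act (t * t) v = v := by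
      have : t * t = 1 := Subtype.ext tt
      rw [this, map_one]; rfl
    rw [map_mul] at h1
    exact h1
  let N : L.V →ₗ[ZMod 2] L.V := (L.act t).toLinearMap + LinearMap.id
  have hN : ∀ v, N v = L.act t v + v := fun v => rfl
  have hrefl : L.b.IsRefl := fun v w hvw => by rw [L.b_comm]; exact hvw
  have hnd : L.b.Nondegenerate := ⟨fun v hv => L.b_nondeg hv, fun v hv => L.b_nondeg fun w => by
    rw [L.b_comm]; exact hv w⟩
  have h1 : a ∈ LinearMap.range N := by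
    rw [← LinearMap.BilinForm.orthogonal_orthogonal hnd hrefl (LinearMap.range N)]
    intro v hv
    apply ha
    have h2 : ∀ u, L.b (N u) v = 0 := fun u => hv _ ⟨u, rfl⟩
    have h3 : L.act t v + v = 0 := by
      apply L.b_nondeg
      intro u
      have h4 := h2 (L.act t u)
      rw [hN, map_add, LinearMap.add_apply, hff] at h4
      have h5 : L.b (L.act t v) u = L.b (L.act t u) v := by
        rw [L.b_comm, ← L.b_act t u (L.act t v), hff]
      rw [map_add, LinearMap.add_apply, h5, L.b_comm v u, add_comm]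
      exact h4
    calc L.act t v = L.act t v + (v + v) := by rw [L.add_self, add_zero]
      _ = v := by rw [← add_assoc, h3, zero_add]
  obtain ⟨v, hv⟩ := h1
  exact ⟨v, by rw [← hN]; exact hv⟩

namespace Hyp

variable {t z : G} {D R F : Subgroup G}

/-- the situation `t ∉ F`: a reflection `b = f⁻¹ f^t ∈ F` -/
theorem exists_ref [Finite G] (h : Hyp t z D R F) (htF : t ∉ F) :
    ∃ b ∈ F, ∃ f ∈ F, b = f⁻¹ * (t * f * t⁻¹) ∧ b * t = t * b ∧ (∀ r ∈ R, b * r = r * b) ∧ b * b = 1 ∧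
      ¬ Four t z b ∧
      ∀ y ∈ F, y * t = t * y → (∀ r ∈ R, y * r = r * y) → y = 1 ∨ y = z ∨ y = b ∨ y = b * z := by
  have hRF := h.R_le
  have htz : Commute t z := h.comm
  have htzF : t * z ∉ F := fun h1 => htF (by
    have := F.mul_mem h1 h.L.z_mem
    rwa [mul_assoc, h.zz, mul_one] at this)
  have hfour : ∀ x ∈ F, Four t z x → x = 1 ∨ x = z := by
    rintro x hx (h1 | h1 | h1 | h1)
    · exact Or.inl h1
    · exact Or.inr h1
    · exact absurd (h1 ▸ hx) htF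
    · exact absurd (h1 ▸ hx) htzF
  have htF' : ∀ f ∈ F, t * f * t⁻¹ ∈ F := fun f hf => h.L.conj_mem t h.comm f hf
  -- the element `a`
  obtain ⟨a, haF, hat, hac, ha1, haz⟩ : ∃ a ∈ F, a * t = t * a ∧
      (∀ y ∈ F, y * t = t * y → a * y = y * a) ∧ a ≠ 1 ∧ a ≠ z := by
    by_contra hcon
    push Not at hcon
    apply h.lam (dick h.L)
    refine D8.Lam.dick_of_nondeg h.L ⟨t, mem_centralizer_singleton_iff.2 h.comm⟩ h.tt htF ?_
    intro x hx hxt hc
    by_contra h1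
    push Not at h1
    exact h1.2 (hcon x hx hxt hc h1.1)
  have haR : ∀ r ∈ R, a * r = r * a := fun r hr => hac r (hRF hr) (h.Dt r (h.RD hr))
  have haF4 : ¬ Four t z a := fun h1 => by
    rcases hfour a haF h1 with h2 | h2
    exacts [ha1 h2, haz h2]
  have hY : ∀ y ∈ F, y * t = t * y → (∀ r ∈ R, y * r = r * y) → y = 1 ∨ y = z ∨ y = a ∨ y = a * z := by
    intro y hy hyt hyR
    rcases h.kb a y hat haR hyt hyR (hac y hy hyt) haF4 with h1 | h1
    · rcases hfour y hy h1 with h2 | h2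
      · exact Or.inl h2
      · exact Or.inr (Or.inl h2)
    · rcases hfour (a⁻¹ * y) (F.mul_mem (F.inv_mem haF) hy) h1 with h2 | h2
      · exact Or.inr (Or.inr (Or.inl (inv_mul_eq_one.1 h2).symm))
      · exact Or.inr (Or.inr (Or.inr (inv_mul_eq_iff_eq_mul.1 h2)))
  -- the map `f ↦ f⁻¹ f^t`
  have gF : ∀ f ∈ F, f⁻¹ * (t * f * t⁻¹) ∈ F := fun f hf => F.mul_mem (F.inv_mem hf) (htF' f hf)
  have gc : ∀ f ∈ F, ∀ c ∈ F, c * t = t * c → c * (f⁻¹ * (t * f * t⁻¹)) = (f⁻¹ * (t * f * t⁻¹)) * c := by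
    intro f hf c hc hct
    refine comm_gamma h.L hc hf h.comm (Or.inl ?_)
    rw [← hct]; group
  have gR : ∀ f ∈ F, ∀ r ∈ R, (f⁻¹ * (t * f * t⁻¹)) * r = r * (f⁻¹ * (t * f * t⁻¹)) :=
    fun f hf r hr => (gc f hf r (hRF hr) (h.Dt r (h.RD hr))).symm
  have gi : ∀ f, t * (f⁻¹ * (t * f * t⁻¹)) * t⁻¹ = (f⁻¹ * (t * f * t⁻¹))⁻¹ := by
    intro f
    calc t * (f⁻¹ * (t * f * t⁻¹)) * t⁻¹ = (t * f * t⁻¹)⁻¹ * ((t * t) * f * (t * t)⁻¹) := by group
      _ = (f⁻¹ * (t * f * t⁻¹))⁻¹ := by rw [h.tt]; group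
  -- `a` is in the image
  obtain ⟨f, hf, hfa⟩ : ∃ f ∈ F, f⁻¹ * (t * f * t⁻¹) = a ∨ f⁻¹ * (t * f * t⁻¹) = a * z := by
    by_contra hno
    push Not at hno
    obtain ⟨f₀, hf₀, hg1, hgz⟩ : ∃ f ∈ F, f⁻¹ * (t * f * t⁻¹) ≠ 1 ∧ f⁻¹ * (t * f * t⁻¹) ≠ z := by
      by_contra hcon
      push Not at hcon
      apply htF
      apply h.L.mem_of_act ⟨t, mem_centralizer_singleton_iff.2 h.comm⟩
      ext v
      obtain ⟨⟨f, hf⟩, rfl⟩ := h.L.pr_surjective v
      rw [h.L.act_pr]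
      show _ = h.L.pr ⟨f, hf⟩
      rw [h.L.pr_eq_pr, h.L.conjQ_coe]
      show t * f * t⁻¹ = f ∨ t * f * t⁻¹ = f * z
      by_cases h1 : f⁻¹ * (t * f * t⁻¹) = 1
      · exact Or.inl (inv_mul_eq_one.1 h1).symm
      · exact Or.inr (inv_mul_eq_iff_eq_mul.1 (hcon f hf h1))
    obtain ⟨g, hg⟩ : ∃ g, g = f₀⁻¹ * (t * f₀ * t⁻¹) := ⟨_, rfl⟩
    have hgF : g ∈ F := by rw [hg]; exact gF f₀ hf₀
    have hgi : t * g * t⁻¹ = g⁻¹ := by rw [hg]; exact gi f₀
    have hgg : g * g = z := by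
      rcases h.L.sq g hgF with h1 | h1
      · exfalso
        have h2 : g⁻¹ = g := inv_eq_of_mul_eq_one_right h1
        rw [h2, mul_inv_eq_iff_eq_mul] at hgi
        have h3 := hY g hgF hgi.symm (by rw [hg]; exact gR f₀ hf₀)
        rw [hg] at h3
        rcases h3 with h3 | h3 | h3 | h3
        · exact hg1 h3
        · exact hgz h3
        · exact (hno f₀ hf₀).1 h3
        · exact (hno f₀ hf₀).2 h3
      · exact h1
    have hgz' : Commute g z := h.L.comm_z g hgF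
    have hginv : g⁻¹ = g * z := by
      apply inv_eq_of_mul_eq_one_right
      rw [← mul_assoc, hgg, h.zz]
    have hag : Commute a g := by rw [hg]; exact gc f₀ hf₀ a haF hat
    have hfix : ∀ w ∈ F, (t * w * t⁻¹ = w ∨ t * w * t⁻¹ = w * z) → w * a = a * w := by
      intro w hw h1
      rcases h1 with h1 | h1
      · rw [mul_inv_eq_iff_eq_mul] at h1
        exact (hac w hw h1.symm).symm
      · have h2 : (w * g) * t = t * (w * g) := by
          have h3 : t * (w * g) * t⁻¹ = w * g := by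
            calc t * (w * g) * t⁻¹ = (t * w * t⁻¹) * (t * g * t⁻¹) := by group
              _ = w * (z * g) * z := by rw [h1, hgi, hginv]; group
              _ = w * (g * z) * z := by rw [hgz'.eq]
              _ = w * g * (z * z) := by group
              _ = w * g := by rw [h.zz, mul_one]
          rw [mul_inv_eq_iff_eq_mul] at h3
          exact h3.symm
        have h4 : Commute a (w * g) := hac _ (F.mul_mem hw hgF) h2
        have h5 := h4.mul_right hag.inv_right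
        rw [mul_inv_cancel_right] at h5
        exact h5.symm.eq
    obtain ⟨v, hv⟩ := exists_act_add h.L ⟨t, mem_centralizer_singleton_iff.2 h.comm⟩ h.tt
      (a := h.L.pr ⟨a, haF⟩) (by
      intro v hv
      obtain ⟨⟨w, hw⟩, rfl⟩ := h.L.pr_surjective v
      rw [h.L.act_pr, h.L.pr_eq_pr, h.L.conjQ_coe] at hv
      exact (h.L.b_pr _ _).2 (hfix w hw hv))
    obtain ⟨⟨w, hw⟩, rfl⟩ := h.L.pr_surjective v
    rw [h.L.act_pr, ← h.L.pr_mul, h.L.pr_eq_pr] at hv
    have h1 : t * w * t⁻¹ * w = a ∨ t * w * t⁻¹ * w = a * z := hv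
    -- `w⁻¹ w^t = w^t w` modulo `⟨z⟩`
    have h2 : h.L.pr (⟨w, hw⟩⁻¹ * ⟨t * w * t⁻¹, htF' w hw⟩) = h.L.pr ⟨a, haF⟩ := by
      rw [h.L.pr_mul, h.L.pr_inv, h.L.neg_eq, add_comm, ← h.L.pr_mul, h.L.pr_eq_pr]
      exact h1
    rw [h.L.pr_eq_pr] at h2
    rcases h2 with h3 | h3
    · exact (hno w hw).1 h3
    · exact (hno w hw).2 h3
  -- `b`
  obtain ⟨b, hb⟩ : ∃ b, b = f⁻¹ * (t * f * t⁻¹) := ⟨_, rfl⟩
  rw [← hb] at hfa
  have hbF : b ∈ F := by rw [hb]; exact gF f hf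
  have haz' : Commute a z := h.L.comm_z a haF
  have hbt : b * t = t * b := by
    rcases hfa with h1 | h1 <;> rw [h1]
    · exact hat
    · exact ((show Commute a t from hat).mul_left htz.symm).eq
  have hbR : ∀ r ∈ R, b * r = r * b := by rw [hb]; exact gR f hf
  have hbb : b * b = 1 := by
    have h1 : t * b * t⁻¹ = b⁻¹ := by rw [hb]; exact gi f
    have h2 : t * b * t⁻¹ = b := by rw [← hbt]; group
    rw [h2] at h1
    rw [eq_inv_iff_mul_eq_one] at h1
    exact h1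
  refine ⟨b, hbF, f, hf, hb, hbt, hbR, hbb, ?_, ?_⟩
  · intro h1
    rcases hfour b hbF h1 with h2 | h2 <;> rcases hfa with h3 | h3
    · exact ha1 (h3.symm.trans h2)
    · apply haz
      have h4 : a * z = 1 := h3.symm.trans h2
      rw [mul_eq_one_iff_eq_inv, h.zi] at h4
      exact h4
    · exact haz (h3.symm.trans h2)
    · apply ha1
      have h4 : a * z = z := h3.symm.trans h2
      exact mul_eq_right.1 h4
  · intro y hy hyt hyR
    rcases hY y hy hyt hyR with h1 | h1 | h1 | h1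
    · exact Or.inl h1
    · exact Or.inr (Or.inl h1)
    · rcases hfa with h3 | h3
      · right; right; left; rw [h1, h3]
      · right; right; right; rw [h1, h3, mul_assoc, h.zz, mul_one]
    · rcases hfa with h3 | h3
      · right; right; right; rw [h1, h3]
      · right; right; left; rw [h1, h3]

/-- **`t ∈ F`** -/
theorem not_mem_false [Finite G] (h : Hyp t z D R F) (htF : t ∉ F) : False := by
  have hRF := h.R_le
  obtain ⟨b, hbF, f, hf, hbf, hbt, hbR, hbb, hb4, hY⟩ := exists_ref h htF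
  have hb1 : b ≠ 1 := fun e => hb4 (Or.inl e)
  have hbz : b ≠ z := fun e => hb4 (Or.inr (Or.inl e))
  have hbzc : Commute b z := h.L.comm_z b hbF
  have htz : Commute t z := h.comm
  -- `D` is normal in `C(b) ∩ C(z)`
  have hn : ∀ g, g * b = b * g → g * z = z * g → ∀ d ∈ D, g * d * g⁻¹ ∈ D := by
    rcases h.ref b hbt hbR hbb hb4 with h1 | ⟨M, L, h1⟩
    · exact h1
    · exact (h.diag_false h1).elim
  -- `D` centralises `t^g`, `g ∈ C(b) ∩ C(z)`
  have hDt : ∀ g, g * b = b * g → g * z = z * g → ∀ d ∈ D, d * (g * t * g⁻¹) = (g * t * g⁻¹) * d := by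
    intro g hgb hgz d hd
    have cb : Commute g b := hgb
    have cz : Commute g z := hgz
    have h1 := hn g⁻¹ cb.inv_left.eq cz.inv_left.eq d hd
    rw [inv_inv] at h1
    have h2 := h.Dt _ h1
    calc d * (g * t * g⁻¹) = g * ((g⁻¹ * d * g) * t) * g⁻¹ := by group
      _ = g * (t * (g⁻¹ * d * g)) * g⁻¹ := by rw [h2]
      _ = (g * t * g⁻¹) * d := by group
  obtain ⟨g₀, r, hgz, hr, hr1, hrz, hgt⟩ := h.fus
  have hrF := hRF hr
  have hrt : Commute r t := h.Dt r (h.RD hr)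
  have cgz : Commute g₀ z := hgz
  -- `D` does not centralise `r`
  have hrD : ¬ ∀ d ∈ D, d * r = r * d := by
    intro h1
    rcases h.cR r (h.RD hr) (fun s hs => (h1 s (h.RD hs)).symm) with h2 | h2
    · exact hr1 h2
    · exact hrz h2
  -- `b^g ∈ {b, b z}`
  have hgb : g₀ * b * g₀⁻¹ = b ∨ g₀ * b * g₀⁻¹ = b * z := by
    obtain ⟨f', hf'⟩ : ∃ f', f' = g₀ * f * g₀⁻¹ := ⟨_, rfl⟩
    have hf'F : f' ∈ F := by rw [hf']; exact h.L.conj_mem g₀ hgz f hf
    obtain ⟨y, hy⟩ : ∃ y, y = f'⁻¹ * (t * f' * t⁻¹) := ⟨_, rfl⟩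
    have hyF : y ∈ F := by
      rw [hy]; exact F.mul_mem (F.inv_mem hf'F) (h.L.conj_mem t h.comm f' hf'F)
    have hyz : Commute y z := h.L.comm_z y hyF
    -- `g b g⁻¹ = y` or `y z`
    have e : g₀ * b * g₀⁻¹ = f'⁻¹ * (t * (r * f' * r⁻¹) * t⁻¹) := by
      calc g₀ * b * g₀⁻¹ = (g₀ * f * g₀⁻¹)⁻¹ * ((g₀ * t * g₀⁻¹) * (g₀ * f * g₀⁻¹) * (g₀ * t * g₀⁻¹)⁻¹) := by
            rw [hbf]; group
        _ = f'⁻¹ * ((t * r) * f' * (t * r)⁻¹) := by rw [hgt, ← hf']
        _ = f'⁻¹ * (t * (r * f' * r⁻¹) * t⁻¹) := by group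
    have e2 : g₀ * b * g₀⁻¹ = y ∨ g₀ * b * g₀⁻¹ = y * z := by
      rcases h.L.comm r hrF f' hf'F with h1 | h1
      · left
        rw [e, h1, hy]; group
      · right
        have h2 : r * f' * r⁻¹ = f' * z := by
          have crz : Commute r z := h.L.comm_z r hrF
          rw [h1]
          calc f' * r * z * r⁻¹ = f' * (r * z) * r⁻¹ := by group
            _ = f' * z := by rw [crz.eq]; group
        rw [e, h2, hy]
        calc f'⁻¹ * (t * (f' * z) * t⁻¹) = f'⁻¹ * (t * f' * (z * t⁻¹)) := by group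
          _ = f'⁻¹ * (t * f' * (t⁻¹ * z)) := by rw [htz.symm.inv_right.eq]
          _ = f'⁻¹ * (t * f' * t⁻¹) * z := by group
    have e3 : (g₀ * b * g₀⁻¹) * (g₀ * b * g₀⁻¹) = 1 := by
      calc (g₀ * b * g₀⁻¹) * (g₀ * b * g₀⁻¹) = g₀ * (b * b) * g₀⁻¹ := by group
        _ = 1 := by rw [hbb]; group
    have hyy : y * y = 1 := by
      rcases e2 with h1 | h1
      · rwa [h1] at e3
      · rw [h1] at e3
        calc y * y = y * y * (z * z) := by rw [h.zz, mul_one]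
          _ = y * (y * z) * z := by group
          _ = y * (z * y) * z := by rw [hyz.eq]
          _ = (y * z) * (y * z) := by group
          _ = 1 := e3
    have hyi : t * y * t⁻¹ = y⁻¹ := by
      rw [hy]
      calc t * (f'⁻¹ * (t * f' * t⁻¹)) * t⁻¹ = (t * f' * t⁻¹)⁻¹ * ((t * t) * f' * (t * t)⁻¹) := by group
        _ = (f'⁻¹ * (t * f' * t⁻¹))⁻¹ := by rw [h.tt]; group
    have hyt : y * t = t * y := by
      rw [inv_eq_of_mul_eq_one_right hyy, mul_inv_eq_iff_eq_mul] at hyi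
      exact hyi.symm
    have hyR : ∀ s ∈ R, y * s = s * y := by
      intro s hs
      have h1 := comm_gamma h.L (hRF hs) hf'F h.comm (Or.inl (show t * s * t⁻¹ = s by
        have c := h.Dt s (h.RD hs)
        rw [← c]; group))
      rw [hy]; exact h1.symm
    have hc1 : g₀ * b * g₀⁻¹ ≠ 1 := fun e => hb1 (conj_eq_one_iff.1 e)
    have hcz : g₀ * b * g₀⁻¹ ≠ z := by
      intro e'
      apply hbz
      calc b = g₀⁻¹ * (g₀ * b * g₀⁻¹) * g₀ := by group
        _ = g₀⁻¹ * z * g₀ := by rw [e']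
        _ = z := by rw [cgz.inv_left.eq]; group
    rcases hY y hyF hyt hyR with h1 | h1 | h1 | h1 <;> rcases e2 with h2 | h2 <;> rw [h1] at h2
    · exact absurd h2 hc1
    · rw [one_mul] at h2; exact absurd h2 hcz
    · exact absurd h2 hcz
    · rw [h.zz] at h2; exact absurd h2 hc1
    · exact Or.inl h2
    · exact Or.inr h2
    · exact Or.inr h2
    · left; rw [h2, mul_assoc, h.zz, mul_one]
  rcases hgb with hgb | hgb
  · -- `g₀` commutes with `b`
    rw [mul_inv_eq_iff_eq_mul] at hgb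
    apply hrD
    intro d hd
    have h1 := hDt g₀ hgb hgz d hd
    rw [hgt] at h1
    have c1 : Commute d (t * r) := h1
    have c2 : Commute d t := h.Dt d hd
    have c3 := c2.inv_right.mul_right c1
    rwa [inv_mul_cancel_left] at c3
  · -- `b^g₀ = b z`
    have hDb : ∀ d ∈ D, b * d = d * b := h.cRD b hbt hbR
    have hbase : ∀ c ∈ D, g₀ * (c * r * c⁻¹) * g₀⁻¹ ∈ F ∧
        ∀ d ∈ D, d * (r * (g₀ * (c * r * c⁻¹) * g₀⁻¹)) = (r * (g₀ * (c * r * c⁻¹) * g₀⁻¹)) * d := by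
      intro c hc
      have hcz : Commute c z := h.Dz c hc
      have hct : Commute c t := h.Dt c hc
      have hcb : Commute c b := (hDb c hc).symm
      refine ⟨h.L.conj_mem g₀ hgz _ (h.L.conj_mem c hcz _ hrF), ?_⟩
      intro d hd
      obtain ⟨x, hx⟩ : ∃ x, x = g₀ * (c * g₀ * c⁻¹) := ⟨_, rfl⟩
      have hxz : Commute x z := by
        rw [hx]; exact cgz.mul_left ((hcz.mul_left cgz).mul_left hcz.inv_left)
      have hxb : x * b = b * x := by
        rw [← mul_inv_eq_iff_eq_mul, hx]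
        calc g₀ * (c * g₀ * c⁻¹) * b * (g₀ * (c * g₀ * c⁻¹))⁻¹
            = g₀ * (c * (g₀ * (c⁻¹ * b * c) * g₀⁻¹) * c⁻¹) * g₀⁻¹ := by group
          _ = g₀ * (c * (g₀ * b * g₀⁻¹) * c⁻¹) * g₀⁻¹ := by
              rw [hcb.inv_left.eq, inv_mul_cancel_right]
          _ = g₀ * (c * (b * z) * c⁻¹) * g₀⁻¹ := by rw [hgb]
          _ = g₀ * (b * z) * g₀⁻¹ := by rw [(hcb.mul_right hcz).eq, mul_inv_cancel_right]
          _ = (g₀ * b * g₀⁻¹) * (g₀ * z * g₀⁻¹) := by group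
          _ = b * z * z := by rw [hgb, cgz.eq, mul_inv_cancel_right]
          _ = b := by rw [mul_assoc, h.zz, mul_one]
      have h1 := hDt x hxb hxz.eq d hd
      have e : x * t * x⁻¹ = t * (r * (g₀ * (c * r * c⁻¹) * g₀⁻¹)) := by
        rw [hx]
        calc g₀ * (c * g₀ * c⁻¹) * t * (g₀ * (c * g₀ * c⁻¹))⁻¹
            = g₀ * (c * (g₀ * (c⁻¹ * t * c) * g₀⁻¹) * c⁻¹) * g₀⁻¹ := by group
          _ = g₀ * (c * (g₀ * t * g₀⁻¹) * c⁻¹) * g₀⁻¹ := by
              rw [hct.inv_left.eq, inv_mul_cancel_right]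
          _ = g₀ * ((c * t) * r * c⁻¹) * g₀⁻¹ := by rw [hgt]; group
          _ = (g₀ * t * g₀⁻¹) * (g₀ * (c * r * c⁻¹) * g₀⁻¹) := by rw [hct.eq]; group
          _ = t * (r * (g₀ * (c * r * c⁻¹) * g₀⁻¹)) := by rw [hgt]; group
      rw [e] at h1
      have c1 : Commute d (t * (r * (g₀ * (c * r * c⁻¹) * g₀⁻¹))) := h1
      have c2 : Commute d t := h.Dt d hd
      have c3 := c2.inv_right.mul_right c1
      rwa [inv_mul_cancel_left] at c3
    obtain ⟨c, hc, hcyc⟩ := h.cyc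
    obtain ⟨hF0, h0⟩ := hbase 1 D.one_mem
    obtain ⟨hF1, h1⟩ := hbase c hc
    obtain ⟨hF2, h2⟩ := hbase (c * c) (D.mul_mem hc hc)
    obtain ⟨u₀, hu₀⟩ : ∃ u, u = g₀ * (1 * r * 1⁻¹) * g₀⁻¹ := ⟨_, rfl⟩
    obtain ⟨u₁, hu₁⟩ : ∃ u, u = g₀ * (c * r * c⁻¹) * g₀⁻¹ := ⟨_, rfl⟩
    obtain ⟨u₂, hu₂⟩ : ∃ u, u = g₀ * (c * c * r * (c * c)⁻¹) * g₀⁻¹ := ⟨_, rfl⟩
    rw [← hu₀] at hF0 h0
    rw [← hu₁] at hF1 h1
    rw [← hu₂] at hF2 h2
    have hprod : u₀ * u₁ * u₂ = 1 ∨ u₀ * u₁ * u₂ = z := by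
      have e : u₀ * u₁ * u₂ = g₀ * (r * (c * r * c⁻¹) * (c * c * r * (c * c)⁻¹)) * g₀⁻¹ := by
        rw [hu₀, hu₁, hu₂]; group
      rw [e]
      rcases hcyc r hr with h3 | h3
      · left; rw [h3]; group
      · right; rw [h3, cgz.eq, mul_inv_cancel_right]
    -- the product of the three elements `r u_i` is `r` modulo `⟨z⟩`
    have hV : h.L.pr (⟨r, hrF⟩ * ⟨u₀, hF0⟩ * (⟨r, hrF⟩ * ⟨u₁, hF1⟩) * (⟨r, hrF⟩ * ⟨u₂, hF2⟩)) =
        h.L.pr ⟨r, hrF⟩ := by
      have h3 : h.L.pr (⟨u₀, hF0⟩ * ⟨u₁, hF1⟩ * ⟨u₂, hF2⟩) = 0 := by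
        rw [h.L.pr_eq_zero]; exact hprod
      simp only [h.L.pr_mul] at h3 ⊢
      have h4 := h.L.add_self (h.L.pr ⟨r, hrF⟩)
      calc _ = (h.L.pr ⟨u₀, hF0⟩ + h.L.pr ⟨u₁, hF1⟩ + h.L.pr ⟨u₂, hF2⟩) +
            (h.L.pr ⟨r, hrF⟩ + h.L.pr ⟨r, hrF⟩) + h.L.pr ⟨r, hrF⟩ := by abel
        _ = h.L.pr ⟨r, hrF⟩ := by rw [h3, h4, zero_add, zero_add]
    rw [h.L.pr_eq_pr] at hV
    have hV' : r * u₀ * (r * u₁) * (r * u₂) = r ∨ r * u₀ * (r * u₁) * (r * u₂) = r * z := hV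
    apply hrD
    intro d hd
    have c0 : Commute d (r * u₀) := h0 d hd
    have c1 : Commute d (r * u₁) := h1 d hd
    have c2 : Commute d (r * u₂) := h2 d hd
    have c3 := (c0.mul_right c1).mul_right c2
    rcases hV' with h5 | h5
    · rw [h5] at c3; exact c3
    · rw [h5] at c3
      have c4 : Commute d z := h.Dz d hd
      have c5 := c3.mul_right c4
      rwa [mul_assoc, h.zz, mul_one] at c5

/-- **the hypotheses are contradictory** -/
theorem false [Finite G] (h : Hyp t z D R F) : False := by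
  by_cases htF : t ∈ F
  · exact h.mem_false htF
  · exact not_mem_false h htF

end Hyp

end Cfsg.Agent.OddHalf.D6.QThree.EndSymB
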