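import Cfsg.Agent.OddHalf.D6.QThree.EndSymB
import Cfsg.Agent.OddHalf.D8.HS.Elim
import Cfsg.Agent.SignalizersComponents.CharP
import Cfsg.Agent.SignalizersComponents.PConstrained
import Cfsg.Agent.Transfer.PGroupNormal

/-!
# ODD half, D6, `q = 3`: the end, `G`-level wrapper (helper253)

`symplectic`: `X` finite, `O(X) = 1`, no components, every elementary abelian normal 2-subgroup of `X` in `⟨z⟩`:
`F*(X)` is of symplectic type.
`large`: `X = C_G(z)` in the frame `Ctx G`: `F*(C(z))` is extraspecial (S1758), as `Large`.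
`false_of`: the end of row `U₄(3)`.
-/

set_option autoImplicit false
set_option linter.style.haveILetI false

namespace Cfsg.Agent.OddHalf.D6.QThree.EndSymG

open Subgroup Cfsg
open Cfsg.Agent.Co2Type.Quad

/-- an abelian normal 2-subgroup is cyclic -/
theorem cyclic {X : Type*} [Group X] [Finite X] {z : X} {W : Subgroup X} (hp : IsPGroup 2 W) (hn : W.Normal)
    (hab : ∀ a ∈ W, ∀ b ∈ W, a * b = b * a)
    (elem : ∀ V : Subgroup X, V.Normal → (∀ w ∈ V, w * w = 1) → ∀ w ∈ V, w = 1 ∨ w = z) : IsCyclic W := by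
  classical
  letI : CommGroup W := { (inferInstance : Group W) with mul_comm := fun a b => Subtype.ext (hab a a.2 b b.2) }
  haveI : Fact (Nat.Prime 2) := ⟨Nat.prime_two⟩
  refine Cfsg.Agent.Transfer.PGroupNormal.isCyclic_of_card_ker_pow_le (p := 2) hp ?_
  let W1 : Subgroup X :=
    { carrier := {x | x ∈ W ∧ x * x = 1}
      one_mem' := ⟨W.one_mem, one_mul 1⟩
      mul_mem' := by
        rintro x y ⟨hx, hx2⟩ ⟨hy, hy2⟩
        refine ⟨W.mul_mem hx hy, ?_⟩
        calc x * y * (x * y) = x * (y * x) * y := by group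
          _ = x * x * (y * y) := by rw [hab y hy x hx]; group
          _ = 1 := by rw [hx2, hy2, one_mul]
      inv_mem' := by
        rintro x ⟨hx, hx2⟩
        refine ⟨W.inv_mem hx, ?_⟩
        rw [← mul_inv_rev, hx2, inv_one] }
  have hW1 : W1.Normal := ⟨by
    rintro x ⟨hx, hx2⟩ g
    refine ⟨hn.conj_mem x hx g, ?_⟩
    calc g * x * g⁻¹ * (g * x * g⁻¹) = g * (x * x) * g⁻¹ := by group
      _ = 1 := by rw [hx2]; group⟩
  have hk : ∀ x : (powMonoidHom 2 : W →* W).ker, ((x : W) : X) = 1 ∨ ((x : W) : X) = z := by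
    intro x
    have h1 : ((x : W)) ^ 2 = 1 := x.2
    rw [pow_two] at h1
    exact elem W1 hW1 (fun w hw => hw.2) (x : W) ⟨(x : W).2, congrArg Subtype.val h1⟩
  let f : (powMonoidHom 2 : W →* W).ker → Bool := fun x => decide (((x : W) : X) = 1)
  have hf : Function.Injective f := by
    intro x y hxy
    have h1 : (((x : W) : X) = 1) ↔ (((y : W) : X) = 1) := by
      have := hxy
      simpa [f] using this
    apply Subtype.ext
    apply Subtype.ext
    rcases hk x with h2 | h2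
    · rw [h2, h1.1 h2]
    · rcases hk y with h3 | h3
      · rw [h3, h1.2 h3]
      · rw [h2, h3]
  have h4 := Nat.card_le_card_of_injective f hf
  rwa [Nat.card_eq_fintype_card (α := Bool), Fintype.card_bool] at h4

/-- **symplectic type** -/
theorem symplectic {X : Type*} [Group X] [Finite X] {z : X} (hO : pPrimeCore 2 X = ⊥)
    (hE : ∀ M : Subgroup X, ¬ IsComponent M)
    (elem : ∀ V : Subgroup X, V.Normal → (∀ w ∈ V, w * w = 1) → ∀ w ∈ V, w = 1 ∨ w = z) :
    IsOfSymplecticType ↥(generalizedFittingSubgroup X) := by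
  haveI : Fact (Nat.Prime 2) := ⟨Nat.prime_two⟩
  have hl : layer X = ⊥ := by
    rw [eq_bot_iff]
    exact sSup_le fun K hK => absurd hK (hE K)
  have h1 := (Cfsg.Agent.SignalizersComponents.PConstrained.centralizer_pCore_le_iff_layer_eq_bot 2 hO).2 hl
  rw [Cfsg.Agent.SignalizersComponents.CharP.genFitting_eq_pCore_iff.2 h1]
  have hQn : (pCore 2 X).Normal := Cfsg.Agent.Lib.Cores.pCore_normal 2
  have hQp : IsPGroup 2 (pCore 2 X) := Cfsg.Agent.Lib.Cores.pCore_isPGroup 2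
  generalize pCore 2 X = Q at hQn hQp
  refine ⟨hQp, ?_⟩
  intro A hA hab
  have hA2 : (A.map Q.subtype).Normal := ConjAct.normal_of_characteristic_of_normal
  have h1 := cyclic (W := A.map Q.subtype) (z := z) ?_ hA2 ?_ elem
  · have e1 := A.equivMapOfInjective _ Q.subtype_injective
    exact isCyclic_of_surjective _ e1.symm.surjective
  · apply hQp.to_le
    rintro _ ⟨y, -, rfl⟩
    exact y.2
  · rintro _ ⟨a, ha, rfl⟩ _ ⟨b, hb, rfl⟩
    have h2 : (⟨a, ha⟩ : A) * ⟨b, hb⟩ = ⟨b, hb⟩ * ⟨a, ha⟩ := hab.is_comm.comm _ _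
    exact congrArg (fun y : A => ((y : Q) : X)) h2

universe u

variable {G : Type u} [Group G]

/-- **symplectic type**, `G`-level -/
theorem symplecticG (C : Iface.Ctx G) {z : G} (hz : orderOf z = 2)
    (hE : ∀ M : Subgroup ↥(centralizer ({z} : Set G)), ¬ IsComponent M)
    (hW : ∀ W : Subgroup G, (∀ w ∈ W, w * z = z * w) → (∀ w ∈ W, w * w = 1) →
      (∀ g, g * z = z * g → ∀ w ∈ W, g * w * g⁻¹ ∈ W) → ∀ w ∈ W, w = 1 ∨ w = z) :
    IsOfSymplecticType ↥(generalizedFittingSubgroup ↥(centralizer ({z} : Set G))) := by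
  have hfin := C.fin
  have hzz : (⟨z, mem_centralizer_singleton_iff.2 rfl⟩ : ↥(centralizer ({z} : Set G))) = ⟨z,
    mem_centralizer_singleton_iff.2 rfl⟩ := rfl
  refine symplectic (z := ⟨z, mem_centralizer_singleton_iff.2 rfl⟩) (Soft.core_eq_bot (C.bal _ hz)) hE ?_
  intro V hV hs w hw
  have h1 := hW (V.map (centralizer ({z} : Set G)).subtype) ?_ ?_ ?_ w ⟨w, hw, rfl⟩
  · rcases h1 with h1 | h1
    · exact Or.inl (Subtype.ext h1)
    · exact Or.inr (Subtype.ext h1)
  · rintro _ ⟨y, -, rfl⟩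
    exact mem_centralizer_singleton_iff.1 y.2
  · rintro _ ⟨y, hy, rfl⟩
    exact congrArg Subtype.val (hs y hy)
  · rintro g hg _ ⟨y, hy, rfl⟩
    exact ⟨⟨g, mem_centralizer_singleton_iff.2 hg⟩ * y * ⟨g, mem_centralizer_singleton_iff.2 hg⟩⁻¹,
      hV.conj_mem y hy _, rfl⟩

/-- **`F*(C(z))` is extraspecial**, by S1758 -/
theorem extraspecialG (R58 : Small.Excl.Rows) (h58 : D8.HS.Elim.P1758.{u}) (C : Iface.Ctx G) {z : G}
    (hz : orderOf z = 2) (hE : ∀ M : Subgroup ↥(centralizer ({z} : Set G)), ¬ IsComponent M)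
    (hW : ∀ W : Subgroup G, (∀ w ∈ W, w * z = z * w) → (∀ w ∈ W, w * w = 1) →
      (∀ g, g * z = z * g → ∀ w ∈ W, g * w * g⁻¹ ∈ W) → ∀ w ∈ W, w = 1 ∨ w = z) :
    IsExtraspecial 2 ↥(generalizedFittingSubgroup ↥(centralizer ({z} : Set G))) := by
  by_contra hcon
  exact D8.HS.Elim.false_of_symplectic R58 h58 C hz (symplecticG C hz hE hW) hcon

/-- **the end of row `U₄(3)`** -/
theorem false_of (R58 : Small.Excl.Rows) (h58 : D8.HS.Elim.P1758.{u}) (C : Iface.Ctx G) {t z : G}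
    {D R : Subgroup G} (hz : orderOf z = 2)
    (hE : ∀ M : Subgroup ↥(centralizer ({z} : Set G)), ¬ IsComponent M)
    (hW : ∀ W : Subgroup G, (∀ w ∈ W, w * z = z * w) → (∀ w ∈ W, w * w = 1) →
      (∀ g, g * z = z * g → ∀ w ∈ W, g * w * g⁻¹ ∈ W) → ∀ w ∈ W, w = 1 ∨ w = z)
    (h : ∀ F : Subgroup G, Large F z → EndSym.Hyp t z D R F) : False := by
  have hfin := C.fin
  exact EndSymB.Hyp.false
    (h _ (Cfsg.Agent.LargeExtra.Base.large_of_genFitting z hz (extraspecialG R58 h58 C hz hE hW)))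

end Cfsg.Agent.OddHalf.D6.QThree.EndSymG
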