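import Cfsg.Agent.OddHalf.D6.QThree.Abs
import Cfsg.Agent.OddHalf.D8.CaseX

/-!
# ODD half, D6, `q = 3`: `[F, t] ≤ ⟨z⟩` (helper143)

K-free. `Data t z` (`Abs.lean`), `F` a self-centralising normal 2-subgroup of `C(z)` with `t ∈ F`, all characters
`C(z) → ±1` trivial on `t`, `t` not conjugate to `z`. Then `⟨t, z⟩` is normal in `C(z)` or the abelian subgroups of `F`
normal in `C(z)` lie in `⟨z⟩` and `F` is extraspecial. In particular `F` normalises `⟨t, z⟩` (`comm_t`).
-/

set_option autoImplicit false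

namespace Cfsg.Agent.OddHalf.D6.QThree.Abs.Data

open Subgroup Cfsg Cfsg.Agent.OddHalf.D6.QThree.Core

variable {G : Type*} [Group G] {t z : G} {F : Subgroup G}

theorem hlam (h : Data t z) (htc : (⟨t, mem_centralizer_singleton_iff.2 h.comm⟩ : centralizer ({z} : Set G)) ∈
      _root_.commutator (centralizer ({z} : Set G))) (φ : centralizer ({z} : Set G) →* ℤˣ) :
    φ ⟨t, mem_centralizer_singleton_iff.2 h.comm⟩ = 1 := by
  have h2 : _root_.commutator (centralizer ({z} : Set G)) ≤ φ.ker := by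
    rw [_root_.commutator_def, commutator_le]
    intro a _ b _
    rw [MonoidHom.mem_ker, commutatorElement_def, map_mul, map_mul, map_mul, map_inv, map_inv,
      mul_comm (φ a) (φ b), mul_assoc (φ b), mul_inv_cancel, mul_one, mul_inv_cancel]
  exact h2 htc

/-- the abelian subgroups of `F` normal in `C(z)` -/
theorem abelian_F [Finite G] (h : Data t z) (hF : IsF z F) (nc : ∀ g, g * t * g⁻¹ ≠ z)
    (hlam : ∀ φ : centralizer ({z} : Set G) →* ℤˣ, φ ⟨t, mem_centralizer_singleton_iff.2 h.comm⟩ = 1)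
    (hnot : ∃ g, g * z = z * g ∧ g * t * g⁻¹ ≠ t ∧ g * t * g⁻¹ ≠ t * z)
    {B : Subgroup G} (hB : B ≤ F) (hab : ∀ a ∈ B, ∀ b ∈ B, a * b = b * a)
    (hBn : ∀ g, g * z = z * g → ∀ b ∈ B, g * b * g⁻¹ ∈ B) : ∀ b ∈ B, b = 1 ∨ b = z := by
  have hzt := h.comm
  have h4 : ∀ b ∈ B, b * t = t * b → (b = 1 ∨ b = z) ∨ (b = t ∨ b = t * z) := by
    intro b hb hbt
    refine h.abel (B ⊓ centralizer ({t} : Set G)) (hF.pF.to_le (inf_le_left.trans hB))
      (fun b hb => mem_centralizer_singleton_iff.1 hb.2) (fun b hb => hF.le b (hB hb.1))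
      (fun a ha b hb => hab a ha.1 b hb.1) ?_ b ⟨hb, mem_centralizer_singleton_iff.2 hbt⟩
    intro g hgt hgz b hb
    have c1 : Commute g t := hgt
    have c2 : Commute b t := mem_centralizer_singleton_iff.1 hb.2
    exact ⟨hBn g hgz b hb.1, mem_centralizer_singleton_iff.2 ((c1.mul_left c2).mul_left c1.inv_left)⟩
  have hgz1 : ∀ g, g * z = z * g → g * z * g⁻¹ = z := fun g hg => by rw [hg]; group
  have htB : t ∉ B := by
    intro htB
    obtain ⟨g, hgz, hg1, hg2⟩ := hnot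
    have h5 := hBn g hgz t htB
    rcases h4 _ h5 (hab _ h5 _ htB) with (h6 | h6) | h6 | h6
    · exact h.t1 (conj_eq_one_iff.1 h6)
    · exact nc g h6
    · exact hg1 h6
    · exact hg2 h6
  have htzB : t * z ∉ B := by
    intro htB
    obtain ⟨g, hgz, hg1, hg2⟩ := hnot
    have h5 := hBn g hgz _ htB
    have e : g * (t * z) * g⁻¹ = g * t * g⁻¹ * z := by
      calc g * (t * z) * g⁻¹ = (g * t * g⁻¹) * (g * z * g⁻¹) := by group
        _ = g * t * g⁻¹ * z := by rw [hgz1 g hgz]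
    have hc : (g * (t * z) * g⁻¹) * t = t * (g * (t * z) * g⁻¹) := by
      have c1 : Commute (g * (t * z) * g⁻¹) (t * z) := hab _ h5 _ htB
      have c2 : Commute (g * (t * z) * g⁻¹) z := hF.le _ (hB h5)
      have c3 := c1.mul_right c2
      have e2 : t * z * z = t := by rw [mul_assoc, h.zz, mul_one]
      rwa [e2] at c3
    have hcan : ∀ x : G, g * t * g⁻¹ * z = x → g * t * g⁻¹ = x * z := by
      rintro x rfl
      rw [mul_assoc _ z z, h.zz, mul_one]
    rcases h4 _ h5 hc with (h6 | h6) | h6 | h6 <;> rw [e] at h6 <;> have h7 := hcan _ h6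
    · rw [one_mul] at h7
      exact nc g h7
    · rw [h.zz] at h7
      exact h.t1 (conj_eq_one_iff.1 h7)
    · exact hg2 h7
    · have e2 : t * z * z = t := by rw [mul_assoc, h.zz, mul_one]
      rw [e2] at h7
      exact hg1 h7
  have h2 : ∀ b ∈ B, b * t = t * b → b = 1 ∨ b = z := by
    intro b hb hbt
    rcases h4 b hb hbt with h5 | h5 | h5
    · exact h5
    · exact absurd (h5 ▸ hb) htB
    · exact absurd (h5 ▸ hb) htzB
  have htBn : ∀ b ∈ B, t * b * t⁻¹ ∈ B := hBn t hzt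
  have hti : t⁻¹ = t := inv_eq_of_mul_eq_one_left h.tt
  -- the action of `t` on the elements with square in `⟨z⟩`
  have h3 : ∀ b ∈ B, (b * b = 1 ∨ b * b = z) → t * b * t⁻¹ = b ∨ t * b * t⁻¹ = b * z := by
    intro b hb hbb
    have hx : b * (t * b * t⁻¹) ∈ B := B.mul_mem hb (htBn b hb)
    have hxt : b * (t * b * t⁻¹) * t = t * (b * (t * b * t⁻¹)) := by
      have e1 : t * (b * (t * b * t⁻¹)) * t⁻¹ = (t * b * t⁻¹) * b := by
        calc t * (b * (t * b * t⁻¹)) * t⁻¹ = (t * b * t⁻¹) * ((t * t) * b * (t * t)⁻¹) := by group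
          _ = (t * b * t⁻¹) * b := by rw [h.tt]; group
      rw [← hab _ hb _ (htBn b hb), mul_inv_eq_iff_eq_mul] at e1
      exact e1.symm
    have hinv : b⁻¹ = b ∨ b⁻¹ = b * z := by
      rcases hbb with h5 | h5
      · exact Or.inl (inv_eq_of_mul_eq_one_left h5)
      · right
        apply inv_eq_of_mul_eq_one_right
        rw [← mul_assoc, h5, h.zz]
    have hbz : b * z = z * b := hF.le b (hB hb)
    rcases h2 _ hx hxt with h5 | h5
    · have h6 : t * b * t⁻¹ = b⁻¹ := (eq_inv_of_mul_eq_one_right h5)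
      rw [h6]; exact hinv
    · have h6 : t * b * t⁻¹ = b⁻¹ * z := by rw [← h5]; group
      rw [h6]
      rcases hinv with h7 | h7
      · right; rw [h7]
      · left; rw [h7, mul_assoc, h.zz, mul_one]
  by_contra hcon
  push Not at hcon
  obtain ⟨b, hb, hb1, hbz⟩ := hcon
  -- an element `u` outside `⟨z⟩` with square in `⟨z⟩`
  obtain ⟨u, hu, huu, hu1, huz⟩ : ∃ u ∈ B, (u * u = 1 ∨ u * u = z) ∧ u ≠ 1 ∧ u ≠ z := by
    classical
    have hex : ∃ k : ℕ, b ^ 2 ^ k = 1 ∨ b ^ 2 ^ k = z := by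
      obtain ⟨k, hk⟩ := hF.pF ⟨b, hB hb⟩
      exact ⟨k, Or.inl (congrArg Subtype.val hk)⟩
    set k := Nat.find hex with hk
    have h5 := Nat.find_spec hex
    have hk0 : k ≠ 0 := by
      intro h0
      rw [← hk, h0, pow_zero, pow_one] at h5
      rcases h5 with h6 | h6
      · exact hb1 h6
      · exact hbz h6
    obtain ⟨m, hm⟩ := Nat.exists_eq_succ_of_ne_zero hk0
    have h6 : ¬ (b ^ 2 ^ m = 1 ∨ b ^ 2 ^ m = z) := Nat.find_min hex (by rw [← hk, hm]; exact Nat.lt_succ_self m)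
    refine ⟨b ^ 2 ^ m, B.pow_mem hb _, ?_, fun h7 => h6 (Or.inl h7), fun h7 => h6 (Or.inr h7)⟩
    rw [← hk, hm, Nat.succ_eq_add_one, pow_succ, pow_mul, pow_two] at h5
    exact h5
  have hut : t * u * t⁻¹ = u * z := by
    rcases h3 u hu huu with h5 | h5
    · exfalso
      rcases h2 u hu (mul_inv_eq_iff_eq_mul.1 h5).symm with h6 | h6
      · exact hu1 h6
      · exact huz h6
    · exact h5
  have h5 := Cfsg.Agent.OddHalf.D8.CaseX.sign_pair (u := u) h.zz h.z1 hzt hlam (by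
    intro g hgz
    set x : G := g * u * g⁻¹ with hx
    have hxB : x ∈ B := hBn g hgz u hu
    have hgzg := hgz1 g hgz
    have hxx : x * x = 1 ∨ x * x = z := by
      have e : x * x = g * (u * u) * g⁻¹ := by rw [hx]; group
      rw [e]
      rcases huu with h6 | h6
      · left; rw [h6]; group
      · right; rw [h6]; exact hgzg
    have hx1 : x ≠ 1 := fun h6 => hu1 (conj_eq_one_iff.1 h6)
    have hxz : x ≠ z := by
      intro h6
      apply huz
      have e : u = g⁻¹ * x * g := by rw [hx]; group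
      rw [e, h6]
      calc g⁻¹ * z * g = g⁻¹ * (g * z * g⁻¹) * g := by rw [hgzg]
        _ = z := by group
    have hxt : t * x * t⁻¹ = x * z := by
      rcases h3 x hxB hxx with h6 | h6
      · exfalso
        rcases h2 x hxB (mul_inv_eq_iff_eq_mul.1 h6).symm with h7 | h7
        · exact hx1 h7
        · exact hxz h7
      · exact h6
    have hy : x * u⁻¹ ∈ B := B.mul_mem hxB (B.inv_mem hu)
    have huz' : u * z = z * u := hF.le u (hB hu)
    have hyt : x * u⁻¹ * t = t * (x * u⁻¹) := by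
      have e : t * (x * u⁻¹) * t⁻¹ = x * u⁻¹ := by
        calc t * (x * u⁻¹) * t⁻¹ = (t * x * t⁻¹) * (t * u * t⁻¹)⁻¹ := by group
          _ = (x * z) * (u * z)⁻¹ := by rw [hxt, hut]
          _ = x * u⁻¹ := by group
      rw [mul_inv_eq_iff_eq_mul] at e
      exact e.symm
    rcases h2 _ hy hyt with h6 | h6
    · left
      exact mul_inv_eq_one.1 h6
    · right
      rw [mul_inv_eq_iff_eq_mul] at h6
      rw [h6, huz'])
  rcases h2 u hu h5.symm with h6 | h6
  · exact hu1 h6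
  · exact huz h6

/-- `⟨t, z⟩` is normal in `C(z)` or `F` is extraspecial -/
theorem extraspecial [Finite G] (h : Data t z) (hF : IsF z F) (htF : t ∈ F) (nc : ∀ g, g * t * g⁻¹ ≠ z)
    (hlam : ∀ φ : centralizer ({z} : Set G) →* ℤˣ, φ ⟨t, mem_centralizer_singleton_iff.2 h.comm⟩ = 1)
    (hnot : ∃ g, g * z = z * g ∧ g * t * g⁻¹ ≠ t ∧ g * t * g⁻¹ ≠ t * z) : Cfsg.IsExtraspecial 2 F := by
  have hzF : z ∈ F := hF.self z rfl (fun x hx => (hF.le x hx).symm)
  have hchar : ∀ A : Subgroup F, A.Characteristic → (∀ a ∈ A, ∀ b ∈ A, a * b = b * a) →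
      ∀ a ∈ A, a = 1 ∨ a = ⟨z, hzF⟩ := by
    intro A hA hAa a ha
    have h1 := h.abelian_F hF nc hlam hnot (B := A.map F.subtype) (by
      rintro _ ⟨x, _, rfl⟩; exact x.2) (by
      rintro _ ⟨x, hx, rfl⟩ _ ⟨y, hy, rfl⟩
      exact congrArg Subtype.val (hAa x hx y hy)) (by
      rintro g hg _ ⟨x, hx, rfl⟩
      have hgn : ∀ y : G, y ∈ F ↔ g * y * g⁻¹ ∈ F := by
        intro y
        refine ⟨fun hy => hF.nor g hg y hy, fun hy => ?_⟩
        have h2 := hF.nor g⁻¹ (by rw [inv_mul_eq_iff_eq_mul, ← mul_assoc, hg]; group) _ hy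
        have e : g⁻¹ * (g * y * g⁻¹) * g⁻¹⁻¹ = y := by group
        rwa [e] at h2
      let ψ : F ≃* F :=
        { toFun := fun y => ⟨g * y * g⁻¹, (hgn y).1 y.2⟩
          invFun := fun y => ⟨g⁻¹ * y * g, (hgn _).2 (by
            have e : g * (g⁻¹ * (y : G) * g) * g⁻¹ = y := by group
            rw [e]; exact y.2)⟩
          left_inv := fun y => Subtype.ext (by
            show g⁻¹ * (g * (y : G) * g⁻¹) * g = y
            group)
          right_inv := fun y => Subtype.ext (by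
            show g * (g⁻¹ * (y : G) * g) * g⁻¹ = y
            group)
          map_mul' := fun y w => Subtype.ext (by
            show g * ((y : G) * w) * g⁻¹ = g * y * g⁻¹ * (g * w * g⁻¹)
            group) }
      have h2 : ψ x ∈ A := by
        have h3 := characteristic_iff_map_le.1 hA ψ
        exact h3 ⟨x, hx, rfl⟩
      exact ⟨ψ x, h2, rfl⟩) a ⟨a, ha, rfl⟩
    rcases h1 with h2 | h2
    · exact Or.inl (Subtype.ext h2)
    · exact Or.inr (Subtype.ext h2)
  apply Cfsg.Agent.OddHalf.D8.CharAb.extraspecial hF.pF hchar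
  by_contra hcon
  push Not at hcon
  have h1 := hchar ⊤ inferInstance (fun a _ b _ => hcon a b) ⟨t, htF⟩ (mem_top _)
  rcases h1 with h2 | h2
  · exact h.t1 (congrArg Subtype.val h2)
  · have h3 : t = z := congrArg Subtype.val h2
    exact nc 1 (by rw [h3]; group)

/-- `[F, t] ≤ ⟨z⟩` -/
theorem comm_t [Finite G] (h : Data t z) (hF : IsF z F) (htF : t ∈ F) (nc : ∀ g, g * t * g⁻¹ ≠ z)
    (hlam : ∀ φ : centralizer ({z} : Set G) →* ℤˣ, φ ⟨t, mem_centralizer_singleton_iff.2 h.comm⟩ = 1)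
    {f : G} (hf : f ∈ F) : f * t * f⁻¹ = t ∨ f * t * f⁻¹ = t * z := by
  by_cases hnot : ∃ g, g * z = z * g ∧ g * t * g⁻¹ ≠ t ∧ g * t * g⁻¹ ≠ t * z
  swap
  · push Not at hnot
    by_cases h1 : f * t * f⁻¹ = t
    · exact Or.inl h1
    · exact Or.inr (hnot f (hF.le f hf) h1)
  have he := h.extraspecial hF htF nc hlam hnot
  have hzF : z ∈ F := hF.self z rfl (fun x hx => (hF.le x hx).symm)
  have hcom : _root_.commutator F = center F := he.1.2.2
  have hc2 := he.2
  have hzc : (⟨z, hzF⟩ : F) ∈ center F := mem_center_iff.2 fun x => Subtype.ext (hF.le x x.2)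
  have h1 : (⟨f, hf⟩ : F) * ⟨t, htF⟩ * ⟨f, hf⟩⁻¹ * ⟨t, htF⟩⁻¹ ∈ center F := by
    rw [← hcom, _root_.commutator_def]
    exact commutator_mem_commutator (mem_top _) (mem_top _)
  have h2 : ∀ x ∈ center F, x = 1 ∨ x = ⟨z, hzF⟩ := by
    intro x hx
    by_contra hcon
    push Not at hcon
    have hz1 : (⟨z, hzF⟩ : F) ≠ 1 := fun e => h.z1 (congrArg Subtype.val e)
    have h3 : ({1, ⟨z, hzF⟩, x} : Set F) ⊆ (center F : Set F) := by
      rintro y (rfl | rfl | rfl)
      · exact one_mem _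
      · exact hzc
      · exact hx
    have h4 : ({1, ⟨z, hzF⟩, x} : Set F).ncard = 3 :=
      Set.ncard_eq_three.2 ⟨_, _, _, hz1.symm, fun e => hcon.1 e.symm, fun e => hcon.2 e.symm, rfl⟩
    have h5 : ({1, ⟨z, hzF⟩, x} : Set F).ncard ≤ (center F : Set F).ncard :=
      Set.ncard_le_ncard h3 (Set.toFinite _)
    have h6 : (center F : Set F).ncard = 2 := hc2
    omega
  rcases h2 _ h1 with h3 | h3
  · left
    have h4 : f * t * f⁻¹ * t⁻¹ = 1 := congrArg Subtype.val h3
    exact mul_inv_eq_one.1 h4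
  · right
    have h4 : f * t * f⁻¹ * t⁻¹ = z := congrArg Subtype.val h3
    rw [mul_inv_eq_iff_eq_mul] at h4
    rw [h4, h.comm]

end Cfsg.Agent.OddHalf.D6.QThree.Abs.Data
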