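import Mathlib
import Cfsg.Agent.OddHalf.TR
import Cfsg.Agent.OddHalf.Front.OrbitTransfer
import Cfsg.Agent.OddHalf.D4.Basic

/-!
# ODD half, D6, `U₄(3)` with an outer part: `T` is not a Sylow 2-subgroup of `G` (helper801's #12978 (1), K-free)

`C = C_G(t)`, `K` normal in `C`, `μ : C → {±1}` trivial on `K C_C(K)`; every 2-element `y` of `C` with `μ y = -1` has
a multiple `k y`, `k ∈ K`, which acts on `K` as an involution with the property `Good`. Then the transfer of `μ` at
an element `y` of minimal order with `μ y = -1` is `-1`.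
-/

set_option autoImplicit false

namespace Cfsg.Agent.OddHalf.D6.QThree.TransferMu

open MulAction Subgroup Cfsg.Agent.OddHalf.Front.OrbitTransfer Cfsg.Agent.OddHalf.TR
open scoped commutatorElement

variable {G : Type*} [Group G]

/-! ### A transfer formula -/

/-- **transfer of a sign at an element `y` whose proper powers do not contribute**, with a 2-group `D` commuting
with `y` -/
theorem transfer_eq_prod_fixed [Finite G] (H : Subgroup G) (φ : H →* ℤˣ) (y : G)
    (hmin : ∀ (g : G) (k : ℕ), 2 ≤ k → k ∣ orderOf y → ∀ h : g⁻¹ * y ^ k * g ∈ H,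
      φ ⟨g⁻¹ * y ^ k * g, h⟩ = 1)
    (D : Subgroup G) (hD : IsPGroup 2 D) (hDy : ∀ d ∈ D, d * y = y * d) :
    ∃ f : G ⧸ H → ℤˣ, (∀ (g : G) (h : g⁻¹ * y * g ∈ H), f (g : G ⧸ H) = φ ⟨g⁻¹ * y * g, h⟩) ∧
      ∃ s : Finset (G ⧸ H), (∀ q, q ∈ s ↔ y • q = q ∧ ∀ d ∈ D, d • q = q) ∧
        MonoidHom.transfer φ y = ∏ q ∈ s, f q := by
  classical
  have : Fintype (Orb H y) := Fintype.ofFinite _
  have : Fintype (G ⧸ H) := Fintype.ofFinite _
  have hF : MonoidHom.transfer φ y = ∏ o : Orb H y, F H φ y o := by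
    rw [MonoidHom.transfer_eq_prod_quotient_orbitRel_zpowers_quot]
    rfl
  have hper : ∀ g : G, g⁻¹ * y ^ (Function.minimalPeriod (y • ·) (g : G ⧸ H)) * g ∈ H := by
    intro g
    rw [← smul_mk_eq]
    exact pow_smul_eq_iff_minimalPeriod_dvd.2 dvd_rfl
  -- the function on cosets
  set f : G ⧸ H → ℤˣ := fun q => F H φ y (Quotient.mk'' q) with hf
  have hfg : ∀ (g : G) (h : g⁻¹ * y * g ∈ H), f (g : G ⧸ H) = φ ⟨g⁻¹ * y * g, h⟩ := by
    intro g h
    have h1 : Function.minimalPeriod (y • ·) (g : G ⧸ H) = 1 := by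
      rw [Function.minimalPeriod_eq_one_iff_isFixedPt]
      exact (smul_mk_eq H y g).2 h
    have h2 : g⁻¹ * y ^ 1 * g ∈ H := by rw [pow_one]; exact h
    rw [hf]
    show F H φ y (Quotient.mk'' (g : G ⧸ H)) = _
    rw [F_mk H φ y g h1 h2]
    congr 1
    exact Subtype.ext (by show g⁻¹ * y ^ 1 * g = g⁻¹ * y * g; rw [pow_one])
  -- the other orbits do not contribute
  have hone : ∀ q : G ⧸ H, y • q ≠ q → f q = 1 := by
    intro q hq
    obtain ⟨g, rfl⟩ := QuotientGroup.mk_surjective q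
    rw [hf]
    show F H φ y (Quotient.mk'' (g : G ⧸ H)) = 1
    rw [F_mk H φ y g rfl (hper g)]
    apply hmin
    · have h1 : Function.minimalPeriod (y • ·) (g : G ⧸ H) ≠ 1 := by
        intro h
        rw [Function.minimalPeriod_eq_one_iff_isFixedPt] at h
        exact hq h
      have h2 : Function.minimalPeriod (y • ·) (g : G ⧸ H) ≠ 0 := by
        intro h
        have h3 : y ^ (orderOf y) • (g : G ⧸ H) = (g : G ⧸ H) := by rw [pow_orderOf_eq_one, one_smul]
        have h4 := pow_smul_eq_iff_minimalPeriod_dvd.1 h3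
        rw [h, zero_dvd_iff] at h4
        exact (orderOf_pos y).ne' h4
      omega
    · have h3 : y ^ (orderOf y) • (g : G ⧸ H) = (g : G ⧸ H) := by rw [pow_orderOf_eq_one, one_smul]
      exact pow_smul_eq_iff_minimalPeriod_dvd.1 h3
  have hfo : ∀ o : Orb H y, ∃ q : G ⧸ H, (Quotient.mk'' q : Orb H y) = o := fun o => Quotient.exists_rep o
  set s0 : Finset (G ⧸ H) := Finset.univ.filter (fun q => y • q = q) with hs0
  have h1 : ∏ o : Orb H y, F H φ y o = ∏ q ∈ s0, f q := by
    symm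
    apply Finset.prod_bij_ne_one (fun q _ _ => (Quotient.mk'' q : Orb H y))
    · intro q _ _
      exact Finset.mem_univ _
    · intro q hq _ q' hq' _ he
      rw [hs0, Finset.mem_filter] at hq hq'
      obtain ⟨⟨w, hw⟩, hwq⟩ := Quotient.exact he
      obtain ⟨m, rfl⟩ := mem_zpowers_iff.1 hw
      have h2 : y ^ m • q' = q := hwq
      have h3 : y ^ m • q' = q' := by
        have : y ∈ stabilizer G q' := hq'.2
        exact (zpow_mem this m : y ^ m ∈ stabilizer G q')
      rw [← h2, h3]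
    · intro o _ ho
      obtain ⟨q, rfl⟩ := hfo o
      have hq : y • q = q := by
        by_contra h
        exact ho (hone q h)
      exact ⟨q, by rw [hs0, Finset.mem_filter]; exact ⟨Finset.mem_univ _, hq⟩, ho, rfl⟩
    · intro q _ _
      rfl
  have hgmem : ∀ g : G, y • (g : G ⧸ H) = g → g⁻¹ * y * g ∈ H := fun g h => (smul_mk_eq H y g).1 h
  have h2 := prod_fixed hD s0 (X := G ⧸ H) (by
    intro d q hq
    rw [hs0, Finset.mem_filter] at hq ⊢
    refine ⟨Finset.mem_univ _, ?_⟩
    show y • ((d : G) • q) = (d : G) • q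
    rw [← mul_smul, ← hDy d d.2, mul_smul, hq.2]) f (by
    intro d q hq
    rw [hs0, Finset.mem_filter] at hq
    obtain ⟨g, rfl⟩ := QuotientGroup.mk_surjective q
    have h3 := hgmem g hq.2
    have e : ((d : G) * g)⁻¹ * y * ((d : G) * g) = g⁻¹ * y * g := by
      calc ((d : G) * g)⁻¹ * y * ((d : G) * g) = g⁻¹ * ((d : G)⁻¹ * (y * d)) * g := by group
        _ = g⁻¹ * ((d : G)⁻¹ * (d * y)) * g := by rw [hDy d d.2]
        _ = g⁻¹ * y * g := by group
    have h4 : ((d : G) * g)⁻¹ * y * ((d : G) * g) ∈ H := by rw [e]; exact h3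
    show f (((d : G) * g : G) : G ⧸ H) = f (g : G ⧸ H)
    rw [hfg _ h4, hfg _ h3]
    congr 1
    exact Subtype.ext e) (by
    intro q _
    rw [pow_two]
    exact Int.units_mul_self _)
  refine ⟨f, hfg, s0.filter (fun q => ∀ d : D, d • q = q), ?_, ?_⟩
  · intro q
    rw [Finset.mem_filter, hs0, Finset.mem_filter]
    constructor
    · rintro ⟨⟨-, h3⟩, h4⟩
      exact ⟨h3, fun d hd => h4 ⟨d, hd⟩⟩
    · rintro ⟨h3, h4⟩
      exact ⟨⟨Finset.mem_univ _, h3⟩, fun d => h4 d d.2⟩
  · rw [hF, h1, h2]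

/-! ### The property of the involutory automorphisms -/

/-- `y ∈ C(t)` acts on `K` as an involution `α`; `v = z'`, `S` a Sylow 2-subgroup of `C_K(y)`, `p ∈ K` with
`α ^ p = α v` -/
structure Good (t : G) (K : Subgroup G) (y v p : G) (S : Subgroup G) : Prop where
  yt : y * t = t * y
  /-- `y²` centralises `K` -/
  yy : ∀ k ∈ K, y * y * k = k * (y * y)
  vv : v * v = 1
  v1 : v ≠ 1
  /-- `v ∈ [C_K(y), C_K(y)]` -/
  vc : v ∈ ⁅K ⊓ centralizer {y}, K ⊓ centralizer {y}⁆
  pK : p ∈ K
  py : p * y * p⁻¹ = y * v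
  pv : p * v * p⁻¹ = v
  SK : S ≤ K
  Sy : ∀ s ∈ S, s * y = y * s
  pS : IsPGroup 2 S
  max : ∀ P : Subgroup G, IsPGroup 2 P → S ≤ P → P ≤ K → (∀ x ∈ P, x * y = y * x) → P ≤ S
  vS : v ∈ S
  vs : ∀ s ∈ S, s * v = v * s
  /-- the involutions of `C(t)` commuting with `y` and `S` act on `K` as `1, v, y, y v` -/
  cen : ∀ u, u * u = 1 → u * t = t * u → u * y = y * u → (∀ s ∈ S, s * u = u * s) →
    (∀ k ∈ K, u * k = k * u) ∨ (∀ k ∈ K, v * u * k = k * (v * u)) ∨ (∀ k ∈ K, y⁻¹ * u * k = k * (y⁻¹ * u)) ∨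
      (∀ k ∈ K, (y * v)⁻¹ * u * k = k * ((y * v)⁻¹ * u))

/-- the environment: `K` normal in `C(t)`, a sign `μ` of `C(t)` trivial on `K C_C(K)` -/
structure Env (t z : G) (K T : Subgroup G) (μ : centralizer ({t} : Set G) →* ℤˣ) : Prop extends Frame t z T where
  Kt : ∀ x ∈ K, x * t = t * x
  Kn : ∀ g, g * t = t * g → ∀ x ∈ K, g * x * g⁻¹ ∈ K
  Kc : ∀ x ∈ K, (∀ k ∈ K, x * k = k * x) → x = 1
  /-- `t` is the only involution of `C_C(K)` -/
  uniq : ∀ c, c * t = t * c → (∀ k ∈ K, c * k = k * c) → c * c = 1 → c = 1 ∨ c = t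
  muK : ∀ x (hx : x * t = t * x), x ∈ K → μ ⟨x, mem_centralizer_singleton_iff.2 hx⟩ = 1
  muC : ∀ x (hx : x * t = t * x), (∀ k ∈ K, x * k = k * x) → μ ⟨x, mem_centralizer_singleton_iff.2 hx⟩ = 1
  al : ∀ y (hy : y * t = t * y), IsPGroup 2 (zpowers y) → μ ⟨y, mem_centralizer_singleton_iff.2 hy⟩ = -1 →
    ∃ k ∈ K, ∃ (v p : G) (S : Subgroup G), Good t K (k * y) v p S ∧ ∃ l ∈ K, l * z * l⁻¹ = v

section burn

variable {t z : G} {T : Subgroup G}

/-- if `T` is a Sylow subgroup of `G` then `N(T)` centralizes `t` -/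
theorem no_swap [Finite G] (Fr : Frame t z T) (S : Sylow 2 G) (hST : (S : Subgroup G) = T) {g : G}
    (hgN : g ∈ normalizer (T : Set G)) : g * t * g⁻¹ = t := by
  have hmem : ∀ y, y ∈ (S : Subgroup G) → y ∈ T := by
    intro y hy
    rwa [hST] at hy
  obtain ⟨hz, h1 | h1⟩ := Fr.act hgN
  · exact h1
  · exfalso
    obtain ⟨k, m, hm, hk⟩ := Nat.exists_eq_two_pow_mul_odd (orderOf_pos g).ne'
    set x := g ^ m with hx
    have hxp : IsPGroup 2 (zpowers x) := by
      apply IsPGroup.of_card (n := k)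
      rw [Nat.card_zpowers, hx, orderOf_pow, hk, Nat.gcd_mul_left_left,
        Nat.mul_div_cancel _ hm.pos]
    have hxN : x ∈ normalizer (T : Set G) := pow_mem hgN m
    have hxT : x ∈ T := by
      apply hmem
      have h2 : IsPGroup 2 ((zpowers x ⊔ T : Subgroup G)) :=
        hxp.to_sup_of_normal_right' Fr.pT (by rw [zpowers_le]; exact hxN)
      have h3 := S.is_maximal' h2 (by rw [hST]; exact le_sup_right)
      show x ∈ (S : Subgroup G)
      rw [← h3]
      exact (le_sup_left : zpowers x ≤ _) (mem_zpowers x)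
    have hxt := Fr.tc x hxT
    have hg2t : Commute (g * g) t := by
      show g * g * t = t * (g * g)
      rw [← mul_inv_eq_iff_eq_mul]
      calc g * g * t * (g * g)⁻¹ = g * (g * t * g⁻¹) * g⁻¹ := by group
        _ = g * (t * z) * g⁻¹ := by rw [h1]
        _ = (g * t * g⁻¹) * (g * z * g⁻¹) := by group
        _ = t := by rw [h1, hz, mul_assoc, Fr.zz, mul_one]
    obtain ⟨j, hj⟩ := hm
    have hx' : x = (g * g) ^ j * g := by
      rw [hx, hj, pow_succ, pow_mul, pow_two]
    have h4 : Commute ((g * g) ^ j) t := hg2t.pow_left j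
    have h5 : Commute ((g * g) ^ j * g) t := by
      rw [← hx']; exact hxt
    have h6 : Commute g t := by
      have := h4.inv_left.mul_left h5
      rwa [inv_mul_cancel_left] at this
    have h7 : g * t * g⁻¹ = t := by rw [h6.eq]; group
    rw [h7] at h1
    exact Fr.z1 (mul_eq_left.1 h1.symm)

/-- if `T` is a Sylow subgroup of `G`, then `t` is the only conjugate of `t` commuting with `T` -/
theorem burn [Finite G] (Fr : Frame t z T) (S : Sylow 2 G) (hST : (S : Subgroup G) = T) {g : G}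
    (hg : ∀ x ∈ T, x * (g * t * g⁻¹) = g * t * g⁻¹ * x) : g * t * g⁻¹ = t := by
  have hmem : ∀ y, y ∈ (S : Subgroup G) → y ∈ T := by
    intro y hy
    rwa [hST] at hy
  have h1 : t ∈ centralizer ((S : Subgroup G) : Set G) :=
    mem_centralizer_iff.2 fun x hx => Fr.tc x (hmem x hx)
  have h2 : g⁻¹⁻¹ * t * g⁻¹ ∈ centralizer ((S : Subgroup G) : Set G) := by
    rw [inv_inv]
    exact mem_centralizer_iff.2 fun x hx => hg x (hmem x hx)
  obtain ⟨n, hn, hnt⟩ := S.conj_eq_normalizer_conj_of_mem_centralizer t g⁻¹ h1 h2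
  rw [inv_inv] at hnt
  rw [hnt]
  have hn' : n⁻¹ ∈ normalizer (T : Set G) := by
    have h3 : n⁻¹ ∈ normalizer ((S : Subgroup G) : Set G) := inv_mem hn
    rwa [hST] at h3
  have h4 := no_swap Fr S hST hn'
  rwa [inv_inv] at h4

end burn

namespace Env

variable {t z : G} {K T : Subgroup G} {μ : centralizer ({t} : Set G) →* ℤˣ}

theorem comm_iff {t g y : G} : g⁻¹ * y * g ∈ centralizer ({t} : Set G) ↔
    y * (g * t * g⁻¹) = g * t * g⁻¹ * y := by
  rw [mem_centralizer_singleton_iff]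
  constructor
  · intro h
    calc y * (g * t * g⁻¹) = g * (g⁻¹ * y * g * t) * g⁻¹ := by group
      _ = g * (t * (g⁻¹ * y * g)) * g⁻¹ := by rw [h]
      _ = g * t * g⁻¹ * y := by group
  · intro h
    calc g⁻¹ * y * g * t = g⁻¹ * (y * (g * t * g⁻¹)) * g := by group
      _ = g⁻¹ * (g * t * g⁻¹ * y) * g := by rw [h]
      _ = t * (g⁻¹ * y * g) := by group

/-- no conjugate of `t` is `v` or `t v` -/
theorem nc [Finite G] (E : Env t z K T μ) (S : Sylow 2 G) (hST : (S : Subgroup G) = T) {v l : G} (hl : l ∈ K)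
    (hlv : l * z * l⁻¹ = v) (g : G) : g * t * g⁻¹ ≠ v ∧ g * t * g⁻¹ ≠ v * t := by
  constructor
  · intro h
    have h1 : (l⁻¹ * g) * t * (l⁻¹ * g)⁻¹ = z := by
      calc (l⁻¹ * g) * t * (l⁻¹ * g)⁻¹ = l⁻¹ * (g * t * g⁻¹) * l := by group
        _ = l⁻¹ * (l * z * l⁻¹) * l := by rw [h, hlv]
        _ = z := by group
    have h2 := burn E.toFrame S hST (g := l⁻¹ * g) (by
      intro x hx
      rw [h1]
      exact E.zc x hx)
    rw [h1] at h2
    exact E.ne h2
  · intro h
    have hlt := E.Kt l hl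
    have h1 : (l⁻¹ * g) * t * (l⁻¹ * g)⁻¹ = z * t := by
      calc (l⁻¹ * g) * t * (l⁻¹ * g)⁻¹ = l⁻¹ * (g * t * g⁻¹) * l := by group
        _ = l⁻¹ * (l * z * l⁻¹ * t) * l := by rw [h, hlv]
        _ = z * (l⁻¹ * (t * l)) := by group
        _ = z * (l⁻¹ * (l * t)) := by rw [hlt]
        _ = z * t := by group
    have h2 := burn E.toFrame S hST (g := l⁻¹ * g) (by
      intro x hx
      rw [h1]
      have h3 := E.zc x hx
      have h4 := E.tc x hx
      calc x * (z * t) = (x * z) * t := by group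
        _ = z * (x * t) := by rw [h3]; group
        _ = z * t * x := by rw [h4]; group)
    rw [h1] at h2
    exact E.z1 (mul_eq_right.1 h2)

/-- the value of `μ` -/
theorem mu_pow (x : centralizer ({t} : Set G)) (n : ℕ) (hx : μ x = -1) (hn : Odd n) : μ (x ^ n) = -1 := by
  rw [map_pow, hx, hn.neg_one_pow]

/-- an element of minimal order with `μ = -1` and the property `Good` -/
theorem exists_good [Finite G] (E : Env t z K T μ) (hμ : ∃ y, μ y = -1) :
    ∃ (y v p : G) (S : Subgroup G) (hy : y * t = t * y), Good t K y v p S ∧ (∃ l ∈ K, l * z * l⁻¹ = v) ∧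
      μ ⟨y, mem_centralizer_singleton_iff.2 hy⟩ = -1 ∧
      ∀ x : centralizer ({t} : Set G), μ x = -1 → orderOf y ≤ orderOf (x : G) := by
  classical
  obtain ⟨y₀, hy₀⟩ := hμ
  -- minimal order
  obtain ⟨y₁, hy₁, hmin⟩ : ∃ y₁ : centralizer ({t} : Set G), μ y₁ = -1 ∧
      ∀ x : centralizer ({t} : Set G), μ x = -1 → orderOf (y₁ : G) ≤ orderOf (x : G) := by
    let P : ℕ → Prop := fun n => ∃ x : centralizer ({t} : Set G), μ x = -1 ∧ orderOf (x : G) = n
    have hP : ∃ n, P n := ⟨_, y₀, hy₀, rfl⟩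
    obtain ⟨y₁, h1, h2⟩ := Nat.find_spec hP
    refine ⟨y₁, h1, ?_⟩
    intro x hx
    rw [h2]
    exact Nat.find_min' hP ⟨x, hx, rfl⟩
  have hy₁t : (y₁ : G) * t = t * y₁ := mem_centralizer_singleton_iff.1 y₁.2
  have hpos : 0 < orderOf (y₁ : G) := orderOf_pos _
  -- `y₁` is a 2-element
  have h2el : IsPGroup 2 (zpowers (y₁ : G)) := by
    obtain ⟨a, m, hm, hk⟩ := Nat.exists_eq_two_pow_mul_odd hpos.ne'
    have h1 := hmin (y₁ ^ m) (mu_pow y₁ m hy₁ hm)
    have h2 : orderOf ((y₁ ^ m : centralizer ({t} : Set G)) : G) = 2 ^ a := by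
      rw [Subgroup.coe_pow, orderOf_pow, hk, Nat.gcd_mul_left_left, Nat.mul_div_cancel _ hm.pos]
    rw [h2, hk] at h1
    have h3 : 2 ^ a * m ≤ 2 ^ a * 1 := by rw [mul_one]; exact h1
    have h4 : m ≤ 1 := Nat.le_of_mul_le_mul_left h3 (by positivity)
    have h5 : m = 1 := le_antisymm h4 hm.pos
    apply IsPGroup.of_card (n := a)
    rw [Nat.card_zpowers, hk, h5, mul_one]
  obtain ⟨k, hk, v, p, S, hgood, hl⟩ := E.al (y₁ : G) hy₁t h2el hy₁
  have hkt := E.Kt k hk
  have hyt : k * (y₁ : G) * t = t * (k * y₁) := hgood.yt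
  refine ⟨k * y₁, v, p, S, hyt, hgood, hl, ?_, ?_⟩
  · have h1 : (⟨k * (y₁ : G), mem_centralizer_singleton_iff.2 hyt⟩ : centralizer ({t} : Set G)) =
        ⟨k, mem_centralizer_singleton_iff.2 hkt⟩ * y₁ := rfl
    rw [h1, map_mul, E.muK k hkt hk, hy₁, one_mul]
  · -- the order of `k y₁` divides the order of `y₁`
    intro x hx
    refine le_trans (Nat.le_of_dvd hpos ?_) (hmin x hx)
    have heven : Even (orderOf (y₁ : G)) := by
      by_contra hodd
      rw [Nat.not_even_iff_odd] at hodd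
      have h1 := mu_pow y₁ _ hy₁ hodd
      have h2 : y₁ ^ orderOf (y₁ : G) = 1 := Subtype.ext (pow_orderOf_eq_one _)
      rw [h2, map_one] at h1
      exact absurd h1 (by decide)
    obtain ⟨j, hj⟩ := heven
    set y : G := k * y₁ with hy
    set a : G := k * (y₁ * k * (y₁ : G)⁻¹) with ha
    have haK : a ∈ K := K.mul_mem hk (E.Kn _ hy₁t k hk)
    have hyy : y * y = a * ((y₁ : G) * y₁) := by rw [hy, ha]; group
    have h1 : (y₁ : G) * y₁ = a⁻¹ * (y * y) := by rw [hyy]; group
    have hc : Commute a⁻¹ (y * y) := (hgood.yy a⁻¹ (K.inv_mem haK)).symm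
    have h2 : ((y₁ : G) * y₁) ^ j = 1 := by
      rw [← pow_two, ← pow_mul, two_mul, ← hj, pow_orderOf_eq_one]
    rw [h1, hc.mul_pow] at h2
    have h3 : (y * y) ^ j = (a⁻¹ ^ j)⁻¹ := (eq_inv_of_mul_eq_one_right h2)
    have h4 : (y * y) ^ j = 1 := by
      apply E.Kc
      · rw [h3]
        exact K.inv_mem (K.pow_mem (K.inv_mem haK) j)
      · intro l hl'
        exact ((show Commute (y * y) l from hgood.yy l hl').pow_left j)
    apply orderOf_dvd_of_pow_eq_one
    rw [hj, ← two_mul, pow_mul, pow_two]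
    exact h4

/-- **`T` is not a Sylow 2-subgroup of `G`** -/
theorem not_sylow [Finite G] (E : Env t z K T μ) (hG : ∀ H : Subgroup G, H.index ≠ 2) (hμ : ∃ y, μ y = -1)
    (S₀ : Sylow 2 G) : (S₀ : Subgroup G) ≠ T := by
  classical
  intro hST
  obtain ⟨y, v, p, S, hyt, hg, ⟨l, hl, hlv⟩, hmy, hmin⟩ := E.exists_good hμ
  have hvK : v ∈ K := hg.SK hg.vS
  have hvt := E.Kt v hvK
  have hvy : v * y = y * v := hg.Sy v hg.vS
  have hpt := E.Kt p hg.pK
  -- a Sylow 2-subgroup of `C(t) ∩ C(y)` containing `S`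
  obtain ⟨D, hD, hSD⟩ := Cfsg.Agent.OddHalf.D4.Basic.exists_isSyl (G := G)
    (M := centralizer ({t} : Set G) ⊓ centralizer ({y} : Set G)) (Q := S) hg.pS (by
      intro s hs
      exact ⟨mem_centralizer_singleton_iff.2 (E.Kt s (hg.SK hs)), mem_centralizer_singleton_iff.2 (hg.Sy s hs)⟩)
  have hDt : ∀ d ∈ D, d * t = t * d := fun d hd => mem_centralizer_singleton_iff.1 (hD.le hd).1
  have hDy : ∀ d ∈ D, d * y = y * d := fun d hd => mem_centralizer_singleton_iff.1 (hD.le hd).2
  have htD : t ∈ D := by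
    have h1 : zpowers t ≤ normalizer (D : Set G) := by
      rw [zpowers_le, mem_normalizer_iff]
      intro d
      constructor
      · intro hd
        rw [← hDt d hd, mul_inv_cancel_right]; exact hd
      · intro hd
        have h2 := hDt _ hd
        have h3 : t * d * t⁻¹ = d := by
          have h4 : t * d * t⁻¹ * t = t * (t * d * t⁻¹) := h2
          have h5 : d = t * d * t⁻¹ := by
            have h6 : t * d = t * (t * d * t⁻¹) := by rw [← h4]; group
            exact mul_left_cancel h6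
          exact h5.symm
        rwa [h3] at hd
    have h2 : IsPGroup 2 ((zpowers t ⊔ D : Subgroup G)) :=
      (Frame.isPGroup_zpowers E.tt).to_sup_of_normal_right' hD.two h1
    have h3 : zpowers t ⊔ D ≤ centralizer ({t} : Set G) ⊓ centralizer ({y} : Set G) := by
      rw [sup_le_iff, zpowers_le]
      exact ⟨⟨mem_centralizer_singleton_iff.2 rfl, mem_centralizer_singleton_iff.2 hyt.symm⟩, hD.le⟩
    exact hD.max _ h2 le_sup_right h3 ((le_sup_left : zpowers t ≤ _) (mem_zpowers t))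
  -- `D ∩ K = S`
  have hDK : ∀ d ∈ D, d ∈ K → d ∈ S := by
    intro d hd hdK
    exact hg.max (D ⊓ K) (hD.two.to_le inf_le_left) (le_inf hSD hg.SK) inf_le_right
      (fun x hx => hDy x hx.1) ⟨hd, hdK⟩
  have hDS : ∀ d ∈ D, ∀ s ∈ S, d * s * d⁻¹ ∈ S := by
    intro d hd s hs
    exact hDK _ (D.mul_mem (D.mul_mem hd (hSD hs)) (D.inv_mem hd)) (E.Kn d (hDt d hd) s (hg.SK hs))
  -- `y` is outer
  have hout : ∀ w c, w ∈ K → (∀ k ∈ K, c * k = k * c) → y ≠ w * c := by
    intro w c hw hc he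
    have hwt := E.Kt w hw
    have hct : c * t = t * c := by
      have h1 : c = w⁻¹ * y := by rw [he]; group
      have h2 : Commute w⁻¹ t := (show Commute w t from hwt).inv_left
      rw [h1]
      exact (h2.mul_left hyt)
    have h1 : (⟨y, mem_centralizer_singleton_iff.2 hyt⟩ : centralizer ({t} : Set G)) =
        ⟨w, mem_centralizer_singleton_iff.2 hwt⟩ * ⟨c, mem_centralizer_singleton_iff.2 hct⟩ := Subtype.ext he
    rw [h1, map_mul, E.muK w hwt hw, E.muC c hct hc] at hmy
    exact absurd hmy (by decide)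
  -- `v` is central in `D`
  have hDv : ∀ d ∈ D, d * v = v * d := by
    intro d hd
    obtain ⟨w, hw⟩ : ∃ w, w = d * v * d⁻¹ := ⟨_, rfl⟩
    have hwS : w ∈ S := by rw [hw]; exact hDS d hd v hg.vS
    have hwK := hg.SK hwS
    have hww : w * w = 1 := by
      calc w * w = d * (v * v) * d⁻¹ := by rw [hw]; group
        _ = 1 := by rw [hg.vv]; group
    have hws : ∀ s ∈ S, s * w = w * s := by
      intro s hs
      have h1 : d⁻¹ * s * d ∈ S := by
        have := hDS d⁻¹ (D.inv_mem hd) s hs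
        rwa [inv_inv] at this
      have h2 := hg.vs _ h1
      calc s * w = d * ((d⁻¹ * s * d) * v) * d⁻¹ := by rw [hw]; group
        _ = d * (v * (d⁻¹ * s * d)) * d⁻¹ := by rw [h2]
        _ = w * s := by rw [hw]; group
    rcases hg.cen w hww (E.Kt w hwK) (hg.Sy w hwS) hws with h1 | h1 | h1 | h1
    · exfalso
      have h2 := E.Kc w hwK h1
      apply hg.v1
      have h3 : v = d⁻¹ * w * d := by rw [hw]; group
      rw [h3, h2]; group
    · have h2 := E.Kc (v * w) (K.mul_mem hvK hwK) h1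
      have h3 : w = v := by
        have h4 : v * w = v * v := by rw [h2, hg.vv]
        exact mul_left_cancel h4
      rw [hw] at h3
      calc d * v = d * v * d⁻¹ * d := by group
        _ = v * d := by rw [h3]
    · exfalso
      refine hout w (y⁻¹ * w)⁻¹ hwK ?_ (by group)
      intro k hk
      exact ((show Commute (y⁻¹ * w) k from h1 k hk).inv_left)
    · exfalso
      have h2 : ∀ k ∈ K, ((y * v)⁻¹ * w)⁻¹ * k = k * ((y * v)⁻¹ * w)⁻¹ := fun k hk =>
        ((show Commute ((y * v)⁻¹ * w) k from h1 k hk).inv_left)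
      refine hout (w * v⁻¹) ((y * v)⁻¹ * w)⁻¹ (K.mul_mem hwK (K.inv_mem hvK)) h2 ?_
      have h3 := h2 v⁻¹ (K.inv_mem hvK)
      calc y = w * (((y * v)⁻¹ * w)⁻¹ * v⁻¹) := by group
        _ = w * v⁻¹ * ((y * v)⁻¹ * w)⁻¹ := by rw [h3]; group
  -- the transfer
  obtain ⟨f, hf, s, hs, htr⟩ := transfer_eq_prod_fixed (centralizer ({t} : Set G)) μ y (by
    intro g k hk2 hkd h
    rcases Int.units_eq_one_or (μ ⟨g⁻¹ * y ^ k * g, h⟩) with h1 | h1
    · exact h1
    · exfalso
      have h2 := hmin _ h1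
      have h3 : orderOf (g⁻¹ * y ^ k * g) = orderOf (y ^ k) := by
        have := Cfsg.Agent.OddHalf.D4.Basic.orderOf_conj g⁻¹ (y ^ k)
        rwa [inv_inv] at this
      have h4 : orderOf y ≤ orderOf (y ^ k) := by
        rw [← h3]; exact h2
      rw [orderOf_pow_of_dvd (by omega) hkd] at h4
      have h5 : orderOf y / k < orderOf y := Nat.div_lt_self (orderOf_pos y) hk2
      omega) D hD.two hDy
  have h1 : MonoidHom.transfer μ y = 1 := Frame.hom_eq_one hG _ _
  -- cosets and conjugates of `t`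
  have hco : ∀ a b : G, (a : G ⧸ centralizer ({t} : Set G)) = b ↔ a * t * a⁻¹ = b * t * b⁻¹ := by
    intro a b
    rw [QuotientGroup.eq, mem_centralizer_singleton_iff]
    constructor
    · intro h
      calc a * t * a⁻¹ = a * (t * (a⁻¹ * b)) * b⁻¹ := by group
        _ = a * (a⁻¹ * b * t) * b⁻¹ := by rw [h]
        _ = b * t * b⁻¹ := by group
    · intro h
      calc a⁻¹ * b * t = a⁻¹ * (b * t * b⁻¹) * b := by group
        _ = a⁻¹ * (a * t * a⁻¹) * b := by rw [h]
        _ = t * (a⁻¹ * b) := by group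
  have hfix : ∀ x g : G, x • (g : G ⧸ centralizer ({t} : Set G)) = g ↔
      x * (g * t * g⁻¹) = g * t * g⁻¹ * x := by
    intro x g
    rw [smul_mk_eq, comm_iff]
  have hsm : ∀ g : G, ((g : G ⧸ centralizer ({t} : Set G)) ∈ s) ↔ (y * (g * t * g⁻¹) = g * t * g⁻¹ * y) ∧
      ∀ d ∈ D, d * (g * t * g⁻¹) = g * t * g⁻¹ * d := by
    intro g
    rw [hs, hfix]
    constructor
    · rintro ⟨h2, h3⟩
      exact ⟨h2, fun d hd => (hfix d g).1 (h3 d hd)⟩
    · rintro ⟨h2, h3⟩
      exact ⟨h2, fun d hd => (hfix d g).2 (h3 d hd)⟩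
  -- the base coset
  have hq0 : ((1 : G) : G ⧸ centralizer ({t} : Set G)) ∈ s := by
    rw [hsm]
    simp only [one_mul, inv_one, mul_one]
    exact ⟨hyt, hDt⟩
  have hf0 : f ((1 : G) : G ⧸ centralizer ({t} : Set G)) = -1 := by
    rw [hf 1 (by simpa using mem_centralizer_singleton_iff.2 hyt), ← hmy]
    congr 1
    exact Subtype.ext (by simp)
  -- the other fixed conjugates `u` of `t`
  have key : ∀ g : G, ((g : G ⧸ centralizer ({t} : Set G)) ∈ s) → g * t * g⁻¹ ≠ t →
      p * (g * t * g⁻¹) * p⁻¹ = g * t * g⁻¹ * v ∧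
      ∃ h : g⁻¹ * v * g ∈ centralizer ({t} : Set G), μ ⟨g⁻¹ * v * g, h⟩ = 1 := by
    intro g hgs hgt
    obtain ⟨u, hu⟩ : ∃ u, u = g * t * g⁻¹ := ⟨_, rfl⟩
    have h2 := (hsm g).1 hgs
    rw [← hu] at h2 hgt ⊢
    obtain ⟨huy, huD⟩ := h2
    have huu : u * u = 1 := by
      calc u * u = g * (t * t) * g⁻¹ := by rw [hu]; group
        _ = 1 := by rw [E.tt]; group
    have hut : u * t = t * u := (huD t htD).symm
    have huv : u * v = v * u := (huD v (hSD hg.vS)).symm
    -- a subgroup on which the sign of `C(u)` is trivial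
    let N : Subgroup G :=
      { carrier := {x | ∃ h : g⁻¹ * x * g ∈ centralizer ({t} : Set G), μ ⟨g⁻¹ * x * g, h⟩ = 1}
        one_mem' := by
          have e : g⁻¹ * 1 * g = 1 := by group
          refine ⟨by rw [e]; exact one_mem _, ?_⟩
          have : (⟨g⁻¹ * 1 * g, by rw [e]; exact one_mem _⟩ : centralizer ({t} : Set G)) = 1 := Subtype.ext e
          rw [this, map_one]
        mul_mem' := by
          rintro a b ⟨ha, ha'⟩ ⟨hb, hb'⟩
          have e : g⁻¹ * (a * b) * g = (g⁻¹ * a * g) * (g⁻¹ * b * g) := by group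
          have hab : g⁻¹ * (a * b) * g ∈ centralizer ({t} : Set G) := by rw [e]; exact mul_mem ha hb
          refine ⟨hab, ?_⟩
          have : (⟨g⁻¹ * (a * b) * g, hab⟩ : centralizer ({t} : Set G)) =
            ⟨g⁻¹ * a * g, ha⟩ * ⟨g⁻¹ * b * g, hb⟩ := Subtype.ext e
          rw [this, map_mul, ha', hb', one_mul]
        inv_mem' := by
          rintro a ⟨ha, ha'⟩
          have e : g⁻¹ * a⁻¹ * g = (g⁻¹ * a * g)⁻¹ := by group
          have hab : g⁻¹ * a⁻¹ * g ∈ centralizer ({t} : Set G) := by rw [e]; exact inv_mem ha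
          refine ⟨hab, ?_⟩
          have : (⟨g⁻¹ * a⁻¹ * g, hab⟩ : centralizer ({t} : Set G)) = (⟨g⁻¹ * a * g, ha⟩)⁻¹ := Subtype.ext e
          rw [this, map_inv, ha', inv_one] }
    have hN : ∀ A : Subgroup G, (∀ a ∈ A, a * u = u * a) → ⁅A, A⁆ ≤ N := by
      intro A hA
      rw [commutator_le]
      intro a ha b hb
      have ha' : g⁻¹ * a * g ∈ centralizer ({t} : Set G) := comm_iff.2 (by rw [← hu]; exact hA a ha)
      have hb' : g⁻¹ * b * g ∈ centralizer ({t} : Set G) := comm_iff.2 (by rw [← hu]; exact hA b hb)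
      have e : g⁻¹ * ⁅a, b⁆ * g = (g⁻¹ * a * g) * (g⁻¹ * b * g) * (g⁻¹ * a * g)⁻¹ * (g⁻¹ * b * g)⁻¹ := by
        rw [commutatorElement_def]; group
      have hab : g⁻¹ * ⁅a, b⁆ * g ∈ centralizer ({t} : Set G) := by
        rw [e]; exact mul_mem (mul_mem (mul_mem ha' hb') (inv_mem ha')) (inv_mem hb')
      refine ⟨hab, ?_⟩
      have : (⟨g⁻¹ * ⁅a, b⁆ * g, hab⟩ : centralizer ({t} : Set G)) =
        ⟨g⁻¹ * a * g, ha'⟩ * ⟨g⁻¹ * b * g, hb'⟩ * (⟨g⁻¹ * a * g, ha'⟩)⁻¹ * (⟨g⁻¹ * b * g, hb'⟩)⁻¹ :=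
        Subtype.ext e
      rw [this, map_mul, map_mul, map_mul, map_inv, map_inv]
      rw [mul_comm (μ _) (μ _), mul_assoc, mul_assoc, mul_inv_cancel_left, mul_inv_cancel]
    rcases hg.cen u huu hut huy.symm (fun s hs => huD s (hSD hs)) with h3 | h3 | h3 | h3
    · exfalso
      rcases E.uniq u hut h3 huu with h4 | h4
      · rw [h4] at hu
        have h5 : t = g⁻¹ * 1 * g := by rw [hu]; group
        exact E.t1 (by rw [h5]; group)
      · exact hgt h4
    · exfalso
      have h4 : v * u * t = t * (v * u) := by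
        calc v * u * t = v * (u * t) := by group
          _ = (v * t) * u := by rw [hut]; group
          _ = t * (v * u) := by rw [hvt]; group
      have h5 : v * u * (v * u) = 1 := by
        calc v * u * (v * u) = v * (u * v) * u := by group
          _ = v * (v * u) * u := by rw [huv]
          _ = (v * v) * (u * u) := by group
          _ = 1 := by rw [hg.vv, huu, one_mul]
      obtain ⟨h6, h7⟩ := E.nc S₀ hST hl hlv g
      rw [← hu] at h6 h7
      rcases E.uniq _ h4 h3 h5 with h8 | h8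
      · apply h6
        have h9 : v * u = v * v := by rw [h8, hg.vv]
        exact mul_left_cancel h9
      · apply h7
        have h9 : v * u = v * (v * t) := by
          rw [h8]
          calc t = (v * v) * t := by rw [hg.vv, one_mul]
            _ = v * (v * t) := by group
        exact mul_left_cancel h9
    · -- `u` acts as `y`
      obtain ⟨c, hc⟩ : ∃ c, c = y⁻¹ * u := ⟨_, rfl⟩
      rw [← hc] at h3
      have huc : u = y * c := by rw [hc]; group
      have hpc : p * c * p⁻¹ = c := by rw [← h3 p hg.pK]; group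
      constructor
      · calc p * u * p⁻¹ = (p * y * p⁻¹) * (p * c * p⁻¹) := by rw [huc]; group
          _ = y * (v * c) := by rw [hg.py, hpc]; group
          _ = y * (c * v) := by rw [h3 v hvK]
          _ = u * v := by rw [huc]; group
      · apply hN (K ⊓ centralizer {y}) _ hg.vc
        rintro a ⟨haK, hay⟩
        have hay' : a * y = y * a := mem_centralizer_singleton_iff.1 hay
        calc a * u = (a * y) * c := by rw [huc]; group
          _ = y * (a * c) := by rw [hay']; group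
          _ = y * (c * a) := by rw [h3 a haK]
          _ = u * a := by rw [huc]; group
    · -- `u` acts as `y v`
      obtain ⟨c, hc⟩ : ∃ c, c = (y * v)⁻¹ * u := ⟨_, rfl⟩
      rw [← hc] at h3
      have huc : u = y * v * c := by rw [hc]; group
      have hpc : p * c * p⁻¹ = c := by rw [← h3 p hg.pK]; group
      constructor
      · calc p * u * p⁻¹ = (p * y * p⁻¹) * (p * v * p⁻¹) * (p * c * p⁻¹) := by rw [huc]; group
          _ = y * v * (v * c) := by rw [hg.py, hpc, hg.pv]; group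
          _ = y * v * (c * v) := by rw [h3 v hvK]
          _ = u * v := by rw [huc]; group
      · have h4 : p * v * p⁻¹ ∈ N := by
          have h5 : ⁅K ⊓ centralizer {y}, K ⊓ centralizer {y}⁆.map (MulAut.conj p).toMonoidHom ≤ N := by
            rw [map_commutator]
            apply hN
            rintro _ ⟨a, ⟨haK, hay⟩, rfl⟩
            have hay' : a * y = y * a := mem_centralizer_singleton_iff.1 hay
            show p * a * p⁻¹ * u = u * (p * a * p⁻¹)
            have hpa : p * a * p⁻¹ ∈ K := K.mul_mem (K.mul_mem hg.pK haK) (K.inv_mem hg.pK)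
            have h6 : p * a * p⁻¹ * (y * v) = y * v * (p * a * p⁻¹) := by
              rw [← hg.py]
              calc p * a * p⁻¹ * (p * y * p⁻¹) = p * (a * y) * p⁻¹ := by group
                _ = p * (y * a) * p⁻¹ := by rw [hay']
                _ = p * y * p⁻¹ * (p * a * p⁻¹) := by group
            calc p * a * p⁻¹ * u = (p * a * p⁻¹ * (y * v)) * c := by rw [huc]; group
              _ = y * v * ((p * a * p⁻¹) * c) := by rw [h6]; group
              _ = y * v * (c * (p * a * p⁻¹)) := by rw [h3 _ hpa]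
              _ = u * (p * a * p⁻¹) := by rw [huc]; group
          exact h5 ⟨v, hg.vc, rfl⟩
        rw [hg.pv] at h4
        exact h4
  -- the involution of the fixed cosets
  have hrest : ∏ q ∈ s.erase ((1 : G) : G ⧸ centralizer ({t} : Set G)), f q = 1 := by
    have hne : ∀ g : G, (g : G ⧸ centralizer ({t} : Set G)) ≠ ((1 : G) : G ⧸ centralizer ({t} : Set G)) ↔
        g * t * g⁻¹ ≠ t := by
      intro g
      rw [Ne, hco, one_mul, inv_one, mul_one]
    have hpconj : ∀ g : G, (p * g) * t * (p * g)⁻¹ = p * (g * t * g⁻¹) * p⁻¹ := by intro g; group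
    refine Finset.prod_involution (fun q _ => p • q) ?_ ?_ ?_ ?_
    · -- values
      intro q hq
      obtain ⟨g, rfl⟩ := QuotientGroup.mk_surjective q
      rw [Finset.mem_erase, hne] at hq
      obtain ⟨h2, h3, h4⟩ := key g hq.2 hq.1
      have h5 : g⁻¹ * y * g ∈ centralizer ({t} : Set G) := comm_iff.2 ((hsm g).1 hq.2).1
      have h6 : p⁻¹ * y * p = y * v := by
        have h7 : y = (p⁻¹ * y * p) * v := by
          calc y = p⁻¹ * (p * y * p⁻¹) * p := by group
            _ = p⁻¹ * (y * v) * p := by rw [hg.py]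
            _ = (p⁻¹ * y * p) * (p⁻¹ * v * p) := by group
            _ = (p⁻¹ * y * p) * (p⁻¹ * (p * v * p⁻¹) * p) := by rw [hg.pv]
            _ = (p⁻¹ * y * p) * v := by group
        calc p⁻¹ * y * p = (p⁻¹ * y * p) * (v * v) := by rw [hg.vv, mul_one]
          _ = ((p⁻¹ * y * p) * v) * v := by group
          _ = y * v := by rw [← h7]
      have h8 : (p * g)⁻¹ * y * (p * g) = (g⁻¹ * y * g) * (g⁻¹ * v * g) := by
        calc (p * g)⁻¹ * y * (p * g) = g⁻¹ * (p⁻¹ * y * p) * g := by group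
          _ = (g⁻¹ * y * g) * (g⁻¹ * v * g) := by rw [h6]; group
      have h9 : (p * g)⁻¹ * y * (p * g) ∈ centralizer ({t} : Set G) := by rw [h8]; exact mul_mem h5 h3
      have h10 : f (p • (g : G ⧸ centralizer ({t} : Set G))) = f (g : G ⧸ centralizer ({t} : Set G)) := by
        show f ((p * g : G) : G ⧸ centralizer ({t} : Set G)) = _
        rw [hf _ h9, hf _ h5]
        have h11 : (⟨(p * g)⁻¹ * y * (p * g), h9⟩ : centralizer ({t} : Set G)) =
          ⟨g⁻¹ * y * g, h5⟩ * ⟨g⁻¹ * v * g, h3⟩ := Subtype.ext h8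
        rw [h11, map_mul, h4, mul_one]
      rw [h10]
      exact Int.units_mul_self _
    · -- no fixed point
      intro q hq _ he
      obtain ⟨g, rfl⟩ := QuotientGroup.mk_surjective q
      rw [Finset.mem_erase, hne] at hq
      obtain ⟨h2, -⟩ := key g hq.2 hq.1
      have h3 : ((p * g : G) : G ⧸ centralizer ({t} : Set G)) = g := he
      rw [hco, hpconj, h2] at h3
      exact hg.v1 (mul_eq_left.1 h3)
    · -- membership
      intro q hq
      obtain ⟨g, rfl⟩ := QuotientGroup.mk_surjective q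
      rw [Finset.mem_erase, hne] at hq
      obtain ⟨h2, -⟩ := key g hq.2 hq.1
      have h3 := (hsm g).1 hq.2
      show ((p * g : G) : G ⧸ centralizer ({t} : Set G)) ∈ _
      rw [Finset.mem_erase, hne, hsm, hpconj, h2]
      refine ⟨?_, ?_, ?_⟩
      · intro h4
        apply (E.nc S₀ hST hl hlv g).2
        have hgv : g * t * g⁻¹ * v = v * (g * t * g⁻¹) := (h3.2 v (hSD hg.vS)).symm
        rw [hgv] at h4
        calc g * t * g⁻¹ = (v * v) * (g * t * g⁻¹) := by rw [hg.vv, one_mul]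
          _ = v * (v * (g * t * g⁻¹)) := by group
          _ = v * t := by rw [h4]
      · calc y * (g * t * g⁻¹ * v) = (y * (g * t * g⁻¹)) * v := by group
          _ = g * t * g⁻¹ * (y * v) := by rw [h3.1]; group
          _ = g * t * g⁻¹ * v * y := by rw [← hvy]; group
      · intro d hd
        calc d * (g * t * g⁻¹ * v) = (d * (g * t * g⁻¹)) * v := by group
          _ = g * t * g⁻¹ * (d * v) := by rw [h3.2 d hd]; group
          _ = g * t * g⁻¹ * v * d := by rw [hDv d hd]; group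
    · -- involution
      intro q hq
      obtain ⟨g, rfl⟩ := QuotientGroup.mk_surjective q
      rw [Finset.mem_erase, hne] at hq
      obtain ⟨h2, -⟩ := key g hq.2 hq.1
      show ((p * (p * g) : G) : G ⧸ centralizer ({t} : Set G)) = g
      rw [hco]
      calc p * (p * g) * t * (p * (p * g))⁻¹ = p * (p * (g * t * g⁻¹) * p⁻¹) * p⁻¹ := by group
        _ = p * (g * t * g⁻¹ * v) * p⁻¹ := by rw [h2]
        _ = (p * (g * t * g⁻¹) * p⁻¹) * (p * v * p⁻¹) := by group
        _ = g * t * g⁻¹ * v * v := by rw [h2, hg.pv]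
        _ = g * t * g⁻¹ * (v * v) := by group
        _ = g * t * g⁻¹ := by rw [hg.vv, mul_one]
  rw [h1, ← Finset.mul_prod_erase s f hq0, hf0, hrest, mul_one] at htr
  exact absurd htr (by decide)

end Env

end Cfsg.Agent.OddHalf.D6.QThree.TransferMu
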