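import Cfsg.Agent.OddHalf.D6.QThree.FrontK
import Cfsg.Agent.OddHalf.D6.QThree.FrontOut
import Cfsg.Agent.OddHalf.D6.QThree.TransferMu
import Cfsg.Agent.OddHalf.D7Out.Iso

/-!
# ODD half, D6, `q = 3`: the front end for an arbitrary outer part (helper948)

`FB K t q z T`: `Start K t q`, `T` a Sylow 2-subgroup of `C(t)`, `Z(T ∩ K) = {1, z}`, the elements of `T` centralising
`T ∩ K` have square in `C(K)`, `z` is isolated in `⟨t, z⟩`.

`FB.Q_two`: `|Q| = 2` if some element normalising `T` maps `t` to `tz`; `FB.out`: the output `Out K t z`.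
`exists_FB`: `FB` from `FrontK`.
-/

set_option autoImplicit false

namespace Cfsg.Agent.OddHalf.D6.QThree.FrontB

open Subgroup Cfsg Cfsg.Agent.OddHalf.Front.FE Cfsg.Agent.OddHalf.Front Cfsg.Agent.OddHalf.D8.GlueE
open Cfsg.Agent.OddHalf.Front.Cyclic (mem_M KQ conjK conjK' conjQ inv_comm mul_comm' M_unique)

universe u

variable {G : Type u} [Group G]

/-- the position -/
structure FB (K : Subgroup G) (t q z : G) (T : Subgroup G) : Prop extends Start K t q where
  pT : IsPGroup 2 ↥T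
  tc : ∀ x ∈ T, x * t = t * x
  max : ∀ P : Subgroup G, IsPGroup 2 ↥P → T ≤ P → (∀ x ∈ P, x * t = t * x) → P ≤ T
  z1 : z ≠ 1
  zT : z ∈ T
  zK : z ∈ K
  zS : ∀ x ∈ T, x ∈ K → x * z = z * x
  /-- `Z(S) = {1, z}` -/
  P1 : ∀ y ∈ T, y ∈ K → (∀ x ∈ T, x ∈ K → x * y = y * x) → y = 1 ∨ y = z
  /-- the elements centralising `S` have square in `C(K)` -/
  T2s : ∀ y ∈ T, (∀ x ∈ T, x ∈ K → x * y = y * x) → ∀ k ∈ K, y * y * k = k * (y * y)
  /-- `z` is isolated in `⟨t, z⟩` -/
  iso : ∀ g : G, (g * t * g⁻¹ = t ∨ g * t * g⁻¹ = z ∨ g * t * g⁻¹ = t * z) →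
    (g * z * g⁻¹ = t ∨ g * z * g⁻¹ = z ∨ g * z * g⁻¹ = t * z) → g * z * g⁻¹ = z

namespace FB

variable {K : Subgroup G} {t q z : G} {T : Subgroup G}

theorem zpowers_le_T (F : FB K t q z T) : zpowers q ≤ T := by
  have hle : T ≤ normalizer ((zpowers q : Subgroup G) : Set G) := by
    intro x hx
    have hxt := F.tc x hx
    rw [mem_normalizer_iff]
    intro y
    constructor
    · exact fun hy => conjQ F.toStart0 hxt hy
    · intro hy
      have h1 := conjQ F.toStart0 (inv_comm hxt) hy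
      have h2 : x⁻¹ * (x * y * x⁻¹) * x⁻¹⁻¹ = y := by group
      rwa [h2] at h1
  have h1 : IsPGroup 2 ↥(T ⊔ zpowers q : Subgroup G) := F.pT.to_sup_of_normal_right' F.pQ hle
  have h2 : ∀ x ∈ T ⊔ zpowers q, x * t = t * x := by
    have : T ⊔ zpowers q ≤ centralizer ({t} : Set G) := by
      rw [sup_le_iff]
      exact ⟨fun x hx => mem_centralizer_singleton_iff.2 (F.tc x hx),
        fun x hx => mem_centralizer_singleton_iff.2 (F.Qt x hx)⟩
    intro x hx
    exact mem_centralizer_singleton_iff.1 (this hx)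
  exact le_sup_right.trans (F.max _ h1 le_sup_left h2)

theorem tT (F : FB K t q z T) : t ∈ T := F.zpowers_le_T F.tQ

theorem zz (F : FB K t q z T) : z * z = 1 := by
  rcases F.P1 (z * z) (T.mul_mem F.zT F.zT) (K.mul_mem F.zK F.zK) (fun x hx hxK =>
    (mul_comm' (F.zS x hx hxK).symm (F.zS x hx hxK).symm).symm) with h | h
  · exact h
  · exfalso
    exact F.z1 (mul_eq_left.1 h)

/-- `z` is central in `T` -/
theorem zc (F : FB K t q z T) : ∀ x ∈ T, x * z = z * x := by
  intro x hx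
  have hxt := F.tc x hx
  have h1 : x * z * x⁻¹ = 1 ∨ x * z * x⁻¹ = z := by
    apply F.P1
    · exact T.mul_mem (T.mul_mem hx F.zT) (T.inv_mem hx)
    · exact conjK F.toStart0 hxt F.zK
    · intro y hy hyK
      have h2 := F.zS (x⁻¹ * y * x) (T.mul_mem (T.mul_mem (T.inv_mem hx) hy) hx)
        (conjK' F.toStart0 hxt hyK)
      calc y * (x * z * x⁻¹) = x * (x⁻¹ * y * x * z) * x⁻¹ := by group
        _ = x * (z * (x⁻¹ * y * x)) * x⁻¹ := by rw [h2]
        _ = x * z * x⁻¹ * y := by group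
  rcases h1 with h1 | h1
  · exfalso
    apply F.z1
    have : z = x⁻¹ * (x * z * x⁻¹) * x := by group
    rw [this, h1]; group
  · rwa [mul_inv_eq_iff_eq_mul] at h1

theorem z_ne_t (F : FB K t q z T) : z ≠ t := by
  rintro rfl
  exact F.t1 (KQ F.toStart F.zK F.tQ)

theorem tK (F : FB K t q z T) : t ∉ K := fun h => F.t1 (KQ F.toStart h F.tQ)

/-- (T1s): only `⟨z⟩ C(K)` centralises `S = T ∩ K` -/
def T1 (K T : Subgroup G) (z : G) : Prop := ∀ y ∈ T, (∀ x ∈ T, x ∈ K → x * y = y * x) →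
  (∀ k ∈ K, y * k = k * y) ∨ ∀ k ∈ K, z * y * k = k * (z * y)

/-- the frame, when only `⟨z⟩` and `C(K)` centralise `S` -/
theorem frame [Finite G] (F : FB K t q z T) (T1s : T1 K T z) : TR.Frame t z T where
  tt := F.tt
  zz := F.zz
  t1 := F.t1
  z1 := F.z1
  ne := F.z_ne_t
  pT := F.pT
  tT := F.tT
  tc := F.tc
  zT := F.zT
  zc := F.zc
  max := F.max
  om := by
    intro y hy hc hyy
    have hyt := F.tc y hy
    have key : ∀ w : G, w * t = t * w → w * w = 1 → (∀ k ∈ K, w * k = k * w) → w = 1 ∨ w = t := by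
      intro w hwt hww hwK
      have h1 := F.cK w hwt (fun x hx => (hwK x hx).symm)
      by_cases h : w = 1
      · exact Or.inl h
      · exact Or.inr (F.uniq h1 hww h)
    rcases T1s y hy (fun x hx _ => hc x hx) with h | h
    · rcases key y hyt hyy h with e | e
      · exact Or.inl e
      · exact Or.inr (Or.inl e)
    · have hyz : y * z = z * y := F.zc y hy
      have hww : z * y * (z * y) = 1 := by
        calc z * y * (z * y) = z * (y * z) * y := by group
          _ = z * (z * y) * y := by rw [hyz]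
          _ = (z * z) * (y * y) := by group
          _ = 1 := by rw [F.zz, hyy, one_mul]
      have hzt := F.Kt z F.zK
      have hyy' : y = z * (z * y) := by rw [← mul_assoc, F.zz, one_mul]
      rcases key (z * y) (mul_comm' hzt hyt) hww h with e | e
      · rw [e, mul_one] at hyy'
        exact Or.inr (Or.inr (Or.inl hyy'))
      · rw [e, hzt] at hyy'
        exact Or.inr (Or.inr (Or.inr hyy'))
  iso := F.iso

/-- **FE4**: `|Q| = 2`. -/
theorem Q_two [Finite G] (F : FB K t q z T) {x : G} (hxN : x ∈ normalizer (T : Set G))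
    (hxt : x * t * x⁻¹ = t * z) : ∀ y ∈ zpowers q, y = 1 ∨ y = t := by
  intro y0 hy0
  by_contra hcon
  rw [not_or] at hcon
  obtain ⟨hy01, hy0t⟩ := hcon
  -- a square root of `t` in `Q`
  obtain ⟨r, hrQ, hrr⟩ : ∃ r ∈ zpowers q, r * r = t := by
    obtain ⟨n, hn⟩ := IsPGroup.iff_card.1 F.pQ
    rw [Nat.card_zpowers] at hn
    rcases n with _ | _ | n
    · exfalso
      rw [pow_zero, orderOf_eq_one_iff] at hn
      rw [hn, zpowers_one_eq_bot, mem_bot] at hy0
      exact hy01 hy0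
    · exfalso
      have h1 : y0 * y0 = 1 := by
        obtain ⟨i, rfl⟩ := mem_zpowers_iff.1 hy0
        have h2 : q ^ 2 = 1 := by
          have := pow_orderOf_eq_one q
          rwa [hn] at this
        rw [← zpow_add, ← two_mul, zpow_mul]
        have h3 : q ^ (2 : ℤ) = 1 := by exact_mod_cast h2
        rw [h3, one_zpow]
      exact hy0t (F.uniq hy0 h1 hy01)
    · refine ⟨q ^ (2 ^ n), pow_mem (mem_zpowers q) _, ?_⟩
      have h1 : q ^ (2 ^ n) * q ^ (2 ^ n) = q ^ (2 ^ (n + 1)) := by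
        rw [← pow_add, ← two_mul, ← pow_succ']
      rw [h1]
      apply F.uniq (pow_mem (mem_zpowers q) _)
      · rw [← pow_add, ← two_mul, ← pow_succ', ← hn, pow_orderOf_eq_one]
      · intro h
        have h2 := orderOf_dvd_of_pow_eq_one h
        rw [hn] at h2
        have h3 := Nat.le_of_dvd (pow_pos two_pos _) h2
        rw [pow_succ 2 (n + 1)] at h3
        have := pow_pos (show 0 < 2 by norm_num) (n + 1)
        omega
  set y : G := x * r * x⁻¹ with hy
  have hyT : y ∈ T := (mem_normalizer_iff.1 hxN r).1 (F.zpowers_le_T hrQ)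
  have hyy : y * y = t * z := by
    calc y * y = x * (r * r) * x⁻¹ := by rw [hy]; group
      _ = t * z := by rw [hrr, hxt]
  have htz : t * z = z * t := F.zc t F.tT
  have htz2 : (t * z) * (t * z) = 1 := by
    calc (t * z) * (t * z) = t * (z * t) * z := by group
      _ = t * (t * z) * z := by rw [htz]
      _ = (t * t) * (z * z) := by group
      _ = 1 := by rw [F.tt, F.zz, one_mul]
  have htzK : t * z ∉ K := by
    intro h
    apply F.tK
    have : t = t * z * z⁻¹ := by group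
    rw [this]; exact mul_mem h (inv_mem F.zK)
  -- conjugation by `T` sends `y` to a power of `y`
  have hpow : ∀ s ∈ T, ∃ j : ℤ, s * y * s⁻¹ = y ^ j := by
    intro s hs
    have hs' : x⁻¹ * s * x ∈ T := by
      apply (mem_normalizer_iff.1 hxN _).2
      have : x * (x⁻¹ * s * x) * x⁻¹ = s := by group
      rw [this]; exact hs
    obtain ⟨j, hj⟩ := mem_zpowers_iff.1 (conjQ F.toStart0 (F.tc _ hs') (mem_zpowers q))
    obtain ⟨m, hm⟩ := mem_zpowers_iff.1 hrQ
    refine ⟨j, ?_⟩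
    have h1 : x⁻¹ * s * x * r * (x⁻¹ * s * x)⁻¹ = r ^ j := by
      rw [← hm, ← conj_zpow, ← hj, ← zpow_mul, ← zpow_mul, mul_comm]
    calc s * y * s⁻¹ = x * (x⁻¹ * s * x * r * (x⁻¹ * s * x)⁻¹) * x⁻¹ := by rw [hy]; group
      _ = x * r ^ j * x⁻¹ := by rw [h1]
      _ = y ^ j := by rw [hy, conj_zpow]
  have hcen : ∀ s ∈ T, s ∈ K → s * y = y * s := by
    intro s hs hsK
    obtain ⟨j, hj⟩ := hpow s hs
    have h1 : y ^ (j - 1) ∈ K := by
      rw [zpow_sub_one, ← hj]
      have : s * y * s⁻¹ * y⁻¹ = s * (y * s⁻¹ * y⁻¹) := by group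
      rw [this]
      exact mul_mem hsK (conjK F.toStart0 (F.tc y hyT) (inv_mem hsK))
    have h2 : y ^ (j - 1) = 1 := by
      have hyy2 : y ^ (2 : ℤ) = t * z := by
        rw [show (2 : ℤ) = 1 + 1 by norm_num, zpow_add, zpow_one, hyy]
      have htz2' : (t * z) ^ (2 : ℤ) = 1 := by
        rw [show (2 : ℤ) = 1 + 1 by norm_num, zpow_add, zpow_one, htz2]
      rcases Int.even_or_odd' (j - 1) with ⟨i, hi | hi⟩
      · rw [hi, zpow_mul, hyy2] at h1 ⊢
        rcases Int.even_or_odd' i with ⟨l, hl | hl⟩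
        · rw [hl, zpow_mul, htz2', one_zpow]
        · exfalso
          rw [hl, zpow_add_one, zpow_mul, htz2', one_zpow, one_mul] at h1
          exact htzK h1
      · exfalso
        have h3 := mul_mem h1 h1
        rw [← zpow_add, ← two_mul, hi, mul_add, mul_one, zpow_add, zpow_mul, hyy2] at h3
        have h4 : (t * z) ^ (2 * i) = 1 := by rw [zpow_mul, htz2', one_zpow]
        rw [h4, one_mul] at h3
        exact htzK h3
    rw [zpow_sub_one, ← hj, mul_inv_eq_one, mul_inv_eq_iff_eq_mul] at h2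
    exact h2
  have hK := F.T2s y hyT hcen
  rw [hyy] at hK
  apply F.z1
  apply F.cen z F.zK
  intro k hk
  have h1 := hK k hk
  have h2 := F.Kt k hk
  have h3 : t * (z * k) = t * (k * z) := by
    calc t * (z * k) = t * z * k := by group
      _ = (k * t) * z := by rw [h1]; group
      _ = t * (k * z) := by rw [h2]; group
  exact (mul_left_cancel h3).symm

/-- `T` is not a Sylow subgroup of `G`, when `T / Q (T ∩ K)` is cyclic -/
theorem not_sylow_cyc [Finite G] (F : FB K t q z T) (hG : _root_.commutator G = ⊤) (T1s : T1 K T z)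
    (hcyc : ∃ y ∈ T, ∀ x ∈ T, ∃ i j : ℤ, ∃ s ∈ T, s ∈ K ∧ x = y ^ i * q ^ j * s) (S : Sylow 2 G) :
    (S : Subgroup G) ≠ T := by
  intro hST
  have Fr := F.frame T1s
  obtain ⟨y, hy, hyc⟩ := hcyc
  refine D7Out.Iso.Isol.false_of_cyc (t := t) (v := q) (K := K) (T := T)
    { t1 := F.t1
      tt := F.tt
      tv := F.tQ
      pv := F.pQ
      vn := fun m hm => conjQ F.toStart0 hm (mem_zpowers q)
      kn := fun m hm x hx => conjK F.toStart0 hm hx
      kv := F.qK
      inf := fun x hx hxq => KQ F.toStart hx hxq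
      pT := F.pT
      vT := F.zpowers_le_T (mem_zpowers q)
      tc := F.tc
      max := F.max
      t1s := ?_
      notz := ?_
      iso := fun g _ hg => TransferMu.burn Fr S hST hg } hG hy hyc
  · intro x hx hc
    have hxt := F.tc x hx
    rcases T1s x hx (fun y hy hyK => (hc y hy hyK).symm) with h | h
    · exact ⟨x, F.cK x hxt (fun k hk => (h k hk).symm), 1, K.one_mem, by rw [mul_one]⟩
    · have hzx : z * x * t = t * (z * x) := mul_comm' (F.Kt z F.zK) hxt
      have h1 := F.cK (z * x) hzx (fun k hk => (h k hk).symm)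
      refine ⟨z * x, h1, z, F.zK, ?_⟩
      calc x = (z * z) * x := by rw [F.zz, one_mul]
        _ = z * (z * x) := by group
        _ = z * x * z := F.QK (z * x) h1 z F.zK
  · intro g hgT hgK hc
    have h1 : g * t * g⁻¹ = 1 ∨ g * t * g⁻¹ = z :=
      F.P1 _ hgT hgK (fun y hy hyK => (hc y hy hyK).symm)
    rcases h1 with h1 | h1
    · apply F.t1
      calc t = g⁻¹ * (g * t * g⁻¹) * g := by group
        _ = 1 := by rw [h1]; group
    · have h2 := TransferMu.burn Fr S hST (g := g) (by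
        intro x hx
        rw [h1]; exact F.zc x hx)
      rw [h1] at h2
      exact F.z_ne_t h2

/-- **the output of the front end**, given the element `x` and the fusion of `z` -/
theorem out_of [Finite G] (F : FB K t q z T) (hG : _root_.commutator G = ⊤) {x : G}
    (hxN : x ∈ normalizer (T : Set G)) (hxt : x * t * x⁻¹ = t * z) (hxz : x * z * x⁻¹ = z)
    (hnc : ∀ g, g * t * g⁻¹ ≠ z)
    (hu : ∀ g : G, (∀ x ∈ T, x * (g * z * g⁻¹) = g * z * g⁻¹ * x) → g * z * g⁻¹ = z) : Out K t z where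
  tt := F.tt
  t1 := F.t1
  Kt := F.Kt
  nK := F.nK
  cK := fun c hct hcK => F.Q_two hxN hxt c (F.cK c hct hcK)
  tK := F.tK
  zK := F.zK
  nc := hnc
  sw := ⟨x, hxt, hxz⟩
  tH := TFormula.mem_commutator hG F.tt T F.pT F.tc F.zc (F.zc t F.tT) hu

/-- **the output of the front end**, when the frame holds and `T` is not a Sylow subgroup of `G` -/
theorem out [Finite G] (F : FB K t q z T) (hG : _root_.commutator G = ⊤) (Fr : TR.Frame t z T)
    (hns : ∀ S : Sylow 2 G, (S : Subgroup G) ≠ T) : Out K t z := by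
  obtain ⟨S, hS⟩ := F.pT.exists_le_sylow
  have hlt : T < (S : Subgroup G) := lt_of_le_of_ne hS fun h => hns S h.symm
  obtain ⟨x, hxS, hxN, hxT, hxt, hxz⟩ := Fr.exists_swap S hlt
  have hnc := Fr.not_conj S hlt
  have hnc2 : ∀ g, g * (t * z) * g⁻¹ ≠ z := by
    intro g hg
    apply hnc (g * x)
    calc g * x * t * (g * x)⁻¹ = g * (x * t * x⁻¹) * g⁻¹ := by group
      _ = z := by rw [hxt]; exact hg
  exact F.out_of hG hxN hxt hxz hnc (fun g hg => Fr.unique_of_not_conj hnc hnc2 g hg)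

end FB

/-! ### from `FrontK` -/

section K

variable {K : Subgroup G} {t q : G} {z : K} {R : Subgroup K} {i j k l a b : K}

/-- elements of odd order of `C(t)` lie in `K`, if `Out(K)` is a 2-group -/
theorem mem_of_odd (st : Start K t q)
    (out : ∀ α : MulAut K, ∃ n : ℕ, α ^ 2 ^ n ∈ (MulAut.conj : K →* MulAut K).range) {g : G}
    (hg : g * t = t * g) (ho : Odd (orderOf g)) : g ∈ K := by
  obtain ⟨n, hn⟩ := out (K.normalizerMonoidHom ⟨g, st.nK g hg⟩)
  have hgt : g ^ 2 ^ n * t = t * g ^ 2 ^ n := (show Commute g t from hg).pow_left _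
  have h3 : g ^ 2 ^ n ∈ zpowers q ⊔ K := by
    apply OfSheet.mem_of_inn st hgt
    have e : K.normalizerMonoidHom ⟨g ^ 2 ^ n, st.nK (g ^ 2 ^ n) hgt⟩ =
        (K.normalizerMonoidHom ⟨g, st.nK g hg⟩) ^ 2 ^ n := by
      rw [← map_pow]; rfl
    rw [e]; exact hn
  have hco : (2 ^ n).Coprime (orderOf g) := Nat.Coprime.pow_left _ (Nat.coprime_two_left.2 ho)
  have h5 : g ∈ zpowers q ⊔ K := by
    obtain ⟨m, hm⟩ := exists_pow_eq_self_of_coprime hco
    rw [← hm]; exact pow_mem h3 _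
  obtain ⟨a, ha, k, hk, e⟩ := (mem_M st.toStart0).1 h5
  have hak : Commute a k := (st.QK a ha k hk).symm
  obtain ⟨m, hm⟩ := ho
  have h6 : a ^ (2 * m + 1) * k ^ (2 * m + 1) = 1 := by
    rw [← hak.mul_pow, ← e, ← hm, pow_orderOf_eq_one]
  have h7 : a ^ (2 * m + 1) = 1 := by
    apply KQ st
    · have : a ^ (2 * m + 1) = (k ^ (2 * m + 1))⁻¹ := eq_inv_of_mul_eq_one_left h6
      rw [this]; exact K.inv_mem (K.pow_mem hk _)
    · exact pow_mem ha _
  have h8 : a = 1 := by
    obtain ⟨r, hr⟩ := st.pQ ⟨a, ha⟩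
    have hr' : a ^ 2 ^ r = 1 := congrArg Subtype.val hr
    have hcop : Nat.Coprime (2 ^ r) (2 * m + 1) := by
      apply Nat.Coprime.pow_left
      rw [Nat.coprime_two_left]
      exact ⟨m, rfl⟩
    have h9 : orderOf a ∣ Nat.gcd (2 ^ r) (2 * m + 1) :=
      Nat.dvd_gcd (orderOf_dvd_of_pow_eq_one hr') (orderOf_dvd_of_pow_eq_one h7)
    rw [hcop] at h9
    exact orderOf_eq_one_iff.1 (Nat.dvd_one.1 h9)
  rw [e, h8, one_mul]; exact hk

/-- `z` is isolated in `⟨t, z⟩` -/
theorem isolated (st : Start K t q) (hb : Facts.Base z R)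
    (out : ∀ α : MulAut K, ∃ n : ℕ, α ^ 2 ^ n ∈ (MulAut.conj : K →* MulAut K).range) (g : G)
    (h1 : g * t * g⁻¹ = t ∨ g * t * g⁻¹ = z ∨ g * t * g⁻¹ = t * z)
    (h2 : g * z * g⁻¹ = t ∨ g * z * g⁻¹ = z ∨ g * z * g⁻¹ = t * z) : g * z * g⁻¹ = z := by
  have tK : t ∉ K := fun h1 => st.t1 (st.cen t h1 fun y hy => st.Kt y hy)
  set O : Subgroup G := closure {x : G | x * t = t * x ∧ x * z = z * x ∧ Odd (orderOf x)} with hO
  have hOK : O ≤ K := (closure_le K).2 fun x hx => mem_of_odd st out hx.1 hx.2.2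
  have hzO : (z : G) ∈ O := by
    have h3 : (z : G) ∈ (closure {x : K | x * z = z * x ∧ Odd (orderOf x)}).map K.subtype := ⟨z, hb.oz, rfl⟩
    rw [MonoidHom.map_closure] at h3
    refine Subgroup.closure_mono ?_ h3
    rintro _ ⟨y, ⟨hy1, hy2⟩, rfl⟩
    refine ⟨st.Kt y y.2, congrArg Subtype.val hy1, ?_⟩
    show Odd (orderOf (y : G))
    rwa [Subgroup.orderOf_coe]
  have h4 : g⁻¹ * z * g ∈ K := by
    apply hOK
    have h5 : MulAut.conj g⁻¹ (z : G) ∈ O.map (MulAut.conj g⁻¹).toMonoidHom := ⟨z, hzO, rfl⟩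
    rw [hO, MonoidHom.map_closure] at h5
    have e : MulAut.conj g⁻¹ (z : G) = g⁻¹ * z * g := by rw [MulAut.conj_apply, inv_inv]
    rw [e] at h5
    refine Subgroup.closure_mono ?_ h5
    rintro _ ⟨x, ⟨hxt, hxz, hxo⟩, rfl⟩
    obtain ⟨h6, h7⟩ := Sit.Loc.norm_cen (g := g⁻¹) (t := t) (z := z) (by rwa [inv_inv]) (by rwa [inv_inv])
      x hxt hxz
    refine ⟨h6, h7, ?_⟩
    have : orderOf ((MulAut.conj g⁻¹).toMonoidHom x) = orderOf x :=
      orderOf_injective (MulAut.conj g⁻¹).toMonoidHom (MulAut.conj g⁻¹).injective x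
    rw [this]; exact hxo
  have hmul : g * (t * z) * g⁻¹ = (g * t * g⁻¹) * (g * z * g⁻¹) := by group
  have back : ∀ y, g * y * g⁻¹ = z → y ∈ K := by
    intro y hy
    have : g⁻¹ * z * g = y := by rw [← hy]; group
    rwa [this] at h4
  have hinj : ∀ c d, g * c * g⁻¹ = g * d * g⁻¹ → c = d :=
    fun c d e => mul_left_cancel (mul_right_cancel e)
  have htz : t * (z : G) = z * t := (st.Kt z z.2).symm
  have hzt : (z : G) ≠ t := fun e => tK (e ▸ z.2)
  have htzK : t * z ∉ K := fun h5 => tK (by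
    have := K.mul_mem h5 (K.inv_mem z.2)
    rwa [mul_inv_cancel_right] at this)
  rcases h2 with h2 | h2 | h2
  · exfalso
    rcases h1 with h1 | h1 | h1
    · exact hzt (hinj _ _ (h2.trans h1.symm))
    · exact tK (back t h1)
    · apply htzK
      apply back
      rw [hmul, h1, h2, htz, mul_assoc, st.tt, mul_one]
  · exact h2
  · exfalso
    rcases h1 with h1 | h1 | h1
    · apply htzK
      apply back
      rw [hmul, h1, h2, ← mul_assoc, st.tt, one_mul]
    · exact tK (back t h1)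
    · exact hzt (hinj _ _ (h2.trans h1.symm))

/-- **`FB` from the facts on `K`**: `S` is a Sylow 2-subgroup of `K` and `T ∩ K = S` -/
theorem exists_FB [Finite G] (st : Start K t q) (hb : Facts.Base z R)
    (out : ∀ α : MulAut K, ∃ n : ℕ, α ^ 2 ^ n ∈ (MulAut.conj : K →* MulAut K).range)
    (inv : ∀ S : Sylow 2 K, R ≤ S → (∀ x ∈ S, x * z = z * x) → ∀ α : MulAut K, (∀ x ∈ S, α x = x) → α * α = 1) :
    ∃ (T : Subgroup G) (S : Sylow 2 K), FB K t q (z : G) T ∧ R ≤ S ∧ (∀ x ∈ S, x * z = z * x) ∧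
      (∀ x : K, (x : G) ∈ T ↔ x ∈ S) := by
  obtain ⟨S0, hS0p, hzc, hRS, hSmax⟩ := Sit.exists_sylow hb
  set S : Sylow 2 K :=
    { toSubgroup := S0
      isPGroup' := hS0p
      is_maximal' := fun {Q} hQ hle => le_antisymm (hSmax Q hQ hle) hle } with hS
  have hZ : ∀ y ∈ S, (∀ x ∈ S, x * y = y * x) → y = 1 ∨ y = z := by
    intro y hy hc
    exact hb.cR y (hzc y hy) (fun r hr => (hc r (hRS hr)).symm)
  set C : Subgroup G := centralizer ({t} : Set G) with hC
  have hKC : K ≤ C := fun x hx => mem_centralizer_singleton_iff.2 (st.Kt x hx)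
  have hS' : IsPGroup 2 ↥((S : Subgroup K).map K.subtype) := S.isPGroup'.map _
  have hS'C : (S : Subgroup K).map K.subtype ≤ C := by
    rintro _ ⟨y, -, rfl⟩
    exact hKC y.2
  obtain ⟨TS, hTS⟩ := (hS'.comap_of_injective C.subtype C.subtype_injective).exists_le_sylow
  have hTC : (TS : Subgroup C).map C.subtype ≤ C := by
    rintro _ ⟨y, -, rfl⟩
    exact y.2
  have hpT : IsPGroup 2 ↥((TS : Subgroup C).map C.subtype) := TS.isPGroup'.map _
  have hST : (S : Subgroup K).map K.subtype ≤ (TS : Subgroup C).map C.subtype := by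
    intro x hx
    exact ⟨⟨x, hS'C hx⟩, hTS hx, rfl⟩
  have htc : ∀ x ∈ (TS : Subgroup C).map C.subtype, x * t = t * x := fun x hx =>
    mem_centralizer_singleton_iff.1 (hTC hx)
  have hTK : ∀ x (hx : x ∈ K), x ∈ (TS : Subgroup C).map C.subtype → (⟨x, hx⟩ : K) ∈ S := by
    have h1 : IsPGroup 2 ↥(((TS : Subgroup C).map C.subtype).subgroupOf K) :=
      hpT.comap_of_injective K.subtype K.subtype_injective
    have h2 := S.is_maximal' h1 (fun y hy => mem_subgroupOf.2 (hST ⟨y, hy, rfl⟩))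
    intro x hx hxT
    have h3 : (⟨x, hx⟩ : K) ∈ ((TS : Subgroup C).map C.subtype).subgroupOf K := mem_subgroupOf.2 hxT
    rw [h2] at h3
    exact h3
  have hKT : ∀ x : K, x ∈ S → (x : G) ∈ (TS : Subgroup C).map C.subtype := fun x hx => hST ⟨x, hx, rfl⟩
  refine ⟨(TS : Subgroup C).map C.subtype, S,
    { toStart := st
      pT := hpT
      tc := htc
      max := ?_
      z1 := fun e => hb.z1 (Subtype.ext e)
      zT := hKT z (hRS hb.zR)
      zK := z.2
      zS := ?_
      P1 := ?_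
      T2s := ?_
      iso := ?_ }, hRS, hzc, fun x => ⟨fun hx => hTK x x.2 hx, fun hx => hKT x hx⟩⟩
  · intro R hR hle hRt
    have h1 : IsPGroup 2 ↥(R.subgroupOf C) := hR.comap_of_injective C.subtype C.subtype_injective
    have h2 := TS.is_maximal' h1 (fun y hy => mem_subgroupOf.2 (hle ⟨y, hy, rfl⟩))
    intro x hx
    have hxC : x ∈ C := mem_centralizer_singleton_iff.2 (hRt x hx)
    have h3 : (⟨x, hxC⟩ : C) ∈ R.subgroupOf C := mem_subgroupOf.2 hx
    rw [h2] at h3
    exact ⟨⟨x, hxC⟩, h3, rfl⟩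
  · intro x hxT hxK
    exact congrArg Subtype.val (hzc ⟨x, hxK⟩ (hTK x hxK hxT))
  · intro y hyT hyK hy
    rcases hZ ⟨y, hyK⟩ (hTK y hyK hyT) (fun x hx => Subtype.ext (hy x (hKT x hx) x.2)) with h | h
    · exact Or.inl (congrArg Subtype.val h)
    · exact Or.inr (congrArg Subtype.val h)
  · intro y hyT hy k hk
    have hyt := htc y hyT
    set α := K.normalizerMonoidHom ⟨y, st.nK y hyt⟩ with hα
    have hαS : ∀ x ∈ S, α x = x := by
      intro x hx
      apply Subtype.ext
      rw [nmh_apply, ← hy x (hKT x hx) x.2]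
      group
    have h1 := inv S hRS hzc α hαS
    have h2 := congrArg (fun f : MulAut K => ((f ⟨k, hk⟩ : K) : G)) h1
    simp only [MulAut.mul_apply, MulAut.one_apply] at h2
    rw [hα, nmh_apply, nmh_apply] at h2
    have h3 : y * (y * k * y⁻¹) * y⁻¹ = k := h2
    calc y * y * k = y * (y * k * y⁻¹) * y⁻¹ * (y * y) := by group
      _ = k * (y * y) := by rw [h3]
  · intro g h1 h2
    exact isolated st hb out g h1 h2

end K

end Cfsg.Agent.OddHalf.D6.QThree.FrontB
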