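import Cfsg.Agent.OddHalf.D6.QThree.U43AutGood
import Cfsg.Agent.OddHalf.D6.QThree.U43Tw
import Cfsg.Agent.OddHalf.D6.QThree.TransferMu

/-!
# ODD half, D6, `q = 3`: `U₄(3)`, the sign of `C(t)` and the fields of `TransferMu.Env` (helper218)

`K` normal in `C(t)`, `e : K ≃* PSU 4 F 3`. `mu = -1` on the elements of `C(t)` acting as semilinear
automorphisms; `al` = field of `TransferMu.Env`; `cyc`: if `mu = 1` then `C(t) / K C(K)` is cyclic.
-/

set_option autoImplicit false
set_option linter.unusedSectionVars false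

namespace Cfsg.Agent.OddHalf.D6.QThree.U43AutEnv

open Subgroup Cfsg Cfsg.Agent.OddHalf.D6.QThree.U43Aut Cfsg.Agent.OddHalf.D6.QThree.U43AutRef
open Cfsg.Agent.OddHalf.D6.QThree.U43AutGood Cfsg.Agent.OddHalf.D6.QThree.TransferMu
open Cfsg.Agent.OddHalf.Small.U43Mat Cfsg.Agent.OddHalf.Small.U43Good
open Cfsg.Agent.ClassicalGeometry.UnitAutBasic (pr pr_surjective)

section lift

variable {G : Type*} [Group G] {K C : Subgroup G} {L : Type*} [Group L]

/-- the action of `C` on `K`, transported to `L` -/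
noncomputable def ac (e : K ≃* L) (hn : ∀ g ∈ C, ∀ x ∈ K, g * x * g⁻¹ ∈ K) : C →* MulAut L :=
  (MulAut.congr e).toMonoidHom.comp (K.normalizerMonoidHom.comp (inclusion (show C ≤ normalizer (K : Set G) from
    fun g hg => mem_normalizer_iff.2 fun x => ⟨fun hx => hn g hg x hx, fun hx => by
      have := hn g⁻¹ (C.inv_mem hg) _ hx
      rwa [show g⁻¹ * (g * x * g⁻¹) * g⁻¹⁻¹ = x by group] at this⟩)))

variable {e : K ≃* L} {hn : ∀ g ∈ C, ∀ x ∈ K, g * x * g⁻¹ ∈ K}

/-- the elements of `K` -/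
theorem ac_spec (g : C) (x : L) : (e.symm (ac e hn g x) : G) = g * (e.symm x : G) * (g : G)⁻¹ := by
  show ((e.symm (e (K.normalizerMonoidHom _ (e.symm x))) : K) : G) = _
  rw [e.symm_apply_apply]
  rfl

theorem ac_eq {g : C} {x y : L} (h : (e.symm y : G) = g * (e.symm x : G) * (g : G)⁻¹) : ac e hn g x = y := by
  apply e.symm.injective
  apply Subtype.ext
  rw [ac_spec, h]

theorem ac_of_mem {g : C} {k : L} (h : (g : G) = e.symm k) : ac e hn g = MulAut.conj k := by
  ext x
  apply ac_eq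
  rw [MulAut.conj_apply, map_mul, map_mul, map_inv, h]
  rfl

theorem ac_one {g : C} : ac e hn g = 1 ↔ ∀ k ∈ K, (g : G) * k = k * g := by
  constructor
  · intro h k hk
    have h1 := ac_spec (e := e) (hn := hn) g (e ⟨k, hk⟩)
    rw [h, MulAut.one_apply, e.symm_apply_apply] at h1
    rw [← mul_inv_eq_iff_eq_mul]
    exact h1.symm
  · intro h
    ext x
    apply ac_eq
    rw [h _ (e.symm x).2, mul_inv_cancel_right]
    rfl

end lift

section main

variable {G : Type*} [Group G] {K : Subgroup G} {t : G} {F : Type*} [Field F] [CharP F 3] [Fintype F]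

theorem lift_good (hF : Fintype.card F = 9) (e : K ≃* PSU 4 F 3) (Kt : ∀ x ∈ K, x * t = t * x)
    (hn : ∀ g ∈ centralizer ({t} : Set G), ∀ x ∈ K, g * x * g⁻¹ ∈ K) {y : centralizer ({t} : Set G)}
    {v p : PSU 4 F 3} {S : Subgroup (PSU 4 F 3)} (h : GoodK (ac e hn y) v p S) :
    Good t K (y : G) (e.symm v) (e.symm p) (S.map (K.subtype.comp e.symm.toMonoidHom)) := by
  obtain ⟨α, hα⟩ : ∃ α, α = ac e hn y := ⟨_, rfl⟩
  rw [← hα] at h
  have sp : ∀ x : PSU 4 F 3, (e.symm (α x) : G) = y * (e.symm x : G) * (y : G)⁻¹ := fun x => by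
    rw [hα]; exact ac_spec y x
  have spf : ∀ x : PSU 4 F 3, α x = x → (e.symm x : G) * y = y * e.symm x := by
    intro x hx
    have h1 := sp x
    rw [hx] at h1
    calc (e.symm x : G) * y = (y * (e.symm x : G) * (y : G)⁻¹) * y := by rw [← h1]
      _ = y * e.symm x := by group
  have spf' : ∀ x : PSU 4 F 3, (e.symm x : G) * y = y * e.symm x → α x = x := by
    intro x hx
    apply e.symm.injective
    apply Subtype.ext
    rw [sp, ← hx, mul_inv_cancel_right]
  have hyt : (y : G) * t = t * y := mem_centralizer_singleton_iff.1 y.2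
  have hmem : ∀ s ∈ S.map (K.subtype.comp e.symm.toMonoidHom), ∃ x ∈ S, s = e.symm x := by
    rintro _ ⟨x, hx, rfl⟩
    exact ⟨x, hx, rfl⟩
  have mmem : ∀ x ∈ S, (e.symm x : G) ∈ S.map (K.subtype.comp e.symm.toMonoidHom) :=
    fun x hx => ⟨x, hx, rfl⟩
  refine { yt := hyt, yy := ?_, vv := ?_, v1 := ?_, vc := ?_, pK := (e.symm p).2, py := ?_, pv := ?_,
           SK := ?_, Sy := ?_, pS := h.pS.map _, max := ?_, vS := mmem _ h.vS, vs := ?_, cen := ?_ }
  · intro k hk
    obtain ⟨x, hx⟩ := e.symm.surjective ⟨k, hk⟩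
    have hx' : (e.symm x : G) = k := congrArg Subtype.val hx
    have h1 := sp (α x)
    rw [sp x] at h1
    have h2 : α (α x) = x := by
      rw [← MulAut.mul_apply, h.aa, MulAut.one_apply]
    rw [h2, hx'] at h1
    calc (y : G) * y * k = (y * (y * k * (y : G)⁻¹) * (y : G)⁻¹) * (y * y) := by group
      _ = k * (y * y) := by rw [← h1]
  · have := congrArg (fun x => (e.symm x : G)) h.vv
    simpa using this
  · intro h1
    apply h.v1
    apply e.symm.injective
    apply Subtype.ext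
    rw [h1, map_one]
    rfl
  · have h1 : (fixS α).map (K.subtype.comp e.symm.toMonoidHom) ≤ K ⊓ centralizer {(y : G)} := by
      rintro _ ⟨x, hx, rfl⟩
      exact ⟨(e.symm x).2, mem_centralizer_singleton_iff.2 (spf x hx)⟩
    have h2 := mem_map_of_mem (K.subtype.comp e.symm.toMonoidHom) h.vc
    rw [map_commutator] at h2
    exact commutator_mono h1 h1 h2
  · -- `p y p⁻¹ = y v`
    have h1 : MulAut.conj (α.symm p) = MulAut.conj (v * p) := by
      ext x
      have h2 := congrArg (fun f : MulAut (PSU 4 F 3) => f x) h.py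
      simp only [MulAut.mul_apply, MulAut.conj_apply] at h2
      apply α.injective
      rw [MulAut.conj_apply, MulAut.conj_apply, map_mul, map_mul, map_inv, MulEquiv.apply_symm_apply, h2]
      congr 1
      group
    have h3 := conj_inj hF h1
    have h4 : p = α (v * p) := by rw [← h3, MulEquiv.apply_symm_apply]
    have h5 : (e.symm p : G) = y * ((e.symm v : G) * e.symm p) * (y : G)⁻¹ := by
      have := sp (v * p)
      rw [← h4] at this
      simpa only [map_mul, Subgroup.coe_mul] using this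
    have h6 : (e.symm p : G) * y = y * ((e.symm v : G) * e.symm p) := by
      rw [← eq_mul_inv_iff_mul_eq]; exact h5
    rw [h6]
    group
  · have := congrArg (fun x => (e.symm x : G)) h.pv
    simp only [map_mul, Subgroup.coe_mul] at this
    rw [this, mul_inv_cancel_right]
  · intro s hs
    obtain ⟨x, hx, rfl⟩ := hmem s hs
    exact (e.symm x).2
  · intro s hs
    obtain ⟨x, hx, rfl⟩ := hmem s hs
    exact spf x (h.Sf x hx)
  · intro P hP hSP hPK hPy x hx
    have h1 := h.max (P.comap (K.subtype.comp e.symm.toMonoidHom)) (hP.comap_of_injective _ (by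
      intro a b hab
      exact e.symm.injective (Subtype.ext hab))) (fun a ha => hSP (mmem a ha))
      (fun a ha => spf' a (hPy _ ha))
    refine ⟨e ⟨x, hPK hx⟩, h1 ?_, ?_⟩
    · show ((e.symm (e ⟨x, hPK hx⟩) : K) : G) ∈ P
      rw [e.symm_apply_apply]; exact hx
    · show ((e.symm (e ⟨x, hPK hx⟩) : K) : G) = x
      rw [e.symm_apply_apply]
  · intro s hs
    obtain ⟨x, hx, rfl⟩ := hmem s hs
    have := congrArg (fun x => (e.symm x : G)) (h.vs x hx)
    simpa only [map_mul, Subgroup.coe_mul] using this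
  · intro u huu hut huy huS
    obtain ⟨w, hw⟩ : ∃ w : centralizer ({t} : Set G), (w : G) = u := ⟨⟨u, mem_centralizer_singleton_iff.2 hut⟩, rfl⟩
    have hwy : w * y = y * w := Subtype.ext (by
      show (w : G) * y = y * w
      rw [hw]; exact huy)
    have hvt : (e.symm v : G) * t = t * e.symm v := Kt _ (e.symm v).2
    obtain ⟨v', hv'⟩ : ∃ v' : centralizer ({t} : Set G), (v' : G) = e.symm v :=
      ⟨⟨_, mem_centralizer_singleton_iff.2 hvt⟩, rfl⟩
    have hacv : ac e hn v' = MulAut.conj v := ac_of_mem hv'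
    have key := h.cen (ac e hn w) (by rw [hα, ← map_mul, ← map_mul, hwy]) (by
      intro s hs
      apply ac_eq
      rw [hw, ← huS _ (mmem s hs), mul_inv_cancel_right])
    rcases key with h1 | h1 | h1 | h1
    · left
      rw [ac_one, hw] at h1
      exact h1
    · right; left
      have h2 : ac e hn (v' * w) = 1 := by
        rw [map_mul, hacv, h1, ← map_mul, h.vv, map_one]
      rw [ac_one] at h2
      intro k hk
      have := h2 k hk
      rwa [Subgroup.coe_mul, hv', hw] at this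
    · right; right; left
      have h2 : ac e hn (y⁻¹ * w) = 1 := by
        rw [map_mul, map_inv, h1, hα, inv_mul_cancel]
      rw [ac_one] at h2
      intro k hk
      have := h2 k hk
      rwa [Subgroup.coe_mul, Subgroup.coe_inv, hw] at this
    · right; right; right
      have h2 : ac e hn ((y * v')⁻¹ * w) = 1 := by
        rw [map_mul, map_inv, map_mul, h1, hacv, hα, inv_mul_cancel]
      rw [ac_one] at h2
      intro k hk
      have := h2 k hk
      rwa [Subgroup.coe_mul, Subgroup.coe_inv, Subgroup.coe_mul, hw, hv'] at this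

/-- the sign of `C(t)` -/
noncomputable def mu (hF : Fintype.card F = 9) (e : K ≃* PSU 4 F 3)
    (hn : ∀ g ∈ centralizer ({t} : Set G), ∀ x ∈ K, g * x * g⁻¹ ∈ K) : centralizer ({t} : Set G) →* ℤˣ :=
  (sgn hF).comp (ac e hn)

theorem muK (hF : Fintype.card F = 9) (e : K ≃* PSU 4 F 3)
    (hn : ∀ g ∈ centralizer ({t} : Set G), ∀ x ∈ K, g * x * g⁻¹ ∈ K) (x : G) (hx : x * t = t * x)
    (hxK : x ∈ K) : mu hF e hn ⟨x, mem_centralizer_singleton_iff.2 hx⟩ = 1 := by
  show sgn hF (ac e hn _) = 1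
  rw [ac_of_mem (k := e ⟨x, hxK⟩) (by rw [e.symm_apply_apply]), sgn_conj]

theorem muC (hF : Fintype.card F = 9) (e : K ≃* PSU 4 F 3)
    (hn : ∀ g ∈ centralizer ({t} : Set G), ∀ x ∈ K, g * x * g⁻¹ ∈ K) (x : G) (hx : x * t = t * x)
    (hxK : ∀ k ∈ K, x * k = k * x) : mu hF e hn ⟨x, mem_centralizer_singleton_iff.2 hx⟩ = 1 := by
  show sgn hF (ac e hn _) = 1
  rw [ac_one.2 hxK, map_one]

/-- **the field `al` of `TransferMu.Env`** -/
theorem al (hF : Fintype.card F = 9) (e : K ≃* PSU 4 F 3) (Kt : ∀ x ∈ K, x * t = t * x)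
    (hn : ∀ g ∈ centralizer ({t} : Set G), ∀ x ∈ K, g * x * g⁻¹ ∈ K) {z : G} (hzK : z ∈ K) (hzz : z * z = 1)
    (hz1 : z ≠ 1) (y : G) (hy : y * t = t * y)
    (hmu : mu hF e hn ⟨y, mem_centralizer_singleton_iff.2 hy⟩ = -1) :
    ∃ k ∈ K, ∃ (v p : G) (S : Subgroup G), Good t K (k * y) v p S ∧ ∃ l ∈ K, l * z * l⁻¹ = v := by
  obtain ⟨k, v, p, S, hg, hv⟩ := exists_good hF _ hmu
  have hkt : (e.symm k : G) * t = t * e.symm k := Kt _ (e.symm k).2
  obtain ⟨k', hk'⟩ : ∃ k' : centralizer ({t} : Set G), (k' : G) = e.symm k :=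
    ⟨⟨_, mem_centralizer_singleton_iff.2 hkt⟩, rfl⟩
  have h1 : ac e hn (k' * ⟨y, mem_centralizer_singleton_iff.2 hy⟩) =
      MulAut.conj k * ac e hn ⟨y, mem_centralizer_singleton_iff.2 hy⟩ := by
    rw [map_mul, ac_of_mem hk']
  rw [← h1] at hg
  have h2 := lift_good hF e Kt hn hg
  rw [Subgroup.coe_mul, hk'] at h2
  refine ⟨_, (e.symm k).2, _, _, _, h2, ?_⟩
  obtain ⟨g, hgz⟩ := U43Tw.one_class hF (e ⟨z, hzK⟩) (by rw [← map_mul, ← map_one e]; congr 1; exact Subtype.ext hzz)
    (fun h => hz1 (by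
      have := e.injective (h.trans (map_one e).symm)
      exact congrArg Subtype.val this))
  refine ⟨(e.symm g⁻¹ : K), (e.symm g⁻¹).2, ?_⟩
  have h3 : e.symm (g⁻¹ * e ⟨z, hzK⟩ * g⁻¹⁻¹) = e.symm v := by
    rw [← hgz, hv]
    congr 1
    group
  rw [map_mul, map_mul, e.symm_apply_apply, map_inv e.symm g⁻¹] at h3
  exact congrArg Subtype.val h3

end main

/-! ### The determinant of the linear automorphisms -/

section det

open Matrix

variable {F : Type*} [Field F] [CharP F 3] [Fintype F]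

/-- the determinant of a matrix of an automorphism -/
noncomputable def dt (hF : Fintype.card F = 9) (α : MulAut (PSU 4 F 3)) : F :=
  (ty_spec hF α).choose.det

theorem dt_sa (hF : Fintype.card F = 9) {M : M4 F} (hM : st M * M = 1) (ε : Bool) :
    dt hF (sa hF M hM ε) = M.det := by
  obtain ⟨h1, h2⟩ := (ty_spec hF (sa hF M hM ε)).choose_spec
  obtain ⟨-, c, hc, h3⟩ := sa_inj hF hM h1 h2
  show (ty_spec hF (sa hF M hM ε)).choose.det = _
  rw [h3, det_smul, Fintype.card_fin, hc, one_mul]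

/-- a group of linear automorphisms is cyclic modulo the inner ones -/
theorem cyc (hF : Fintype.card F = 9) {X : Type*} [Group X] (φ : X →* MulAut (PSU 4 F 3))
    (h : ∀ x, sgn hF (φ x) = 1) : ∃ y, ∀ x, ∃ (i : ℤ) (k : PSU 4 F 3), φ x = MulAut.conj k * φ y ^ i := by
  have hlin : ∀ α : MulAut (PSU 4 F 3), sgn hF α = 1 → ∃ (M : M4 F) (hM : st M * M = 1), α = sa hF M hM false := by
    intro α hα
    obtain ⟨M, hM, ε, rfl⟩ := exists_sa hF α
    rw [sgn_sa] at hα
    cases ε
    · exact ⟨M, hM, rfl⟩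
    · exact absurd hα (by decide)
  let δ : X →* F :=
    { toFun := fun x => dt hF (φ x)
      map_one' := by
        rw [map_one, ← sa_one hF (M := 1) (by rw [st_one, one_mul]) (c := 1) (by rw [one_smul]), dt_sa, det_one]
      map_mul' := fun x y => by
        obtain ⟨M, hM, hx⟩ := hlin _ (h x)
        obtain ⟨N, hN, hy⟩ := hlin _ (h y)
        rw [map_mul, hx, hy, sa_mul, dt_sa, dt_sa, dt_sa, tw_false, det_mul] }
  let δ' : X →* Fˣ := δ.toHomUnits
  obtain ⟨⟨_, y, rfl⟩, hy⟩ := IsCyclic.exists_generator (α := δ'.range)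
  refine ⟨y, fun x => ?_⟩
  obtain ⟨i, hi⟩ := hy ⟨δ' x, x, rfl⟩
  have h1 : δ' y ^ i = δ' x := congrArg Subtype.val hi
  have h2 : δ (y ^ i) = δ x := by
    have h3 : δ' (y ^ i) = δ' x := by rw [map_zpow, h1]
    exact congrArg Units.val h3
  obtain ⟨M, hM, hx⟩ := hlin _ (h x)
  obtain ⟨N, hN, hyi⟩ := hlin _ (h (y ^ i))
  have h3 : M.det = N.det := by
    have h4 : dt hF (φ (y ^ i)) = dt hF (φ x) := h2
    rw [hx, hyi, dt_sa, dt_sa] at h4
    exact h4.symm
  obtain ⟨k, hk⟩ := exists_conj_mul hF hN hM false h3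
  refine ⟨i, k, ?_⟩
  rw [← map_zpow, hyi, hk, hx]

end det


end Cfsg.Agent.OddHalf.D6.QThree.U43AutEnv
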