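import Cfsg.Agent.OddHalf.D6.QThree.FrontB
import Cfsg.Agent.OddHalf.D6.QThree.U43AutEnv

/-!
# ODD half, D6, `q = 3`: the front end for `K = U₄(3)`, any `|Q|`, any outer part (helper948; text: helper801 #12978
(0), (1), (2); K-facts: helper218; transfer: helper696; cyclic case: helper868)

`exists_out`: `Ctx G`, `Std G K`, `Cyc K`, `K ≃* PSU 4 F 3` give an involution `t` with `Out K t z`.
-/

set_option autoImplicit false

namespace Cfsg.Agent.OddHalf.D6.QThree.FrontBU

open Subgroup Cfsg Cfsg.Agent.OddHalf.Front.FE Cfsg.Agent.OddHalf.Front Cfsg.Agent.OddHalf.D8.GlueE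
open Cfsg.Agent.OddHalf.Front.Cyclic (mem_M KQ conjK conjK' conjQ inv_comm mul_comm' M_unique)
open Cfsg.Agent.OddHalf.D6.QThree.FrontB

universe u

section

variable {F : Type*} [Field F] [CharP F 3] [Fintype F]

/-- (K1) for `K ≃* U₄(3)` -/
theorem k1 (hF : Fintype.card F = 9) {K : Type*} [Group K] [Finite K] (e : K ≃* PSU 4 F 3) (S : Sylow 2 K) :
    ∃ z ∈ S, z ≠ 1 ∧ (∀ x ∈ S, x * z = z * x) ∧
      ∀ α : MulAut K, (∀ x ∈ S, α x = x) → α = 1 ∨ α = MulAut.conj z := by
  have hfin : Finite (PSU 4 F 3) := Finite.of_equiv K e.toEquiv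
  obtain ⟨z, hzS, -, hz1, hzc, hz⟩ := U43AutRef.kone_sylow hF (S.mapSurjective (f := e.toMonoidHom) e.surjective)
  have hmem : ∀ x ∈ S, e x ∈ (S.mapSurjective (f := e.toMonoidHom) e.surjective : Subgroup (PSU 4 F 3)) :=
    fun x hx => ⟨x, hx, rfl⟩
  obtain ⟨w, hw, hwz⟩ := hzS
  have hwz' : e w = z := hwz
  refine ⟨w, hw, fun h => hz1 (by rw [← hwz', h, map_one]), ?_, ?_⟩
  · intro x hx
    apply e.injective
    rw [map_mul, map_mul, hwz']
    exact hzc _ (hmem x hx)
  · intro α hα
    have h1 := hz (MulAut.congr e α) (by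
      rintro _ ⟨x, hx, rfl⟩
      show e (α (e.symm (e x))) = e x
      rw [e.symm_apply_apply, hα x hx])
    rcases h1 with h1 | h1
    · left
      ext x
      have h2 := congrArg (fun f : MulAut (PSU 4 F 3) => f (e x)) h1
      apply e.injective
      have h3 : e (α (e.symm (e x))) = e x := h2
      rwa [e.symm_apply_apply] at h3
    · right
      ext x
      have h2 := congrArg (fun f : MulAut (PSU 4 F 3) => f (e x)) h1
      apply e.injective
      have h3 : e (α (e.symm (e x))) = z * e x * z⁻¹ := h2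
      rw [e.symm_apply_apply] at h3
      rw [h3, MulAut.conj_apply, map_mul, map_mul, map_inv, hwz']

end

variable {F : Type*} [Field F] [CharP F 3] [Fintype F] {G : Type u} [Group G]

/-- **the front end for `K = U₄(3)`** -/
theorem exists_out (hF : Fintype.card F = 9) (hG : Iface.Ctx G) {K : Subgroup G} (hK : Iface.Std G K)
    (hC : Iface.Cyc K) (e : K ≃* PSU 4 F 3) {z : K} {R : Subgroup K} (hb : Facts.Base z R)
    (out : ∀ α : MulAut K, ∃ n : ℕ, α ^ 2 ^ n ∈ (MulAut.conj : K →* MulAut K).range) :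
    ∃ t : G, Out K t (z : G) := by
  have hfin := hG.fin
  have hcen : center K = ⊥ := by
    rw [eq_bot_iff]
    intro x hx
    rw [mem_bot]
    apply e.injective
    rw [map_one]
    apply U43AutRef.conj_one hF
    intro y
    obtain ⟨w, rfl⟩ := e.surjective y
    rw [← map_mul, ← map_mul, mem_center_iff.1 hx w]
  obtain ⟨t, q, st⟩ := exists_start hG hK hC hcen
  have hG1 := commutator_eq_top hG
  have hG2 := index_ne_two hG
  -- (K1) for the Sylow subgroups containing `R`
  have key : ∀ S : Sylow 2 K, R ≤ S → (∀ x ∈ S, x * z = z * x) → ∀ α : MulAut K, (∀ x ∈ S, α x = x) →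
      α = 1 ∨ α = MulAut.conj z := by
    intro S hRS hSz α hα
    obtain ⟨w, hwS, hw1, hwc, hw⟩ := k1 hF e S
    have hwz : w = z := by
      rcases hb.cR w (hSz w hwS) (fun r hr => (hwc r (hRS hr)).symm) with h | h
      · exact absurd h hw1
      · exact h
    rw [← hwz]
    exact hw α hα
  obtain ⟨T, S, B, hRS, hSz, hTS⟩ := exists_FB st hb out (by
    intro S hRS hSz α hα
    rcases key S hRS hSz α hα with h | h
    · rw [h, one_mul]
    · rw [h, ← map_mul, hb.zz, map_one])
  have T1s : FB.T1 K T (z : G) := by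
    intro y hy hc
    have hyt := B.tc y hy
    have h1 := key S hRS hSz (K.normalizerMonoidHom ⟨y, st.nK y hyt⟩) (by
      intro x hx
      apply Subtype.ext
      rw [nmh_apply, ← hc x ((hTS x).2 hx) x.2]
      group)
    rcases h1 with h1 | h1
    · left
      intro k hk
      have h2 := congrArg (fun f : MulAut K => ((f ⟨k, hk⟩ : K) : G)) h1
      simp only [MulAut.one_apply] at h2
      rw [nmh_apply] at h2
      have h3 : y * k * y⁻¹ = k := h2
      rwa [mul_inv_eq_iff_eq_mul] at h3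
    · right
      intro k hk
      have h2 := exists_of_conj (st.nK y hyt) h1 k hk
      have hzi : (z : G)⁻¹ = z := inv_eq_of_mul_eq_one_right B.zz
      rw [hzi] at h2
      exact h2.symm
  refine ⟨t, B.out hG1 (B.frame T1s) ?_⟩
  -- `T` is not a Sylow subgroup of `G`
  have hn : ∀ g ∈ centralizer ({t} : Set G), ∀ x ∈ K, g * x * g⁻¹ ∈ K := fun g hg x hx =>
    conjK st.toStart0 (mem_centralizer_singleton_iff.1 hg) hx
  by_cases hmu : ∃ y, U43AutEnv.mu hF e hn y = -1
  · intro S'
    refine TransferMu.Env.not_sylow (K := K) (μ := U43AutEnv.mu hF e hn)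
      { toFrame := B.frame T1s
        Kt := B.Kt
        Kn := fun g hg x hx => conjK st.toStart0 hg hx
        Kc := fun x hx hc => st.cen x hx (fun y hy => (hc y hy).symm)
        uniq := ?_
        muK := fun x hx hxK => U43AutEnv.muK hF e hn x hx hxK
        muC := fun x hx hxK => U43AutEnv.muC hF e hn x hx hxK
        al := fun y hy _ h => U43AutEnv.al hF e B.Kt hn z.2 B.zz B.z1 y hy h } hG2 hmu S'
    intro c hct hcK hcc
    by_cases h : c = 1
    · exact Or.inl h
    · exact Or.inr (B.uniq (B.cK c hct (fun x hx => (hcK x hx).symm)) hcc h)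
  · push Not at hmu
    have hmu1 : ∀ y, U43AutEnv.mu hF e hn y = 1 := fun y => (Int.units_eq_one_or _).resolve_right (hmu y)
    have hTC : T ≤ centralizer ({t} : Set G) := fun x hx => mem_centralizer_singleton_iff.2 (B.tc x hx)
    obtain ⟨y, hy⟩ := U43AutEnv.cyc hF (X := T) ((U43AutEnv.ac e hn).comp (inclusion hTC)) (fun x => hmu1 _)
    refine fun S' => B.not_sylow_cyc hG1 T1s ⟨y, y.2, ?_⟩ S'
    intro x hx
    obtain ⟨i, k, hk⟩ := hy ⟨x, hx⟩
    -- `w = k⁻¹ x y⁻ⁱ` centralises `K`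
    set x' : centralizer ({t} : Set G) := inclusion hTC ⟨x, hx⟩ with hx'
    set y' : centralizer ({t} : Set G) := inclusion hTC y with hy'
    have hk' : U43AutEnv.ac e hn x' = MulAut.conj k * U43AutEnv.ac e hn y' ^ i := hk
    set k' : centralizer ({t} : Set G) := ⟨e.symm k, mem_centralizer_singleton_iff.2 (B.Kt _ (e.symm k).2)⟩ with hk'd
    have hak : U43AutEnv.ac e hn k' = MulAut.conj k := U43AutEnv.ac_of_mem rfl
    have h1 : U43AutEnv.ac e hn (k'⁻¹ * x' * (y' ^ i)⁻¹) = 1 := by
      rw [map_mul, map_mul, map_inv, map_inv, map_zpow, hak, hk']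
      group
    have h2 := U43AutEnv.ac_one.1 h1
    set w : G := ((k'⁻¹ * x' * (y' ^ i)⁻¹ : centralizer ({t} : Set G)) : G) with hw
    have hwt : w * t = t * w := mem_centralizer_singleton_iff.1 (k'⁻¹ * x' * (y' ^ i)⁻¹).2
    have hwq : w ∈ zpowers q := B.cK w hwt (fun k hk => (h2 k hk).symm)
    have hkK : ((e.symm k : K) : G) ∈ K := (e.symm k).2
    have hx2 : x = (e.symm k : G) * w * (y : G) ^ i := by
      have e1 : w = (e.symm k : G)⁻¹ * x * ((y : G) ^ i)⁻¹ := by
        rw [hw]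
        rfl
      rw [e1]; group
    -- `s = y⁻ⁱ k yⁱ`
    have hyt : (y : G) ^ i * t = t * (y : G) ^ i := (show Commute (y : G) t from B.tc y y.2).zpow_left i
    obtain ⟨j, hj⟩ := mem_zpowers_iff.1 (by
      have := conjQ st.toStart0 (inv_comm hyt) hwq
      rwa [inv_inv] at this : ((y : G) ^ i)⁻¹ * w * (y : G) ^ i ∈ zpowers q)
    have hqT : q ∈ T := B.zpowers_le_T (mem_zpowers q)
    have hs : ((y : G) ^ i)⁻¹ * (e.symm k : G) * (y : G) ^ i ∈ K := conjK' st.toStart0 hyt hkK
    have hxe : x = (y : G) ^ i * q ^ j * (((y : G) ^ i)⁻¹ * (e.symm k : G) * (y : G) ^ i) := by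
      have hc := B.QK w hwq _ hkK
      rw [hj]
      calc x = (e.symm k : G) * w * (y : G) ^ i := hx2
        _ = w * (e.symm k : G) * (y : G) ^ i := by rw [hc]
        _ = (y : G) ^ i * (((y : G) ^ i)⁻¹ * w * (y : G) ^ i) *
            (((y : G) ^ i)⁻¹ * (e.symm k : G) * (y : G) ^ i) := by group
    refine ⟨i, j, _, ?_, hs, hxe⟩
    have h3 : ((y : G) ^ i)⁻¹ * (e.symm k : G) * (y : G) ^ i = ((y : G) ^ i * q ^ j)⁻¹ * x := by
      rw [hxe]; group
    rw [h3]
    exact T.mul_mem (T.inv_mem (T.mul_mem (T.zpow_mem y.2 i) (T.zpow_mem hqT j))) hx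

end Cfsg.Agent.OddHalf.D6.QThree.FrontBU
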