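import Cfsg.Agent.OddHalf.D6.QThree.FrontLoc
import Cfsg.Agent.OddHalf.D6.QThree.DiagEnd
import Cfsg.Agent.OddHalf.NI3.Bad.Basic
import Cfsg.Agent.Transfer.SL23Recog

/-!
# ODD half, D6, `q = 3`, `U₄(3)`, `L₄(3)` with an outer part: the hypotheses of `Diag`, `DiagEnd` (helper948)

`Loc.pos`: `Diag.Pos t z D R`; `Loc.hyp`: `DiagEnd.Hyp t z D R J`, `J = ⟨i, j, a⟩ ≅ SL₂(3)`, from `Ctx G` and the data
`Ref` at the reflections.
-/

set_option autoImplicit false

namespace Cfsg.Agent.OddHalf.D6.QThree.FrontLoc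

open Subgroup Cfsg
open Cfsg.Agent.OddHalf.D6.QThree.NIFacts
open Cfsg.Agent.OddHalf.D6.QThree.PlusOf (hom hom_range hom_injective)
open Cfsg.Agent.LargeExtra.W2.PlusHom (M)

theorem card_M : Nat.card M = 32 := by
  rw [Nat.card_eq_fintype_card]
  decide +kernel

variable {G : Type*} [Group G] {t z : G} {R : Subgroup G} {i j k l a b : G}

namespace Loc0

theorem cardR (L : Loc0 t z R i j k l a b) : Nat.card R = 32 := by
  rw [L.gR, ← hom_range L.fr.toQRel, ← card_M]
  exact (Nat.card_congr (MonoidHom.ofInjective (hom_injective L.fr.toQRel)).toEquiv).symm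

theorem pR (L : Loc0 t z R i j k l a b) : IsPGroup 2 R :=
  IsPGroup.of_card (n := 5) (by rw [L.cardR]; norm_num)

theorem zR (L : Loc0 t z R i j k l a b) : z ∈ R := by
  have hi : i ∈ R := by rw [L.gR]; exact subset_closure (by simp)
  rw [← L.fr.ii]; exact mul_mem hi hi

theorem RD (L : Loc0 t z R i j k l a b) : R ≤ closure {i, j, k, l, a, b} := by
  rw [L.gR]
  apply Subgroup.closure_mono
  intro x hx
  have hx' : x = i ∨ x = j ∨ x = k ∨ x = l := by simpa using hx
  rcases hx' with rfl | rfl | rfl | rfl <;> simp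

theorem Dz (L : Loc0 t z R i j k l a b) : ∀ x ∈ closure ({i, j, k, l, a, b} : Set G), x * z = z * x := by
  have h2 : closure ({i, j, k, l, a, b} : Set G) ≤ centralizer ({z} : Set G) := by
    rw [closure_le]
    intro x hx
    have hx' : x = i ∨ x = j ∨ x = k ∨ x = l ∨ x = a ∨ x = b := by simpa using hx
    rw [SetLike.mem_coe, mem_centralizer_singleton_iff]
    rcases hx' with rfl | rfl | rfl | rfl | rfl | rfl
    exacts [L.fr.iz, L.fr.jz, L.fr.kz, L.fr.lz, az L.fr, bz L.fr]
  exact fun x hx => mem_centralizer_singleton_iff.1 (h2 hx)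

theorem odd3 {c : G} (hc : c * c * c = 1) : Odd (orderOf c) := by
  have h1 : c ^ 3 = 1 := by rw [pow_succ, pow_two]; exact hc
  have h2 := orderOf_dvd_of_pow_eq_one h1
  rcases (Nat.dvd_prime Nat.prime_three).1 h2 with h | h <;> rw [h] <;> decide

/-- `i, j` lie in the group generated by the conjugates of `a` -/
theorem gen_ij {i j a z : G} (zz : z * z = 1) (jz : j * z = z * j) (ii : i * i = z) (jj : j * j = z)
    (ji : j * i = i * j * z) (ai : a * i * a⁻¹ = j) (aj : a * j * a⁻¹ = i * j) {S : Subgroup G} (ha : a ∈ S)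
    (hai : i * a⁻¹ * i⁻¹ ∈ S) : i ∈ S ∧ j ∈ S := by
  have h1 : a * (i * a⁻¹ * i⁻¹) = i * j := by
    calc a * (i * a⁻¹ * i⁻¹) = (a * i * a⁻¹) * i⁻¹ := by group
      _ = j * i⁻¹ := by rw [ai]
      _ = j * (i * z) := by
          have : i⁻¹ = i * z := inv_eq_of_mul_eq_one_right (by
            calc i * (i * z) = i * i * z := by group
              _ = 1 := by rw [ii, zz])
          rw [this]
      _ = (j * i) * z := by group
      _ = i * j * (z * z) := by rw [ji]; group
      _ = i * j := by rw [zz, mul_one]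
  have hij : i * j ∈ S := by rw [← h1]; exact mul_mem ha hai
  have h2 : a * (i * j) * a⁻¹ = i := by
    calc a * (i * j) * a⁻¹ = (a * i * a⁻¹) * (a * j * a⁻¹) := by group
      _ = j * (i * j) := by rw [ai, aj]
      _ = (j * i) * j := by group
      _ = i * j * z * j := by rw [ji]
      _ = i * (j * (z * j)) := by group
      _ = i * (j * (j * z)) := by rw [jz]
      _ = i * ((j * j) * z) := by group
      _ = i := by rw [jj, zz, mul_one]
  have hi : i ∈ S := by rw [← h2]; exact mul_mem (mul_mem ha hij) (inv_mem ha)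
  refine ⟨hi, ?_⟩
  have e : j = i⁻¹ * (i * j) := by group
  rw [e]; exact mul_mem (inv_mem hi) hij

/-- `D` is generated by elements of odd order -/
theorem gen (L : Loc0 t z R i j k l a b) : closure ({i, j, k, l, a, b} : Set G) ≤
    closure {x | x ∈ closure ({i, j, k, l, a, b} : Set G) ∧ Odd (orderOf x)} := by
  set D := closure ({i, j, k, l, a, b} : Set G) with hD
  set S := closure {x | x ∈ D ∧ Odd (orderOf x)} with hS
  have mi : i ∈ D := subset_closure (by simp)
  have mj : j ∈ D := subset_closure (by simp)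
  have mk : k ∈ D := subset_closure (by simp)
  have ml : l ∈ D := subset_closure (by simp)
  have ma : a ∈ D := subset_closure (by simp)
  have mb : b ∈ D := subset_closure (by simp)
  have inS : ∀ x ∈ D, x * x * x = 1 → x ∈ S := fun x hx h => subset_closure ⟨hx, odd3 h⟩
  have ha := inS a ma L.a3
  have hb := inS b mb L.b3
  have cube : ∀ c x : G, c * c * c = 1 → (x * c⁻¹ * x⁻¹) * (x * c⁻¹ * x⁻¹) * (x * c⁻¹ * x⁻¹) = 1 := by
    intro c x hc
    calc (x * c⁻¹ * x⁻¹) * (x * c⁻¹ * x⁻¹) * (x * c⁻¹ * x⁻¹) = x * (c * c * c)⁻¹ * x⁻¹ := by group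
      _ = 1 := by rw [hc]; group
  obtain ⟨hi, hj⟩ := gen_ij L.fr.zz L.fr.jz L.fr.ii L.fr.jj L.fr.ji L.fr.act_a.i L.fr.act_a.j ha
    (inS _ (mul_mem (mul_mem mi (inv_mem ma)) (inv_mem mi)) (cube a i L.a3))
  obtain ⟨hk, hl⟩ := gen_ij L.fr.zz L.fr.lz L.fr.kk L.fr.ll L.fr.lk L.fr.act_b.k L.fr.act_b.l hb
    (inS _ (mul_mem (mul_mem mk (inv_mem mb)) (inv_mem mk)) (cube b k L.b3))
  rw [hD, closure_le]
  intro x hx
  have hx' : x = i ∨ x = j ∨ x = k ∨ x = l ∨ x = a ∨ x = b := by simpa using hx
  rcases hx' with rfl | rfl | rfl | rfl | rfl | rfl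
  exacts [hi, hj, hk, hl, ha, hb]

/-- `D` is normal in `X` -/
theorem nD (L : Loc0 t z R i j k l a b) (g : G) (hgt : g * t = t * g) (hgz : g * z = z * g) :
    ∀ d ∈ closure ({i, j, k, l, a, b} : Set G), g * d * g⁻¹ ∈ closure ({i, j, k, l, a, b} : Set G) := by
  set D := closure ({i, j, k, l, a, b} : Set G) with hD
  have h1 : D ≤ D.comap (MulAut.conj g).toMonoidHom := by
    refine L.gen.trans ?_
    rw [closure_le]
    rintro x ⟨hx, hxo⟩
    show g * x * g⁻¹ ∈ D
    have c1 : Commute g t := hgt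
    have c2 : Commute g z := hgz
    have c3 : Commute x t := L.Dt x hx
    have c4 : Commute x z := L.Dz x hx
    apply L.od
    · exact (c1.mul_left c3).mul_left c1.inv_left
    · exact (c2.mul_left c4).mul_left c2.inv_left
    · have : orderOf (g * x * g⁻¹) = orderOf x :=
        orderOf_injective (MulAut.conj g).toMonoidHom (MulAut.conj g).injective x
      rw [this]; exact hxo
  exact fun d hd => h1 hd

/-- **the position of `Diag`** -/
theorem pos [Finite G] (L : Loc0 t z R i j k l a b) : Diag.Pos t z (closure {i, j, k, l, a, b}) R where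
  tt := L.tt
  zz := L.fr.zz
  z1 := L.fr.z1
  comm := L.comm
  Dt := L.Dt
  Dz := L.Dz
  gen := L.gen
  zR := L.zR
  RD := L.RD
  pR := L.pR
  nR := fun d hd r hr => L.nR d (L.Dt d hd) (L.Dz d hd) r hr
  cR := L.cR
  card := by
    have h1 := L.Bcard
    have h2 := L.cardR
    have h3 : Nat.card {x : G // x * t = t * x ∧ ∀ r ∈ R, x * r = r * x} ≤ 16 := h1
    omega

/-- `J = ⟨i, j, a⟩ ≅ SL₂(3)` -/
theorem isPr [Finite G] (L : Loc0 t z R i j k l a b) : NI3.IsPr (closure {i, j, a}) z := by
  have zz := L.fr.zz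
  have hzi : ∀ x : G, x * x = z → x⁻¹ = x * z := fun x hx => inv_eq_of_mul_eq_one_right (by
    calc x * (x * z) = x * x * z := by group
      _ = 1 := by rw [hx, zz])
  have hz2 : z ^ 2 = 1 := by rw [pow_two]; exact zz
  -- the relations
  have hrel : Cfsg.Agent.Transfer.SL23Recog.SLRel i j a :=
    { hi := by rw [show (4 : ℕ) = 2 * 2 from rfl, pow_mul, pow_two i, L.fr.ii, hz2]
      hj := by rw [pow_two, pow_two, L.fr.ii, L.fr.jj]
      hji := by
        calc j * i * j⁻¹ = i * j * z * j⁻¹ := by rw [L.fr.ji]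
          _ = i * (j * z) * j⁻¹ := by group
          _ = i * (z * j) * j⁻¹ := by rw [L.fr.jz]
          _ = i * z := by group
          _ = i⁻¹ := (hzi i L.fr.ii).symm
      hti := L.fr.act_a.i
      htj := L.fr.act_a.j }
  have ha3 : a ^ 3 = 1 := by rw [pow_succ, pow_two]; exact L.a3
  obtain ⟨hfin, hle⟩ := hrel.card_le ha3
  -- the order
  have s₁ : NISide.Side z 1 a L.fr.Q₁ L.fr.Q₂ := L.fr.side₁ (by simp) (by simp) (by simp) (by simp) (by simp)
  have hQ : L.fr.Q₁ ≤ closure {i, j, a} := L.fr.Q₁_le (subset_closure (by simp)) (subset_closure (by simp))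
  have h8 : 8 ∣ Nat.card (closure ({i, j, a} : Set G)) := by
    rw [← s₁.card]
    exact Subgroup.card_dvd_of_le hQ
  have ha1 : a ≠ 1 := by
    intro h
    have h1 := L.fr.act_a.i
    rw [h, one_mul, inv_one, mul_one] at h1
    have h2 := L.fr.ji
    rw [← h1, L.fr.ii, zz] at h2
    exact L.fr.z1 h2
  have h3 : 3 ∣ Nat.card (closure ({i, j, a} : Set G)) := by
    have h4 : orderOf a = 3 := orderOf_eq_prime ha3 ha1
    rw [← h4, ← Nat.card_zpowers]
    exact Subgroup.card_dvd_of_le (by rw [zpowers_le]; exact subset_closure (by simp))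
  have h24 : 24 ∣ Nat.card (closure ({i, j, a} : Set G)) :=
    Nat.Coprime.mul_dvd_of_dvd_of_dvd (by norm_num) h8 h3
  have hcard : Nat.card (closure ({i, j, a} : Set G)) = 24 :=
    le_antisymm hle (Nat.le_of_dvd Nat.card_pos h24)
  have mi : i ∈ closure ({i, j, a} : Set G) := subset_closure (by simp)
  have mj : j ∈ closure ({i, j, a} : Set G) := subset_closure (by simp)
  have ma : a ∈ closure ({i, j, a} : Set G) := subset_closure (by simp)
  refine ⟨?_, ?_, ?_⟩
  · refine Cfsg.Agent.Transfer.SL23Recog.sl23_of_relations (i := (⟨i, mi⟩ : closure ({i, j, a} : Set G)))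
      (j := ⟨j, mj⟩) (t := ⟨a, ma⟩)
      { hi := Subtype.ext hrel.hi
        hj := Subtype.ext hrel.hj
        hji := Subtype.ext hrel.hji
        hti := Subtype.ext hrel.hti
        htj := Subtype.ext hrel.htj } (Subtype.ext ha3) ?_ hcard
    have h5 : (closure ({(⟨i, mi⟩ : closure ({i, j, a} : Set G)), ⟨j, mj⟩, ⟨a, ma⟩} : Set _)).map
        (closure ({i, j, a} : Set G)).subtype = closure {i, j, a} := by
      rw [MonoidHom.map_closure]
      congr 1
      simp [Set.image_insert_eq]
    rw [eq_top_iff]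
    intro x _
    have h6 : (x : G) ∈ (closure ({(⟨i, mi⟩ : closure ({i, j, a} : Set G)), ⟨j, mj⟩, ⟨a, ma⟩} : Set _)).map
        (closure ({i, j, a} : Set G)).subtype := by rw [h5]; exact x.2
    obtain ⟨y, hy, hyx⟩ := h6
    have h7 : y = x := Subtype.ext hyx
    rwa [← h7]
  · exact orderOf_eq_prime hz2 L.fr.z1
  · rw [← L.fr.ii]; exact mul_mem mi mi

theorem JD : closure ({i, j, a} : Set G) ≤ closure {i, j, k, l, a, b} := by
  apply Subgroup.closure_mono
  intro x hx
  have hx' : x = i ∨ x = j ∨ x = a := by simpa using hx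
  rcases hx' with rfl | rfl | rfl <;> simp

/-- `J` is normal in `D` -/
theorem nJ (L : Loc0 t z R i j k l a b) : ∀ d ∈ closure ({i, j, k, l, a, b} : Set G),
    ∀ x ∈ closure ({i, j, a} : Set G), d * x * d⁻¹ ∈ closure ({i, j, a} : Set G) := by
  set J := closure ({i, j, a} : Set G) with hJ
  have mi : i ∈ J := subset_closure (by simp)
  have mj : j ∈ J := subset_closure (by simp)
  have ma : a ∈ J := subset_closure (by simp)
  have hself : ∀ c ∈ J, c ∈ normalizer (J : Set G) := fun c hc => le_normalizer hc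
  have hcen : ∀ c : G, i * c = c * i → j * c = c * j → a * c = c * a → c ∈ normalizer (J : Set G) := by
    intro c h1 h2 h3
    have h4 : J ≤ centralizer ({c} : Set G) := by
      rw [hJ, closure_le]
      intro x hx
      have hx' : x = i ∨ x = j ∨ x = a := by simpa using hx
      rw [SetLike.mem_coe, mem_centralizer_singleton_iff]
      rcases hx' with rfl | rfl | rfl
      exacts [h1, h2, h3]
    rw [mem_normalizer_iff]
    intro x
    constructor
    · intro hx
      have h5 := mem_centralizer_singleton_iff.1 (h4 hx)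
      rw [← h5, mul_inv_cancel_right]; exact hx
    · intro hx
      have h5 := mem_centralizer_singleton_iff.1 (h4 hx)
      have h6 : x = c * x * c⁻¹ := by
        have h7 : c * x = c * (c * x * c⁻¹) := by rw [← h5]; group
        exact mul_left_cancel h7
      rw [h6]; exact hx
  have hle : closure ({i, j, k, l, a, b} : Set G) ≤ normalizer (J : Set G) := by
    rw [closure_le]
    intro x hx
    have hx' : x = i ∨ x = j ∨ x = k ∨ x = l ∨ x = a ∨ x = b := by simpa using hx
    rcases hx' with rfl | rfl | rfl | rfl | rfl | rfl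
    · exact hself _ mi
    · exact hself _ mj
    · exact hcen _ L.fr.ki.symm L.fr.kj.symm (mul_inv_eq_iff_eq_mul.1 L.fr.act_a.k)
    · exact hcen _ L.fr.li.symm L.fr.lj.symm (mul_inv_eq_iff_eq_mul.1 L.fr.act_a.l)
    · exact hself _ ma
    · exact hcen _ (mul_inv_eq_iff_eq_mul.1 L.fr.act_b.i).symm (mul_inv_eq_iff_eq_mul.1 L.fr.act_b.j).symm L.ab
  exact fun d hd x hx => (mem_normalizer_iff.1 (hle hd) x).1 hx

end Loc0

namespace Loc

theorem JD : closure ({i, j, a} : Set G) ≤ closure {i, j, k, l, a, b} := Loc0.JD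

/-- `b` is a reflection -/
def Rf (t z : G) (R : Subgroup G) (b : G) : Prop := Bt t R b ∧ b * b = 1 ∧ ¬ T4 t z b

/-- **the hypotheses of `DiagEnd`** -/
theorem hyp {G : Type*} [Group G] {t z : G} {R : Subgroup G} {i j k l a b : G} (C : Iface.Ctx G)
    (L : Loc t z R i j k l a b)
    (ref : ∀ c, Rf t z R c → DiagEnd.Ref t z c (closure {i, j, k, l, a, b}) (closure {i, j, a})) :
    DiagEnd.Hyp t z (closure {i, j, k, l, a, b}) R (closure {i, j, a}) := by
  have := C.fin
  exact
  { toPos := L.pos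
    nD := L.nD
    ab := by
      intro B hB hB2 hab hn
      exact L.abR B (L.max B hB hB2 hn) hab hn
    JD := JD
    Jsn := Diag.sn_of_conj L.nJ
    cl := by
      intro h
      refine NI3.Bad.Cfg.not_cl C (x := z) (J := closure {i, j, a}) ⟨L.isPr, ?_, h⟩
      exact fun x hx => mem_centralizer_singleton_iff.2 (L.Dz x (JD hx))
    lam := by
      intro lam h
      have h1 : commutator ↥(centralizer ({z} : Set G)) ≤ lam.ker := Abelianization.commutator_subset_ker lam
      have h2 : lam _ = 1 := h1 L.tH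
      rw [h] at h2
      exact absurd h2 (by decide)
    cw := by
      intro C hs ht hz hD hn htC hzC
      by_cases h : ∃ b ∈ C, ¬ T4 t z b
      · obtain ⟨b, hb, hbT⟩ := h
        exact Or.inr ⟨b, hb, ref b ⟨⟨ht b hb, fun r hr => hD b hb r (L.RD hr)⟩, hs b hb, hbT⟩⟩
      · left
        intro c hc
        have h1 : T4 t z c := by
          by_contra h2
          exact h ⟨c, hc, h2⟩
        rcases h1 with h1 | h1 | h1 | h1
        · exact Or.inl h1
        · exact Or.inr h1
        · exact absurd (h1 ▸ hc) htC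
        · exfalso
          apply htC
          have h2 := C.mul_mem hc hzC
          rwa [h1, mul_assoc, L.fr.zz, mul_one] at h2 }

end Loc

end Cfsg.Agent.OddHalf.D6.QThree.FrontLoc
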