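import Cfsg.Agent.OddHalf.D6.QThree.FrontK
import Cfsg.Agent.OddHalf.D6.QThree.FrontOut

/-!
# ODD half, D6, `q = 3`, `U₄(3)`, `L₄(3)` with an outer part: the local situation, K-free (helper948)

`Loc0 t z R i j k l a b`, `Loc` (with `t ∈ C(z)'`): `X = C(t) ∩ C(z)`, `R = ⟨i, j⟩ * ⟨k, l⟩`, `D = ⟨R, a, b⟩ = O²(X)`, `B = C_X(R)`.
`Loc.of`: from `Out K t z` and `FrontK`.
-/

set_option autoImplicit false

namespace Cfsg.Agent.OddHalf.D6.QThree.FrontLoc

open Subgroup Cfsg Cfsg.Agent.OddHalf.Front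
open Cfsg.Agent.OddHalf.D8.GlueE (nmh_apply exists_of_conj)
open Cfsg.Agent.OddHalf.D6.QThree.FrontB
open Cfsg.Agent.OddHalf.D6.QThree.NIFacts
open Cfsg.Agent.LargeExtra.W2 (Act)

/-! ### the elements `a`, `b` -/

section K

variable {K : Type*} [Group K] {z : K} {R : Subgroup K} {i j k l a b : K}

/-- `a³` centralises `⟨i, j⟩` -/
theorem cube_i (f : Frame z i j k l a b) : (a * a * a) * i * (a * a * a)⁻¹ = i ∧
    (a * a * a) * j * (a * a * a)⁻¹ = j := by
  have h1 : a * (i * j) * a⁻¹ = i := by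
    calc a * (i * j) * a⁻¹ = (a * i * a⁻¹) * (a * j * a⁻¹) := by group
      _ = j * (i * j) := by rw [f.act_a.i, f.act_a.j]
      _ = (j * i) * j := by group
      _ = i * j * z * j := by rw [f.ji]
      _ = i * (j * (z * j)) := by group
      _ = i * (j * (j * z)) := by rw [f.jz]
      _ = i * ((j * j) * z) := by group
      _ = i := by rw [f.jj, f.zz, mul_one]
  constructor
  · calc (a * a * a) * i * (a * a * a)⁻¹ = a * (a * (a * i * a⁻¹) * a⁻¹) * a⁻¹ := by group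
      _ = i := by rw [f.act_a.i, f.act_a.j, h1]
  · calc (a * a * a) * j * (a * a * a)⁻¹ = a * (a * (a * j * a⁻¹) * a⁻¹) * a⁻¹ := by group
      _ = j := by rw [f.act_a.j, h1, f.act_a.i]

theorem cube_k (f : Frame z i j k l a b) : (b * b * b) * k * (b * b * b)⁻¹ = k ∧
    (b * b * b) * l * (b * b * b)⁻¹ = l := by
  have h1 : b * (k * l) * b⁻¹ = k := by
    calc b * (k * l) * b⁻¹ = (b * k * b⁻¹) * (b * l * b⁻¹) := by group
      _ = l * (k * l) := by rw [f.act_b.k, f.act_b.l]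
      _ = (l * k) * l := by group
      _ = k * l * z * l := by rw [f.lk]
      _ = k * (l * (z * l)) := by group
      _ = k * (l * (l * z)) := by rw [f.lz]
      _ = k * ((l * l) * z) := by group
      _ = k := by rw [f.ll, f.zz, mul_one]
  constructor
  · calc (b * b * b) * k * (b * b * b)⁻¹ = b * (b * (b * k * b⁻¹) * b⁻¹) * b⁻¹ := by group
      _ = k := by rw [f.act_b.k, f.act_b.l, h1]
  · calc (b * b * b) * l * (b * b * b)⁻¹ = b * (b * (b * l * b⁻¹) * b⁻¹) * b⁻¹ := by group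
      _ = l := by rw [f.act_b.l, h1, f.act_b.k]

/-- an element commuting with `i, j, k, l` commutes with `R` -/
theorem comm_R (f : FrontK z R i j k l a b) {g : K} (hi : g * i * g⁻¹ = i) (hj : g * j * g⁻¹ = j)
    (hk : g * k * g⁻¹ = k) (hl : g * l * g⁻¹ = l) : ∀ r ∈ R, g * r = r * g := by
  have h2 : R ≤ centralizer ({g} : Set K) := by
    rw [f.gR, closure_le]
    intro x hx
    have hx' : x = i ∨ x = j ∨ x = k ∨ x = l := by simpa using hx
    rw [SetLike.mem_coe, mem_centralizer_singleton_iff]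
    rcases hx' with rfl | rfl | rfl | rfl
    exacts [(mul_inv_eq_iff_eq_mul.1 hi).symm, (mul_inv_eq_iff_eq_mul.1 hj).symm,
      (mul_inv_eq_iff_eq_mul.1 hk).symm, (mul_inv_eq_iff_eq_mul.1 hl).symm]
  exact fun r hr => (mem_centralizer_singleton_iff.1 (h2 hr)).symm

theorem az (f : Frame z i j k l a b) : a * z = z * a := mul_inv_eq_iff_eq_mul.1 f.act_a.z
theorem bz (f : Frame z i j k l a b) : b * z = z * b := mul_inv_eq_iff_eq_mul.1 f.act_b.z

theorem cube_a (f : FrontK z R i j k l a b) : a * a * a = 1 ∨ a * a * a = z := by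
  have hz : Commute a z := az f.fr
  apply f.cR _ ((hz.mul_left hz).mul_left hz)
  obtain ⟨h1, h2⟩ := cube_i f.fr
  refine comm_R f h1 h2 ?_ ?_
  · calc (a * a * a) * k * (a * a * a)⁻¹ = a * (a * (a * k * a⁻¹) * a⁻¹) * a⁻¹ := by group
      _ = k := by rw [f.fr.act_a.k, f.fr.act_a.k, f.fr.act_a.k]
  · calc (a * a * a) * l * (a * a * a)⁻¹ = a * (a * (a * l * a⁻¹) * a⁻¹) * a⁻¹ := by group
      _ = l := by rw [f.fr.act_a.l, f.fr.act_a.l, f.fr.act_a.l]

theorem cube_b (f : FrontK z R i j k l a b) : b * b * b = 1 ∨ b * b * b = z := by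
  have hz : Commute b z := bz f.fr
  apply f.cR _ ((hz.mul_left hz).mul_left hz)
  obtain ⟨h1, h2⟩ := cube_k f.fr
  refine comm_R f ?_ ?_ h1 h2
  · calc (b * b * b) * i * (b * b * b)⁻¹ = b * (b * (b * i * b⁻¹) * b⁻¹) * b⁻¹ := by group
      _ = i := by rw [f.fr.act_b.i, f.fr.act_b.i, f.fr.act_b.i]
  · calc (b * b * b) * j * (b * b * b)⁻¹ = b * (b * (b * j * b⁻¹) * b⁻¹) * b⁻¹ := by group
      _ = j := by rw [f.fr.act_b.j, f.fr.act_b.j, f.fr.act_b.j]

theorem act_mul_z (f : Frame z i j k l a b) {c i' j' k' l' : K} (h : Act z i j k l c i' j' k' l') :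
    Act z i j k l (c * z) i' j' k' l' := by
  have key : ∀ x : K, x * z = z * x → c * z * x * (c * z)⁻¹ = c * x * c⁻¹ := by
    intro x hx
    calc c * z * x * (c * z)⁻¹ = c * (z * x) * z⁻¹ * c⁻¹ := by group
      _ = c * (x * z) * z⁻¹ * c⁻¹ := by rw [hx]
      _ = c * x * c⁻¹ := by group
  exact ⟨by rw [key _ rfl, h.z], by rw [key _ f.iz, h.i], by rw [key _ f.jz, h.j], by rw [key _ f.kz, h.k],
    by rw [key _ f.lz, h.l]⟩

/-- `a`, `b` of order three -/
theorem FrontK.exists_cube (f : FrontK z R i j k l a b) : ∃ a' b' : K, FrontK z R i j k l a' b' ∧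
    a' * a' * a' = 1 ∧ b' * b' * b' = 1 ∧ a' * b' = b' * a' := by
  have hzc : ∀ a' b', (a' = a ∨ a' = a * z) → (b' = b ∨ b' = b * z) →
      closure {i, j, k, l, a, b} ≤ closure {i, j, k, l, a', b'} := by
    intro a' b' ha hb
    have hi : i ∈ closure ({i, j, k, l, a', b'} : Set K) := subset_closure (by simp)
    have ha' : a' ∈ closure ({i, j, k, l, a', b'} : Set K) := subset_closure (by simp)
    have hb' : b' ∈ closure ({i, j, k, l, a', b'} : Set K) := subset_closure (by simp)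
    have hz : z ∈ closure ({i, j, k, l, a', b'} : Set K) := by rw [← f.fr.ii]; exact mul_mem hi hi
    rw [closure_le]
    intro x hx
    have hx' : x = i ∨ x = j ∨ x = k ∨ x = l ∨ x = a ∨ x = b := by simpa using hx
    rcases hx' with rfl | rfl | rfl | rfl | rfl | rfl
    · exact hi
    · exact subset_closure (by simp)
    · exact subset_closure (by simp)
    · exact subset_closure (by simp)
    · rcases ha with rfl | rfl
      · exact ha'
      · have h := mul_mem ha' (inv_mem hz)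
        rwa [mul_inv_cancel_right] at h
    · rcases hb with rfl | rfl
      · exact hb'
      · have h := mul_mem hb' (inv_mem hz)
        rwa [mul_inv_cancel_right] at h
  have cz : ∀ c : K, c * z = z * c → c * c * c = z → (c * z) * (c * z) * (c * z) = 1 := by
    intro c hc h
    have h1 : Commute c z := hc
    calc (c * z) * (c * z) * (c * z) = (c * z) ^ 3 := by rw [pow_succ, pow_two]
      _ = c ^ 3 * z ^ 3 := h1.mul_pow 3
      _ = (c * c * c) * (z * z * z) := by rw [pow_succ, pow_two, pow_succ z, pow_two]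
      _ = 1 := by rw [h, f.fr.zz, one_mul, f.fr.zz]
  obtain ⟨a', ha, ha3, haA⟩ : ∃ a', (a' = a ∨ a' = a * z) ∧ a' * a' * a' = 1 ∧
      Act z i j k l a' j (i * j) k l := by
    rcases cube_a f with h | h
    · exact ⟨a, Or.inl rfl, h, f.fr.act_a⟩
    · exact ⟨a * z, Or.inr rfl, cz a (az f.fr) h, act_mul_z f.fr f.fr.act_a⟩
  obtain ⟨b', hb, hb3, hbA⟩ : ∃ b', (b' = b ∨ b' = b * z) ∧ b' * b' * b' = 1 ∧
      Act z i j k l b' i j l (k * l) := by
    rcases cube_b f with h | h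
    · exact ⟨b, Or.inl rfl, h, f.fr.act_b⟩
    · exact ⟨b * z, Or.inr rfl, cz b (bz f.fr) h, act_mul_z f.fr f.fr.act_b⟩
  have F' : Frame z i j k l a' b' := { toQRel := f.fr.toQRel, act_a := haA, act_b := hbA }
  have f' : FrontK z R i j k l a' b' :=
    { toBase := f.toBase
      fr := F'
      gR := f.gR
      od := fun x hx ho => hzc a' b' ha hb (f.od x hx ho)
      sw := f.sw
      out := f.out
      card := f.card
      sq := f.sq
      uq := f.uq
      cc := f.cc }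
  refine ⟨a', b', f', ha3, hb3, ?_⟩
  -- `[a', b']` centralises `R`
  have caz : Commute a' z := az F'
  have cbz : Commute b' z := bz F'
  have h1 : a' * b' * a'⁻¹ * b'⁻¹ = 1 ∨ a' * b' * a'⁻¹ * b'⁻¹ = z := by
    apply f.cR _ (((caz.mul_left cbz).mul_left caz.inv_left).mul_left cbz.inv_left)
    have key : ∀ x y w : K, a' * x * a'⁻¹ = y → b' * x * b'⁻¹ = x → b' * y * b'⁻¹ = y →
        a' * b' * a'⁻¹ * b'⁻¹ * y * (a' * b' * a'⁻¹ * b'⁻¹)⁻¹ = y := by
      intro x y w h1 h2 h3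
      have e1 : b'⁻¹ * y * b' = y := by
        calc b'⁻¹ * y * b' = b'⁻¹ * (b' * y * b'⁻¹) * b' := by rw [h3]
          _ = y := by group
      have e2 : a'⁻¹ * y * a' = x := by rw [← h1]; group
      calc a' * b' * a'⁻¹ * b'⁻¹ * y * (a' * b' * a'⁻¹ * b'⁻¹)⁻¹
          = a' * (b' * (a'⁻¹ * (b'⁻¹ * y * b') * a') * b'⁻¹) * a'⁻¹ := by group
        _ = y := by rw [e1, e2, h2, h1]
    have key2 : ∀ x y w : K, b' * x * b'⁻¹ = y → a' * x * a'⁻¹ = x → a' * y * a'⁻¹ = y →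
        a' * b' * a'⁻¹ * b'⁻¹ * y * (a' * b' * a'⁻¹ * b'⁻¹)⁻¹ = y := by
      intro x y w h1 h2 h3
      have e1 : b'⁻¹ * y * b' = x := by rw [← h1]; group
      have e2 : a'⁻¹ * x * a' = x := by
        calc a'⁻¹ * x * a' = a'⁻¹ * (a' * x * a'⁻¹) * a' := by rw [h2]
          _ = x := by group
      calc a' * b' * a'⁻¹ * b'⁻¹ * y * (a' * b' * a'⁻¹ * b'⁻¹)⁻¹
          = a' * (b' * (a'⁻¹ * (b'⁻¹ * y * b') * a') * b'⁻¹) * a'⁻¹ := by group
        _ = y := by rw [e1, e2, h1, h3]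
    have hij : ∀ c : K, c * i * c⁻¹ = i → c * j * c⁻¹ = j → c * (i * j) * c⁻¹ = i * j := by
      intro c h1 h2
      calc c * (i * j) * c⁻¹ = (c * i * c⁻¹) * (c * j * c⁻¹) := by group
        _ = i * j := by rw [h1, h2]
    have hkl : ∀ c : K, c * k * c⁻¹ = k → c * l * c⁻¹ = l → c * (k * l) * c⁻¹ = k * l := by
      intro c h1 h2
      calc c * (k * l) * c⁻¹ = (c * k * c⁻¹) * (c * l * c⁻¹) := by group
        _ = k * l := by rw [h1, h2]
    have gj := key i j 1 haA.i hbA.i hbA.j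
    have gij := key j (i * j) 1 haA.j hbA.j (hij _ hbA.i hbA.j)
    have gl := key2 k l 1 hbA.k haA.k haA.l
    have gkl := key2 l (k * l) 1 hbA.l haA.l (hkl _ haA.k haA.l)
    set c := a' * b' * a'⁻¹ * b'⁻¹ with hc
    have gi : c * i * c⁻¹ = i := by
      calc c * i * c⁻¹ = (c * (i * j) * c⁻¹) * (c * j * c⁻¹)⁻¹ := by group
        _ = i := by rw [gij, gj]; group
    have gk : c * k * c⁻¹ = k := by
      calc c * k * c⁻¹ = (c * (k * l) * c⁻¹) * (c * l * c⁻¹)⁻¹ := by group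
        _ = k := by rw [gkl, gl]; group
    exact comm_R f gi gj gk gl
  rcases h1 with h1 | h1
  · exact mul_inv_eq_iff_eq_mul.1 (mul_inv_eq_one.1 h1)
  · exfalso
    apply f.fr.z1
    have h2 : a' * b' * a'⁻¹ = z * b' := by rw [← h1]; group
    have h3 : (a' * b' * a'⁻¹) * (a' * b' * a'⁻¹) * (a' * b' * a'⁻¹) = 1 := by
      calc (a' * b' * a'⁻¹) * (a' * b' * a'⁻¹) * (a' * b' * a'⁻¹) = a' * (b' * b' * b') * a'⁻¹ := by group
        _ = 1 := by rw [hb3]; group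
    rw [h2] at h3
    have c1 : Commute z b' := cbz.symm
    have h4 : (z * b') * (z * b') * (z * b') = z ^ 3 * b' ^ 3 := by
      rw [← c1.mul_pow, pow_succ, pow_two]
    rw [h4] at h3
    have h5 : b' ^ 3 = 1 := by rw [pow_succ, pow_two]; exact hb3
    have h6 : z ^ 3 = z := by rw [pow_succ, pow_two, f.fr.zz, one_mul]
    rwa [h5, h6, mul_one] at h3

end K

/-! ### the local situation -/

/-- `x ∈ ⟨t, z⟩` -/
def T4 {G : Type*} [Group G] (t z x : G) : Prop := x = 1 ∨ x = z ∨ x = t ∨ x = t * z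

/-- `x ∈ B = C(t) ∩ C(R)` -/
def Bt {G : Type*} [Group G] (t : G) (R : Subgroup G) (x : G) : Prop :=
  x * t = t * x ∧ ∀ r ∈ R, x * r = r * x

/-- `X = C(t) ∩ C(z)`, `R = ⟨i, j⟩ * ⟨k, l⟩`, `D = ⟨R, a, b⟩`, `B = C_X(R)` -/
structure Loc0 {G : Type*} [Group G] (t z : G) (R : Subgroup G) (i j k l a b : G) : Prop where
  tt : t * t = 1
  t1 : t ≠ 1
  tz : t ≠ z
  comm : t * z = z * t
  fr : Frame z i j k l a b
  gR : R = closure {i, j, k, l}
  a3 : a * a * a = 1
  b3 : b * b * b = 1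
  ab : a * b = b * a
  /-- `D` centralises `t` -/
  Dt : ∀ d ∈ closure {i, j, k, l, a, b}, d * t = t * d
  /-- the elements of odd order of `X` lie in `D` -/
  od : ∀ g, g * t = t * g → g * z = z * g → Odd (orderOf g) → g ∈ closure {i, j, k, l, a, b}
  /-- `R` is normal in `X` -/
  nR : ∀ g, g * t = t * g → g * z = z * g → ∀ r ∈ R, g * r * g⁻¹ ∈ R
  /-- the 2-subgroups of `D` normal in `X` -/
  max : ∀ N : Subgroup G, N ≤ closure {i, j, k, l, a, b} → IsPGroup 2 N →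
    (∀ g, g * t = t * g → g * z = z * g → ∀ n ∈ N, g * n * g⁻¹ ∈ N) → N ≤ R
  /-- the abelian subgroups of `R` normal in `X` -/
  abR : ∀ B : Subgroup G, B ≤ R → (∀ a ∈ B, ∀ b ∈ B, a * b = b * a) →
    (∀ g, g * t = t * g → g * z = z * g → ∀ b ∈ B, g * b * g⁻¹ ∈ B) → ∀ b ∈ B, b = 1 ∨ b = z
  /-- `C_D(R) = ⟨z⟩` -/
  cR : ∀ g ∈ closure {i, j, k, l, a, b}, (∀ r ∈ R, g * r = r * g) → g = 1 ∨ g = z
  /-- the two factors are conjugate in `X` -/
  sw : ∃ p, p * t = t * p ∧ p * z = z * p ∧ p * i * p⁻¹ = k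
  /-- `B` centralises `D` -/
  BD : ∀ x, Bt t R x → ∀ d ∈ closure {i, j, k, l, a, b}, x * d = d * x
  Bsq : ∀ x, Bt t R x → T4 t z (x * x)
  Bu : ∀ x y, Bt t R x → Bt t R y → x * x = z → y * y = z → T4 t z (x⁻¹ * y)
  Bcc : ∀ x y, Bt t R x → Bt t R y → x * y = y * x → T4 t z x ∨ T4 t z y ∨ T4 t z (x⁻¹ * y)
  /-- `|B / ⟨t, z⟩| ≤ 4` -/
  B4 : ∀ x y w, Bt t R x → Bt t R y → Bt t R w → ¬ T4 t z x → ¬ T4 t z y → ¬ T4 t z (x⁻¹ * y) →
    T4 t z w ∨ T4 t z (x⁻¹ * w) ∨ T4 t z (y⁻¹ * w) ∨ T4 t z ((x * y)⁻¹ * w)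
  Bcard : Nat.card {x : G // Bt t R x} ≤ 16
  /-- `t^s = tz` -/
  s : ∃ s, s * t * s⁻¹ = t * z ∧ s * z * s⁻¹ = z

/-- the output `FrontB.Out` without `tH` and `nc` -/
structure OutC {G : Type*} [Group G] (K : Subgroup G) (t z : G) : Prop where
  tt : t * t = 1
  t1 : t ≠ 1
  Kt : ∀ x ∈ K, x * t = t * x
  nK : ∀ g, g * t = t * g → g ∈ normalizer (K : Set G)
  cK : ∀ c, c * t = t * c → (∀ x ∈ K, x * c = c * x) → c = 1 ∨ c = t
  tK : t ∉ K
  zK : z ∈ K
  sw : ∃ s, s * t * s⁻¹ = t * z ∧ s * z * s⁻¹ = z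

theorem OutC.of_out {G : Type*} [Group G] {K : Subgroup G} {t z : G} (O : Out K t z) : OutC K t z :=
  ⟨O.tt, O.t1, O.Kt, O.nK, O.cK, O.tK, O.zK, O.sw⟩

/-- `Loc0` and `t ∈ C(z)'` -/
structure Loc {G : Type*} [Group G] (t z : G) (R : Subgroup G) (i j k l a b : G) : Prop
    extends Loc0 t z R i j k l a b where
  tH : (⟨t, mem_centralizer_singleton_iff.2 comm⟩ : centralizer ({z} : Set G)) ∈
    _root_.commutator (centralizer ({z} : Set G))

end Cfsg.Agent.OddHalf.D6.QThree.FrontLoc
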