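import Cfsg.Agent.OddHalf.D6.QThree.FrontInst
import Cfsg.Agent.OddHalf.D6.QThree.EndSymB
import Cfsg.Agent.OddHalf.D6.QThree.L43.EndCard

/-!
# ODD half, D6, `q = 3`, `U₄(3)` with an outer part: the hypotheses of the end (helper135, for helper948)

`exists_yt`: the data for the y-trick from `Facts.Two`; `endSym`: `EndSym.Hyp` from `FrontLoc.Loc`; `false_of_loc`.
-/

set_option autoImplicit false

namespace Cfsg.Agent.OddHalf.D6.QThree.FrontInstE

open Subgroup Cfsg
open Cfsg.Agent.Co2Type.Quad Cfsg.Agent.LargeExtra.Model Cfsg.Agent.LargeExtra.Pres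
open Cfsg.Agent.LargeExtra.Models Cfsg.Agent.LargeExtra.W2
open Cfsg.Agent.LargeExtra.W2.PlusHom (M)
open Cfsg.Agent.OddHalf.D6.QThree.PlusOf
open Cfsg.Agent.OddHalf.D6.QThree.NIFacts
open Cfsg.Agent.OddHalf.D6.QThree.FrontLoc (Loc T4)
open Cfsg.Agent.OddHalf.D6.QThree.FrontLoc.Loc (Rf)
open Cfsg.Agent.OddHalf.D6.QThree.EndSym (Four YT)
open Cfsg.Agent.OddHalf.D6.QThree.Diag (DiagAt)

/-- `m m^d m^(d²) ∈ ⟨z⟩` -/
theorem cyc_M : ∀ m : M, m * ea (eb m) * ea (eb (ea (eb m))) = 1 ∨ m * ea (eb m) * ea (eb (ea (eb m))) = zz := by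
  decide +kernel

/-! ### the data for the y-trick -/

/-- an automorphism centralising `R` moves an element of `C_K(z)` at most by `z` -/
theorem aut_move {K : Type*} [Group K] {z : K} {R : Subgroup K} (f : Facts.Base z R) {α : MulAut K}
    (hα : ∀ r ∈ R, α r = r) {v : K} (hv : v * z = z * v) : α v = v ∨ α v = v * z := by
  have hz : α z = z := hα z f.zR
  have hαv : α v * z = z * α v := by
    have := congrArg α hv
    rwa [map_mul, map_mul, hz] at this
  have c1 : Commute v z := hv
  have c2 : Commute (α v) z := hαv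
  rcases f.cR (v⁻¹ * α v) (c1.inv_left.mul_left c2) (by
    intro r hr
    have h1 := hα _ (f.nR v hv r hr)
    rw [map_mul, map_mul, map_inv, hα r hr] at h1
    calc v⁻¹ * α v * r = v⁻¹ * (α v * r * (α v)⁻¹) * α v := by group
      _ = v⁻¹ * (v * r * v⁻¹) * α v := by rw [h1]
      _ = r * (v⁻¹ * α v) := by group) with h | h
  · left
    exact (inv_mul_eq_one.1 h).symm
  · right
    rw [← h]; group

section

variable {G : Type*} [Group G]

/-- **the data for the y-trick** from the facts `Two` on `K` -/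
theorem exists_yt {K : Subgroup G} {t : G} {z : K} {R : Subgroup K} (Kt : ∀ x ∈ K, x * t = t * x)
    (nK : ∀ g, g * t = t * g → g ∈ normalizer (K : Set G)) (f : Facts.Two z R) :
    ∃ v k h, YT t (z : G) (R.map K.subtype) v k h := by
  obtain ⟨v, k, hvv, hvz, hkz, hkR, hex⟩ := f.ex
  have hzz := f.zz
  have hvzz : v * z * (v * z) = 1 := by
    calc v * z * (v * z) = v * (z * v) * z := by group
      _ = v * (v * z) * z := by rw [hvz]
      _ = (v * v) * (z * z) := by group
      _ = 1 := by rw [hvv, hzz, one_mul]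
  obtain ⟨h₀, hh₀, hh⟩ := hex z f.zR hvzz
  have hmap : ∀ x : K, (x : G) ∈ R.map K.subtype ↔ x ∈ R := fun x => FrontOut.mem_map
  refine ⟨v, k, (h₀⁻¹ : K),
    { vt := Kt v v.2
      kt := Kt k k.2
      ht := Kt _ (h₀⁻¹).2
      vv := congrArg Subtype.val hvv
      vz := congrArg Subtype.val hvz
      hz := congrArg Subtype.val (show Commute h₀ z from hh₀).inv_left.eq
      kv := congrArg Subtype.val hkz
      hv := ?_
      vB := ?_
      kF := ?_ }⟩
  · have h1 : h₀⁻¹ * v * h₀⁻¹⁻¹ = v * z := by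
      calc h₀⁻¹ * v * h₀⁻¹⁻¹ = h₀⁻¹ * (h₀ * (v * z) * h₀⁻¹) * h₀⁻¹⁻¹ := by rw [hh]
        _ = v * z := by group
    exact congrArg Subtype.val h1
  · intro y hyt hyR
    set α := K.normalizerMonoidHom ⟨y, nK y hyt⟩ with hα
    have hap : ∀ c : K, ((α c : K) : G) = y * c * y⁻¹ := fun c => Cfsg.Agent.OddHalf.D8.GlueE.nmh_apply _ c
    have h1 : ∀ r ∈ R, α r = r := by
      intro r hr
      apply Subtype.ext
      rw [hap, hyR r ((hmap r).2 hr), mul_inv_cancel_right]
    have hvz' : (v : G) * z = z * v := congrArg Subtype.val hvz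
    have hyz : y * (z : G) = z * y := hyR z ((hmap z).2 f.zR)
    have hzz' : (z : G) * z = 1 := congrArg Subtype.val hzz
    rcases aut_move f.toBase h1 hvz with h2 | h2
    · left
      have h3 : y * (v : G) * y⁻¹ = v := by rw [← hap, h2]
      have h4 : y * (v : G) = v * y := mul_inv_eq_iff_eq_mul.1 h3
      rw [← h4, mul_inv_cancel_right]
    · right
      have h3 : y * (v : G) * y⁻¹ = v * z := by rw [← hap, h2]; rfl
      have h4 : y * (v : G) = v * z * y := mul_inv_eq_iff_eq_mul.1 h3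
      have h5 : (v : G) * y = y * v * z := by
        calc (v : G) * y = v * (z * z) * y := by rw [hzz', mul_one]
          _ = (v * z) * (z * y) := by group
          _ = (v * z) * (y * z) := by rw [hyz]
          _ = (v * z * y) * z := by group
          _ = y * v * z := by rw [← h4]
      calc (v : G) * y * (v : G)⁻¹ = y * (v * z) * (v : G)⁻¹ := by rw [h5]; group
        _ = y * (z * v) * (v : G)⁻¹ := by rw [hvz']
        _ = y * z := by group
  · intro N hN2 hNt hNz hNn hk
    apply hkR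
    have h1 : (N.subgroupOf K) ≤ R := by
      apply f.max _ (hN2.comap_of_injective K.subtype K.subtype_injective)
      · intro n hn
        exact Subtype.ext (hNz n hn)
      · intro g hg n hn
        exact hNn g (Kt g g.2) (congrArg Subtype.val hg) n hn
    exact h1 (show ((k⁻¹ * z * k : K) : G) ∈ N from hk)

variable {t z : G} {R F : Subgroup G} {i j k l a b : G}

/-- **the hypotheses of the end** -/
theorem endSym [Finite G] (L : Loc t z R i j k l a b) (LF : Large F z)
    (ref : ∀ c, Rf t z R c → (∀ g, g * c = c * g → g * z = z * g → ∀ d ∈ closure ({i, j, k, l, a, b} : Set G),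
      g * d * g⁻¹ ∈ closure ({i, j, k, l, a, b} : Set G)) ∨
      ∃ M N : Subgroup G, DiagAt t z c (closure {i, j, k, l, a, b}) M N)
    (fus : ∃ g r, g * z = z * g ∧ r ∈ R ∧ r ≠ 1 ∧ r ≠ z ∧ g * t * g⁻¹ = t * r)
    (yt : ∃ v k h, YT t z R v k h) : EndSym.Hyp t z (closure {i, j, k, l, a, b}) R F where
  toPos := L.pos
  t1 := L.t1
  tz := L.tz
  L := LF
  nD := L.nD
  nX := L.nR
  max := L.max
  irr := by
    intro N hNR hN
    by_cases h : ∃ n ∈ N, n ≠ 1 ∧ n ≠ z
    · obtain ⟨n, hn, h1, h2⟩ := h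
      exact Or.inr (L43.EndCard.irr L hNR hN hn h1 h2)
    · left
      intro n hn
      by_contra h1
      rw [not_or] at h1
      exact h ⟨n, hn, h1⟩
  cRD := fun x hx hr => L.BD x ⟨hx, hr⟩
  kb := by
    intro x y hx hxR hy hyR hxy hx4
    rcases L.Bcc x y ⟨hx, hxR⟩ ⟨hy, hyR⟩ hxy with h | h | h
    · exact absurd h hx4
    · exact Or.inl h
    · exact Or.inr h
  cyc := by
    refine ⟨a * b, mul_mem (subset_closure (by simp)) (subset_closure (by simp)), ?_⟩
    intro r hr
    rw [L.gR, ← hom_range L.fr.toQRel] at hr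
    obtain ⟨m, rfl⟩ := hr
    have key : ∀ x : M, a * b * hom L.fr.toQRel x * (a * b)⁻¹ = hom L.fr.toQRel (ea (eb x)) := by
      intro x
      calc a * b * hom L.fr.toQRel x * (a * b)⁻¹ = a * (b * hom L.fr.toQRel x * b⁻¹) * a⁻¹ := by group
        _ = hom L.fr.toQRel (ea (eb x)) := by rw [L.fr.conj_b, L.fr.conj_a]
    have key2 : a * b * (a * b) * hom L.fr.toQRel m * (a * b * (a * b))⁻¹ =
        hom L.fr.toQRel (ea (eb (ea (eb m)))) := by
      calc a * b * (a * b) * hom L.fr.toQRel m * (a * b * (a * b))⁻¹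
          = a * b * (a * b * hom L.fr.toQRel m * (a * b)⁻¹) * (a * b)⁻¹ := by group
        _ = hom L.fr.toQRel (ea (eb (ea (eb m)))) := by rw [key, key]
    rw [key, key2, ← map_mul, ← map_mul]
    rcases cyc_M m with h | h
    · left; rw [h, map_one]
    · right; rw [h, hom_zz]
  ref := fun c hct hcR hcc hc4 => ref c ⟨⟨hct, hcR⟩, hcc, hc4⟩
  fus := fus
  yt := yt
  lam := by
    intro lam h
    have h1 : commutator ↥(centralizer ({z} : Set G)) ≤ lam.ker := Abelianization.commutator_subset_ker lam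
    have h2 : lam _ = 1 := h1 L.tH
    rw [h] at h2
    exact absurd h2 (by decide)

/-- **the end** -/
theorem false_of_loc [Finite G] (L : Loc t z R i j k l a b) (LF : Large F z)
    (ref : ∀ c, Rf t z R c → (∀ g, g * c = c * g → g * z = z * g → ∀ d ∈ closure ({i, j, k, l, a, b} : Set G),
      g * d * g⁻¹ ∈ closure ({i, j, k, l, a, b} : Set G)) ∨
      ∃ M N : Subgroup G, DiagAt t z c (closure {i, j, k, l, a, b}) M N)
    (fus : ∃ g r, g * z = z * g ∧ r ∈ R ∧ r ≠ 1 ∧ r ≠ z ∧ g * t * g⁻¹ = t * r)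
    (yt : ∃ v k h, YT t z R v k h) : False :=
  EndSymB.Hyp.false (endSym L LF ref fus yt)

end

end Cfsg.Agent.OddHalf.D6.QThree.FrontInstE
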