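import Cfsg.Agent.OddHalf.D6.QThree.FrontK
import Cfsg.Agent.OddHalf.D6.QThree.TransportOut

/-!
# ODD half, D6, `q = 3`: transport of `FrontK` along an isomorphism (helper948)
-/

set_option autoImplicit false

namespace Cfsg.Agent.OddHalf.D6.QThree.FrontB

open Subgroup Facts
open Cfsg.Agent.OddHalf.D6.QThree.FactsOut (congr_apply' congr_conj)

variable {K L : Type*} [Group K] [Group L]

theorem BA_congr (e : K ≃* L) {R : Subgroup K} {α : MulAut K} :
    BA (R.map e.toMonoidHom) (MulAut.congr e α) ↔ BA R α := by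
  constructor
  · intro h r hr
    have h1 := h (e r) ((tr_mem e).2 hr)
    rw [congr_apply'] at h1
    exact e.injective h1
  · rintro h _ ⟨r, hr, rfl⟩
    show MulAut.congr e α (e r) = e r
    rw [congr_apply', h r hr]

theorem Z2_congr (e : K ≃* L) {z : K} {α : MulAut K} : Z2 (e z) (MulAut.congr e α) ↔ Z2 z α := by
  constructor
  · rintro (h | h)
    · exact Or.inl ((MulAut.congr e).injective (by rw [h, map_one]))
    · exact Or.inr ((MulAut.congr e).injective (by rw [h, congr_conj]))
  · rintro (h | h)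
    · left; rw [h, map_one]
    · right; rw [h, congr_conj]

theorem FrontK.map {z : K} {R : Subgroup K} {i j k l a b : K} (h : FrontK z R i j k l a b) (e : K ≃* L) :
    FrontK (e z) (R.map e.toMonoidHom) (e i) (e j) (e k) (e l) (e a) (e b) where
  toBase := h.toBase.map e
  fr := h.fr.map e.toMonoidHom e.injective
  gR := by
    rw [h.gR, MonoidHom.map_closure]
    congr 1
    simp [Set.image_insert_eq]
  od := by
    intro y hy ho
    obtain ⟨x, rfl⟩ := e.surjective y
    have h1 := h.od x ((tr_comm e).1 hy) (by rwa [tr_order] at ho)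
    have h2 : (closure {i, j, k, l, a, b}).map e.toMonoidHom = closure {e i, e j, e k, e l, e a, e b} := by
      rw [MonoidHom.map_closure]
      congr 1
      simp [Set.image_insert_eq]
    rw [← h2, tr_mem]
    exact h1
  sw := by
    obtain ⟨p, hp, hpi⟩ := h.sw
    exact ⟨e p, (tr_comm e).2 hp, by rw [tr_conj, hpi]⟩
  out := by
    intro β
    obtain ⟨α, rfl⟩ := (MulAut.congr e).surjective β
    obtain ⟨n, g, hg⟩ := h.out α
    exact ⟨n, e g, by rw [← map_pow, ← hg, congr_conj]⟩
  card := by
    refine le_trans (le_of_eq ?_) h.card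
    exact (Nat.card_congr ((MulAut.congr e).toEquiv.subtypeEquiv fun α => (BA_congr e (α := α)).symm)).symm
  sq := by
    intro β hβ
    obtain ⟨α, rfl⟩ := (MulAut.congr e).surjective β
    rw [← map_mul, Z2_congr]
    exact h.sq α ((BA_congr e).1 hβ)
  uq := by
    intro β γ hβ hγ h1 h2
    obtain ⟨α, rfl⟩ := (MulAut.congr e).surjective β
    obtain ⟨δ, rfl⟩ := (MulAut.congr e).surjective γ
    rw [← map_inv, ← map_mul, Z2_congr]
    refine h.uq α δ ((BA_congr e).1 hβ) ((BA_congr e).1 hγ) ?_ ?_
    · apply (MulAut.congr e).injective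
      rw [map_mul, h1, congr_conj]
    · apply (MulAut.congr e).injective
      rw [map_mul, h2, congr_conj]
  cc := by
    intro β γ hβ hγ h1
    obtain ⟨α, rfl⟩ := (MulAut.congr e).surjective β
    obtain ⟨δ, rfl⟩ := (MulAut.congr e).surjective γ
    rw [← map_inv, ← map_mul, Z2_congr, Z2_congr, Z2_congr]
    refine h.cc α δ ((BA_congr e).1 hβ) ((BA_congr e).1 hγ) ?_
    apply (MulAut.congr e).injective
    rw [map_mul, map_mul, h1]

end Cfsg.Agent.OddHalf.D6.QThree.FrontB
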