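import Cfsg.Agent.OddHalf.D6.QThree.G23Abs

/-!
# `G₂(3)`: decisions on the codes of the elements of `C(z)` for the automorphisms fixing `z` (helper618)
-/

set_option autoImplicit false
set_option maxRecDepth 100000

namespace Cfsg.Agent.OddHalf.D6.QThree.G23Aut

open Cfsg.Agent.Co2Type.Quad Cfsg.Agent.LargeExtra.Model Cfsg.Agent.LargeExtra.Pres
open Cfsg.Agent.LargeExtra.W2 Cfsg.Agent.LargeExtra.W2.PlusHom
open Cfsg.Agent.GTwoThree.Cent
open Cfsg.Agent.OddHalf.D6.QThree.G23Abs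

/-- the first factor `⟨i, j⟩` of `Q` -/
def c1 (m : M) : Prop := m * mk = mk * m ∧ m * ml = ml * m
/-- the second factor `⟨k, l⟩` of `Q` -/
def c2 (m : M) : Prop := m * mi = mi * m ∧ m * mj = mj * m

instance (m : M) : Decidable (c1 m) := by unfold c1; infer_instance
instance (m : M) : Decidable (c2 m) := by unfold c2; infer_instance

theorem dA : ∀ a b : Fin 3, a ≠ 0 → b ≠ 0 → ∀ m n : M, m * act a b 0 n = n * m → n = 1 ∨ n = zz := by
  decide +kernel

theorem dB : ∀ a : Fin 3, a ≠ 0 → ∀ m n : M, m * act a 0 0 n = n * m → c2 n := by decide +kernel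
theorem dB' : ∀ b : Fin 3, b ≠ 0 → ∀ m n : M, m * act 0 b 0 n = n * m → c1 n := by decide +kernel

theorem dC : ∀ n : M, c2 n → ∀ n' : M, c2 n' → n * n' ≠ n' * n → ∀ m : M, m * n = n * m → m * n' = n' * m →
    c1 m := by decide +kernel
theorem dC' : ∀ n : M, c1 n → ∀ n' : M, c1 n' → n * n' ≠ n' * n → ∀ m : M, m * n = n * m → m * n' = n' * m →
    c2 m := by decide +kernel

theorem dZ : ∀ n : M, c1 n → c2 n → n = 1 ∨ n = zz := by decide +kernel

theorem dX : ∀ n : M, c2 n → s1 n = n := by decide +kernel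
theorem dX' : ∀ n : M, c1 n → s2 n = n := by decide +kernel

theorem dthree : ∀ w : Fin 3 × Fin 3 × Fin 2, mul2 (mul2 w w) w = (0, 0, 0) → w.2.2 = 0 := by decide +kernel

theorem d1 : ∀ u : K, mul false u (kq mk) = mul false (kq mk) u → mul false u (kq ml) = mul false (kq ml) u →
    c1 u.1 ∧ u.2.2.1 = 0 ∧ u.2.2.2 = 0 := by decide +kernel
theorem d2 : ∀ u : K, mul false u (kq mi) = mul false (kq mi) u → mul false u (kq mj) = mul false (kq mj) u →
    c2 u.1 ∧ u.2.1 = 0 ∧ u.2.2.2 = 0 := by decide +kernel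

/-- the elements of `⟨i, j⟩` -/
def LI : List M := [1, mi, mj, mi * mj, zz, mi * zz, mj * zz, mi * mj * zz]
/-- the elements of `⟨k, l⟩` -/
def LK : List M := [1, mk, ml, mk * ml, zz, mk * zz, ml * zz, mk * ml * zz]

theorem mem_LI : ∀ m : M, c1 m → m ∈ LI := by decide +kernel
theorem mem_LK : ∀ m : M, c2 m → m ∈ LK := by decide +kernel

/-- the code of `x₂` -/
def kx2 : K := (1, 0, 1, 0)

theorem dec1 : ∀ m ∈ LI, ∀ a : Fin 3, a ≠ 0 → ∀ n ∈ LI, n * n = zz → ∀ n' ∈ LI,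
    mul false (m, a, 0, 0) (kq n) = mul false (kq n') (m, a, 0, 0) →
    mul false (m, a, 0, 0) (kq n') = mul false (kq (n * n')) (m, a, 0, 0) →
    mul false (mul false (m, a, 0, 0) (m, a, 0, 0)) (m, a, 0, 0) = k1 →
    ∃ r ∈ LI, ∃ b : Fin 3, ∃ e : Fin 2, mul false (r, b, 0, e) kx = mul false (m, a, 0, 0) (r, b, 0, e) ∧
      mul false (r, b, 0, e) (kq mi) = mul false (kq n) (r, b, 0, e) := by
  decide +kernel

/-- the conclusion of `dec2` -/
def C2 (m : M) (a : Fin 3) (n : M) : Prop := ∃ r ∈ LK, ∃ b : Fin 3,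
  (mul false (r, 0, b, 0) kx2 = mul false (m, 0, a, 0) (r, 0, b, 0) ∧
    mul false (r, 0, b, 0) (kq mk) = mul false (kq n) (r, 0, b, 0)) ∨
  (mul false (r, 0, b, 0) (mul false kx2 kx2) = mul false (m, 0, a, 0) (r, 0, b, 0) ∧
    mul false (r, 0, b, 0) (kq (ml * zz)) = mul false (kq n) (r, 0, b, 0))

instance (m : M) (a : Fin 3) (n : M) : Decidable (C2 m a n) := by unfold C2; infer_instance

theorem dec2 : ∀ m ∈ LK, ∀ a : Fin 3, a ≠ 0 → ∀ n ∈ LK, n * n = zz → ∀ n' ∈ LK,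
    mul false (m, 0, a, 0) (kq n) = mul false (kq n') (m, 0, a, 0) →
    mul false (m, 0, a, 0) (kq n') = mul false (kq (n * n')) (m, 0, a, 0) →
    mul false (mul false (m, 0, a, 0) (m, 0, a, 0)) (m, 0, a, 0) = k1 → C2 m a n := by
  decide +kernel

/-- the elements of the second factor of `O²(C(z))` commute with `i`, `j`, `x₁` -/
theorem dec3 : ∀ r ∈ LK, ∀ b : Fin 3, mul false (r, 0, b, 0) (kq mi) = mul false (kq mi) (r, 0, b, 0) ∧
    mul false (r, 0, b, 0) kx = mul false kx (r, 0, b, 0) := by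
  decide +kernel

end Cfsg.Agent.OddHalf.D6.QThree.G23Aut
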