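import Cfsg.Agent.OddHalf.D4.Small.RowG23

/-!
# ODD half, D6, `q = 3`: the two factors `Q₁`, `Q₂` of `O₂(C(z))` in `G₂(3)` (helper618)

The facts for the case of a component `M` of `C_G(z)` with `Q₁ ≤ M`, `[M, Q₂] = 1`.
-/

set_option autoImplicit false

namespace Cfsg.Agent.OddHalf.D6.QThree.G23Side

open Cfsg.Agent.Co2Type.Quad Cfsg.Agent.LargeExtra.Model Cfsg.Agent.LargeExtra.Pres
open Cfsg.Agent.LargeExtra.W2 Cfsg.Agent.LargeExtra.W2.PlusHom
open Cfsg.Agent.GTwoThree.Cent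
open Cfsg.Agent.OddHalf.Small.G23Data Cfsg.Agent.OddHalf.Small.G23Check
open Cfsg.Agent.OddHalf.D6.QThree.G23Words Cfsg.Agent.OddHalf.D6.QThree.G23Facts
open Cfsg.Agent.OddHalf.D6.QThree.G23Out Cfsg.Agent.OddHalf.D6.QThree.G23Abs
open Cfsg.Agent.OddHalf.D6.QThree.G23Aut
open Cfsg.Agent.OddHalf.D4.Small.G23W (wh)
open Cfsg.Agent.OddHalf.D4.Small.KG23
open Cfsg.Agent.GTwoThree.Model (wb wd wt)

/-- `Q₁`, `Q₂` quaternion, `[Q₁, Q₂] = 1`, and the facts for the component case. -/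
structure SideE {K : Type*} [Group K] (z : K) (Q₁ Q₂ : Subgroup K) : Prop where
  card₁ : Nat.card Q₁ = 8
  card₂ : Nat.card Q₂ = 8
  sq₁ : ∀ q ∈ Q₁, q ≠ 1 → q ≠ z → q * q = z
  sq₂ : ∀ q ∈ Q₂, q ≠ 1 → q ≠ z → q * q = z
  comm : ∀ x ∈ Q₁, ∀ y ∈ Q₂, x * y = y * x
  /-- an element of order 3 of `C(z)` acting on `Q₁` and centralising `Q₂` -/
  a₁ : ∃ a : K, a ^ 3 = 1 ∧ a * z = z * a ∧ (∀ q ∈ Q₁, a * q * a⁻¹ ∈ Q₁) ∧ (∀ q ∈ Q₂, a * q = q * a) ∧
    ∀ q ∈ Q₁, q ≠ 1 → q ≠ z → q * (a * q * a⁻¹) ≠ (a * q * a⁻¹) * q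
  a₂ : ∃ a : K, a ^ 3 = 1 ∧ a * z = z * a ∧ (∀ q ∈ Q₂, a * q * a⁻¹ ∈ Q₂) ∧ (∀ q ∈ Q₁, a * q = q * a) ∧
    ∀ q ∈ Q₂, q ≠ 1 → q ≠ z → q * (a * q * a⁻¹) ≠ (a * q * a⁻¹) * q
  /-- `z` is conjugate to `i k`, `i ∈ Q₁`, `k ∈ Q₂` of order 4, by `j`, and `z` centralises neither `Q₁ ^ j` nor
  `Q₂ ^ j` -/
  p : ∃ j : K, ∃ i ∈ Q₁, ∃ k ∈ Q₂, i * i = z ∧ k * k = z ∧ j⁻¹ * z * j = i * k ∧
    (∃ q ∈ Q₁, z * (j⁻¹ * q * j) ≠ (j⁻¹ * q * j) * z) ∧ ∃ q ∈ Q₂, z * (j⁻¹ * q * j) ≠ (j⁻¹ * q * j) * z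
  /-- the automorphisms centralising `Q₂` are inner -/
  inn₂ : ∀ α : MulAut K, α z = z → (∀ q ∈ Q₂, α q = q) →
    ∃ c, c * z = z * c ∧ (∀ q ∈ Q₂, c * q = q * c) ∧ α = MulAut.conj c
  inn₁ : ∀ α : MulAut K, α z = z → (∀ q ∈ Q₁, α q = q) →
    ∃ c, c * z = z * c ∧ (∀ q ∈ Q₁, c * q = q * c) ∧ α = MulAut.conj c
  two₂ : ∀ c, c * z = z * c → (∀ q ∈ Q₂, c * q = q * c) → IsPGroup 2 (Subgroup.zpowers c) → c ∈ Q₁
  two₁ : ∀ c, c * z = z * c → (∀ q ∈ Q₁, c * q = q * c) → IsPGroup 2 (Subgroup.zpowers c) → c ∈ Q₂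

section

variable {G : Type*} [Group G] {v : List ℕ → G} (W : WM2 v)

theorem dec_a1 : ∀ m ∈ LI, s1 m ∈ LI ∧ (m ≠ 1 → m ≠ Cfsg.Agent.LargeExtra.Model.zz → m * s1 m ≠ s1 m * m) := by
  decide +kernel
theorem dec_a2 : ∀ m ∈ LK, s2 m ∈ LK ∧ (m ≠ 1 → m ≠ Cfsg.Agent.LargeExtra.Model.zz → m * s2 m ≠ s2 m * m) := by
  decide +kernel

include W

theorem cy_of {c : G} (hc : c * v wz = v wz * c) : ∃ u, toG (C W) u = c := exists_code (C W) hc

theorem two₂ {c : G} (hc : c * v wz = v wz * c) (hq : ∀ q ∈ Q2 (C W), c * q = q * c)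
    (h2 : IsPGroup 2 (Subgroup.zpowers c)) : c ∈ Q1 (C W) := by
  have h := C W
  obtain ⟨u, rfl⟩ := exists_code h hc
  have hk := hq _ ((mem_Q2 h).2 ⟨mk, by decide, rfl⟩)
  have hl := hq _ ((mem_Q2 h).2 ⟨ml, by decide, rfl⟩)
  rw [← toG_kq h, comm_iff_code h (hy W)] at hk hl
  obtain ⟨h3, -, h5⟩ := d1 u hk hl
  have h6 := mem_Q_of_two h (hy W) h2 (Subgroup.mem_zpowers _) h5
  refine (mem_Q1 h).2 ⟨u.1, mem_LI _ h3, ?_⟩
  rw [← toG_kq h, toG_inj]
  obtain ⟨m, w⟩ := u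
  have hw : w = (0, 0, 0) := h6
  rw [hw]; rfl

theorem two₁ {c : G} (hc : c * v wz = v wz * c) (hq : ∀ q ∈ Q1 (C W), c * q = q * c)
    (h2 : IsPGroup 2 (Subgroup.zpowers c)) : c ∈ Q2 (C W) := by
  have h := C W
  obtain ⟨u, rfl⟩ := exists_code h hc
  have hk := hq _ ((mem_Q1 h).2 ⟨mi, by decide, rfl⟩)
  have hl := hq _ ((mem_Q1 h).2 ⟨mj, by decide, rfl⟩)
  rw [← toG_kq h, comm_iff_code h (hy W)] at hk hl
  obtain ⟨h3, -, h5⟩ := d2 u hk hl
  have h6 := mem_Q_of_two h (hy W) h2 (Subgroup.mem_zpowers _) h5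
  refine (mem_Q2 h).2 ⟨u.1, mem_LK _ h3, ?_⟩
  rw [← toG_kq h, toG_inj]
  obtain ⟨m, w⟩ := u
  have hw : w = (0, 0, 0) := h6
  rw [hw]; rfl

/-- an automorphism fixing an element of order 4 of `Q₂` does not exchange the factors -/
theorem ns_of {α : MulAut G} (hα : α (v wz) = v wz) (h1 : α (v wk) = v wk ∨ α (v wi) = v wi) :
    NS (R v) (v wi) (v wj) (v wk) (v wl) α := by
  have h := C W
  have key : ∀ m : M, (c1 m → m * mk = mk * m) := fun m hm => hm.1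
  rcases dich h (hy W) (hodd W) hα with h2 | h2
  · exact h2
  · exfalso
    rcases h1 with h1 | h1
    · have h3 := h2.1.2.2
      rw [h1] at h3
      have h4 := h.lk
      rw [← h3] at h4
      apply h.large.z_ne
      simpa using h4
    · have h3 := h2.2.2.1.2.2
      rw [h1] at h3
      have h4 := h.ji
      rw [← h3] at h4
      apply h.large.z_ne
      simpa using h4

theorem sideE : SideE (v wz) (Q1 (C W)) (Q2 (C W)) := by
  have h := C W
  have e1 := isQ1 h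
  have e2 := isQ2 h
  have hgz := D4.Small.G23W.hz
  have eg : v wh * v wz * (v wh)⁻¹ = v wi * v wk * (v wj * v wl) := by
    have h1 := W.eq _ _ hgz
    rw [W.app wh wz, W.app _ wh, W.app (wi ++ wk), W.app wi wk, W.app wj wl] at h1
    rw [h1, mul_inv_cancel_right]
  have eik : v wh * (v wi * v wk) * (v wh)⁻¹ = v wz * (v wj * v wl) := by
    have h1 := W.eq _ _ D4.Small.G23W.hik
    rw [W.app wh, W.app _ wh, W.app wi wk, W.app wz, W.app wj wl] at h1
    rw [h1, mul_inv_cancel_right]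
  have ejl : v wh * (v wj * v wl) * (v wh)⁻¹ = v wi * v wk := by
    have h1 := W.eq _ _ D4.Small.G23W.hjl
    rw [W.app wh, W.app _ wh, W.app wj wl, W.app wi wk] at h1
    rw [h1, mul_inv_cancel_right]
  have hij : v wi * v wk * (v wj * v wl) = (v wi * v wj) * (v wk * v wl) := by
    calc v wi * v wk * (v wj * v wl) = v wi * (v wk * v wj) * v wl := by group
      _ = v wi * (v wj * v wk) * v wl := by rw [h.kj]
      _ = _ := by group
  have hzz := h.large.z_sq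
  have c1' : v wk * v wi = v wi * v wk := h.ki
  have c2' : v wl * v wj = v wj * v wl := h.lj
  have cz : ∀ m : M, hom h.toPlus m * v wz = v wz * hom h.toPlus m := fun m => h.large.comm_z _ (hom_mem _ _)
  have dik : (mi * mk) * (mi * mk) = (1 : M) := by decide +kernel
  have djl : (mj * ml) * (mj * ml) = (1 : M) := by decide +kernel
  have sik : v wi * v wk * (v wi * v wk) = 1 := by
    have h1 := congrArg (hom h.toPlus) dik
    rwa [map_mul, map_mul, hom_i, hom_k, map_one] at h1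
  have sjl : v wj * v wl * (v wj * v wl) = 1 := by
    have h1 := congrArg (hom h.toPlus) djl
    rwa [map_mul, map_mul, hom_j, hom_l, map_one] at h1
  -- `h⁻¹ z h = i k j l z`
  have hinv : (v wh)⁻¹ * v wz * v wh = v wi * v wk * (v wj * v wl) * v wz := by
    have h1 : v wh * (v wi * v wk * (v wj * v wl) * v wz) * (v wh)⁻¹ = v wz := by
      calc v wh * (v wi * v wk * (v wj * v wl) * v wz) * (v wh)⁻¹
          = (v wh * (v wi * v wk) * (v wh)⁻¹) * (v wh * (v wj * v wl) * (v wh)⁻¹) *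
              (v wh * v wz * (v wh)⁻¹) := by group
        _ = v wz * (v wj * v wl) * (v wi * v wk) * (v wi * v wk * (v wj * v wl)) := by rw [eg, eik, ejl]
        _ = v wz * (v wj * v wl) * ((v wi * v wk) * (v wi * v wk)) * (v wj * v wl) := by group
        _ = v wz * ((v wj * v wl) * (v wj * v wl)) := by rw [sik]; group
        _ = v wz := by rw [sjl, mul_one]
    calc (v wh)⁻¹ * v wz * v wh
        = (v wh)⁻¹ * (v wh * (v wi * v wk * (v wj * v wl) * v wz) * (v wh)⁻¹) * v wh := by rw [h1]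
      _ = _ := by group
  have card_of : ∀ (L : List M) (Q : Subgroup G), L.Nodup → L.length = 8 →
      (∀ x, x ∈ Q ↔ ∃ m, m ∈ L ∧ hom h.toPlus m = x) → Nat.card Q = 8 := by
    intro L Q hn hl hQ
    classical
    have h1 : (Q : Set G) = ((L.toFinset.image (hom h.toPlus) : Finset G) : Set G) := by
      ext x
      rw [SetLike.mem_coe, hQ]
      simp
    have h2 : Nat.card Q = (Q : Set G).ncard := rfl
    rw [h2, h1, Set.ncard_coe_finset, Finset.card_image_of_injective _ (fun a b hab => (hom_eq_iff h.toPlus).1 hab),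
      List.toFinset_card_of_nodup hn, hl]
  exact
  { card₁ := card_of LI _ (by decide +kernel) rfl (fun x => mem_Q1 h)
    card₂ := card_of LK _ (by decide +kernel) rfl (fun x => mem_Q2 h)
    sq₁ := e1.sq
    sq₂ := e2.sq
    comm := (isQQ h).com
    a₁ := by
      refine ⟨v w1, h.x₁3, x1_z h, ?_, ?_, ?_⟩
      · intro q hq
        obtain ⟨m, hm, rfl⟩ := (mem_Q1 h).1 hq
        rw [x1_hom h, mul_inv_cancel_right]
        exact (mem_Q1 h).2 ⟨_, (dec_a1 m hm).1, rfl⟩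
      · intro q hq
        obtain ⟨m, hm, rfl⟩ := (mem_Q2 h).1 hq
        rw [x1_hom h, dX m (dec_c2 m hm)]
      · intro q hq hq1 hqz
        obtain ⟨m, hm, rfl⟩ := (mem_Q1 h).1 hq
        rw [x1_hom h, mul_inv_cancel_right, ← map_mul, ← map_mul, Ne, hom_eq_iff]
        exact (dec_a1 m hm).2 (fun e => hq1 (by rw [e, map_one])) (fun e => hqz (by rw [e, hom_zz]))
    a₂ := by
      refine ⟨v w2, h.x₂3, x2_z h, ?_, ?_, ?_⟩
      · intro q hq
        obtain ⟨m, hm, rfl⟩ := (mem_Q2 h).1 hq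
        rw [x2_hom h, mul_inv_cancel_right]
        exact (mem_Q2 h).2 ⟨_, (dec_a2 m hm).1, rfl⟩
      · intro q hq
        obtain ⟨m, hm, rfl⟩ := (mem_Q1 h).1 hq
        rw [x2_hom h, dX' m (dec_c1 m hm)]
      · intro q hq hq1 hqz
        obtain ⟨m, hm, rfl⟩ := (mem_Q2 h).1 hq
        rw [x2_hom h, mul_inv_cancel_right, ← map_mul, ← map_mul, Ne, hom_eq_iff]
        exact (dec_a2 m hm).2 (fun e => hq1 (by rw [e, map_one])) (fun e => hqz (by rw [e, hom_zz]))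
    p := by
      have ei : v wi ∈ Q1 h := (mem_Q1 h).2 ⟨mi, by decide, hom_i _⟩
      have ej : v wj ∈ Q1 h := (mem_Q1 h).2 ⟨mj, by decide, hom_j _⟩
      have ek : v wk ∈ Q2 h := (mem_Q2 h).2 ⟨mk, by decide, hom_k _⟩
      have el : v wl ∈ Q2 h := (mem_Q2 h).2 ⟨ml, by decide, hom_l _⟩
      have conj_comm : ∀ q : G, v wz * ((v wh)⁻¹ * q * v wh) = (v wh)⁻¹ * q * v wh * v wz →
          (v wi * v wj) * (v wk * v wl) * q = q * ((v wi * v wj) * (v wk * v wl)) := by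
        intro q hq
        rw [← hij, ← eg]
        calc v wh * v wz * (v wh)⁻¹ * q = v wh * (v wz * ((v wh)⁻¹ * q * v wh)) * (v wh)⁻¹ := by group
          _ = v wh * ((v wh)⁻¹ * q * v wh * v wz) * (v wh)⁻¹ := by rw [hq]
          _ = q * (v wh * v wz * (v wh)⁻¹) := by group
      have n1 : (mi * mj) * (mk * ml) * mi ≠ mi * ((mi * mj) * (mk * ml)) := by decide +kernel
      have n2 : (mi * mj) * (mk * ml) * mk ≠ mk * ((mi * mj) * (mk * ml)) := by decide +kernel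
      refine ⟨v wh, v wi * v wj, (Q1 h).mul_mem ei ej, v wk * v wl * v wz,
        (Q2 h).mul_mem ((Q2 h).mul_mem ek el) e2.zQ, z_eq h, ?_, ?_, ⟨v wi, ei, ?_⟩, ⟨v wk, ek, ?_⟩⟩
      · have d : (mk * ml * Cfsg.Agent.LargeExtra.Model.zz) * (mk * ml * Cfsg.Agent.LargeExtra.Model.zz) =
            (Cfsg.Agent.LargeExtra.Model.zz : M) := by decide +kernel
        have h1 := congrArg (hom h.toPlus) d
        rwa [map_mul, map_mul, map_mul, hom_k, hom_l, hom_zz] at h1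
      · rw [hinv, hij]; group
      · intro h1
        apply n1
        rw [← hom_eq_iff h.toPlus]
        have h2 := conj_comm _ h1
        rw [map_mul, map_mul, map_mul, map_mul, map_mul, map_mul, map_mul, map_mul, hom_i, hom_j, hom_k, hom_l]
        exact h2
      · intro h1
        apply n2
        rw [← hom_eq_iff h.toPlus]
        have h2 := conj_comm _ h1
        rw [map_mul, map_mul, map_mul, map_mul, map_mul, map_mul, map_mul, map_mul, hom_i, hom_j, hom_k, hom_l]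
        exact h2
    inn₂ := by
      intro α hα hq
      have ek : v wk ∈ Q2 h := (mem_Q2 h).2 ⟨mk, by decide, hom_k _⟩
      obtain ⟨c, hc, rfl⟩ := inner W hα (ns_of W hα (Or.inl (hq _ ek)))
      refine ⟨c, hc, ?_, rfl⟩
      intro q hq'
      have h1 := hq q hq'
      rwa [MulAut.conj_apply, mul_inv_eq_iff_eq_mul] at h1
    inn₁ := by
      intro α hα hq
      have ei : v wi ∈ Q1 h := (mem_Q1 h).2 ⟨mi, by decide, hom_i _⟩
      obtain ⟨c, hc, rfl⟩ := inner W hα (ns_of W hα (Or.inr (hq _ ei)))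
      refine ⟨c, hc, ?_, rfl⟩
      intro q hq'
      have h1 := hq q hq'
      rwa [MulAut.conj_apply, mul_inv_eq_iff_eq_mul] at h1
    two₂ := fun c hc hq h2 => two₂ W hc hq h2
    two₁ := fun c hc hq h2 => two₁ W hc hq h2 }

end

/-- transport along an isomorphism -/
theorem SideE.map {K L : Type*} [Group K] [Group L] {z : K} {Q₁ Q₂ : Subgroup K} (h : SideE z Q₁ Q₂) (e : K ≃* L) :
    SideE (e z) (Q₁.map e.toMonoidHom) (Q₂.map e.toMonoidHom) := by
  have mem : ∀ {Q : Subgroup K} {x : L}, x ∈ Q.map e.toMonoidHom ↔ e.symm x ∈ Q := by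
    intro Q x
    constructor
    · rintro ⟨y, hy, rfl⟩
      show e.symm (e y) ∈ Q
      rwa [e.symm_apply_apply]
    · intro hx
      exact ⟨e.symm x, hx, e.apply_symm_apply x⟩
  have sq : ∀ {Q : Subgroup K}, (∀ q ∈ Q, q ≠ 1 → q ≠ z → q * q = z) →
      ∀ q ∈ Q.map e.toMonoidHom, q ≠ 1 → q ≠ e z → q * q = e z := by
    rintro Q hQ _ ⟨y, hy, rfl⟩ h1 h2
    show e y * e y = e z
    rw [← map_mul, hQ y hy (fun h3 => h1 (by rw [h3]; exact map_one e)) (fun h3 => h2 (by rw [h3]; rfl))]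
  have car : ∀ {Q : Subgroup K}, Nat.card Q = 8 → Nat.card (Q.map e.toMonoidHom) = 8 := by
    intro Q hQ
    rw [← hQ]
    exact (Nat.card_congr (Q.equivMapOfInjective _ e.injective).toEquiv).symm
  have aa : ∀ {Q Q' : Subgroup K}, (∃ a : K, a ^ 3 = 1 ∧ a * z = z * a ∧ (∀ q ∈ Q, a * q * a⁻¹ ∈ Q) ∧
      (∀ q ∈ Q', a * q = q * a) ∧ ∀ q ∈ Q, q ≠ 1 → q ≠ z → q * (a * q * a⁻¹) ≠ (a * q * a⁻¹) * q) →
      (∃ a : L, a ^ 3 = 1 ∧ a * e z = e z * a ∧ (∀ q ∈ Q.map e.toMonoidHom, a * q * a⁻¹ ∈ Q.map e.toMonoidHom) ∧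
      (∀ q ∈ Q'.map e.toMonoidHom, a * q = q * a) ∧ ∀ q ∈ Q.map e.toMonoidHom, q ≠ 1 → q ≠ e z →
        q * (a * q * a⁻¹) ≠ (a * q * a⁻¹) * q) := by
    rintro Q Q' ⟨a, h1, h2, h3, h4, h5⟩
    refine ⟨e a, ?_, ?_, ?_, ?_, ?_⟩
    · rw [← map_pow, h1, map_one]
    · rw [← map_mul, h2, map_mul]
    · rintro _ ⟨y, hy, rfl⟩
      exact ⟨a * y * a⁻¹, h3 y hy, by
        show e (a * y * a⁻¹) = e a * e y * (e a)⁻¹
        rw [map_mul, map_mul, map_inv]⟩
    · rintro _ ⟨y, hy, rfl⟩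
      show e a * e y = e y * e a
      rw [← map_mul, h4 y hy, map_mul]
    · rintro _ ⟨y, hy, rfl⟩ h6 h7 h8
      apply h5 y hy (fun h3 => h6 (by rw [h3]; exact map_one e)) (fun h3 => h7 (by rw [h3]; rfl))
      apply e.injective
      simp only [map_mul, map_inv]
      exact h8
  have inn : ∀ {Q : Subgroup K}, (∀ α : MulAut K, α z = z → (∀ q ∈ Q, α q = q) →
      ∃ c, c * z = z * c ∧ (∀ q ∈ Q, c * q = q * c) ∧ α = MulAut.conj c) →
      (∀ α : MulAut L, α (e z) = e z → (∀ q ∈ Q.map e.toMonoidHom, α q = q) →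
      ∃ c, c * e z = e z * c ∧ (∀ q ∈ Q.map e.toMonoidHom, c * q = q * c) ∧ α = MulAut.conj c) := by
    intro Q hQ α hα hq
    obtain ⟨c, h1, h2, h3⟩ := hQ ((e.trans α).trans e.symm) (by
      show e.symm (α (e z)) = z
      rw [hα, e.symm_apply_apply]) (by
      intro q hq'
      show e.symm (α (e q)) = q
      have h4 : α (e q) = e q := hq (e q) ⟨q, hq', rfl⟩
      rw [h4, e.symm_apply_apply])
    refine ⟨e c, by rw [← map_mul, h1, map_mul], ?_, ?_⟩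
    · rintro _ ⟨y, hy, rfl⟩
      show e c * e y = e y * e c
      rw [← map_mul, h2 y hy, map_mul]
    · ext x
      have h4 : e.symm (α (e (e.symm x))) = c * e.symm x * c⁻¹ := DFunLike.congr_fun h3 (e.symm x)
      rw [e.apply_symm_apply] at h4
      have h5 := congrArg e h4
      rw [e.apply_symm_apply, map_mul, map_mul, map_inv, e.apply_symm_apply] at h5
      rw [h5]; rfl
  have two : ∀ {Q Q' : Subgroup K}, (∀ c, c * z = z * c → (∀ q ∈ Q, c * q = q * c) →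
      IsPGroup 2 (Subgroup.zpowers c) → c ∈ Q') →
      (∀ c, c * e z = e z * c → (∀ q ∈ Q.map e.toMonoidHom, c * q = q * c) →
      IsPGroup 2 (Subgroup.zpowers c) → c ∈ Q'.map e.toMonoidHom) := by
    intro Q Q' hQ c hc hq h2
    rw [mem]
    apply hQ
    · apply e.injective
      rw [map_mul, map_mul, e.apply_symm_apply, hc]
    · intro q hq'
      apply e.injective
      rw [map_mul, map_mul, e.apply_symm_apply]
      exact hq (e q) ⟨q, hq', rfl⟩
    · have h3 := h2.map e.symm.toMonoidHom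
      rw [MonoidHom.map_zpowers] at h3
      exact h3
  exact
  { card₁ := car h.card₁
    card₂ := car h.card₂
    sq₁ := sq h.sq₁
    sq₂ := sq h.sq₂
    comm := by
      rintro _ ⟨x, hx, rfl⟩ _ ⟨y, hy, rfl⟩
      show e x * e y = e y * e x
      rw [← map_mul, h.comm x hx y hy, map_mul]
    a₁ := aa h.a₁
    a₂ := aa h.a₂
    p := by
      obtain ⟨j, i, hi, k, hk, h1, h2, h3, ⟨q, hq, h4⟩, r, hr, h5⟩ := h.p
      refine ⟨e j, e i, ⟨i, hi, rfl⟩, e k, ⟨k, hk, rfl⟩, by rw [← map_mul, h1], by rw [← map_mul, h2], ?_,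
        ⟨e q, ⟨q, hq, rfl⟩, ?_⟩, e r, ⟨r, hr, rfl⟩, ?_⟩
      · rw [← map_inv, ← map_mul, ← map_mul, h3, map_mul]
      · intro h6
        apply h4
        apply e.injective
        simp only [map_mul, map_inv]
        exact h6
      · intro h6
        apply h5
        apply e.injective
        simp only [map_mul, map_inv]
        exact h6
    inn₂ := inn h.inn₂
    inn₁ := inn h.inn₁
    two₂ := two h.two₂
    two₁ := two h.two₁ }

open Cfsg.Lie Cfsg.Agent.GTwoThree.Model in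
/-- **All the facts on `G₂(3)`**, with the same `z`, `R`: `Q₁, Q₂ ≤ R`. -/
theorem exists_side : ∃ (z : ↥Gp) (R Q₁ Q₂ : Subgroup ↥Gp), FactsOut.Cls z R ∧ FactsOut.Aut z R ∧ Facts.One z R ∧
    Q₁ ≤ R ∧ Q₂ ≤ R ∧ (∀ r ∈ R, ∃ x ∈ Q₁, ∃ y ∈ Q₂, r = x * y) ∧ SideE z Q₁ Q₂ :=
  ⟨_, _, _, _, cls words2, aut words2, one_of_words words, (isQQ (C words2)).le1, (isQQ (C words2)).le2,
    (isQQ (C words2)).mem, sideE words2⟩

open Cfsg.Lie in
/-- **All the facts on every group isomorphic to `G₂(3)`.** -/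
theorem facts {K : Type*} [Group K] (F : Type) [Field F] [Fintype F] (hF : Fintype.card F = 3)
    (e : K ≃* ↥(chevG2.group F)) : ∃ (z : K) (R Q₁ Q₂ : Subgroup K), FactsOut.Cls z R ∧ FactsOut.Aut z R ∧
    Facts.One z R ∧ Q₁ ≤ R ∧ Q₂ ≤ R ∧ (∀ r ∈ R, ∃ x ∈ Q₁, ∃ y ∈ Q₂, r = x * y) ∧ SideE z Q₁ Q₂ := by
  have h3 : Fintype.card (ZMod 3) = Fintype.card F := by rw [hF]; rfl
  let φ : ZMod 3 ≃+* F := FiniteField.ringEquivOfCardEq h3
  let f := (Cfsg.Agent.ChevalleyStructure.FieldIso.groupEquiv chevG2 φ).trans e.symm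
  obtain ⟨z, R, Q₁, Q₂, h1, h2, h3, h4, h5, h6, h7⟩ := exists_side
  refine ⟨_, _, _, _, h1.map f, h2.map f, h3.map f, Subgroup.map_mono h4, Subgroup.map_mono h5, ?_, h7.map f⟩
  rintro _ ⟨r, hr, rfl⟩
  obtain ⟨x, hx, y, hy, rfl⟩ := h6 r hr
  exact ⟨_, ⟨x, hx, rfl⟩, _, ⟨y, hy, rfl⟩, map_mul f x y⟩

end Cfsg.Agent.OddHalf.D6.QThree.G23Side
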