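import Cfsg.Agent.OddHalf.Small.G23Check

/-!
# `G₂(3)`: words for the coordinates of the centralizer of an involution (helper618)

Words (letters of `Cfsg.Agent.GTwoThree.Model`) for `i, j, k, l, x₁, x₂, y` of `Case9c` and the kernel checks of their
relations.
-/

set_option autoImplicit false
set_option Elab.async false
set_option maxRecDepth 100000

namespace Cfsg.Agent.OddHalf.D6.QThree.G23Words

open Cfsg.Agent.GTwoThree.Model
open Cfsg.Agent.OddHalf.Small.G23Data Cfsg.Agent.OddHalf.Small.G23Check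

def wi : List ℕ := [10, 12]
def wj : List ℕ := [12, 10]
def wk : List ℕ := [18, 4]
def wl : List ℕ := [4, 18]
def w1 : List ℕ := [12]
def w2 : List ℕ := [4]
def wy : List ℕ := [15, 8, 15, 15, 8, 15]
/-- moves `z` to `y` -/
def wg : List ℕ := [12, 11, 12, 14, 9, 14]

/-- the generators of `C(z)` -/
def GW : List (List ℕ) := [wi, wj, wk, wl, w1, w2, wy]

/-- the words for the elements of the Bruhat cells -/
def TW : List (List ℕ) := NZ.map (fun i => NL.getD i []) ++ [[12], [13], [18], [19]]

/-- the same as words in `GW` -/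
def TG : List (List ℕ) :=
  [[], [6], [0, 0], [0, 0, 6], [1, 0], [0, 6, 0], [0, 1], [0, 1, 6], [3, 2], [2, 6, 2], [2, 3], [2, 3, 6],
   [0, 1, 2, 3], [0, 1, 2, 3, 6], [0, 1, 3, 2], [0, 1, 2, 6, 2], [4], [4, 4], [2, 5, 5], [2, 5, 3]]

/-- expansion of a word in `GW` -/
def gx (w : List ℕ) : List ℕ := w.flatMap fun k => GW.getD k []

theorem zz : eqc (wz ++ wz) [] = true := by decide +kernel
theorem ii : eqc (wi ++ wi) wz = true := by decide +kernel
theorem jj : eqc (wj ++ wj) wz = true := by decide +kernel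
theorem kk : eqc (wk ++ wk) wz = true := by decide +kernel
theorem ll : eqc (wl ++ wl) wz = true := by decide +kernel
theorem ji : eqc (wj ++ wi) (wi ++ wj ++ wz) = true := by decide +kernel
theorem lk : eqc (wl ++ wk) (wk ++ wl ++ wz) = true := by decide +kernel
theorem ki : eqc (wk ++ wi) (wi ++ wk) = true := by decide +kernel
theorem li : eqc (wl ++ wi) (wi ++ wl) = true := by decide +kernel
theorem kj : eqc (wk ++ wj) (wj ++ wk) = true := by decide +kernel
theorem lj : eqc (wl ++ wj) (wj ++ wl) = true := by decide +kernel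
theorem x13 : eqc (w1 ++ w1 ++ w1) [] = true := by decide +kernel
theorem x23 : eqc (w2 ++ w2 ++ w2) [] = true := by decide +kernel
theorem x1i : eqc (w1 ++ wi) (wj ++ w1) = true := by decide +kernel
theorem x1j : eqc (w1 ++ wj) (wi ++ wj ++ w1) = true := by decide +kernel
theorem x1k : eqc (w1 ++ wk) (wk ++ w1) = true := by decide +kernel
theorem x1l : eqc (w1 ++ wl) (wl ++ w1) = true := by decide +kernel
theorem x2i : eqc (w2 ++ wi) (wi ++ w2) = true := by decide +kernel
theorem x2j : eqc (w2 ++ wj) (wj ++ w2) = true := by decide +kernel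
theorem x2k : eqc (w2 ++ wk) (wl ++ w2) = true := by decide +kernel
theorem x2l : eqc (w2 ++ wl) (wk ++ wl ++ w2) = true := by decide +kernel
theorem yi : eqc (wy ++ wi) (wj ++ wz ++ wy) = true := by decide +kernel
theorem yj : eqc (wy ++ wj) (wi ++ wz ++ wy) = true := by decide +kernel
theorem yk : eqc (wy ++ wk) (wl ++ wz ++ wy) = true := by decide +kernel
theorem yl : eqc (wy ++ wl) (wk ++ wz ++ wy) = true := by decide +kernel
theorem xx : eqc (w1 ++ w2) (w2 ++ w1) = true := by decide +kernel
theorem y1 : eqc (w1 ++ wy ++ w1) wy = true := by decide +kernel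
theorem y2 : eqc (w2 ++ wy ++ w2) wy = true := by decide +kernel
theorem yy : eqc (wy ++ wy) [] = true := by decide +kernel
theorem gz : eqc (wg ++ wz) (wy ++ wg) = true := by decide +kernel
theorem gzy : eqc (wg ++ (wz ++ wy)) (wz ++ wg) = true := by decide +kernel

theorem GW_comm : ∀ k < 7, eqc (GW.getD k [] ++ wz) (wz ++ GW.getD k []) = true := by decide +kernel

theorem PG_comm : ∀ k < 5, eqc (PG.getD k [] ++ wz) (wz ++ PG.getD k []) = true := by decide +kernel

theorem TW_check : ∀ i < 20, eqc (TW.getD i []) (gx (TG.getD i [])) = true ∧ ∀ k ∈ TG.getD i [], k < 7 := by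
  decide +kernel

theorem TW_NL : ∀ i ∈ NZ, ∃ k < 20, NL.getD i [] = TW.getD k [] := by decide +kernel

theorem TW_wx6 : ∀ a < 3, wx 6 a = [] ∨ ∃ k < 20, wx 6 a = TW.getD k [] := by decide +kernel

theorem TW_wx9 : ∀ a < 3, wx 9 a = [] ∨ ∃ k < 20, wx 9 a = TW.getD k [] := by decide +kernel

theorem x1_ne : nec w1 [] = true := by decide +kernel

theorem x2_ne : nec w2 [] = true ∧ nec w2 w1 = true ∧ nec w2 (w1 ++ w1) = true := by decide +kernel

theorem z_ne : nec wz [] = true := by decide +kernel

/-- the elements of `C(z)` centralizing `i, j, k, l` -/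
theorem self_check : ∀ i ∈ NZ, ∀ a < 3, ∀ d < 3,
    (∃ k < 4, nec ((NL.getD i [] ++ (wx 6 a ++ wx 9 d)) ++ GW.getD k [])
      (GW.getD k [] ++ (NL.getD i [] ++ (wx 6 a ++ wx 9 d))) = true) ∨
    eqc (NL.getD i [] ++ (wx 6 a ++ wx 9 d)) [] = true ∨
    eqc (NL.getD i [] ++ (wx 6 a ++ wx 9 d)) wz = true := by
  decide +kernel

end Cfsg.Agent.OddHalf.D6.QThree.G23Words
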