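import Cfsg.Agent.OddHalf.D6.QThree.G23Words

/-!
# `G₂(3)`: words for the automorphisms fixing an involution (helper618)

The images of the generator `t` under an automorphism which is the identity on `O²(C(z))` are among 16 words; all but
two of them violate a relation.
-/

set_option autoImplicit false
set_option Elab.async false
set_option maxRecDepth 100000

namespace Cfsg.Agent.OddHalf.D6.QThree.G23Words

open Cfsg.Agent.GTwoThree.Model
open Cfsg.Agent.OddHalf.Small.G23Data Cfsg.Agent.OddHalf.Small.G23Check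

/-- the words of the elements `z ^ p y ^ q e ^ s`, `e = b d` -/
def EW (p q s : ℕ) : List ℕ :=
  (if p = 0 then [] else wz) ++ ((if q = 0 then [] else wy) ++ (if s = 0 then [] else wb ++ wd))

/-- the candidates for the image of `t` -/
def CT (f p q s : ℕ) : List ℕ := (if f = 0 then wt else wt ++ wg) ++ EW p q s

theorem r_eq : eqc wr (wz ++ wy) = true := by decide +kernel
theorem tt : eqc (wt ++ wt) [] = true := by decide +kernel
theorem tz : eqc (wt ++ wz) ((wz ++ wy) ++ wt) = true := by decide +kernel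
theorem ty : eqc (wt ++ wy) (wy ++ wt) = true := by decide +kernel
theorem te : eqc (wt ++ (wb ++ wd)) ((wb ++ wd) ++ wt) = true := by decide +kernel
theorem gy : eqc (wg ++ wy) ((wz ++ wy) ++ wg) = true := by decide +kernel
theorem b_eq : eqc wb (wi ++ wj ++ wz) = true := by decide +kernel
theorem d_eq : eqc wd (wk ++ wl ++ wz) = true := by decide +kernel
theorem k1 : eqc ((w1 ++ wt) ++ (w1 ++ wt)) ((wt ++ w1) ++ (wt ++ w1)) = true := by decide +kernel
theorem k3 : eqc (w1 ++ (wt ++ w2 ++ wt)) ((wt ++ w2 ++ wt) ++ w1) = true := by decide +kernel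
theorem ty_conj : eqc (CT 0 0 1 0) (wz ++ wt ++ wz) = true := by decide +kernel

/-- the check of one candidate -/
noncomputable def cb (f p q s : ℕ) : Bool := (Nat.beq (f + p + s) 0) ||
    (nec ((w1 ++ CT f p q s) ++ (w1 ++ CT f p q s)) ((CT f p q s ++ w1) ++ (CT f p q s ++ w1)) ||
    nec (w1 ++ (CT f p q s ++ w2 ++ CT f p q s)) ((CT f p q s ++ w2 ++ CT f p q s) ++ w1))

theorem cand0 : ∀ f < 2, ∀ p < 2, ∀ q < 2, ∀ s < 2, cb f p q s = true := by
  decide +kernel

/-- the candidates violating a relation -/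
theorem cand {f p q s : ℕ} (hf : f < 2) (hp : p < 2) (hq : q < 2) (hs : s < 2) : (f = 0 ∧ p = 0 ∧ s = 0) ∨
    nec ((w1 ++ CT f p q s) ++ (w1 ++ CT f p q s)) ((CT f p q s ++ w1) ++ (CT f p q s ++ w1)) = true ∨
    nec (w1 ++ (CT f p q s ++ w2 ++ CT f p q s)) ((CT f p q s ++ w2 ++ CT f p q s) ++ w1) = true := by
  have h := cand0 f hf p hp q hq s hs
  unfold cb at h
  rw [Bool.or_eq_true, Bool.or_eq_true] at h
  rcases h with h | h | h
  · left
    have := Nat.eq_of_beq_eq_true h
    omega
  · exact Or.inr (Or.inl h)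
  · exact Or.inr (Or.inr h)

/-- the candidates for the twisted action -/
theorem cand' : ∀ f < 2, ∀ p < 2, ∀ q < 2, ∀ s < 2,
    nec (CT f p q s ++ (wb ++ wd ++ wz)) ((wb ++ wd ++ wz) ++ CT f p q s) = true := by
  decide +kernel

end Cfsg.Agent.OddHalf.D6.QThree.G23Words
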