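import Cfsg.Agent.KFacts.LFourThree.Facts
import Cfsg.Agent.ClassicalGeometry.AutPSL.Main
import Cfsg.Agent.OddHalf.D6.QThree.FactsOut

/-!
# ODD half, D6, `q = 3`: `L₄(3) = PSL(4, 3)`, the automorphisms trivial on `R = O₂(C(z))` (helper76)

* `two_forms`: every automorphism is `lift (cj A)` or `lift (cj A) * lift itr`, `A ∈ GL(4, 3)`.
* `r = lift (conj (ij') ∘ inverse transpose)`: an involution, trivial on `C_K(z)`.
* `main`: an automorphism trivial on `R` is `1`, `z`, `r` or `z r`.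
-/

set_option autoImplicit false

namespace Cfsg.Agent.OddHalf.D6.QThree.L43Aut

open Matrix
open Cfsg.Agent.KFacts.LFourThree
open Cfsg.Agent.ClassicalGeometry.AutPSL.Auto

abbrev GL4 := GL (Fin 4) F3

/-- the alternating matrix `diag(I₂, I₂)` -/
def eC : SL4 := eI * eK

theorem eC_sq : eC * eC = m1 := by decide +kernel

theorem eC_val : eC.1 = bd I2.1 I2.1 := by decide +kernel

/-- `A ↦ C A⁻ᵀ C⁻¹` -/
def rS : MulAut SL4 := MulAut.conj eC * itr

/-- the graph automorphism centralising `C_K(z)` -/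
noncomputable def r : MulAut L := lift rS

theorem lift_conj (A : SL4) : lift (MulAut.conj A) = MulAut.conj (pr A) := by
  apply MulEquiv.ext
  intro x
  obtain ⟨x, rfl⟩ := pr_surj x
  rfl

theorem lift_pr' (e : MulAut SL4) (x : SL4) : lift e (pr x) = pr (e x) := rfl

theorem itr_conj (A : SL4) : (itr * MulAut.conj A : MulAut SL4) = MulAut.conj (itr A) * itr := by
  apply MulEquiv.ext
  intro x
  change itr (A * x * A⁻¹) = itr A * itr x * (itr A)⁻¹
  rw [map_mul, map_mul, map_inv]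

theorem itr_eC : itr eC = eC := by decide +kernel

theorem rS_sq : rS * rS = MulAut.conj m1 := by
  calc rS * rS = MulAut.conj eC * (itr * MulAut.conj eC) * itr := by simp only [rS, mul_assoc]
    _ = MulAut.conj eC * MulAut.conj eC * (itr * itr) := by rw [itr_conj, itr_eC]; simp only [mul_assoc]
    _ = MulAut.conj m1 := by rw [itr_mul_itr, mul_one, ← map_mul, eC_sq]

theorem rr : r * r = 1 := by
  rw [r, ← map_mul, rS_sq, lift_conj, pr_m1, map_one]

/-- the field of three elements has no automorphisms -/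
theorem fld_one (σ : F3 ≃+* F3) : σ = 1 := by
  ext x
  have h : ∀ x : F3, x = 0 ∨ x = 1 ∨ x = 1 + 1 := by decide
  rcases h x with rfl | rfl | rfl <;> simp

theorem two_forms (α : MulAut L) : (∃ A : GL4, α = lift (cj A)) ∨ (∃ A : GL4, α = lift (cj A) * lift itr) := by
  rcases Cfsg.Agent.ClassicalGeometry.AutPSL.Main.surj_three 3 (by norm_num) α with ⟨A, σ, h⟩ | ⟨A, σ, h⟩
  · left
    refine ⟨A, ?_⟩
    rw [h, fld_one σ, map_one, mul_one]
  · right
    refine ⟨A, ?_⟩
    rw [h, fld_one σ, map_one, mul_one, map_mul]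

/-! ### the automorphisms trivial on `R` -/

theorem cj_val (A : GL4) (g : SL4) : (cj A g).1 * A.1 = A.1 * g.1 := by
  rw [coe_cj, mul_assoc, ← Units.val_mul, inv_mul_cancel, Units.val_one, mul_one]

/-- an element of nonzero trace fixed in `PSL` is fixed in `SL` -/
theorem comm_of_fix {A : GL4} {g : SL4} (ht : g.1.trace ≠ 0) (h : lift (cj A) (pr g) = pr g) :
    A.1 * g.1 = g.1 * A.1 := by
  rw [lift_pr', pr_eq_iff] at h
  rcases h with h | h
  · rw [← cj_val, h]
  · exfalso
    apply ht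
    have h1 : (cj A g).1.trace = g.1.trace := by
      rw [coe_cj, mul_assoc, Matrix.trace_mul_comm, mul_assoc, ← Units.val_mul, inv_mul_cancel, Units.val_one,
        mul_one]
    rw [h, m1_val, Matrix.trace_smul] at h1
    have h2 : ∀ x : F3, (2 : F3) • x = x → x = 0 := by decide
    exact h2 _ h1

theorem blocks (A : M4) (hI : A * eI.1 = eI.1 * A) (hJ : A * eJ.1 = eJ.1 * A)
    (hK : A * eK.1 = eK.1 * A) (hL : A * eL.1 = eL.1 * A) :
    ∃ p q : F3, A = Matrix.diagonal ![p, p, q, q] := by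
  have key : ∀ (X : SL4), A * X.1 = X.1 * A → ∀ a b, (A * X.1) a b = (X.1 * A) a b := by
    intro X h a b; rw [h]
  have kI := key _ hI
  have kJ := key _ hJ
  have kK := key _ hK
  have kL := key _ hL
  simp [eI, eJ, eK, eL, Matrix.mul_apply, Fin.sum_univ_four, Fin.forall_fin_succ] at kI kJ kK kL
  have e2 : ∀ x : F3, x * 2 = x → x = 0 := by decide
  obtain ⟨⟨i1, i2, i3, i4⟩, -, ⟨-, i5⟩, -, i6⟩ := kI
  obtain ⟨⟨j1, -, j2, j3⟩, -, ⟨j4, -⟩, j5, -⟩ := kJ
  obtain ⟨-, -, ⟨-, -, k1, k2⟩, -⟩ := kK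
  obtain ⟨-, -, ⟨-, -, l1, -⟩, -⟩ := kL
  have a01 : A 0 1 = 0 := e2 _ (by rw [i1, j1])
  have a23 : A 2 3 = 0 := e2 _ (by rw [k1, l1])
  have a10 : A 1 0 = 0 := by rw [← j1, a01]
  have a32 : A 3 2 = 0 := by rw [← l1, a23]
  have a20 : A 2 0 = 0 := by rw [i5, j4]
  have a30 : A 3 0 = 0 := by rw [i6, j5]
  have a02 : A 0 2 = 0 := by rw [i3, j2]
  have a03 : A 0 3 = 0 := by rw [i4, j3]
  refine ⟨A 0 0, A 2 2, ?_⟩
  ext a b
  fin_cases a <;> fin_cases b <;>
    simp [a01, a23, a10, a32, a20, a30, a02, a03, j2, j3, j4, j5, i2, k2]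

theorem cj_one {A : GL4} {p : F3} (h : A.1 = Matrix.diagonal ![p, p, p, p]) : cj A = 1 := by
  apply MulEquiv.ext
  intro g
  apply Subtype.ext
  have h1 : A.1 = p • (1 : M4) := by
    rw [h]
    ext a b
    fin_cases a <;> fin_cases b <;> simp
  have h2 : A.1 * g.1 = g.1 * A.1 := by
    rw [h1, Matrix.smul_mul, Matrix.mul_smul, one_mul, mul_one]
  rw [coe_cj, h2, mul_assoc, ← Units.val_mul, mul_inv_cancel, Units.val_one, mul_one]
  rfl

theorem smul_eZ : ∀ p : F3, Matrix.diagonal ![p, p, 2 * p, 2 * p] = (2 * p : F3) • eZ.1 := by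
  decide +kernel

/-- an element of `GL` centralising `Q₈ ∘ Q₈` induces `1` or `z` -/
theorem cj_of_comm {A : GL4} (hI : A.1 * eI.1 = eI.1 * A.1) (hJ : A.1 * eJ.1 = eJ.1 * A.1)
    (hK : A.1 * eK.1 = eK.1 * A.1) (hL : A.1 * eL.1 = eL.1 * A.1) :
    cj A = 1 ∨ cj A = MulAut.conj eZ := by
  obtain ⟨p, q, h⟩ := blocks A.1 hI hJ hK hL
  have hdet : A.1.det ≠ 0 := by
    have := A.isUnit.map (Matrix.detMonoidHom)
    exact this.ne_zero
  rw [h, Matrix.det_diagonal, Fin.prod_univ_four] at hdet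
  have hp : p ≠ 0 := by rintro rfl; simp at hdet
  have hq : q ≠ 0 := by rintro rfl; simp at hdet
  have key : ∀ p q : F3, p ≠ 0 → q ≠ 0 → q = p ∨ q = 2 * p := by decide
  rcases key p q hp hq with rfl | rfl
  · exact Or.inl (cj_one h)
  · right
    have h1 : A.1 = (2 * p : F3) • eZ.1 := by rw [h, smul_eZ]
    apply MulEquiv.ext
    intro g
    apply Subtype.ext
    have h3 : eZ.1 * g.1 = (eZ * g * eZ⁻¹).1 * eZ.1 := by
      rw [← Matrix.SpecialLinearGroup.coe_mul, ← Matrix.SpecialLinearGroup.coe_mul, inv_mul_cancel_right]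
    have h2 : A.1 * g.1 = (eZ * g * eZ⁻¹).1 * A.1 := by
      rw [h1, Matrix.smul_mul, Matrix.mul_smul, h3]
    rw [coe_cj, h2, mul_assoc, ← Units.val_mul, mul_inv_cancel, Units.val_one, mul_one, MulAut.conj_apply]

theorem fix_inner {A : GL4} (hi : lift (cj A) i = i) (hj : lift (cj A) j = j) (hk : lift (cj A) k = k)
    (hl : lift (cj A) l = l) : lift (cj A) = 1 ∨ lift (cj A) = MulAut.conj z := by
  have tI : eI.1.trace ≠ 0 := by decide +kernel
  have tJ : eJ.1.trace ≠ 0 := by decide +kernel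
  have tK : eK.1.trace ≠ 0 := by decide +kernel
  have tL : eL.1.trace ≠ 0 := by decide +kernel
  rcases cj_of_comm (comm_of_fix tI hi) (comm_of_fix tJ hj) (comm_of_fix tK hk) (comm_of_fix tL hl) with h | h
  · left; rw [h, map_one]
  · right; rw [h, lift_conj, z]

theorem r_pr {A : SL4} (h : rS A = A ∨ rS A = m1 * A) : r (pr A) = pr A := by
  rw [r, lift_pr', pr_eq_iff]
  exact h

theorem ri : r i = i := r_pr (by decide +kernel)
theorem rj : r j = j := r_pr (by decide +kernel)
theorem rk : r k = k := r_pr (by decide +kernel)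
theorem rl : r l = l := r_pr (by decide +kernel)
theorem rx₁ : r x₁ = x₁ := r_pr (by decide +kernel)
theorem rx₂ : r x₂ = x₂ := r_pr (by decide +kernel)
theorem ry : r y = y := r_pr (by decide +kernel)
theorem rs : r s = s := r_pr (by decide +kernel)
theorem rz : r z = z := r_pr (by decide +kernel)

theorem lift_itr_mul_r : lift itr * r = MulAut.conj (pr eC) := by
  rw [r, rS, ← map_mul, ← mul_assoc, itr_conj, itr_eC, mul_assoc, itr_mul_itr, mul_one, lift_conj]

/-- **the automorphisms trivial on `R`** -/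
theorem main {α : MulAut L} (hi : α i = i) (hj : α j = j) (hk : α k = k) (hl : α l = l) :
    α = 1 ∨ α = MulAut.conj z ∨ α = r ∨ α = MulAut.conj z * r := by
  rcases two_forms α with ⟨A, rfl⟩ | ⟨A, rfl⟩
  · rcases fix_inner hi hj hk hl with h | h
    · exact Or.inl h
    · exact Or.inr (Or.inl h)
  · have h1 : lift (cj A) * lift itr * r = lift (cj (A * Matrix.SpecialLinearGroup.toGL eC)) := by
      rw [mul_assoc, lift_itr_mul_r, ← lift_conj, ← map_mul, map_mul cj]
      congr 2
    have e : ∀ x, r x = x → lift (cj A) (lift itr x) = x →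
        lift (cj (A * Matrix.SpecialLinearGroup.toGL eC)) x = x := by
      intro x h2 h3
      rw [← h1]
      change lift (cj A) (lift itr (r x)) = x
      rw [h2, h3]
    have h2 : lift (cj A) * lift itr = lift (cj (A * Matrix.SpecialLinearGroup.toGL eC)) * r := by
      rw [← h1, mul_assoc, rr, mul_one]
    rcases fix_inner (e i ri hi) (e j rj hj) (e k rk hk) (e l rl hl) with h | h
    · right; right; left; rw [h2, h, one_mul]
    · right; right; right; rw [h2, h]

end Cfsg.Agent.OddHalf.D6.QThree.L43Aut
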