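import Cfsg.Agent.OddHalf.D6.QThree.L43AutD
import Cfsg.Agent.LieClassical.SympCenter
import Cfsg.Prelude.Def_Classical

/-!
# ODD half, D6, `q = 3`: `L₄(3)`, the centraliser of the graph involution `r` (helper76)

`E = {g | g C gᵀ = C} / ±1 ≅ PSp₄(3)`, `D ≤ E ≤ C_K(r) = E ∪ y E`.
-/

set_option autoImplicit false

namespace Cfsg.Agent.OddHalf.D6.QThree.L43Aut

open Matrix Cfsg
open Cfsg.Agent.KFacts.LFourThree
open Cfsg.Agent.ClassicalGeometry.AutPSL.Auto
open Cfsg.Agent.OddHalf.D6.QThree.FactsOut (OD)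

/-- the isometries of the form `C` -/
def Sp4 : Subgroup SL4 where
  carrier := {g | rS g = g}
  mul_mem' := by
    intro a b ha hb
    change rS (a * b) = a * b
    rw [map_mul]
    change rS a = a at ha
    change rS b = b at hb
    rw [ha, hb]
  one_mem' := map_one rS
  inv_mem' := by
    intro a ha
    change rS a = a at ha
    change rS a⁻¹ = a⁻¹
    rw [map_inv, ha]

theorem mem_Sp4 {g : SL4} : g ∈ Sp4 ↔ rS g = g := Iff.rfl

theorem rS_apply (g : SL4) : rS g = eC * itr g * eC⁻¹ := rfl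

/-- `rS g = g` iff `g C gᵀ = C` -/
theorem mem_Sp4_iff {g : SL4} : g ∈ Sp4 ↔ g.1 * eC.1 * g.1ᵀ = eC.1 := by
  rw [mem_Sp4, rS_apply, mul_inv_eq_iff_eq_mul]
  have h1 : (itr g).1 * g.1ᵀ = 1 := by
    have h2 : ((g⁻¹ : SL4).1)ᵀ * g.1ᵀ = 1 := by
      rw [← Matrix.transpose_mul, ← Matrix.SpecialLinearGroup.coe_mul, mul_inv_cancel,
        Matrix.SpecialLinearGroup.coe_one, Matrix.transpose_one]
    exact h2
  have h1' : g.1ᵀ * (itr g).1 = 1 := mul_eq_one_comm.1 h1
  constructor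
  · intro h
    have h3 : (eC * itr g).1 = (g * eC).1 := congrArg Subtype.val h
    rw [Matrix.SpecialLinearGroup.coe_mul, Matrix.SpecialLinearGroup.coe_mul] at h3
    have h4 : eC.1 * (itr g).1 = g.1 * eC.1 := h3
    rw [← h4, mul_assoc, h1, mul_one]
  · intro h
    apply Subtype.ext
    rw [Matrix.SpecialLinearGroup.coe_mul, Matrix.SpecialLinearGroup.coe_mul]
    have h4 : eC.1 * (itr g).1 = g.1 * eC.1 := by
      conv_lhs => rw [← h]
      rw [mul_assoc, h1', mul_one]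
    exact h4

/-- the index change `Fin 2 ⊕ Fin 2 ≃ Fin 4` -/
def ix : Fin 2 ⊕ Fin 2 ≃ Fin 4 where
  toFun := Sum.elim ![1, 3] ![0, 2]
  invFun := ![Sum.inr 0, Sum.inl 0, Sum.inr 1, Sum.inl 1]
  left_inv := by decide
  right_inv := by decide

theorem J_ix : Matrix.reindex ix ix (Matrix.J (Fin 2) F3) = eC.1 := by
  decide +kernel

theorem reindex_mul (A B : Matrix (Fin 2 ⊕ Fin 2) (Fin 2 ⊕ Fin 2) F3) :
    Matrix.reindex ix ix (A * B) = Matrix.reindex ix ix A * Matrix.reindex ix ix B := by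
  rw [Matrix.reindex_apply, Matrix.reindex_apply, Matrix.reindex_apply, Matrix.submatrix_mul_equiv]

/-- `Sp₄(3) → SL₄(3)` -/
def sp : symplecticGroup (Fin 2) F3 →* SL4 where
  toFun A := ⟨Matrix.reindex ix ix A.1, by rw [Matrix.det_reindex_self, SymplecticGroup.det_eq_one A.2]⟩
  map_one' := by
    apply Subtype.ext
    change Matrix.reindex ix ix 1 = 1
    rw [Matrix.reindex_apply, Matrix.submatrix_one_equiv]
  map_mul' A B := by
    apply Subtype.ext
    exact reindex_mul A.1 B.1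

theorem sp_val (A : symplecticGroup (Fin 2) F3) : (sp A).1 = Matrix.reindex ix ix A.1 := rfl

theorem sp_inj : Function.Injective sp := by
  intro A B h
  apply Subtype.ext
  apply (Matrix.reindex ix ix).injective
  exact congrArg Subtype.val h

theorem sp_range : sp.range = Sp4 := by
  apply le_antisymm
  · rintro _ ⟨A, rfl⟩
    rw [mem_Sp4_iff, sp_val, ← J_ix, Matrix.transpose_reindex, ← reindex_mul, ← reindex_mul,
      SymplecticGroup.mem_iff.1 A.2]
  · intro g hg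
    rw [mem_Sp4_iff] at hg
    have h1 : (Matrix.reindex ix ix).symm g.1 ∈ symplecticGroup (Fin 2) F3 := by
      rw [SymplecticGroup.mem_iff]
      apply (Matrix.reindex ix ix).injective
      rw [reindex_mul, reindex_mul, J_ix, ← Matrix.transpose_reindex, Equiv.apply_symm_apply]
      exact hg
    refine ⟨⟨_, h1⟩, ?_⟩
    apply Subtype.ext
    rw [sp_val, Equiv.apply_symm_apply]

/-- `E`, the image of `Sp₄(3)` -/
def E : Subgroup L := Sp4.map pr

theorem mem_E {g : L} : g ∈ E ↔ ∃ A, rS A = A ∧ pr A = g := Iff.rfl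

/-- `Sp₄(3) → L₄(3)` -/
def spL : symplecticGroup (Fin 2) F3 →* L := pr.comp sp

theorem spL_range : spL.range = E := by
  rw [spL, MonoidHom.range_comp, sp_range, E]

theorem spL_ker : spL.ker = Subgroup.center (symplecticGroup (Fin 2) F3) := by
  ext A
  rw [MonoidHom.mem_ker, LieClassical.SympCenter.mem_center_iff]
  change pr (sp A) = 1 ↔ _
  rw [pr_eq_one_iff]
  have h2 : Matrix.reindex ix ix ((2 : F3) • (1 : Matrix (Fin 2 ⊕ Fin 2) (Fin 2 ⊕ Fin 2) F3)) = m1.1 := by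
    decide +kernel
  have h1 : Matrix.reindex ix ix ((1 : F3) • (1 : Matrix (Fin 2 ⊕ Fin 2) (Fin 2 ⊕ Fin 2) F3)) = (1 : SL4).1 := by
    decide +kernel
  constructor
  · rintro (h | h)
    · exact ⟨1, (Matrix.reindex ix ix).injective (by rw [← sp_val, h, h1])⟩
    · exact ⟨2, (Matrix.reindex ix ix).injective (by rw [← sp_val, h, h2])⟩
  · rintro ⟨a, ha⟩
    have h3 : a * a = 1 := LieClassical.SympCenter.sq_eq_one_of_smul_mem (m := 2) (by norm_num) (ha ▸ A.2)
    have h4 : ∀ a : F3, a * a = 1 → a = 1 ∨ a = 2 := by decide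
    rcases h4 a h3 with rfl | rfl
    · left; apply Subtype.ext; rw [sp_val, ha, h1]
    · right; apply Subtype.ext; rw [sp_val, ha, h2]

theorem exists_equiv : Nonempty (E ≃* PSp 2 F3) := by
  have e1 : symplecticGroup (Fin 2) F3 ⧸ spL.ker ≃* spL.range := QuotientGroup.quotientKerEquivRange spL
  have e2 : PSp 2 F3 ≃* symplecticGroup (Fin 2) F3 ⧸ spL.ker := QuotientGroup.quotientMulEquivOfEq spL_ker.symm
  have e3 : spL.range ≃* E := MulEquiv.subgroupCongr spL_range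
  exact ⟨((e2.trans e1).trans e3).symm⟩

/-! ### `C_K(r)` -/

theorem E_le : E ≤ CR := by
  rintro _ ⟨A, hA, rfl⟩
  rw [mem_CR, r, lift_pr']
  change rS A = A at hA
  rw [hA]

/-- the elements `b M N` are isometries -/
theorem rS_b (M N : SL2) : rS (b M N) = b M N := by
  have h1 : ∀ M : SL2, M.1 * I2.1 * M.1ᵀ = I2.1 := by decide +kernel
  have h2 : b M N ∈ Sp4 := by
    rw [mem_Sp4_iff, eC_val]
    have h3 : (bd M.1 N.1)ᵀ = bd M.1ᵀ N.1ᵀ := by
      ext a c
      fin_cases a <;> fin_cases c <;> simp [bd]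
    change bd M.1 N.1 * bd I2.1 I2.1 * (bd M.1 N.1)ᵀ = _
    rw [h3, bd_mul, bd_mul, h1, h1]
  exact h2

/-- `D ≤ E` -/
theorem OD_le_E : OD z ≤ E := by
  intro g hg
  obtain ⟨M, N, rfl⟩ := mem_OD.1 hg
  exact ⟨_, rS_b M N, rfl⟩

theorem z_mem_E : z ∈ E := OD_le_E (Q_le_OD z_mem)

theorem y_mem_CR : y ∈ CR := ry

theorem m1_mul_inj {A B : SL4} (h : m1 * A = m1 * B) : A = B := mul_left_cancel h

/-- `C_K(r) = E ∪ y E` -/
theorem CR_cases {g : L} (hg : r g = g) : g ∈ E ∨ y * g ∈ E := by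
  obtain ⟨A, rfl⟩ := pr_surj g
  rw [r, lift_pr', pr_eq_iff] at hg
  rcases hg with h | h
  · exact Or.inl ⟨A, h, rfl⟩
  · right
    refine ⟨eY * A, ?_, by rw [map_mul]; rfl⟩
    have hy : rS eY = m1 * eY := by decide +kernel
    change rS (eY * A) = eY * A
    rw [map_mul, hy, h, mul_assoc, ← mul_assoc eY, ← m1_comm, ← mul_assoc, ← mul_assoc, m1_sq, one_mul]

theorem y_not_mem_E : y ∉ E := by
  rintro ⟨A, hA, h⟩
  change rS A = A at hA
  have hy : rS eY = m1 * eY := by decide +kernel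
  have hm : rS m1 = m1 := by decide +kernel
  rw [y, pr_eq_iff] at h
  rcases h with rfl | rfl
  · rw [hA] at hy
    exact m1_ne (mul_eq_right.1 hy.symm)
  · rw [map_mul, hy, hm] at hA
    exact m1_ne (mul_eq_right.1 hA)

/-- `E` is normal in `C_K(r)` -/
theorem conj_mem_E {c g : L} (hc : r c = c) (hg : g ∈ E) : c * g * c⁻¹ ∈ E := by
  obtain ⟨C, rfl⟩ := pr_surj c
  obtain ⟨A, hA, rfl⟩ := hg
  change rS A = A at hA
  refine ⟨C * A * C⁻¹, ?_, by rw [map_mul, map_mul, map_inv]⟩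
  change rS (C * A * C⁻¹) = C * A * C⁻¹
  rw [r, lift_pr', pr_eq_iff] at hc
  rw [map_mul, map_mul, map_inv, hA]
  rcases hc with h | h
  · rw [h]
  · rw [h]
    have h1 : (m1 * C)⁻¹ = C⁻¹ * m1 := by
      rw [_root_.mul_inv_rev, inv_eq_of_mul_eq_one_left m1_sq]
    rw [h1]
    calc m1 * C * A * (C⁻¹ * m1) = m1 * (C * A * C⁻¹ * m1) := by simp only [mul_assoc]
      _ = m1 * (m1 * (C * A * C⁻¹)) := by rw [← m1_comm (C * A * C⁻¹)]
      _ = C * A * C⁻¹ := by rw [← mul_assoc, m1_sq, one_mul]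

end Cfsg.Agent.OddHalf.D6.QThree.L43Aut
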