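import Cfsg.Agent.OddHalf.D6.QThree.NISide
import Cfsg.Agent.SignalizersComponents.CompBasic
import Cfsg.Agent.SignalizersComponents.PConstrained
import Cfsg.Agent.OddOrderLocal.RankTwoSolvable
import Cfsg.Agent.Transfer.FrobeniusFusion

/-!
# ODD half, D6, `q = 3`: the components of `C_G(z)` (helper135, bb #10784)

`Hyp`: `X` a finite group (`= C_G(z)`), `O(X) = 1`, `z` a central involution, `t ≠ z` an involution with solvable
centralizer, `Q₁ Q₂` a normal subgroup of `C_X(t)`, `Q₁`, `Q₂` commuting quaternion groups of order eight, ...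

`main`: if `X` has a component `M`, then
(a) some component of `X` has `z` as its only involution, or
(b) `X` has a homomorphism to `{±1}` with value `-1` at `t`, or
(c) `M` is normal in `X` and contains `Q₁` or `Q₂`, and `t ∉ M C_X(M)`, or
(d) `M` is normal in `X` and contains `Q₁` or `Q₂`, `t ∈ M`, `C_X(M) = ⟨z⟩`, or
(e) `Q₁` or `Q₂` is normal in `X`.
-/

set_option autoImplicit false

namespace Cfsg.Agent.OddHalf.D6.QThree.NI

open Subgroup Cfsg
open Cfsg.Agent.SignalizersComponents.Components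
open Cfsg.Agent.Cit (cj mem_cj conj_mem_cj cj_mul cj_one)
open Cfsg.Agent.OddHalf.D6.QThree.NISide

variable {X : Type*} [Group X]

theorem isPGroup_zp {y : X} (h : y * y = 1) : IsPGroup 2 (zpowers y) := by
  rintro ⟨x, hx⟩
  obtain ⟨k, rfl⟩ := mem_zpowers_iff.1 hx
  refine ⟨1, Subtype.ext ?_⟩
  show (y ^ k) ^ 2 ^ 1 = 1
  rw [pow_one, pow_two, ← zpow_add, ← two_mul, zpow_mul, zpow_ofNat, pow_two, h, one_zpow]

/-- an involution `t` acting on a 2-group `B` with `C_B(t) = ⟨z⟩ < B` -/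
theorem exists_move [Finite X] {t z : X} (tt : t * t = 1) {B : Subgroup X} (hB : IsPGroup 2 B) (hBt : ∀ b ∈ B, t * b * t⁻¹ ∈ B)
    (hfix : ∀ b ∈ B, b * t = t * b → b = 1 ∨ b = z) (hne : ∃ b ∈ B, b ≠ 1 ∧ b ≠ z) :
    ∃ v ∈ B, t * v * t⁻¹ = v * z := by
  have : Fact (Nat.Prime 2) := ⟨Nat.prime_two⟩
  have ti : t⁻¹ = t := inv_eq_of_mul_eq_one_right tt
  have htN : zpowers t ≤ normalizer (B : Set X) := by
    rw [zpowers_le, mem_normalizer_iff]
    intro b
    refine ⟨fun hb => hBt b hb, fun hb => ?_⟩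
    have h1 := hBt _ hb
    have h2 : t * (t * b * t⁻¹) * t⁻¹ = b := by
      calc t * (t * b * t⁻¹) * t⁻¹ = (t * t) * b * (t * t)⁻¹ := by group
        _ = b := by rw [tt]; group
    rwa [h2] at h1
  have htp : IsPGroup 2 (zpowers t) := isPGroup_zp tt
  set P : Subgroup X := B ⊔ zpowers t with hP
  have hPp : IsPGroup 2 P := IsPGroup.to_sup_of_normal_left' hB htp htN
  have htP : t ∈ P := (le_sup_right : zpowers t ≤ P) (mem_zpowers t)
  have hBP : B ≤ P := le_sup_left
  have hmem : ∀ x ∈ P, x ∈ B ∨ t * x ∈ B := by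
    let P' : Subgroup X :=
      { carrier := {x | x ∈ B ∨ t * x ∈ B}
        one_mem' := Or.inl B.one_mem
        mul_mem' := by
          have key : ∀ b ∈ B, t * b * t ∈ B := fun b hb => by
            have := hBt b hb; rwa [ti] at this
          rintro x y (hx | hx) (hy | hy)
          · exact Or.inl (B.mul_mem hx hy)
          · right
            have h1 := B.mul_mem (key x hx) hy
            have e : t * x * t * (t * y) = t * (x * y) := by
              calc t * x * t * (t * y) = t * x * (t * t) * y := by group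
                _ = t * (x * y) := by rw [tt]; group
            rwa [e] at h1
          · right
            rw [← mul_assoc]; exact B.mul_mem hx hy
          · left
            have h1 := B.mul_mem (key _ hx) hy
            have e : t * (t * x) * t * (t * y) = x * y := by
              calc t * (t * x) * t * (t * y) = (t * t) * x * (t * t) * y := by group
                _ = x * y := by rw [tt]; group
            rwa [e] at h1
        inv_mem' := by
          have key : ∀ b ∈ B, t * b * t ∈ B := fun b hb => by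
            have := hBt b hb; rwa [ti] at this
          rintro x (hx | hx)
          · exact Or.inl (B.inv_mem hx)
          · right
            have h1 := key _ (B.inv_mem hx)
            have e : t * (t * x)⁻¹ * t = t * x⁻¹ := by
              rw [mul_inv_rev, ti, mul_assoc, mul_assoc, tt, mul_one]
            rwa [e] at h1 }
    have h1 : P ≤ P' := by
      rw [hP, sup_le_iff, zpowers_le]
      exact ⟨fun x hx => Or.inl hx, Or.inr (by rw [tt]; exact B.one_mem)⟩
    exact h1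
  set H : Subgroup X := P ⊓ centralizer ({t} : Set X) with hH
  have hHP : H < P := by
    refine lt_of_le_of_ne inf_le_left ?_
    intro e
    obtain ⟨b, hb, hb1, hbz⟩ := hne
    have h1 : b ∈ H := by rw [e]; exact hBP hb
    exact (hfix b hb (mem_centralizer_singleton_iff.1 h1.2)).elim hb1 hbz
  have : Group.IsNilpotent P := hPp.isNilpotent
  obtain ⟨g, hgP, hgH, hgN⟩ := Cfsg.Agent.Transfer.FrobeniusFusion.exists_mem_normalizer_notMem hHP
  have htH : t ∈ H := ⟨htP, mem_centralizer_singleton_iff.2 rfl⟩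
  -- an element of `B`
  obtain ⟨b, hbB, hbH, hbN⟩ : ∃ b ∈ B, b ∉ H ∧ b * t * b⁻¹ ∈ H := by
    have h0 : g * t * g⁻¹ ∈ H := (mem_normalizer_iff.1 hgN t).1 htH
    rcases hmem g hgP with hg | hg
    · exact ⟨g, hg, hgH, h0⟩
    · refine ⟨t * g, hg, fun h => hgH ?_, ?_⟩
      · have h1 := H.mul_mem htH h
        rwa [← mul_assoc, tt, one_mul] at h1
      · have h1 := H.mul_mem (H.mul_mem htH h0) (H.inv_mem htH)
        have e : t * (g * t * g⁻¹) * t⁻¹ = t * g * t * (t * g)⁻¹ := by group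
        rwa [e] at h1
  have hct : (b * t * b⁻¹) * t = t * (b * t * b⁻¹) := mem_centralizer_singleton_iff.1 hbN.2
  have hw : b * (t * b⁻¹ * t⁻¹) ∈ B := B.mul_mem hbB (hBt _ (B.inv_mem hbB))
  have hwt : b * (t * b⁻¹ * t⁻¹) * t = t * (b * (t * b⁻¹ * t⁻¹)) := by
    have e : b * (t * b⁻¹ * t⁻¹) = (b * t * b⁻¹) * t⁻¹ := by group
    have c : Commute (b * t * b⁻¹) t := hct
    rw [e]
    exact (c.mul_left (Commute.refl t).inv_left).eq
  rcases hfix _ hw hwt with h1 | h1
  · exfalso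
    apply hbH
    refine ⟨hBP hbB, mem_centralizer_singleton_iff.2 ?_⟩
    have h2 : b * t = t * b := by
      have e : b * t = b * (t * b⁻¹ * t⁻¹) * (t * b) := by group
      rw [e, h1, one_mul]
    exact h2
  · refine ⟨b⁻¹, B.inv_mem hbB, ?_⟩
    have e : t * b⁻¹ * t⁻¹ = b⁻¹ * (b * (t * b⁻¹ * t⁻¹)) := by group
    rw [e, h1]

/-- a homomorphism to `{±1}` from a stable coset `{c, cz}` -/
theorem exists_lam {t z c : X} (zc : ∀ x : X, x * z = z * x) (zz : z * z = 1) (z1 : z ≠ 1)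
    (hc : ∀ g : X, g * c * g⁻¹ = c ∨ g * c * g⁻¹ = c * z) (htc : t * c * t⁻¹ = c * z) :
    ∃ lam : X →* ℤˣ, lam t = -1 := by
  classical
  have hne : c * z ≠ c := fun h => z1 (mul_eq_left.1 h)
  have e2 : ∀ g : X, g * (c * z) * g⁻¹ = g * c * g⁻¹ * z := by
    intro g
    calc g * (c * z) * g⁻¹ = g * c * (z * g⁻¹) := by group
      _ = g * c * (g⁻¹ * z) := by rw [zc g⁻¹]
      _ = g * c * g⁻¹ * z := by group
  refine ⟨{ toFun := fun g => if g * c * g⁻¹ = c then 1 else -1, map_one' := ?_, map_mul' := ?_ }, ?_⟩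
  · simp
  · intro g h
    have e : g * h * c * (g * h)⁻¹ = g * (h * c * h⁻¹) * g⁻¹ := by group
    show (if g * h * c * (g * h)⁻¹ = c then (1 : ℤˣ) else -1) =
        (if g * c * g⁻¹ = c then (1 : ℤˣ) else -1) * (if h * c * h⁻¹ = c then (1 : ℤˣ) else -1)
    rw [e]
    rcases hc h with h1 | h1 <;> rcases hc g with h2 | h2
    · rw [h1, h2]; simp
    · rw [h1, h2]; simp [hne]
    · rw [h1, e2, h2]; simp [hne]
    · rw [h1, e2, h2, mul_assoc, zz]; simp [hne]
  · show (if t * c * t⁻¹ = c then (1 : ℤˣ) else -1) = -1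
    rw [htc, if_neg hne]

/-- `A` an abelian normal subgroup with `C_A(t) ⊆ {1, z}`, `c ∈ A`, `c^t = c z` -/
theorem exists_lam_of_abelian {t z c : X} (tt : t * t = 1) (zc : ∀ x : X, x * z = z * x) (zz : z * z = 1)
    (z1 : z ≠ 1) {A : Subgroup X} (hA : A.Normal) (hab : ∀ a ∈ A, ∀ b ∈ A, a * b = b * a) (hzA : z ∈ A)
    (hfix : ∀ a ∈ A, a * t = t * a → a = 1 ∨ a = z) (hcA : c ∈ A) (htc : t * c * t⁻¹ = c * z) :
    ∃ lam : X →* ℤˣ, lam t = -1 := by
  have ti : t⁻¹ = t := inv_eq_of_mul_eq_one_right tt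
  have hmove : ∀ w ∈ A, w * (t * w * t⁻¹) = 1 ∨ w * (t * w * t⁻¹) = z := by
    intro w hw
    have h1 : t * w * t⁻¹ ∈ A := hA.conj_mem w hw t
    refine hfix _ (A.mul_mem hw h1) ?_
    have h2 : t * (w * (t * w * t⁻¹)) * t⁻¹ = w * (t * w * t⁻¹) := by
      calc t * (w * (t * w * t⁻¹)) * t⁻¹ = (t * w * t⁻¹) * ((t * t) * w * (t * t)⁻¹) := by group
        _ = (t * w * t⁻¹) * w := by rw [tt]; group
        _ = w * (t * w * t⁻¹) := (hab w hw _ h1).symm
    rw [mul_inv_eq_iff_eq_mul] at h2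
    exact h2.symm
  have hcne : ¬ (c = 1 ∨ c = z) := by
    rintro (rfl | rfl)
    · rw [mul_one, mul_inv_cancel, one_mul] at htc
      exact z1 htc.symm
    · rw [zc t |>.trans rfl, mul_inv_cancel_right, zz] at htc
      exact z1 htc
  -- `c² ∈ ⟨z⟩`
  have hc2 : c * c = 1 ∨ c * c = z := by
    rcases hmove c hcA with h1 | h1
    · right
      rw [htc, ← mul_assoc] at h1
      rw [mul_eq_one_iff_eq_inv, inv_eq_of_mul_eq_one_right zz] at h1
      exact h1
    · left
      rw [htc, ← mul_assoc] at h1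
      exact mul_eq_right.1 h1
  refine exists_lam zc zz z1 (fun g => ?_) htc
  set w := g * c * g⁻¹ with hw
  have hwA : w ∈ A := hA.conj_mem c hcA g
  have hwne : ¬ (w = 1 ∨ w = z) := by
    intro h
    apply hcne
    rcases h with h | h
    · exact Or.inl (conj_eq_one_iff.1 h)
    · right
      have e : c = g⁻¹ * w * g := by rw [hw]; group
      rw [e, h, zc g⁻¹, inv_mul_cancel_right]
  have hww : w * w = c * c := by
    have e : w * w = g * (c * c) * g⁻¹ := by rw [hw]; group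
    rw [e]
    rcases hc2 with h | h
    · rw [h, mul_one, mul_inv_cancel]
    · rw [h, zc g, mul_inv_cancel_right]
  have hcw : c * w = w * c := hab c hcA w hwA
  -- enough: `w c⁻¹ ∈ ⟨z⟩`
  suffices hs : w * c⁻¹ = 1 ∨ w * c⁻¹ = z by
    rcases hs with h | h
    · left; rwa [mul_inv_eq_one] at h
    · right; rw [mul_inv_eq_iff_eq_mul] at h; rw [h, zc c]
  have hinv : (w * c⁻¹) * (w * c⁻¹) = 1 := by
    have cc : Commute w c := hcw.symm
    calc w * c⁻¹ * (w * c⁻¹) = w * (c⁻¹ * w) * c⁻¹ := by group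
      _ = w * (w * c⁻¹) * c⁻¹ := by rw [cc.inv_right.eq]
      _ = (w * w) * (c * c)⁻¹ := by group
      _ = 1 := by rw [hww, mul_inv_cancel]
  rcases hc2 with hc2 | hc2
  · -- involutions of `A` outside `⟨z⟩` are moved by `t`
    have hmv : t * w * t⁻¹ = w * z := by
      rcases hmove w hwA with h | h
      · exfalso
        apply hwne
        apply hfix w hwA
        have h1 : t * w * t⁻¹ = w := by
          rw [mul_eq_one_iff_inv_eq] at h
          rw [← h, inv_eq_iff_mul_eq_one, hww, hc2]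
        rw [mul_inv_eq_iff_eq_mul] at h1
        exact h1.symm
      · have h1 : t * w * t⁻¹ = w⁻¹ * z := by rw [← h]; group
        rw [h1, inv_eq_of_mul_eq_one_right (hww.trans hc2)]
    apply hfix _ (A.mul_mem hwA (A.inv_mem hcA))
    have h1 : t * (w * c⁻¹) * t⁻¹ = w * c⁻¹ := by
      calc t * (w * c⁻¹) * t⁻¹ = (t * w * t⁻¹) * (t * c * t⁻¹)⁻¹ := by group
        _ = w * z * (c * z)⁻¹ := by rw [hmv, htc]
        _ = w * c⁻¹ := by group
    rw [mul_inv_eq_iff_eq_mul] at h1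
    exact h1.symm
  · -- no involutions of `A` outside `⟨z⟩`
    by_contra hcon
    set u := w * c⁻¹ with hu
    have huA : u ∈ A := A.mul_mem hwA (A.inv_mem hcA)
    -- `u^t = u z`
    have hmv : t * u * t⁻¹ = u * z := by
      rcases hmove u huA with h | h
      · exfalso
        apply hcon
        apply hfix u huA
        have h1 : t * u * t⁻¹ = u := by
          rw [mul_eq_one_iff_inv_eq] at h
          rw [← h, inv_eq_iff_mul_eq_one, hinv]
        rw [mul_inv_eq_iff_eq_mul] at h1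
        exact h1.symm
      · have h1 : t * u * t⁻¹ = u⁻¹ * z := by rw [← h]; group
        rw [h1, inv_eq_of_mul_eq_one_right hinv]
    -- `u c` is fixed by `t`
    have h1 : t * (u * c) * t⁻¹ = u * c := by
      calc t * (u * c) * t⁻¹ = (t * u * t⁻¹) * (t * c * t⁻¹) := by group
        _ = u * z * (c * z) := by rw [hmv, htc]
        _ = u * (z * c) * z := by group
        _ = u * (c * z) * z := by rw [zc c]
        _ = u * c * (z * z) := by group
        _ = u * c := by rw [zz, mul_one]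
    have h2 : u * c = w := by rw [hu, inv_mul_cancel_right]
    rw [h2, mul_inv_eq_iff_eq_mul] at h1
    exact hwne (hfix w hwA h1.symm)

/-- the hypotheses on `X = C_G(z)` -/
structure Hyp (z t a₁ a₂ : X) (Q₁ Q₂ : Subgroup X) : Prop where
  zc : ∀ x : X, x * z = z * x
  zz : z * z = 1
  z1 : z ≠ 1
  tt : t * t = 1
  t1 : t ≠ 1
  tz : t ≠ z
  O : pPrimeCore 2 X = ⊥
  sol : Group.IsSolvable (centralizer ({t} : Set X))
  s₁ : Side z t a₁ Q₁ Q₂
  s₂ : Side z t a₂ Q₂ Q₁
  comm : ∀ x ∈ Q₁, ∀ y ∈ Q₂, x * y = y * x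
  /-- `Q₁ Q₂` is normal in `C_X(t)` -/
  nor : ∀ g, g * t = t * g → ∀ x ∈ Q₁, ∀ y ∈ Q₂, ∃ x' ∈ Q₁, ∃ y' ∈ Q₂, g * (x * y) * g⁻¹ = x' * y'
  /-- the centralizer of `Q₁ Q₂` in `C_X(t)` -/
  cR : ∀ g, g * t = t * g → (∀ x ∈ Q₁, g * x = x * g) → (∀ y ∈ Q₂, g * y = y * g) →
    g = 1 ∨ g = z ∨ g = t ∨ g = t * z
  /-- normal 2-subgroups of `C_X(t)` lie in `⟨t⟩ Q₁ Q₂` -/
  rad : ∀ N : Subgroup X, (∀ n ∈ N, n * t = t * n) → IsPGroup 2 N →
    (∀ g, g * t = t * g → ∀ n ∈ N, g * n * g⁻¹ ∈ N) →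
    ∀ n ∈ N, ∃ x ∈ Q₁, ∃ y ∈ Q₂, n = x * y ∨ n = t * (x * y)

namespace Hyp

variable {z t a₁ a₂ : X} {Q₁ Q₂ : Subgroup X}

theorem swap (h : Hyp z t a₁ a₂ Q₁ Q₂) : Hyp z t a₂ a₁ Q₂ Q₁ where
  zc := h.zc
  zz := h.zz
  z1 := h.z1
  tt := h.tt
  t1 := h.t1
  tz := h.tz
  O := h.O
  sol := h.sol
  s₁ := h.s₂
  s₂ := h.s₁
  comm := fun x hx y hy => (h.comm y hy x hx).symm
  nor := by
    intro g hg x hx y hy
    obtain ⟨x', hx', y', hy', e⟩ := h.nor g hg y hy x hx
    refine ⟨y', hy', x', hx', ?_⟩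
    rw [← h.comm y hy x hx, e, h.comm x' hx' y' hy']
  cR := fun g hg h1 h2 => h.cR g hg h2 h1
  rad := by
    intro N h1 h2 h3 n hn
    obtain ⟨x, hx, y, hy, e⟩ := h.rad N h1 h2 h3 n hn
    refine ⟨y, hy, x, hx, ?_⟩
    rwa [← h.comm x hx y hy]

theorem tinv (h : Hyp z t a₁ a₂ Q₁ Q₂) : t⁻¹ = t := inv_eq_of_mul_eq_one_right h.tt

theorem zinv (h : Hyp z t a₁ a₂ Q₁ Q₂) : z⁻¹ = z := inv_eq_of_mul_eq_one_right h.zz

/-- the four elements of `⟨t, z⟩` -/
def Four (z t x : X) : Prop := x = 1 ∨ x = z ∨ x = t ∨ x = t * z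

/-- a component is not centralised by `t` -/
theorem not_le [Finite X] (h : Hyp z t a₁ a₂ Q₁ Q₂) {M : Subgroup X} (hM : IsQuasisimple M)
    (hMt : ∀ x ∈ M, x * t = t * x) : False := by
  apply quasisimple_not_isSolvable hM
  have h1 : M ≤ centralizer ({t} : Set X) := fun x hx => mem_centralizer_singleton_iff.2 (hMt x hx)
  have := h.sol
  exact Group.isSolvable_of_isSolvable_injective (f := inclusion h1) (inclusion_injective h1)

/-- `t` normalises every component -/
theorem cj_t [Finite X] (h : Hyp z t a₁ a₂ Q₁ Q₂) {M : Subgroup X} (hM : IsComponent M) : cj t M = M := by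
  by_contra hne
  obtain ⟨D, hD1, -, -, hD3, -⟩ := Cfsg.Agent.Cit.Comp.exists_diag hM h.tt hne
  exact h.not_le hD3 fun x hx => mem_centralizer_singleton_iff.1 (hD1 hx)

/-- **Claim A** -/
theorem claim (h : Hyp z t a₁ a₂ Q₁ Q₂) {M : Subgroup X} (hM : IsComponent M) {s x y : X} (hs : s ∈ M)
    (hx : x ∈ Q₁) (hy : y ∈ Q₂) (hsx : s = x * y ∨ s = t * (x * y)) (hx1 : x ≠ 1) (hxz : x ≠ z) :
    Q₁ ≤ M := by
  set x' := a₁ * x * a₁⁻¹ with hx'
  have hx'Q : x' ∈ Q₁ := h.s₁.aQ x hx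
  have hxx' : x * x' ≠ x' * x := h.s₁.act x hx hx1 hxz
  have cxy : Commute x y := h.comm x hx y hy
  have cx'y : Commute x' y := h.comm x' hx'Q y hy
  have cxt : Commute x t := h.s₁.ct x hx
  have cx't : Commute x' t := h.s₁.ct x' hx'Q
  have cyt : Commute y t := h.s₂.ct y hy
  have cay : Commute a₁ y := h.s₁.aD y hy
  have cat : Commute a₁ t := h.s₁.a_t
  have e1 : a₁ * (x * y) * a₁⁻¹ = x' * y := by
    calc a₁ * (x * y) * a₁⁻¹ = a₁ * x * (y * a₁⁻¹) := by group
      _ = a₁ * x * (a₁⁻¹ * y) := by rw [cay.symm.inv_right.eq]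
      _ = x' * y := by rw [hx']; group
  have e2 : a₁ * (t * (x * y)) * a₁⁻¹ = t * (x' * y) := by
    calc a₁ * (t * (x * y)) * a₁⁻¹ = (a₁ * t) * (x * y) * a₁⁻¹ := by group
      _ = (t * a₁) * (x * y) * a₁⁻¹ := by rw [cat.eq]
      _ = t * (a₁ * (x * y) * a₁⁻¹) := by group
      _ = t * (x' * y) := by rw [e1]
  have hne : s * (a₁ * s * a₁⁻¹) ≠ (a₁ * s * a₁⁻¹) * s := by
    intro e
    apply hxx'
    rcases hsx with rfl | rfl
    · rw [e1] at e
      have h1 : x * y * (x' * y) = x * x' * (y * y) := by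
        calc x * y * (x' * y) = x * (y * x') * y := by group
          _ = x * (x' * y) * y := by rw [cx'y.eq]
          _ = x * x' * (y * y) := by group
      have h2 : x' * y * (x * y) = x' * x * (y * y) := by
        calc x' * y * (x * y) = x' * (y * x) * y := by group
          _ = x' * (x * y) * y := by rw [cxy.eq]
          _ = x' * x * (y * y) := by group
      rw [h1, h2] at e
      exact mul_right_cancel e
    · rw [e2] at e
      have ct1 : Commute (x * y) t := cxt.mul_left cyt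
      have ct2 : Commute (x' * y) t := cx't.mul_left cyt
      have h1 : t * (x * y) * (t * (x' * y)) = x * x' * (y * y) := by
        calc t * (x * y) * (t * (x' * y)) = t * ((x * y) * t) * (x' * y) := by group
          _ = t * (t * (x * y)) * (x' * y) := by rw [ct1.eq]
          _ = (t * t) * x * (y * x') * y := by group
          _ = x * (x' * y) * y := by rw [h.tt, one_mul, cx'y.eq]
          _ = x * x' * (y * y) := by group
      have h2 : t * (x' * y) * (t * (x * y)) = x' * x * (y * y) := by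
        calc t * (x' * y) * (t * (x * y)) = t * ((x' * y) * t) * (x * y) := by group
          _ = t * (t * (x' * y)) * (x * y) := by rw [ct2.eq]
          _ = (t * t) * x' * (y * x) * y := by group
          _ = x' * (x * y) * y := by rw [h.tt, one_mul, cxy.eq]
          _ = x' * x * (y * y) := by group
      rw [h1, h2] at e
      exact mul_right_cancel e
  have hcj : cj a₁ M = M := by
    by_contra hcj
    exact hne (Cfsg.Agent.Cit.Comp.comm_of_ne hM (Cfsg.Agent.Cit.Comp.isComponent_cj hM a₁) (fun e => hcj e.symm)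
      hs (conj_mem_cj hs))
  have hs' : a₁ * s * a₁⁻¹ ∈ M := by
    have := conj_mem_cj (g := a₁) hs
    rwa [hcj] at this
  have hp : s⁻¹ * (a₁ * s * a₁⁻¹) = x⁻¹ * x' := by
    rcases hsx with rfl | rfl
    · rw [e1]
      calc (x * y)⁻¹ * (x' * y) = y⁻¹ * (x⁻¹ * x') * y := by group
        _ = y⁻¹ * (y * (x⁻¹ * x')) := by
            rw [mul_assoc, ((cxy.inv_left).mul_left cx'y).eq]
        _ = x⁻¹ * x' := by rw [inv_mul_cancel_left]
    · rw [e2]
      calc (t * (x * y))⁻¹ * (t * (x' * y)) = y⁻¹ * (x⁻¹ * x') * y := by group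
        _ = y⁻¹ * (y * (x⁻¹ * x')) := by
            rw [mul_assoc, ((cxy.inv_left).mul_left cx'y).eq]
        _ = x⁻¹ * x' := by rw [inv_mul_cancel_left]
  have hpM : x⁻¹ * x' ∈ M := by rw [← hp]; exact M.mul_mem (M.inv_mem hs) hs'
  have hpM' : a₁ * (x⁻¹ * x') * a₁⁻¹ ∈ M := by
    have := conj_mem_cj (g := a₁) hpM
    rwa [hcj] at this
  refine h.s₁.gen h.zc h.zz h.z1 (Q₁.mul_mem (Q₁.inv_mem hx) hx'Q) ?_ ?_ hpM hpM'
  · intro e
    apply hxx'
    rw [inv_mul_eq_one] at e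
    rw [← e]
  · intro e
    apply hxx'
    rw [inv_mul_eq_iff_eq_mul] at e
    rw [e, mul_assoc, h.zc x]

/-- elements of `⟨t⟩ Q₁ Q₂` in a component containing neither `Q₁` nor `Q₂` -/
theorem four_of (h : Hyp z t a₁ a₂ Q₁ Q₂) {M : Subgroup X} (hM : IsComponent M) (h1 : ¬ Q₁ ≤ M)
    (h2 : ¬ Q₂ ≤ M) {s x y : X} (hs : s ∈ M) (hx : x ∈ Q₁) (hy : y ∈ Q₂)
    (hsx : s = x * y ∨ s = t * (x * y)) : Four z t s := by
  have hx' : x = 1 ∨ x = z := by
    by_contra hne
    push Not at hne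
    exact h1 (h.claim hM hs hx hy hsx hne.1 hne.2)
  have hy' : y = 1 ∨ y = z := by
    by_contra hne
    push Not at hne
    refine h2 (h.swap.claim hM hs hy hx ?_ hne.1 hne.2)
    rwa [h.comm x hx y hy] at hsx
  unfold Four
  rcases hsx with rfl | rfl <;> rcases hx' with rfl | rfl <;> rcases hy' with rfl | rfl
  · left; rw [one_mul]
  · right; left; rw [one_mul]
  · right; left; rw [mul_one]
  · left; exact h.zz
  · right; right; left; rw [one_mul, mul_one]
  · right; right; right; rw [one_mul]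
  · right; right; right; rw [mul_one]
  · right; right; left; rw [h.zz, mul_one]

theorem R_pow (h : Hyp z t a₁ a₂ Q₁ Q₂) {x y : X} (hx : x ∈ Q₁) (hy : y ∈ Q₂) : (x * y) ^ 4 = 1 := by
  have key : ∀ u : X, (u = 1 ∨ u = z) ∨ u * u = z → u ^ 4 = 1 := by
    rintro u ((rfl | rfl) | e)
    · rw [one_pow]
    · rw [show (4 : ℕ) = 2 * 2 from rfl, pow_mul, pow_two u, h.zz, one_pow]
    · rw [show (4 : ℕ) = 2 * 2 from rfl, pow_mul, pow_two u, e, pow_two, h.zz]
  have hx4 : x ^ 4 = 1 := key x (by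
    by_cases hh : x = 1 ∨ x = z
    · exact Or.inl hh
    · push Not at hh; exact Or.inr (h.s₁.sq x hx hh.1 hh.2))
  have hy4 : y ^ 4 = 1 := key y (by
    by_cases hh : y = 1 ∨ y = z
    · exact Or.inl hh
    · push Not at hh; exact Or.inr (h.s₂.sq y hy hh.1 hh.2))
  have cxy : Commute x y := h.comm x hx y hy
  rw [cxy.mul_pow, hx4, hy4, one_mul]

/-- `O(C_X(t)) = 1` -/
theorem core_centralizer [Finite X] (h : Hyp z t a₁ a₂ Q₁ Q₂) :
    pPrimeCore 2 ↥(centralizer ({t} : Set X)) = ⊥ := by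
  set C := centralizer ({t} : Set X) with hC
  rw [eq_bot_iff]
  intro n hn
  have hcop := Cfsg.Agent.Lib.Cores.pPrimeCore_coprime (G := C) 2
  have hodd : ∀ m ∈ pPrimeCore 2 C, m ^ 4 = 1 → m = 1 := by
    intro m hm hm4
    have h1 : orderOf m ∣ 4 := orderOf_dvd_of_pow_eq_one hm4
    have h2 : orderOf m ∣ Nat.card (pPrimeCore 2 C) := by
      rw [← Subgroup.orderOf_mk m hm]
      exact orderOf_dvd_natCard _
    have h3 : Nat.Coprime 4 (Nat.card (pPrimeCore 2 C)) := by
      rw [show (4 : ℕ) = 2 ^ 2 from rfl]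
      exact (hcop.symm).pow_left 2
    have h4 := Nat.eq_one_of_dvd_coprimes h3 h1 h2
    rwa [orderOf_eq_one_iff] at h4
  have hnt : ∀ m : C, (m : X) * t = t * m := fun m => mem_centralizer_singleton_iff.1 m.2
  have hN := Cfsg.Agent.Lib.Cores.pPrimeCore_normal (G := C) 2
  have key : ∀ x ∈ Q₁, ∀ y ∈ Q₂, (n : X) * (x * y) = (x * y) * n := by
    intro x hx y hy
    obtain ⟨x', hx', y', hy', e⟩ := h.nor n (hnt n) x hx y hy
    have hrC : x * y ∈ C := mem_centralizer_singleton_iff.2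
      (show Commute (x * y) t from (show Commute x t from h.s₁.ct x hx).mul_left (h.s₂.ct y hy))
    set r : C := ⟨x * y, hrC⟩ with hr
    have h1 : n * r * n⁻¹ * r⁻¹ ∈ pPrimeCore 2 C := by
      have h2 : r * n⁻¹ * r⁻¹ ∈ pPrimeCore 2 C := hN.conj_mem _ (inv_mem hn) r
      have h3 := mul_mem hn h2
      have e3 : n * r * n⁻¹ * r⁻¹ = n * (r * n⁻¹ * r⁻¹) := by group
      rw [e3]; exact h3
    have h2 : n * r * n⁻¹ * r⁻¹ = 1 := by
      apply hodd _ h1
      apply Subtype.ext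
      show ((n : X) * (x * y) * (n : X)⁻¹ * (x * y)⁻¹) ^ 4 = 1
      rw [e]
      have e4 : x' * y' * (x * y)⁻¹ = (x' * x⁻¹) * (y' * y⁻¹) := by
        have c1 : Commute x⁻¹ y⁻¹ := (show Commute x y from h.comm x hx y hy).inv_inv
        have c2 : Commute x⁻¹ y' := (show Commute x y' from h.comm x hx y' hy').inv_left
        calc x' * y' * (x * y)⁻¹ = x' * y' * (y⁻¹ * x⁻¹) := by rw [mul_inv_rev]
          _ = x' * y' * (x⁻¹ * y⁻¹) := by rw [c1.eq]
          _ = x' * (y' * x⁻¹) * y⁻¹ := by group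
          _ = x' * (x⁻¹ * y') * y⁻¹ := by rw [c2.eq]
          _ = (x' * x⁻¹) * (y' * y⁻¹) := by group
      rw [e4]
      exact h.R_pow (Q₁.mul_mem hx' (Q₁.inv_mem hx)) (Q₂.mul_mem hy' (Q₂.inv_mem hy))
    have h3 : (n : X) * (x * y) * (n : X)⁻¹ * (x * y)⁻¹ = 1 := congrArg Subtype.val h2
    rwa [mul_inv_eq_one, mul_inv_eq_iff_eq_mul] at h3
  rw [mem_bot]
  apply hodd n hn
  apply Subtype.ext
  show (n : X) ^ 4 = 1
  have hsq : ∀ u : X, Four z t u → u ^ 4 = 1 := by
    have hct : Commute t z := h.zc t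
    rintro u (rfl | rfl | rfl | rfl)
    · rw [one_pow]
    · rw [show (4 : ℕ) = 2 * 2 from rfl, pow_mul, pow_two u, h.zz, one_pow]
    · rw [show (4 : ℕ) = 2 * 2 from rfl, pow_mul, pow_two u, h.tt, one_pow]
    · rw [hct.mul_pow, show (4 : ℕ) = 2 * 2 from rfl, pow_mul, pow_mul, pow_two t, pow_two z, h.tt, h.zz,
        one_pow, one_mul]
  apply hsq
  refine h.cR n (hnt n) (fun x hx => ?_) (fun y hy => ?_)
  · have := key x hx 1 Q₂.one_mem
    rwa [mul_one] at this
  · have := key 1 Q₁.one_mem y hy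
    rwa [one_mul] at this

/-- a component with a large centralizer of `t` contains `Q₁` or `Q₂` -/
theorem dich [Finite X] (h : Hyp z t a₁ a₂ Q₁ Q₂) {M : Subgroup X} (hM : IsComponent M) (h1 : ¬ Q₁ ≤ M)
    (h2 : ¬ Q₂ ≤ M) {m : X} (hm : m ∈ M) (hmt : m * t = t * m) : Four z t m := by
  have : Fact (Nat.Prime 2) := ⟨Nat.prime_two⟩
  have hsol := h.sol
  set C := centralizer ({t} : Set X) with hC
  set S : Subgroup C := M.subgroupOf C with hS
  have hSn : S.IsSubnormal := hM.1.subgroupOf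
  have hct : ∀ m : C, (m : X) * t = t * m := fun m => mem_centralizer_singleton_iff.1 m.2
  -- the core of `S`
  have hcore : ∀ s : S, s ∈ pCore 2 S → Four z t ((s : C) : X) := by
    intro s hs
    have e := Cfsg.Agent.SignalizersComponents.CompBasic.map_subtype_pCore_of_subnormal 2 hSn
    have h3 : (s : C) ∈ S ⊓ pCore 2 C := by rw [← e]; exact ⟨s, hs, rfl⟩
    have hN := Cfsg.Agent.Lib.Cores.pCore_normal (G := C) 2
    obtain ⟨x, hx, y, hy, hxy⟩ := h.rad ((pCore 2 C).map C.subtype) (by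
        rintro _ ⟨n, -, rfl⟩; exact hct n) ((Cfsg.Agent.Lib.Cores.pCore_isPGroup 2).map _) (by
        rintro g hg _ ⟨n, hn, rfl⟩
        exact ⟨⟨g, mem_centralizer_singleton_iff.2 hg⟩ * n * ⟨g, mem_centralizer_singleton_iff.2 hg⟩⁻¹,
          hN.conj_mem n hn _, rfl⟩) ((s : C) : X) ⟨s, h3.2, rfl⟩
    exact h.four_of hM h1 h2 (mem_subgroupOf.1 s.2) hx hy hxy
  have hOS : pPrimeCore 2 S = ⊥ := by
    have e := Cfsg.Agent.SignalizersComponents.CompBasic.map_subtype_pPrimeCore_of_subnormal 2 hSn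
    rw [h.core_centralizer, inf_bot_eq] at e
    exact (map_eq_bot_iff_of_injective _ S.subtype_injective).1 e
  have hSsol : Group.IsSolvable S := inferInstance
  have hcen : centralizer (pCore 2 S : Set S) ≤ pCore 2 S :=
    Cfsg.Agent.OddOrderLocal.RankTwoSolvable.centralizer_pCore_le hOS
  have hmC : m ∈ C := mem_centralizer_singleton_iff.2 hmt
  set s : S := ⟨⟨m, hmC⟩, mem_subgroupOf.2 hm⟩ with hs
  apply hcore s
  apply hcen
  rw [mem_centralizer_iff]
  intro u hu
  have hu4 := hcore u hu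
  apply Subtype.ext
  apply Subtype.ext
  show ((u : C) : X) * m = m * u
  have c1 : Commute m t := hmt
  have c2 : Commute m z := h.zc m
  rcases hu4 with e | e | e | e <;> rw [e]
  · rw [one_mul, mul_one]
  · exact c2.symm.eq
  · exact c1.symm.eq
  · exact (c1.mul_right c2).symm.eq

/-- if `M` contains `Q₁` and centralises `Q₂`, then `z` is the only involution of `M`, or some `v ∈ M` centralises
`Q₁` and satisfies `v^t = v z` -/
theorem exists_v [Finite X] (h : Hyp z t a₁ a₂ Q₁ Q₂) {M : Subgroup X} (hM : IsComponent M) (hQ : Q₁ ≤ M)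
    (hcM : ∀ m ∈ M, ∀ y ∈ Q₂, m * y = y * m) (htM : t ∉ M) :
    (∀ x ∈ M, x * x = 1 → x = 1 ∨ x = z) ∨
      ∃ v ∈ M, (∀ q ∈ Q₁, v * q = q * v) ∧ t * v * t⁻¹ = v * z := by
  have : Fact (Nat.Prime 2) := ⟨Nat.prime_two⟩
  have hct : Commute t z := h.zc t
  have htN : zpowers t ≤ normalizer (Q₁ : Set X) := by
    rw [zpowers_le, mem_normalizer_iff]
    intro b
    constructor
    · intro hb
      rw [← h.s₁.ct b hb, mul_inv_cancel_right]; exact hb
    · intro hb
      have h1 := h.s₁.ct _ hb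
      have h2 : b = t⁻¹ * (t * b * t⁻¹) * t := by group
      rw [h2, mul_assoc, h1, inv_mul_cancel_left]; exact hb
  obtain ⟨T, hT⟩ := (IsPGroup.to_sup_of_normal_left' h.s₁.pQ (isPGroup_zp h.tt) htN).exists_le_sylow
  have htT : t ∈ (T : Subgroup X) := hT ((le_sup_right : zpowers t ≤ _) (mem_zpowers t))
  have hQT : Q₁ ≤ (T : Subgroup X) := le_sup_left.trans hT
  obtain ⟨Q, hQe⟩ := Cfsg.Agent.S0542.result 2 M hM.1 T
  set W : Subgroup X := (T : Subgroup X) ⊓ M with hW
  have hWp : IsPGroup 2 W := T.2.to_le inf_le_left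
  have htm : ∀ x ∈ M, t * x * t⁻¹ ∈ M := fun x hx => by
    have := conj_mem_cj (g := t) hx
    rwa [h.cj_t hM] at this
  by_cases hB : ∃ b ∈ W ⊓ centralizer (Q₁ : Set X), b ≠ 1 ∧ b ≠ z
  · right
    have hBt : ∀ b ∈ W ⊓ centralizer (Q₁ : Set X), t * b * t⁻¹ ∈ W ⊓ centralizer (Q₁ : Set X) := by
      intro b hb
      refine ⟨⟨T.mul_mem (T.mul_mem htT hb.1.1) (T.inv_mem htT), htm b hb.1.2⟩, mem_centralizer_iff.2 ?_⟩
      intro q hq
      have c1 : Commute q t := h.s₁.ct q hq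
      have c2 : Commute q b := mem_centralizer_iff.1 hb.2 q hq
      exact ((c1.mul_right c2).mul_right c1.inv_right).eq
    have hfix : ∀ b ∈ W ⊓ centralizer (Q₁ : Set X), b * t = t * b → b = 1 ∨ b = z := by
      intro b hb hbt
      rcases h.cR b hbt (fun x hx => (mem_centralizer_iff.1 hb.2 x hx).symm)
        (fun y hy => hcM b hb.1.2 y hy) with e | e | e | e
      · exact Or.inl e
      · exact Or.inr e
      · exact absurd (e ▸ hb.1.2) htM
      · exfalso
        apply htM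
        have : t = b * z := by rw [e, mul_assoc, h.zz, mul_one]
        rw [this]; exact M.mul_mem hb.1.2 (hQ h.s₁.zQ)
    obtain ⟨v, hv, hvt⟩ := exists_move h.tt (hWp.to_le inf_le_left) hBt hfix hB
    exact ⟨v, hv.1.2, fun q hq => (mem_centralizer_iff.1 hv.2 q hq).symm, hvt⟩
  · left
    push Not at hB
    obtain ⟨C, hCW, hCi, hCu⟩ := exists_index_two h.s₁ h.zc h.zz h.z1 hWp (le_inf hQT hQ) (fun w hw hwq => by
      by_cases hw1 : w = 1
      · exact Or.inl hw1
      · exact Or.inr (hB w ⟨hw, mem_centralizer_iff.2 fun q hq => (hwq q hq).symm⟩ hw1))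
    intro u hu huu
    have hQW : (Q : Subgroup M) = W.subgroupOf M := by rw [hQe, hW, inf_subgroupOf_right]
    obtain ⟨g, hg⟩ := CaseM.exists_conj_of_perfect hM.2.1 Q (C.subgroupOf M)
      (by rw [hQW]; exact comap_mono hCW)
      (by rw [hQW, relIndex_subgroupOf inf_le_right, hCi]) ⟨u, hu⟩ (Subtype.ext huu)
    have hg' : (g : X) * u * (g : X)⁻¹ ∈ C := hg
    rcases hCu _ hg' (by
        calc (g : X) * u * (g : X)⁻¹ * ((g : X) * u * (g : X)⁻¹) = g * (u * u) * (g : X)⁻¹ := by group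
          _ = 1 := by rw [huu, mul_one, mul_inv_cancel]) with e | e
    · exact Or.inl (conj_eq_one_iff.1 e)
    · right
      have : u = (g : X)⁻¹ * (g * u * (g : X)⁻¹) * g := by group
      rw [this, e, h.zc (g : X)⁻¹, inv_mul_cancel_right]

/-- the conclusions (a), (b) -/
def CA (z : X) : Prop := ∃ M : Subgroup X, IsComponent M ∧ z ∈ M ∧ ∀ x ∈ M, x * x = 1 → x = 1 ∨ x = z

theorem comm_layer {M M' : Subgroup X} (hM : IsComponent M) (hM' : IsComponent M') (hne : M ≠ M') {x : X}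
    (hx : x ∈ M) (hx' : x ∈ M') : ∀ y ∈ layer X, x * y = y * x := by
  intro y hy
  have h1 : layer X ≤ centralizer ({x} : Set X) := by
    rw [layer_le_iff]
    intro K hK k hk
    rw [mem_centralizer_singleton_iff]
    by_cases e : K = M
    · subst e
      exact Cfsg.Agent.Cit.Comp.comm_of_ne hM hM' hne hk hx'
    · exact Cfsg.Agent.Cit.Comp.comm_of_ne hK hM e hk hx
  exact (mem_centralizer_singleton_iff.1 (h1 hy)).symm

/-- two components -/
theorem two [Finite X] (h : Hyp z t a₁ a₂ Q₁ Q₂) {M₁ M₂ : Subgroup X} (hM₁ : IsComponent M₁)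
    (hM₂ : IsComponent M₂) (hne : M₁ ≠ M₂) (hQ₁ : Q₁ ≤ M₁) (hQ₂ : Q₂ ≤ M₂) :
    CA z ∨ ∃ lam : X →* ℤˣ, lam t = -1 := by
  have hcomm : ∀ x ∈ M₁, ∀ y ∈ M₂, x * y = y * x := fun x hx y hy =>
    Cfsg.Agent.Cit.Comp.comm_of_ne hM₁ hM₂ hne hx hy
  have ht1 : t ∉ M₁ := fun ht => h.not_le hM₂.2 fun x hx => (hcomm t ht x hx).symm
  have ht2 : t ∉ M₂ := fun ht => h.not_le hM₁.2 fun x hx => hcomm x hx t ht
  rcases h.exists_v hM₁ hQ₁ (fun m hm y hy => hcomm m hm y (hQ₂ hy)) ht1 with h1 | ⟨v₁, hv₁, hq₁, hvt₁⟩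
  · exact Or.inl ⟨M₁, hM₁, hQ₁ h.s₁.zQ, h1⟩
  rcases h.swap.exists_v hM₂ hQ₂ (fun m hm y hy => (hcomm y (hQ₁ hy) m hm).symm) ht2 with
    h2 | ⟨v₂, hv₂, hq₂, hvt₂⟩
  · exact Or.inl ⟨M₂, hM₂, hQ₂ h.s₂.zQ, h2⟩
  right
  have hzc := h.zc
  have hv₁t : ¬ v₁ * t = t * v₁ := by
    intro e
    have h1 : t * v₁ * t⁻¹ = v₁ := by rw [← e, mul_inv_cancel_right]
    rw [hvt₁] at h1
    exact h.z1 (mul_eq_left.1 h1)
  have c12 : Commute v₁ v₂ := hcomm v₁ hv₁ v₂ hv₂
  have hy : v₁ * v₂ * t = t * (v₁ * v₂) := by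
    have h1 : t * (v₁ * v₂) * t⁻¹ = v₁ * v₂ := by
      calc t * (v₁ * v₂) * t⁻¹ = (t * v₁ * t⁻¹) * (t * v₂ * t⁻¹) := by group
        _ = v₁ * z * (v₂ * z) := by rw [hvt₁, hvt₂]
        _ = v₁ * (z * v₂) * z := by group
        _ = v₁ * (v₂ * z) * z := by rw [hzc v₂]
        _ = v₁ * v₂ * (z * z) := by group
        _ = v₁ * v₂ := by rw [h.zz, mul_one]
    rw [mul_inv_eq_iff_eq_mul] at h1
    exact h1.symm
  have hF := h.cR (v₁ * v₂) hy
    (fun x hx => by
      have c1 : Commute v₁ x := hq₁ x hx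
      have c2 : Commute v₂ x := (hcomm x (hQ₁ hx) v₂ hv₂).symm
      exact (c1.mul_left c2).eq)
    (fun y hy => by
      have c1 : Commute v₁ y := hcomm v₁ hv₁ y (hQ₂ hy)
      have c2 : Commute v₂ y := hq₂ y hy
      exact (c1.mul_left c2).eq)
  -- `v₁ ∈ M₂`
  have hv12 : v₁ ∈ M₂ := by
    have hz2 : z ∈ M₂ := hQ₂ h.s₂.zQ
    have key : ∀ e : X, v₁ * v₂ = e → v₁ = e * v₂⁻¹ := fun e he => by rw [← he, mul_inv_cancel_right]
    rcases hF with e | e | e | e
    · rw [key _ e]; exact M₂.mul_mem M₂.one_mem (M₂.inv_mem hv₂)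
    · rw [key _ e]; exact M₂.mul_mem hz2 (M₂.inv_mem hv₂)
    · exfalso
      apply hv₁t
      rw [← e]
      exact ((Commute.refl v₁).mul_right c12).eq
    · exfalso
      apply hv₁t
      have e1 : t = v₁ * v₂ * z := by rw [e, mul_assoc, h.zz, mul_one]
      rw [e1]
      exact (((Commute.refl v₁).mul_right c12).mul_right (h.zc v₁)).eq
  have hvl : ∀ y ∈ layer X, v₁ * y = y * v₁ := comm_layer hM₁ hM₂ hne hv₁ hv12
  -- the centre of the layer
  have hLn : (layer X).Normal := layer_normal X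
  set A : Subgroup X := layer X ⊓ centralizer (layer X : Set X) with hA
  have hAn : A.Normal := by rw [hA]; infer_instance
  have hab : ∀ a ∈ A, ∀ b ∈ A, a * b = b * a := fun a ha b hb => mem_centralizer_iff.1 hb.2 a ha.1
  have hvA : v₁ ∈ A := ⟨component_le_layer hM₁ hv₁, mem_centralizer_iff.2 fun y hy => (hvl y hy).symm⟩
  have hzA : z ∈ A := ⟨component_le_layer hM₁ (hQ₁ h.s₁.zQ), mem_centralizer_iff.2 fun y _ => hzc y⟩
  have hA2 : IsPGroup 2 A := by
    have : Fact (Nat.Prime 2) := ⟨Nat.prime_two⟩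
    have h1 : Group.IsNilpotent A := by
      let _ : CommGroup A := { (inferInstance : Group A) with
        mul_comm := fun a b => Subtype.ext (hab a a.2 b b.2) }
      exact CommGroup.isNilpotent
    have h2 : A ≤ fittingSubgroup X := Cfsg.Agent.Lib.Cores.le_fittingSubgroup hAn h1
    rw [Cfsg.Agent.SignalizersComponents.PConstrained.fittingSubgroup_eq_pCore_of_pPrimeCore_eq_bot 2 h.O] at h2
    exact (Cfsg.Agent.Lib.Cores.pCore_isPGroup 2).to_le h2
  refine exists_lam_of_abelian h.tt hzc h.zz h.z1 hAn hab hzA (fun a ha hat => ?_) hvA hvt₁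
  -- `C_A(t)`
  have haM : ∀ m ∈ M₁, m * a = a * m := fun m hm => mem_centralizer_iff.1 ha.2 m (component_le_layer hM₁ hm)
  have haQ : ∀ m ∈ M₂, m * a = a * m := fun m hm => mem_centralizer_iff.1 ha.2 m (component_le_layer hM₂ hm)
  rcases h.cR a hat (fun x hx => (haM x (hQ₁ hx)).symm) (fun y hy => (haQ y (hQ₂ hy)).symm) with
    e | e | e | e
  · exact Or.inl e
  · exact Or.inr e
  · exfalso
    apply hv₁t
    rw [← e]; exact haM v₁ hv₁
  · exfalso
    apply hv₁t
    have e1 : t = a * z := by rw [e, mul_assoc, h.zz, mul_one]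
    have c1 : Commute v₁ a := haM v₁ hv₁
    rw [e1]; exact (c1.mul_right (h.zc v₁)).eq

/-- `t = m c` -/
theorem mem_of_mul (h : Hyp z t a₁ a₂ Q₁ Q₂) [Finite X] {M : Subgroup X} (hM : IsComponent M) (hzM : z ∈ M)
    {m c : X} (hm : m ∈ M) (hc : ∀ x ∈ M, x * c = c * x) (hmc : m * c = t) (hF : Four z t m) : t ∈ M := by
  rcases hF with e | e | e | e
  · exfalso
    apply h.not_le hM.2
    intro x hx
    rw [← hmc, e, one_mul]; exact hc x hx
  · exfalso
    apply h.not_le hM.2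
    intro x hx
    rw [← hmc, e]
    exact ((show Commute x z from h.zc x).mul_right (hc x hx)).eq
  · rw [← e]; exact hm
  · have h3 : t = m * z := by rw [e, mul_assoc, h.zz, mul_one]
    rw [h3]; exact M.mul_mem hm hzM

theorem two_of_four [Finite X] (h : Hyp z t a₁ a₂ Q₁ Q₂) {M : Subgroup X} (hM : IsComponent M) {y : X}
    (hy : ∀ x ∈ M, x * y = y * x) (hF : Four z t y) : y = 1 ∨ y = z := by
  rcases hF with e | e | e | e
  · exact Or.inl e
  · exact Or.inr e
  · exfalso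
    apply h.not_le hM.2
    intro x hx
    rw [← e]; exact hy x hx
  · exfalso
    apply h.not_le hM.2
    intro x hx
    have h3 : t = y * z := by rw [e, mul_assoc, h.zz, mul_one]
    rw [h3]
    exact ((show Commute x y from hy x hx).mul_right (h.zc x)).eq

/-- **(2)** -/
theorem both [Finite X] (h : Hyp z t a₁ a₂ Q₁ Q₂) {M : Subgroup X} (hM : IsComponent M) (hQ₁ : Q₁ ≤ M)
    (hQ₂ : Q₂ ≤ M) (htM : t ∈ M ⊔ centralizer (M : Set X)) :
    t ∈ M ∧ ∀ y ∈ centralizer (M : Set X), y = 1 ∨ y = z := by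
  have hMY : ∀ x ∈ M, ∀ y ∈ centralizer (M : Set X), x * y = y * x := fun x hx y hy =>
    mem_centralizer_iff.1 hy x hx
  obtain ⟨m, hm, c, hc, hmc⟩ := Cfsg.Agent.Cit.Comp.mem_sup_comm hMY htM
  have hm' : m = t * c⁻¹ := by rw [← hmc, mul_inv_cancel_right]
  have hmt : m * t = t * m := by
    have mc : Commute m c := hMY m hm c hc
    rw [← hmc, mul_assoc, mc.eq]
  have key : ∀ r ∈ M, r * t = t * r → m * r = r * m := by
    intro r hr hrt
    have h2 : Commute r c := hMY r hr c hc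
    have h3 : Commute r t := hrt
    have h4 : Commute r m := by rw [hm']; exact h3.mul_right h2.inv_right
    exact h4.symm.eq
  have htM' : t ∈ M := h.mem_of_mul hM (hQ₁ h.s₁.zQ) hm (fun x hx => hMY x hx c hc) hmc
    (h.cR m hmt (fun x hx => key x (hQ₁ hx) (h.s₁.ct x hx)) (fun y hy => key y (hQ₂ hy) (h.s₂.ct y hy)))
  refine ⟨htM', fun y hy => ?_⟩
  exact h.two_of_four hM (fun x hx => hMY x hx y hy) (h.cR y (hMY t htM' y hy).symm
    (fun x hx => (hMY x (hQ₁ hx) y hy).symm) (fun x hx => (hMY x (hQ₂ hx) y hy).symm))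

/-- **(3)** -/
theorem side [Finite X] (h : Hyp z t a₁ a₂ Q₁ Q₂) {M : Subgroup X} (hM : IsComponent M) (hMn : M.Normal)
    (hQ₁ : Q₁ ≤ M) (hQ₂ : ¬ Q₂ ≤ M) (htM : t ∈ M ⊔ centralizer (M : Set X)) :
    (t ∈ M ∧ ∀ y ∈ centralizer (M : Set X), y = 1 ∨ y = z) ∨ Q₂.Normal := by
  have : Fact (Nat.Prime 2) := ⟨Nat.prime_two⟩
  have hzM : z ∈ M := hQ₁ h.s₁.zQ
  have hMY : ∀ x ∈ M, ∀ y ∈ centralizer (M : Set X), x * y = y * x := fun x hx y hy =>
    mem_centralizer_iff.1 hy x hx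
  obtain ⟨m, hm, c, hc, hmc⟩ := Cfsg.Agent.Cit.Comp.mem_sup_comm hMY htM
  have hm' : m = t * c⁻¹ := by rw [← hmc, mul_inv_cancel_right]
  have hmt : m * t = t * m := by
    have mc : Commute m c := hMY m hm c hc
    rw [← hmc, mul_assoc, mc.eq]
  have key : ∀ r ∈ M, r * t = t * r → m * r = r * m := by
    intro r hr hrt
    have h2 : Commute r c := hMY r hr c hc
    have h3 : Commute r t := hrt
    have h4 : Commute r m := by rw [hm']; exact h3.mul_right h2.inv_right
    exact h4.symm.eq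
  have hmQ₁ : ∀ x ∈ Q₁, m * x = x * m := fun x hx => key x (hQ₁ hx) (h.s₁.ct x hx)
  -- `[m, Q₂] ≤ ⟨z⟩`
  have hmQ₂ : ∀ y ∈ Q₂, m * y * m⁻¹ = y ∨ m * y * m⁻¹ = y * z := by
    intro y hy
    by_cases hyz : y = 1 ∨ y = z
    · left
      rcases hyz with rfl | rfl
      · rw [mul_one, mul_inv_cancel]
      · rw [h.zc m, mul_inv_cancel_right]
    push Not at hyz
    have hyy := h.s₂.sq y hy hyz.1 hyz.2
    obtain ⟨x', hx', y', hy', e⟩ := h.nor m hmt 1 Q₁.one_mem y hy
    rw [one_mul] at e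
    have hs : x' * (y' * y⁻¹) ∈ M := by
      have h1 : m * (y * m⁻¹ * y⁻¹) ∈ M := M.mul_mem hm (hMn.conj_mem _ (M.inv_mem hm) y)
      have e1 : m * (y * m⁻¹ * y⁻¹) = x' * (y' * y⁻¹) := by
        calc m * (y * m⁻¹ * y⁻¹) = (m * y * m⁻¹) * y⁻¹ := by group
          _ = x' * (y' * y⁻¹) := by rw [e]; group
      rwa [e1] at h1
    have hyy' : y' * y⁻¹ ∈ Q₂ := Q₂.mul_mem hy' (Q₂.inv_mem hy)
    have h2 : y' * y⁻¹ = 1 ∨ y' * y⁻¹ = z := by
      by_contra hne
      push Not at hne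
      exact hQ₂ (h.swap.claim hM hs hyy' hx' (Or.inl (h.comm x' hx' _ hyy')) hne.1 hne.2)
    obtain ⟨x'', hx'', e2⟩ : ∃ x'' ∈ Q₁, m * y * m⁻¹ = x'' * y := by
      rcases h2 with h2 | h2
      · refine ⟨x', hx', ?_⟩
        rw [mul_inv_eq_one] at h2
        rw [e, h2]
      · refine ⟨x' * z, Q₁.mul_mem hx' h.s₁.zQ, ?_⟩
        rw [mul_inv_eq_iff_eq_mul] at h2
        rw [e, h2, mul_assoc]
    have cxy : Commute x'' y := h.comm x'' hx'' y hy
    have h3 : x'' * x'' = 1 := by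
      have e3 : (m * y * m⁻¹) * (m * y * m⁻¹) = z := by
        calc (m * y * m⁻¹) * (m * y * m⁻¹) = m * (y * y) * m⁻¹ := by group
          _ = z := by rw [hyy, h.zc m, mul_inv_cancel_right]
      rw [e2] at e3
      have e4 : x'' * y * (x'' * y) = x'' * x'' * z := by
        calc x'' * y * (x'' * y) = x'' * (y * x'') * y := by group
          _ = x'' * (x'' * y) * y := by rw [cxy.eq]
          _ = x'' * x'' * (y * y) := by group
          _ = x'' * x'' * z := by rw [hyy]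
      rw [e4] at e3
      exact mul_eq_right.1 e3
    have h4 : x'' = 1 ∨ x'' = z := by
      by_contra hne
      push Not at hne
      have := h.s₁.sq x'' hx'' hne.1 hne.2
      rw [h3] at this
      exact h.z1 this.symm
    rcases h4 with h4 | h4
    · left; rw [e2, h4, one_mul]
    · right; rw [e2, h4, h.zc y]
  obtain ⟨r, hr, hrc⟩ := h.s₂.exists_inner h.zc h.zz h.z1 hmQ₂
  have hmr : Four z t (m * r) := by
    refine h.cR _ ?_ (fun x hx => ?_) hrc
    · exact ((show Commute m t from hmt).mul_left (h.s₂.ct r hr)).eq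
    · exact ((show Commute m x from hmQ₁ x hx).mul_left (show Commute r x from (h.comm x hx r hr).symm)).eq
  have hr' : r = 1 ∨ r = z := by
    by_contra hne
    push Not at hne
    have hri : r⁻¹ ∈ Q₂ := Q₂.inv_mem hr
    have hri1 : r⁻¹ ≠ 1 := fun e => hne.1 (inv_eq_one.1 e)
    have hriz : r⁻¹ ≠ z := fun e => hne.2 (by rw [← inv_inv r, e, h.zinv])
    have hzri : z * r⁻¹ ∈ Q₂ := Q₂.mul_mem h.s₂.zQ hri
    have hzri1 : z * r⁻¹ ≠ 1 := fun e => hne.2 (mul_inv_eq_one.1 e).symm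
    have hzriz : z * r⁻¹ ≠ z := fun e => hri1 (mul_eq_left.1 e)
    have em : m = m * r * r⁻¹ := by rw [mul_inv_cancel_right]
    apply hQ₂
    rcases hmr with e | e | e | e
    · rw [e, one_mul] at em
      exact h.swap.claim hM (s := m) hm hri Q₁.one_mem (Or.inl (by rw [mul_one]; exact em)) hri1 hriz
    · rw [e] at em
      exact h.swap.claim hM (s := m) hm hzri Q₁.one_mem (Or.inl (by rw [mul_one]; exact em)) hzri1 hzriz
    · rw [e] at em
      exact h.swap.claim hM (s := m) hm hri Q₁.one_mem (Or.inr (by rw [mul_one]; exact em)) hri1 hriz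
    · rw [e, mul_assoc] at em
      exact h.swap.claim hM (s := m) hm hzri Q₁.one_mem (Or.inr (by rw [mul_one]; exact em)) hzri1 hzriz
  have hmF : Four z t m := by
    have hct : Commute t z := h.zc t
    have em : m = m * r * r⁻¹ := by rw [mul_inv_cancel_right]
    rcases hr' with e | e
    · rw [e, mul_one] at hmr; exact hmr
    · rw [e, h.zinv] at em
      rw [e] at hmr
      rw [em]
      rcases hmr with e | e | e | e <;> rw [e]
      · right; left; rw [one_mul]
      · left; exact h.zz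
      · right; right; right; rfl
      · right; right; left; rw [mul_assoc, h.zz, mul_one]
  have htM' : t ∈ M := h.mem_of_mul hM hzM hm (fun x hx => hMY x hx c hc) hmc hmF
  -- the centralizer of `M`
  set D : Subgroup X := centralizer (M : Set X) with hD
  have hDn : D.Normal := by rw [hD]; infer_instance
  have hDt : ∀ d ∈ D, d * t = t * d := fun d hd => (hMY t htM' d hd).symm
  have hDQ : ∀ d ∈ D, ∀ x ∈ Q₁, d * x = x * d := fun d hd x hx => (hMY x (hQ₁ hx) d hd).symm
  set F : Subgroup X := D ⊓ pCore 2 X with hF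
  have hPn := Cfsg.Agent.Lib.Cores.pCore_normal (G := X) 2
  have hFn : F.Normal := by rw [hF]; infer_instance
  have hFp : IsPGroup 2 F := (Cfsg.Agent.Lib.Cores.pCore_isPGroup 2).to_le inf_le_right
  have hFel : ∀ f ∈ F, ∃ y ∈ Q₂, f = y ∨ f = t * y := by
    intro f hf
    obtain ⟨x, hx, y, hy, e⟩ := h.rad F (fun n hn => hDt n hn.1) hFp
      (fun g _ n hn => hFn.conj_mem n hn g) f hf
    have hx' : x = 1 ∨ x = z := by
      apply h.s₁.center hx
      intro q hq
      have c1 : Commute f q := hDQ f hf.1 q hq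
      have c2 : Commute y q := (h.comm q hq y hy).symm
      have c3 : Commute t q := (h.s₁.ct q hq).symm
      rcases e with e | e
      · have e' : x = f * y⁻¹ := by rw [e, mul_inv_cancel_right]
        rw [e']; exact (c1.mul_left c2.inv_left).eq
      · have e' : x = t⁻¹ * f * y⁻¹ := by rw [e]; group
        rw [e']; exact ((c3.inv_left.mul_left c1).mul_left c2.inv_left).eq
    rcases hx' with hx' | hx'
    · refine ⟨y, hy, ?_⟩
      rwa [hx', one_mul] at e
    · refine ⟨z * y, Q₂.mul_mem h.s₂.zQ hy, ?_⟩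
      rwa [hx'] at e
  by_cases hFF : ∃ f ∈ F, ∃ y ∈ Q₂, (f = y ∨ f = t * y) ∧ y ≠ 1 ∧ y ≠ z
  · right
    obtain ⟨f, hf, y, hy, hfy, hy1, hyz⟩ := hFF
    have htF : t ∉ F := fun ht => h.not_le hM.2 fun x hx => hMY x hx t ht.1
    have hf' : a₂ * f * a₂⁻¹ ∈ F := hFn.conj_mem f hf a₂
    set y' := a₂ * y * a₂⁻¹ with hy'
    have hy'Q : y' ∈ Q₂ := h.s₂.aQ y hy
    have hyy' := h.s₂.act y hy hy1 hyz
    have cat : Commute a₂ t := h.s₂.a_t
    have hp : f⁻¹ * (a₂ * f * a₂⁻¹) = y⁻¹ * y' := by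
      rcases hfy with e | e
      · rw [e]
      · rw [e]
        calc (t * y)⁻¹ * (a₂ * (t * y) * a₂⁻¹) = y⁻¹ * t⁻¹ * ((a₂ * t) * y * a₂⁻¹) := by group
          _ = y⁻¹ * t⁻¹ * ((t * a₂) * y * a₂⁻¹) := by rw [cat.eq]
          _ = y⁻¹ * y' := by rw [hy']; group
    have hpF : y⁻¹ * y' ∈ F := by rw [← hp]; exact F.mul_mem (F.inv_mem hf) hf'
    have hQF : Q₂ ≤ F := by
      refine h.s₂.gen h.zc h.zz h.z1 (Q₂.mul_mem (Q₂.inv_mem hy) hy'Q) ?_ ?_ hpF (hFn.conj_mem _ hpF a₂)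
      · intro e
        apply hyy'
        rw [inv_mul_eq_one] at e
        rw [← hy', ← e]
      · intro e
        apply hyy'
        rw [inv_mul_eq_iff_eq_mul] at e
        rw [← hy', e, mul_assoc, h.zc y]
    have hFQ : F = Q₂ := by
      apply le_antisymm _ hQF
      intro g hg
      obtain ⟨u, hu, e | e⟩ := hFel g hg
      · rw [e]; exact hu
      · exfalso
        apply htF
        have e1 : t = g * u⁻¹ := by rw [e, mul_inv_cancel_right]
        rw [e1]; exact F.mul_mem hg (F.inv_mem (hQF hu))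
    rw [← hFQ]; exact hFn
  · left
    push Not at hFF
    refine ⟨htM', ?_⟩
    have hF2 : ∀ f ∈ F, f = 1 ∨ f = z := by
      intro f hf
      apply h.two_of_four hM (fun x hx => hMY x hx f hf.1)
      obtain ⟨y, hy, e⟩ := hFel f hf
      have hy' : y = 1 ∨ y = z := by
        by_cases hy1 : y = 1
        · exact Or.inl hy1
        · exact Or.inr (hFF f hf y hy e hy1)
      rcases e with e | e <;> rcases hy' with e' | e' <;> rw [e, e']
      · left; rfl
      · right; left; rfl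
      · right; right; left; rw [mul_one]
      · right; right; right; rfl
    have hsolC := h.sol
    have hDsol : Group.IsSolvable D := by
      have h1 : D ≤ centralizer ({t} : Set X) := fun x hx => mem_centralizer_singleton_iff.2 (hDt x hx)
      exact Group.isSolvable_of_isSolvable_injective (f := inclusion h1) (inclusion_injective h1)
    have hOD : pPrimeCore 2 D = ⊥ := by
      have e := Cfsg.Agent.SignalizersComponents.CompBasic.map_subtype_pPrimeCore_of_subnormal 2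
        hDn.isSubnormal
      rw [h.O, inf_bot_eq] at e
      exact (map_eq_bot_iff_of_injective _ D.subtype_injective).1 e
    have hcen : centralizer (pCore 2 D : Set D) ≤ pCore 2 D :=
      Cfsg.Agent.OddOrderLocal.RankTwoSolvable.centralizer_pCore_le hOD
    have eF : ∀ d : D, d ∈ pCore 2 D → (d : X) ∈ F := by
      intro d hd
      have e := Cfsg.Agent.SignalizersComponents.CompBasic.map_subtype_pCore_of_subnormal 2 hDn.isSubnormal
      rw [hF, ← e]
      exact ⟨d, hd, rfl⟩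
    intro y hy
    apply hF2
    apply eF ⟨y, hy⟩
    apply hcen
    rw [mem_centralizer_iff]
    intro u hu
    apply Subtype.ext
    show (u : X) * y = y * u
    rcases hF2 u (eF u hu) with e | e <;> rw [e]
    · rw [one_mul, mul_one]
    · exact (h.zc y).symm

/-- **the theorem** -/
theorem main [Finite X] (h : Hyp z t a₁ a₂ Q₁ Q₂) {M : Subgroup X} (hM : IsComponent M) :
    CA z ∨ (∃ lam : X →* ℤˣ, lam t = -1) ∨ (Q₁.Normal ∨ Q₂.Normal) ∨
      ((∀ M' : Subgroup X, IsComponent M' → M' = M) ∧ M.Normal ∧ (Q₁ ≤ M ∨ Q₂ ≤ M) ∧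
        ((t ∈ M ∧ ∀ y ∈ centralizer (M : Set X), y = 1 ∨ y = z) ∨
          t ∉ M ⊔ centralizer (M : Set X))) := by
  by_cases hCA : CA z
  · exact Or.inl hCA
  right
  -- every component contains `Q₁` or `Q₂`
  have hQ : ∀ M' : Subgroup X, IsComponent M' → Q₁ ≤ M' ∨ Q₂ ≤ M' := by
    intro M' hM'
    by_contra hne
    push Not at hne
    apply hCA
    have hev : 2 ∣ Nat.card M' := by
      by_contra hodd
      have h1 : M' ≤ pPrimeCore 2 X :=
        Cfsg.Agent.SignalizersComponents.CompBasic.subnormal_coprime_le_pPrimeCore hM'.1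
          ((Nat.Prime.coprime_iff_not_dvd Nat.prime_two).2 hodd).symm
      rw [h.O, le_bot_iff] at h1
      exact component_ne_bot hM' h1
    have h1 := CaseM.unique_involution h.zz h.z1 h.tt h.t1 h.tz h.zc hM' hev (fun x hx => by
        have := conj_mem_cj (g := t) hx
        rwa [h.cj_t hM'] at this)
      (fun x hx hxt => h.dich hM' hne.1 hne.2 hx hxt)
    exact ⟨M', hM', h1.1, h1.2⟩
  have hone : ∀ M₁ M₂ : Subgroup X, IsComponent M₁ → IsComponent M₂ → M₁ ≠ M₂ → ¬ (Q₁ ≤ M₁ ∧ Q₁ ≤ M₂) := by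
    intro M₁ M₂ hM₁ hM₂ hne hh
    apply h.s₁.not_comm
    intro x hx y hy
    exact Cfsg.Agent.Cit.Comp.comm_of_ne hM₁ hM₂ hne (hh.1 hx) (hh.2 hy)
  have hone' : ∀ M₁ M₂ : Subgroup X, IsComponent M₁ → IsComponent M₂ → M₁ ≠ M₂ → ¬ (Q₂ ≤ M₁ ∧ Q₂ ≤ M₂) := by
    intro M₁ M₂ hM₁ hM₂ hne hh
    apply h.s₂.not_comm
    intro x hx y hy
    exact Cfsg.Agent.Cit.Comp.comm_of_ne hM₁ hM₂ hne (hh.1 hx) (hh.2 hy)
  by_cases huniq : ∀ M' : Subgroup X, IsComponent M' → M' = M
  · right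
    have hMn : M.Normal := by
      refine ⟨fun x hx g => ?_⟩
      have h1 := huniq _ (Cfsg.Agent.Cit.Comp.isComponent_cj hM g)
      rw [← h1]; exact conj_mem_cj hx
    by_cases htM : t ∈ M ⊔ centralizer (M : Set X)
    · by_cases h1 : Q₁ ≤ M
      · by_cases h2 : Q₂ ≤ M
        · exact Or.inr ⟨huniq, hMn, Or.inl h1, Or.inl (h.both hM h1 h2 htM)⟩
        · rcases h.side hM hMn h1 h2 htM with h3 | h3
          · exact Or.inr ⟨huniq, hMn, Or.inl h1, Or.inl h3⟩
          · exact Or.inl (Or.inr h3)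
      · have h2 : Q₂ ≤ M := (hQ M hM).resolve_left h1
        rcases h.swap.side hM hMn h2 h1 htM with h3 | h3
        · exact Or.inr ⟨huniq, hMn, Or.inr h2, Or.inl h3⟩
        · exact Or.inl (Or.inl h3)
    · exact Or.inr ⟨huniq, hMn, hQ M hM, Or.inr htM⟩
  · left
    push Not at huniq
    obtain ⟨M', hM', hne⟩ := huniq
    rcases hQ M hM with h1 | h1
    · have h2 : Q₂ ≤ M' := (hQ M' hM').resolve_left fun h2 => hone M M' hM hM' hne.symm ⟨h1, h2⟩
      exact (h.two hM hM' hne.symm h1 h2).resolve_left hCA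
    · have h2 : Q₁ ≤ M' := (hQ M' hM').resolve_right fun h2 => hone' M M' hM hM' hne.symm ⟨h1, h2⟩
      exact (h.two hM' hM hne h2 h1).resolve_left hCA

end Hyp

end Cfsg.Agent.OddHalf.D6.QThree.NI
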