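import Cfsg.Agent.OddHalf.D6.QThree.U43AutSp
import Cfsg.Agent.OddHalf.D6.QThree.U43Facts
import Cfsg.Agent.OddHalf.D6.QThree.NICase
import Cfsg.Agent.OddHalf.D6.QThree.FrontOut
import Cfsg.Agent.OddHalf.D6.QThree.FrontK

/-!
# ODD half, D6, `q = 3`: `U₄(3)`, the facts on `Aut(K)` for `z`, `R` (helper218)

`two_pr`, `full_pr`: `Facts.Two`, `NIFacts.Full` for `z = pr d`, `R = QQ`. `CR z R`: the structure of `C_Aut(R) = D₈`.
-/

set_option autoImplicit false
set_option linter.unusedSectionVars false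

namespace Cfsg.Agent.OddHalf.D6.QThree.U43AutKF

open Matrix Cfsg.Agent.OddHalf.D6.QThree.U43Aut Cfsg.Agent.OddHalf.D6.QThree.U43AutRef
open Cfsg.Agent.OddHalf.D6.QThree.U43AutGood Cfsg.Agent.OddHalf.D6.QThree.U43AutSp
open Cfsg Cfsg.Agent.OddHalf.Small.U43Mat Cfsg.Agent.OddHalf.Small.U43Good
open Cfsg.Agent.LieClassical.HermSiegel Cfsg.Agent.LieClassical.SUBasic
open Cfsg.Agent.ClassicalGeometry.UnitAutBasic (pr pr_surjective)
open Cfsg.Agent.OddHalf.D6.QThree.U43Elt Cfsg.Agent.OddHalf.D6.QThree.U43Plus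

/-- the automorphisms trivial on `R` form a group like `D₈` with centre `⟨z⟩`; those of order two outside `⟨z⟩` have
fixed points `PSp₄(3)` -/
structure CR {K : Type*} [Group K] (z : K) (R : Subgroup K) : Prop where
  sq : ∀ α : MulAut K, (∀ x ∈ R, α x = x) → α * α = 1 ∨ α * α = MulAut.conj z
  cm : ∀ α β : MulAut K, (∀ x ∈ R, α x = x) → (∀ x ∈ R, β x = x) →
    α * β = β * α ∨ α * β = β * α * MulAut.conj z
  un : ∀ α β : MulAut K, (∀ x ∈ R, α x = x) → (∀ x ∈ R, β x = x) → α * α = MulAut.conj z →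
    β * β = MulAut.conj z → β = α ∨ β = α * MulAut.conj z
  nc : ∀ α β : MulAut K, (∀ x ∈ R, α x = x) → (∀ x ∈ R, β x = x) → α * α = 1 → β * β = 1 →
    α ≠ 1 → α ≠ MulAut.conj z → β ≠ 1 → β ≠ MulAut.conj z → α * β = β * α →
    β = α ∨ β = α * MulAut.conj z
  mv : ∀ α : MulAut K, (∀ x ∈ R, α x = x) → α ≠ 1 → α ≠ MulAut.conj z →
    ∃ p, p * z = z * p ∧ MulAut.conj p * α = α * MulAut.conj z * MulAut.conj p
  odd : ∀ α : MulAut K, (∀ x ∈ R, α x = x) → ∀ x, x * z = z * x → Odd (orderOf x) → α x = x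
  rf : ∀ α : MulAut K, (∀ x ∈ R, α x = x) → α * α = 1 → α ≠ 1 → α ≠ MulAut.conj z →
    Nonempty (fixS α ≃* PSp 2 (ZMod 3))

variable {F : Type*} [Field F] [CharP F 3] [Fintype F]

theorem two_pr (hF : Fintype.card F = 9) : Facts.Two (pr 4 F 3 d) (QQ hF) := by
  obtain ⟨i, j, k, l, x₁, x₂, y, s, h, hs, -⟩ := U43Tw.exists_tw (F := F) hF
  have hcls := U43Tw.one_class (F := F) hF
  exact U43Facts.two_of_tw h hs (U43Tw.odd_index (by rw [U43Tw.card_K hF]; norm_num) hcls) hcls

theorem full_pr (hF : Fintype.card F = 9) : NIFacts.Full (pr 4 F 3 d) (QQ hF) := by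
  obtain ⟨a, ha⟩ := exists_a hF
  refine ⟨_, _, _, _, _, _, NICase.frame_of_plus (plus hF ha) (act1 ha) (act2 ha), gen hF ha, Or.inl ⟨pr 4 F 3 ss,
    ss_d hF, ?_⟩⟩
  rw [mul_inv_eq_iff_eq_mul, ← map_mul, ← map_mul]
  congr 1
  apply mat_injective
  rw [mat_mul, mat_mul, m_ss, m_i1, m_i2]
  ext i j
  rw [mul_apply, mul_apply, Fin.sum_univ_four, Fin.sum_univ_four]
  fin_cases i <;> fin_cases j <;> simp

theorem del_congr (hF : Fintype.card F = 9) {b c : F} (hb : b ^ 4 = 1) (hc : c ^ 4 = 1) (h : b = c) :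
    del hF b hb = del hF c hc := by subst h; rfl

theorem ref_congr (hF : Fintype.card F = 9) {b c : F} (hb : b ^ 4 = 1) (hc : c ^ 4 = 1) (h : b = c) :
    ref hF b hb = ref hF c hc := by subst h; rfl

theorem del_mul_d (hF : Fintype.card F = 9) {b : F} (hb : b ^ 4 = 1) :
    del hF b hb * MulAut.conj (pr 4 F 3 d) = del hF (-b) (neg_pow4 hb) := by
  have h1 : (-1 : F) ^ 4 = 1 := by norm_num
  rw [← del_neg hF h1, del_mul]
  exact del_congr hF _ _ (by ring)

theorem sq_pm {b : F} (hb : b ^ 4 = 1) : b ^ 2 = 1 ∨ b ^ 2 = -1 := sq_one (by rw [← pow_mul, hb])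

/-- `ss del b = del b z ss` if `b² = -1` -/
theorem ss_del (hF : Fintype.card F = 9) {b : F} (hb : b ^ 4 = 1) (h : b ^ 2 = -1) :
    MulAut.conj (pr 4 F 3 ss) * del hF b hb =
      del hF b hb * MulAut.conj (pr 4 F 3 d) * MulAut.conj (pr 4 F 3 ss) := by
  rw [conj_eq hF, conj_eq hF]
  unfold del
  rw [sa_mul, sa_mul, sa_mul]
  refine (sa_smul hF _ _ false (c := b) ?_).symm
  simp only [tw_false]
  rw [m_ss, m_d]
  ext i j
  rw [Matrix.smul_apply, mul_apply, mul_apply, Fin.sum_univ_four, Fin.sum_univ_four]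
  fin_cases i <;> fin_cases j <;> simp [dd, tw, mul_apply, Fin.sum_univ_four]
  all_goals linear_combination h

theorem del_inj (hF : Fintype.card F = 9) {b c : F} (hb : b ^ 4 = 1) (hc : c ^ 4 = 1)
    (h : del hF b hb = del hF c hc) : b = c := by
  obtain ⟨-, k, hk, he⟩ := sa_inj hF _ _ h
  have e1 := congrFun (congrFun he 0) 0
  have e2 := congrFun (congrFun he 2) 2
  simp [dd] at e1 e2
  rw [← e1, one_mul] at e2
  exact e2.symm

theorem del_ne_ref (hF : Fintype.card F = 9) {b c : F} (hb : b ^ 4 = 1) (hc : c ^ 4 = 1) :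
    del hF b hb ≠ ref hF c hc := by
  intro h
  have := congrArg (sgn hF) h
  rw [sgn_del, sgn_ref] at this
  exact absurd this (by decide)

theorem cr (hF : Fintype.card F = 9) : CR (pr 4 F 3 d) (QQ hF) := by
  obtain ⟨a, ha⟩ := exists_a hF
  have n1 : (-1 : F) ^ 4 = 1 := by norm_num
  refine ⟨?_, ?_, ?_, ?_, ?_, ?_, ?_⟩
  · intro α h
    obtain ⟨b, hb, rfl | rfl⟩ := cent_Q hF α h
    · rw [del_mul]
      rcases sq_pm hb with h1 | h1
      · left
        rw [← del_one hF (one_pow 4)]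
        exact del_congr hF _ _ (by linear_combination h1)
      · right
        rw [← del_neg hF n1]
        exact del_congr hF _ _ (by linear_combination h1)
    · left; exact ref_sq hF hb
  · intro α β h h'
    obtain ⟨b, hb, rfl | rfl⟩ := cent_Q hF α h <;> obtain ⟨c, hc, rfl | rfl⟩ := cent_Q hF β h'
    · left
      rw [del_mul, del_mul]
      exact del_congr hF _ _ (mul_comm _ _)
    · rw [del_mul_ref, ref_mul_del, ref_mul_d]
      rcases sq_pm hb with h1 | h1
      · left; exact ref_congr hF _ _ (by linear_combination -b * c * h1)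
      · right; exact ref_congr hF _ _ (by linear_combination b * c * h1)
    · rw [del_mul_ref, ref_mul_del, ref_mul_d]
      rcases sq_pm hc with h1 | h1
      · left; exact ref_congr hF _ _ (by linear_combination b * c * h1)
      · right; exact ref_congr hF _ _ (by linear_combination b * c * h1)
    · rw [ref_mul_ref, ref_mul_ref, del_mul_d]
      rcases sq_pm hb with h1 | h1 <;> rcases sq_pm hc with h2 | h2
      · left; exact del_congr hF _ _ (by linear_combination b * c * h2 - b * c * h1)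
      · right; exact del_congr hF _ _ (by linear_combination b * c * h2 + b * c * h1)
      · right; exact del_congr hF _ _ (by linear_combination b * c * h2 + b * c * h1)
      · left; exact del_congr hF _ _ (by linear_combination b * c * h2 - b * c * h1)
  · intro α β h h' h0 h0'
    obtain ⟨b, hb, rfl | rfl⟩ := cent_Q hF α h
    · obtain ⟨c, hc, rfl | rfl⟩ := cent_Q hF β h'
      · rw [del_mul, ← del_neg hF n1] at h0 h0'
        have h1 := del_inj hF _ _ h0
        have h2 := del_inj hF _ _ h0'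
        have h3 : (c - b) * (c + b) = 0 := by linear_combination h2 - h1
        rcases mul_eq_zero.1 h3 with h4 | h4
        · left; exact del_congr hF _ _ (by linear_combination h4)
        · right
          rw [del_mul_d]
          exact del_congr hF _ _ (by linear_combination h4)
      · exfalso
        rw [ref_sq] at h0'
        exact d_ne hF (conj_inj hF (by rw [← h0', map_one]))
    · exfalso
      rw [ref_sq] at h0
      exact d_ne hF (conj_inj hF (by rw [← h0, map_one]))
  · intro α β h h' h0 h0' h1 h2 h1' h2' hc0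
    have key : ∀ {b : F} (hb : b ^ 4 = 1), del hF b hb * del hF b hb = 1 →
        del hF b hb = 1 ∨ del hF b hb = MulAut.conj (pr 4 F 3 d) := by
      intro b hb h0
      rw [del_mul, ← del_one hF (one_pow 4)] at h0
      have h3 := del_inj hF _ _ h0
      exact del_sq hF hb (by linear_combination h3)
    obtain ⟨b, hb, rfl | rfl⟩ := cent_Q hF α h
    · exfalso
      rcases key hb h0 with h3 | h3
      · exact h1 h3
      · exact h2 h3
    obtain ⟨c, hc, rfl | rfl⟩ := cent_Q hF β h'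
    · exfalso
      rcases key hc h0' with h3 | h3
      · exact h1' h3
      · exact h2' h3
    rw [ref_mul_ref, ref_mul_ref] at hc0
    have h3 := del_inj hF _ _ hc0
    have h4 : (c - b) * (c + b) = 0 := by
      linear_combination -b * c * h3 + b ^ 2 * hc - c ^ 2 * hb
    rcases mul_eq_zero.1 h4 with h5 | h5
    · left; exact ref_congr hF _ _ (by linear_combination h5)
    · right
      rw [ref_mul_d]
      exact ref_congr hF _ _ (by linear_combination h5)
  · intro α h h1 h2
    obtain ⟨b, hb, rfl | rfl⟩ := cent_Q hF α h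
    · refine ⟨_, ss_d hF, ss_del hF hb ?_⟩
      rcases sq_pm hb with h3 | h3
      · exfalso
        rcases del_sq hF hb h3 with h4 | h4
        · exact h1 h4
        · exact h2 h4
      · exact h3
    · exact ⟨_, yy_d hF ha, ref_yy_conj ha hF hb⟩
  · intro α h x hx ho
    exact FrontOut.trivial_of_R (two_pr hF).toBase h hx ho
  · intro α h h0 h1 h2
    obtain ⟨b, hb, rfl | rfl⟩ := cent_Q hF α h
    · exfalso
      rw [del_mul, ← del_one hF (one_pow 4)] at h0
      have h3 := del_inj hF _ _ h0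
      rcases del_sq hF hb (by linear_combination h3) with h4 | h4
      · exact h1 h4
      · exact h2 h4
    · exact ref_iso hF hb (ZMod.card 3)

/-! ### `Case9aa`: the elements of odd order of `C(z)` -/

section odd

open Cfsg.Agent.LargeExtra.W2 Subgroup

variable {G : Type*} [Group G]

theorem odd_step {H : Subgroup G} {s : G} (hn : ∀ h ∈ H, s * h * s⁻¹ ∈ H) (hs : s * s ∈ H) {x : G}
    (hx : x ∈ H ⊔ zpowers s) (ho : Odd (orderOf x)) : x ∈ H := by
  have hn' : ∀ h ∈ H, s⁻¹ * h * s ∈ H := by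
    intro h hh
    have h1 := hn _ (mul_mem (mul_mem (inv_mem hs) hh) hs)
    have e : s * ((s * s)⁻¹ * h * (s * s)) * s⁻¹ = s⁻¹ * h * s := by group
    rwa [e] at h1
  let N : Subgroup G :=
    { carrier := {x | x ∈ H ∨ x * s ∈ H}
      one_mem' := Or.inl (one_mem _)
      mul_mem' := by
        rintro a b (ha | ha) (hb | hb)
        · exact Or.inl (mul_mem ha hb)
        · right
          have := mul_mem ha hb
          rwa [← mul_assoc] at this
        · right
          have h1 := mul_mem ha (hn' _ hb)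
          have e : a * s * (s⁻¹ * b * s) = a * b * s := by group
          rwa [e] at h1
        · left
          have h1 := mul_mem (mul_mem ha (hn' _ hb)) (inv_mem hs)
          have e : a * s * (s⁻¹ * (b * s) * s) * (s * s)⁻¹ = a * b := by group
          rwa [e] at h1
      inv_mem' := by
        rintro a (ha | ha)
        · exact Or.inl (inv_mem ha)
        · right
          have h1 := mul_mem (hn _ (inv_mem ha)) hs
          have e : s * (a * s)⁻¹ * s⁻¹ * (s * s) = a⁻¹ * s := by group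
          rwa [e] at h1 }
  have hN : H ⊔ zpowers s ≤ N := by
    refine sup_le (fun h hh => Or.inl hh) ?_
    rw [zpowers_le]
    exact Or.inr hs
  have hsq : ∀ y ∈ N, y * y ∈ H := by
    rintro y (hy | hy)
    · exact mul_mem hy hy
    · have h1 := mul_mem (mul_mem hy (hn' _ hy)) (inv_mem hs)
      have e : y * s * (s⁻¹ * (y * s) * s) * (s * s)⁻¹ = y * y := by group
      rwa [e] at h1
  obtain ⟨m, hm⟩ := ho
  have h1 : x * (x * x) ^ m = 1 := by
    rw [← pow_two, ← pow_mul, ← pow_succ', ← hm, pow_orderOf_eq_one]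
  have h2 := pow_mem (hsq x (hN hx)) m
  rw [mul_eq_one_iff_eq_inv.1 h1]
  exact inv_mem h2

/-- the elements of odd order of `C(z)` -/
theorem od_of_case {Q : Subgroup G} {z i j k l x₁ x₂ y s : G} (h : Case9aa Q z i j k l x₁ x₂ y s) {x : G}
    (hx : x * z = z * x) (ho : Odd (orderOf x)) : x ∈ closure {i, j, k, l, x₁, x₂} := by
  have gi : i ∈ closure ({i, j, k, l, x₁, x₂} : Set G) := subset_closure (by simp)
  have gj : j ∈ closure ({i, j, k, l, x₁, x₂} : Set G) := subset_closure (by simp)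
  have gk : k ∈ closure ({i, j, k, l, x₁, x₂} : Set G) := subset_closure (by simp)
  have gl : l ∈ closure ({i, j, k, l, x₁, x₂} : Set G) := subset_closure (by simp)
  have g1 : x₁ ∈ closure ({i, j, k, l, x₁, x₂} : Set G) := subset_closure (by simp)
  have g2 : x₂ ∈ closure ({i, j, k, l, x₁, x₂} : Set G) := subset_closure (by simp)
  have gz : z ∈ closure ({i, j, k, l, x₁, x₂} : Set G) := h.ii ▸ mul_mem gi gi
  have hmem : ∀ {H : Subgroup G} {c : G} {S : Set G}, (∀ m ∈ S, c * m * c⁻¹ ∈ H) →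
      ∀ m ∈ closure S, c * m * c⁻¹ ∈ H := by
    intro H c S hS m hm
    have : closure S ≤ H.comap (MulAut.conj c).toMonoidHom := (closure_le _).2 hS
    exact this hm
  have ny : ∀ m ∈ closure ({i, j, k, l, x₁, x₂} : Set G), y * m * y⁻¹ ∈ closure {i, j, k, l, x₁, x₂} := by
    apply hmem
    rintro m (rfl | rfl | rfl | rfl | rfl | rfl)
    · rw [h.y_act.i]; exact mul_mem gj gz
    · rw [h.y_act.j]; exact mul_mem gi gz
    · rw [h.y_act.k]; exact mul_mem gl gz
    · rw [h.y_act.l]; exact mul_mem gk gz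
    · rw [h.y1]; exact inv_mem g1
    · rw [h.y2]; exact inv_mem g2
  have yy : y * y ∈ closure ({i, j, k, l, x₁, x₂} : Set G) := by
    rcases h.yy with h1 | h1 <;> rw [h1]
    · exact one_mem _
    · exact gz
  have ss : s * s ∈ closure ({i, j, k, l, x₁, x₂} : Set G) := by
    rcases h.ss with h1 | h1 <;> rw [h1]
    · exact one_mem _
    · exact gz
  have hle : closure ({i, j, k, l, x₁, x₂} : Set G) ≤ closure {i, j, k, l, x₁, x₂} ⊔ zpowers y := le_sup_left
  have hy : y ∈ closure ({i, j, k, l, x₁, x₂} : Set G) ⊔ zpowers y := mem_sup_right (mem_zpowers y)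
  have ns : ∀ m ∈ closure ({i, j, k, l, x₁, x₂} : Set G) ⊔ zpowers y,
      s * m * s⁻¹ ∈ closure ({i, j, k, l, x₁, x₂} : Set G) ⊔ zpowers y := by
    have key : ∀ m ∈ ({i, j, k, l, x₁, x₂} : Set G),
        s * m * s⁻¹ ∈ closure ({i, j, k, l, x₁, x₂} : Set G) ⊔ zpowers y := by
      rintro m (rfl | rfl | rfl | rfl | rfl | rfl)
      · rw [h.s_act.i]; exact hle gk
      · rw [h.s_act.j]; exact hle gl
      · rw [h.s_act.k]; exact hle gi
      · rw [h.s_act.l]; exact hle gj
      · rw [h.s1]; exact hle g2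
      · rw [h.s2]; exact hle g1
    have key2 : s * y * s⁻¹ ∈ closure ({i, j, k, l, x₁, x₂} : Set G) ⊔ zpowers y := by
      rcases h.ys with h1 | h1 <;> rw [h1]
      · exact hy
      · exact mul_mem hy (hle gz)
    intro m hm
    have h1 : closure ({i, j, k, l, x₁, x₂} : Set G) ⊔ zpowers y ≤
        (closure ({i, j, k, l, x₁, x₂} : Set G) ⊔ zpowers y).comap (MulAut.conj s).toMonoidHom :=
      sup_le ((closure_le _).2 key) (zpowers_le.2 key2)
    exact h1 hm
  refine odd_step ny yy (odd_step ns (hle ss) ?_ ho) ho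
  have h1 : x ∈ centralizer ({z} : Set G) := mem_centralizer_singleton_iff.2 hx
  rw [h.cent] at h1
  refine (closure_le _).2 ?_ h1
  rintro m (rfl | rfl | rfl | rfl | rfl | rfl | rfl | rfl)
  · exact mem_sup_left (hle gi)
  · exact mem_sup_left (hle gj)
  · exact mem_sup_left (hle gk)
  · exact mem_sup_left (hle gl)
  · exact mem_sup_left (hle g1)
  · exact mem_sup_left (hle g2)
  · exact mem_sup_left hy
  · exact mem_sup_right (mem_zpowers _)

end odd

/-! ### `Out(K)`, `|B̄|` -/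

theorem out (hF : Fintype.card F = 9) (α : MulAut (PSU 4 F 3)) :
    ∃ n : ℕ, α ^ 2 ^ n ∈ (MulAut.conj : PSU 4 F 3 →* MulAut (PSU 4 F 3)).range := by
  obtain ⟨M, hM, ε, rfl⟩ := exists_sa hF α
  refine ⟨3, ?_⟩
  have e : sa hF M hM ε ^ 2 ^ 3 = (sa hF M hM ε * sa hF M hM ε) * (sa hF M hM ε * sa hF M hM ε) *
      ((sa hF M hM ε * sa hF M hM ε) * (sa hF M hM ε * sa hF M hM ε)) := by
    generalize sa hF M hM ε = β
    have : (2 : ℕ) ^ 3 = 8 := rfl
    rw [this]
    simp only [pow_succ, pow_zero, one_mul, mul_assoc]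
  have hx : (xor ε ε) = false := by cases ε <;> rfl
  rw [e, sa_mul, sa_mul, sa_mul]
  set N := M * tw ε M with hN
  have h1 : (M * tw ε M * tw (xor ε ε) (M * tw ε M) *
      tw (xor (xor ε ε) (xor ε ε)) (M * tw ε M * tw (xor ε ε) (M * tw ε M))).det = (1 : M4 F).det := by
    rw [hx, Bool.xor_self, tw_false, tw_false, det_mul, det_mul, det_one]
    have := det_pow (un_mul hM (un_tw ε hM))
    linear_combination this
  have hx2 : (xor (xor (xor ε ε) (xor ε ε)) (xor (xor ε ε) (xor ε ε))) = false := by simp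
  have h11 : st (1 : M4 F) * 1 = 1 := by rw [st_one, one_mul]
  obtain ⟨k, hk⟩ := exists_conj_mul hF h11 (un_mul (un_mul (un_mul hM (un_tw ε hM)) (un_tw (xor ε ε)
    (un_mul hM (un_tw ε hM)))) (un_tw (xor (xor ε ε) (xor ε ε)) (un_mul (un_mul hM (un_tw ε hM))
      (un_tw (xor ε ε) (un_mul hM (un_tw ε hM)))))) false h1
  rw [sa_one hF h11 (c := 1) (by rw [one_smul]), mul_one] at hk
  refine ⟨k, ?_⟩
  rw [hk]
  congr 1
  exact hx2.symm

theorem card_BA (hF : Fintype.card F = 9) :
    Nat.card {α : MulAut (PSU 4 F 3) // FrontB.BA (QQ hF) α} ≤ 8 := by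
  classical
  obtain ⟨a, ha⟩ := exists_a hF
  have hv : ∀ v : Fin 4, (![1, -1, a, -a] : Fin 4 → F) v ^ 4 = 1 := by
    intro v
    have h4 := a_pow ha
    fin_cases v
    · exact one_pow 4
    · exact neg_pow4 (one_pow 4)
    · exact h4
    · exact neg_pow4 h4
  have hd : ∀ v : Fin 4, FrontB.BA (QQ hF) (del hF _ (hv v)) := fun v r hr => del_fix_Q hF (hv v) hr
  have hr : ∀ v : Fin 4, FrontB.BA (QQ hF) (ref hF _ (hv v)) := fun v r hr => ref_fix_Q hF (hv v) hr
  let f : Bool × Fin 4 → {α : MulAut (PSU 4 F 3) // FrontB.BA (QQ hF) α} := fun p =>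
    if p.1 then ⟨del hF _ (hv p.2), hd p.2⟩ else ⟨ref hF _ (hv p.2), hr p.2⟩
  have hf : Function.Surjective f := by
    rintro ⟨α, hα⟩
    obtain ⟨b, hb, hb'⟩ := cent_Q hF α hα
    have h4 : ∃ v : Fin 4, (![1, -1, a, -a] : Fin 4 → F) v = b := by
      rcases four_cases ha hb with rfl | rfl | rfl | rfl
      · exact ⟨0, rfl⟩
      · exact ⟨1, rfl⟩
      · exact ⟨2, rfl⟩
      · exact ⟨3, rfl⟩
    obtain ⟨v, hv'⟩ := h4
    rcases hb' with rfl | rfl
    · refine ⟨(true, v), Subtype.ext ?_⟩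
      exact del_congr hF (hv v) hb hv'
    · refine ⟨(false, v), Subtype.ext ?_⟩
      exact ref_congr hF (hv v) hb hv'
  refine (Nat.card_le_card_of_surjective f hf).trans (le_of_eq ?_)
  rw [Nat.card_eq_fintype_card]
  rfl

theorem z2_del (hF : Fintype.card F = 9) {b : F} (hb : b ^ 4 = 1) (h : b ^ 2 = 1) :
    FrontB.Z2 (pr 4 F 3 d) (del hF b hb) := del_sq hF hb h

theorem cc_aux (hF : Fintype.card F = 9) {b c : F} (hb : b ^ 4 = 1) (hc : c ^ 4 = 1)
    (h : del hF b hb * ref hF c hc = ref hF c hc * del hF b hb) : b ^ 2 = 1 := by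
  have h1 : del hF b hb = ref hF c hc * del hF b hb * ref hF c hc := by
    rw [← h, mul_assoc, ref_sq, mul_one]
  rw [ref_mul_del, ref_mul_ref] at h1
  have h2 := del_inj hF _ _ h1
  linear_combination b * h2 + b ^ 4 * hc + hb

theorem z2_inv (_hF : Fintype.card F = 9) {α β : MulAut (PSU 4 F 3)}
    (h : β = α ∨ β = α * MulAut.conj (pr 4 F 3 d)) : FrontB.Z2 (pr 4 F 3 d) (α⁻¹ * β) := by
  rcases h with rfl | rfl
  · left; rw [inv_mul_cancel]
  · right; rw [inv_mul_cancel_left]

/-- commuting elements of `B̄` -/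
theorem cc (hF : Fintype.card F = 9) (α β : MulAut (PSU 4 F 3)) (hα : FrontB.BA (QQ hF) α)
    (hβ : FrontB.BA (QQ hF) β) (h : α * β = β * α) :
    FrontB.Z2 (pr 4 F 3 d) α ∨ FrontB.Z2 (pr 4 F 3 d) β ∨ FrontB.Z2 (pr 4 F 3 d) (α⁻¹ * β) := by
  obtain ⟨b, hb, rfl | rfl⟩ := cent_Q hF α hα <;> obtain ⟨c, hc, rfl | rfl⟩ := cent_Q hF β hβ
  · rcases sq_pm hb with h1 | h1
    · exact Or.inl (z2_del hF hb h1)
    rcases sq_pm hc with h2 | h2
    · exact Or.inr (Or.inl (z2_del hF hc h2))
    refine Or.inr (Or.inr (z2_inv hF ?_))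
    have h3 : (c - b) * (c + b) = 0 := by linear_combination h2 - h1
    rcases mul_eq_zero.1 h3 with h4 | h4
    · left; exact del_congr hF _ _ (by linear_combination h4)
    · right
      rw [del_mul_d]
      exact del_congr hF _ _ (by linear_combination h4)
  · exact Or.inl (z2_del hF hb (cc_aux hF hb hc h))
  · exact Or.inr (Or.inl (z2_del hF hc (cc_aux hF hc hb h.symm)))
  · refine Or.inr (Or.inr (z2_inv hF ?_))
    rw [ref_mul_ref, ref_mul_ref] at h
    have h3 := del_inj hF _ _ h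
    have h4 : (c - b) * (c + b) = 0 := by
      linear_combination -b * c * h3 + b ^ 2 * hc - c ^ 2 * hb
    rcases mul_eq_zero.1 h4 with h5 | h5
    · left; exact ref_congr hF _ _ (by linear_combination h5)
    · right
      rw [ref_mul_d]
      exact ref_congr hF _ _ (by linear_combination h5)

/-- **`FrontK` for `U₄(3)`.** -/
theorem exists_front (hF : Fintype.card F = 9) : ∃ i j k l x₁ x₂ : PSU 4 F 3,
    FrontB.FrontK (pr 4 F 3 d) (QQ hF) i j k l x₁ x₂ := by
  obtain ⟨i, j, k, l, x₁, x₂, y, s, h, -, -⟩ := U43Tw.exists_tw (F := F) hF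
  have C := cr hF
  have hzR := (two_pr hF).zR
  have hinv : ∀ α : MulAut (PSU 4 F 3), (∀ x ∈ QQ hF, α x = x) → ∀ x ∈ QQ hF, α⁻¹ x = x := by
    intro α hα x hx
    rw [MulAut.inv_apply, MulEquiv.symm_apply_eq, hα x hx]
  have hzz : MulAut.conj (pr 4 F 3 (d : SU 4 F 3)) * MulAut.conj (pr 4 F 3 d) = 1 := by
    rw [← map_mul, d_sq, map_one]
  have hzn : MulAut.conj (pr 4 F 3 (d : SU 4 F 3)) ≠ 1 := by
    intro h1
    exact d_ne hF (conj_inj hF (by rw [h1, map_one]))
  have hzc : ∀ α : MulAut (PSU 4 F 3), (∀ x ∈ QQ hF, α x = x) →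
      α * MulAut.conj (pr 4 F 3 d) = MulAut.conj (pr 4 F 3 d) * α := by
    intro α hα
    ext x
    show α (pr 4 F 3 d * x * (pr 4 F 3 d)⁻¹) = pr 4 F 3 d * α x * (pr 4 F 3 d)⁻¹
    rw [map_mul, map_mul, map_inv, hα _ hzR]
  refine ⟨i, j, k, l, x₁, x₂, (two_pr hF).toBase, NICase.frame_of_plus h.toPlus h.x₁_act h.x₂_act, h.gen,
    fun x hx ho => od_of_case h.toCase9aa hx ho, ⟨s, mul_inv_eq_iff_eq_mul.1 h.s_act.z, h.s_act.i⟩, out hF,
    card_BA hF, C.sq, ?_, ?_⟩
  · intro α β hα hβ h1 h2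
    rcases C.un α β hα hβ h1 h2 with rfl | rfl
    · left; rw [inv_mul_cancel]
    · right; rw [inv_mul_cancel_left]
  · exact cc hF

end Cfsg.Agent.OddHalf.D6.QThree.U43AutKF
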