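import Cfsg.Agent.OddHalf.D6.QThree.PumpHyp
import Cfsg.Agent.OddHalf.Orders.ExcFi23

/-!
# The pump-up fact: the exceptional groups of Lie type (`ExcOrd`)
-/

set_option autoImplicit false

namespace Cfsg.Agent.OddHalf.D6.QThree.Pump

open Cfsg.Agent.OddHalf.Orders

universe u

theorem g2Chk' : allEx 25920 6531840 g2 (fun _ => 1) 4 = true := by decide +kernel

theorem g2_big : Big.{u} (fun G _ => Lie.IsoChevG2 G) := by
  intro X _ hX hd
  by_contra hcon
  have hN : Nat.card X ≤ 6531840 := by omega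
  obtain ⟨F, _, _, h3, ⟨e⟩⟩ := hX
  have h : Nat.card X = g2 (Fintype.card F) := (Nat.card_congr e.toEquiv).trans (S1059.result rfl)
  have hq : 2 ≤ Fintype.card F := Fintype.one_lt_card
  have h1 : 1 * Nat.card X = g2 (Fintype.card F) := by rw [one_mul, h]
  refine no g2Chk' hq (lt_of_pow (d := 12) (D := 1) ?_ hN (by norm_num)) h1 hd hN
  rw [h1]; exact le_g2 hq

theorem f4_big : Big.{u} (fun G _ => Lie.IsoF4 G) := by
  intro X _ hX _
  by_contra hcon
  have hN : Nat.card X ≤ 6531840 := by omega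
  obtain ⟨F, _, _, ⟨e⟩⟩ := hX
  have h : Nat.card X = f4 (Fintype.card F) := (Nat.card_congr e.toEquiv).trans (S1062.result rfl)
  have hq : 2 ≤ Fintype.card F := Fintype.one_lt_card
  refine big (D := 1) hq ((le_f4 hq).trans ?_) hN (by norm_num)
  rw [one_mul, h]

theorem te6_big : Big.{u} (fun G _ => Lie.Iso2E6 G) := by
  intro X _ hX _
  by_contra hcon
  exact e26_fi23 hX (by omega)

theorem td4_big : Big.{u} (fun G _ => Lie.Iso3D4 G) := by
  intro X _ hX _
  by_contra hcon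
  have hN : Nat.card X ≤ 6531840 := by omega
  obtain ⟨F, _, _, q, hpp, hF, ⟨e⟩⟩ := hX
  have h : Nat.card X = d4 q := (Nat.card_congr e.toEquiv).trans (S1067.result hpp hF)
  have hq : 2 ≤ q := hpp.two_le
  refine big (D := 1) hq ((le_d4 hq).trans ?_) hN (by norm_num)
  rw [one_mul, h]

theorem sz_big : Big.{u} (fun G _ => Lie.IsoSuzuki G) := by
  intro X _ hX hd
  by_contra hcon
  have hN : Nat.card X ≤ 6531840 := by omega
  obtain ⟨F, _, _, m, hm, hF, ⟨e⟩⟩ := hX
  have h : Nat.card X = sz (2 ^ (2 * m + 1)) :=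
    (Nat.card_congr e.toEquiv).trans (S1163.result hm hF).1
  rcases Nat.lt_or_ge m 2 with h2 | h2
  · obtain rfl : m = 1 := by omega
    have h3 : sz (2 ^ (2 * 1 + 1)) = 29120 := by decide +kernel
    rw [h3] at h
    omega
  · have hq : 2 ^ 5 ≤ 2 ^ (2 * m + 1) := Nat.pow_le_pow_right (by norm_num) (by omega)
    have h3 : (2 ^ 5) ^ 2 * (2 ^ 5 - 1) * ((2 ^ 5) ^ 2 + 1) ≤ sz (2 ^ (2 * m + 1)) := by
      unfold sz
      exact Nat.mul_le_mul (Nat.mul_le_mul (Nat.pow_le_pow_left hq _) (by omega))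
        (Nat.add_le_add_right (Nat.pow_le_pow_left hq _) _)
    rw [← h] at h3
    norm_num at h3
    omega

theorem ree_big : Big.{u} (fun G _ => Lie.IsoRee G) := by
  intro X _ hX _
  by_contra hcon
  have hN : Nat.card X ≤ 6531840 := by omega
  obtain ⟨F, _, _, m, hm, hF, ⟨e⟩⟩ := hX
  have h : Nat.card X = ree (3 ^ (2 * m + 1)) :=
    (Nat.card_congr e.toEquiv).trans (S1069.result hF)
  have hq : 3 ^ 3 ≤ 3 ^ (2 * m + 1) := Nat.pow_le_pow_right (by norm_num) (by omega)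
  have h3 : (3 ^ 3) ^ 3 * (3 ^ 3 - 1) * ((3 ^ 3) ^ 3 + 1) ≤ ree (3 ^ (2 * m + 1)) := by
    unfold ree
    exact Nat.mul_le_mul (Nat.mul_le_mul (Nat.pow_le_pow_left hq _) (by omega))
      (Nat.add_le_add_right (Nat.pow_le_pow_left hq _) _)
  rw [← h] at h3
  norm_num at h3
  omega

theorem tf4_big : Big.{u} (fun G _ => Lie.Iso2F4 G) := by
  intro X _ hX _
  by_contra hcon
  have hN : Nat.card X ≤ 6531840 := by omega
  obtain ⟨F, _, _, m, hm, hF, ⟨e⟩⟩ := hX
  have h : Nat.card X = f42 (2 ^ (2 * m + 1)) :=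
    (Nat.card_congr e.toEquiv).trans (S1068.result hF)
  have hq : 2 ≤ 2 ^ (2 * m + 1) := by
    calc 2 = 2 ^ 1 := rfl
      _ ≤ _ := Nat.pow_le_pow_right (by norm_num) (by omega)
  have h3 : (2 ^ (2 * m + 1)) ^ 24 ≤ Nat.card X := by
    rw [h]
    generalize 2 ^ (2 * m + 1) = q at hq
    exact mul_pow_le (mul_pow_le (mul_pow_le (mul_pow_le (b := 0) le_rfl (by rw [pow_zero]; omega))
      (pow_le_add q 3)) (pow_le_sub hq 3)) (pow_le_add q 6)
  exact big (D := 1) hq (by rw [one_mul]; exact h3) hN (by norm_num)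

theorem excOrd : ExcOrd.{u} where
  g2 := g2_big
  f4 := f4_big
  e6 := fun X _ hX _ => by by_contra hcon; exact e6_fi23 hX (by omega)
  e7 := fun X _ hX _ => by by_contra hcon; exact e7_fi23 hX (by omega)
  e8 := fun X _ hX _ => by by_contra hcon; exact e8_fi23 hX (by omega)
  te6 := te6_big
  td4 := td4_big
  sz := sz_big
  ree := ree_big
  tf4 := tf4_big

end Cfsg.Agent.OddHalf.D6.QThree.Pump
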