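import Mathlib

/-!
# The pump-up fact: arithmetic of the order formulas of the classical families

For each classical family: the order formula together with `25920 ∣ c` and `c ≤ 6531840` leaves only finitely many
parameters.
-/

set_option autoImplicit false

namespace Cfsg.Agent.OddHalf.D6.QThree.PumpArith

open Finset

/-! ### `PSL_n(q)` -/

theorem psl_two {q c : ℕ} (hq : 2 ≤ q) (h : Nat.gcd 2 (q - 1) * ((q - 1) * c) = (q ^ 2 - 1) * (q ^ 2 - q))
    (hd : 25920 ∣ c) (hc : c ≤ 6531840) : False := by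
  obtain ⟨d, rfl⟩ : ∃ d, q = d + 1 := ⟨q - 1, by omega⟩
  have hd1 : 1 ≤ d := by omega
  have e1 : (d + 1) ^ 2 - 1 = d * (d + 2) := by
    have : (d + 1) ^ 2 = d * (d + 2) + 1 := by ring
    omega
  have e2 : (d + 1) ^ 2 - (d + 1) = d * (d + 1) := by
    have : (d + 1) ^ 2 = d * (d + 1) + (d + 1) := by ring
    omega
  rw [e1, e2, Nat.add_sub_cancel] at h
  have h' : Nat.gcd 2 d * c = d * (d + 1) * (d + 2) := by
    apply Nat.eq_of_mul_eq_mul_left (show 0 < d by omega)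
    calc d * (Nat.gcd 2 d * c) = Nat.gcd 2 d * (d * c) := by ring
      _ = d * (d + 2) * (d * (d + 1)) := h
      _ = _ := by ring
  have hb : d * d * d ≤ 13063680 := by
    have h1 : d * d * d ≤ d * (d + 1) * (d + 2) := by nlinarith
    have h2 : Nat.gcd 2 d * c ≤ 2 * c := Nat.mul_le_mul_right _ (Nat.gcd_le_left _ (by norm_num))
    omega
  have hd236 : d < 236 := by
    by_contra hcon
    have h3 : 236 ≤ d := by omega
    have h4 : 236 * 236 * 236 ≤ d * d * d := Nat.mul_le_mul (Nat.mul_le_mul h3 h3) h3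
    omega
  have hm : Nat.gcd 2 d * 25920 ∣ d * (d + 1) * (d + 2) := by
    rw [← h']
    exact Nat.mul_dvd_mul_left _ hd
  have key : ∀ d < 236, 1 ≤ d → ¬ (Nat.gcd 2 d * 25920 ∣ d * (d + 1) * (d + 2)) := by
    decide +kernel
  exact key d hd236 hd1 hm

theorem psl_ge {n q c : ℕ} (hn : 2 ≤ n) (hq : 2 ≤ q)
    (h : Nat.gcd n (q - 1) * ((q - 1) * c) = ∏ i : Fin n, (q ^ n - q ^ (i : ℕ))) :
    q ^ (n * (n - 1)) * (q - 1) ^ (n - 2) ≤ c := by
  obtain ⟨d, rfl⟩ : ∃ d, q = d + 1 := ⟨q - 1, by omega⟩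
  rw [Nat.add_sub_cancel] at *
  have h1 : ((d + 1) ^ (n - 1) * d) ^ n ≤ ∏ i : Fin n, ((d + 1) ^ n - (d + 1) ^ (i : ℕ)) := by
    calc ((d + 1) ^ (n - 1) * d) ^ n = ∏ _i : Fin n, ((d + 1) ^ (n - 1) * d) := by simp
      _ ≤ _ := by
        apply Finset.prod_le_prod'
        intro i _
        have h2 : (d + 1) ^ (i : ℕ) ≤ (d + 1) ^ (n - 1) := Nat.pow_le_pow_right (by omega) (by omega)
        have h3 : (d + 1) ^ n = (d + 1) ^ (n - 1) * d + (d + 1) ^ (n - 1) := by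
          conv_lhs => rw [show n = (n - 1) + 1 by omega, pow_succ]
          ring
        omega
  have h2 : Nat.gcd n d * (d * c) ≤ d * (d * c) := Nat.mul_le_mul_right _ (Nat.gcd_le_right _ (by omega))
  have h3 : ((d + 1) ^ (n - 1) * d) ^ n = (d * d) * ((d + 1) ^ (n * (n - 1)) * d ^ (n - 2)) := by
    rw [mul_pow, ← pow_mul, mul_comm (n - 1) n]
    conv_lhs => rw [show d ^ n = d ^ (n - 2 + 2) by congr 1; omega, pow_add]
    ring
  have h4 : (d * d) * ((d + 1) ^ (n * (n - 1)) * d ^ (n - 2)) ≤ (d * d) * c := by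
    calc _ = ((d + 1) ^ (n - 1) * d) ^ n := h3.symm
      _ ≤ _ := h1
      _ = Nat.gcd n d * (d * c) := h.symm
      _ ≤ d * (d * c) := h2
      _ = _ := by ring
  exact Nat.le_of_mul_le_mul_left h4 (Nat.mul_pos (by omega) (by omega))

theorem psl {n q c : ℕ} (hn : 2 ≤ n) (hq : 2 ≤ q)
    (h : Nat.gcd n (q - 1) * ((q - 1) * c) = ∏ i : Fin n, (q ^ n - q ^ (i : ℕ)))
    (hd : 25920 ∣ c) (hc : c ≤ 6531840) : n = 4 ∧ q = 3 := by
  have hge := psl_ge hn hq h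
  have hn5 : n < 6 := by
    by_contra hcon
    have h6 : 6 ≤ n := by omega
    have h1 : 30 ≤ n * (n - 1) := by
      calc 30 = 6 * 5 := by norm_num
        _ ≤ n * (n - 1) := Nat.mul_le_mul h6 (by omega)
    have h2 : 2 ^ 30 ≤ q ^ (n * (n - 1)) :=
      (Nat.pow_le_pow_right (by norm_num) h1).trans (Nat.pow_le_pow_left hq _)
    have h3 : 1 ≤ (q - 1) ^ (n - 2) := Nat.one_le_pow _ _ (by omega)
    have h4 : 2 ^ 30 * 1 ≤ q ^ (n * (n - 1)) * (q - 1) ^ (n - 2) := Nat.mul_le_mul h2 h3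
    omega
  interval_cases n
  · exfalso
    apply psl_two hq _ hd hc
    rw [h]
    simp [Fin.prod_univ_succ]
  · exfalso
    have hq9 : q < 10 := by
      by_contra hcon
      have h1 : 10 ≤ q := by omega
      have h2 : 10 ^ 6 * 9 ^ 1 ≤ q ^ 6 * (q - 1) ^ 1 :=
        Nat.mul_le_mul (Nat.pow_le_pow_left h1 _) (Nat.pow_le_pow_left (by omega) _)
      norm_num at h2 hge
      omega
    interval_cases q <;> simp [Fin.prod_univ_succ] at h <;> omega
  · have hq4 : q < 4 := by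
      by_contra hcon
      have h1 : 4 ≤ q := by omega
      have h2 : 4 ^ 12 * 3 ^ 2 ≤ q ^ 12 * (q - 1) ^ 2 :=
        Nat.mul_le_mul (Nat.pow_le_pow_left h1 _) (Nat.pow_le_pow_left (by omega) _)
      norm_num at h2 hge
      omega
    interval_cases q
    · exfalso
      simp [Fin.prod_univ_succ] at h
      omega
    · exact ⟨rfl, rfl⟩
  · exfalso
    have hq3 : q < 3 := by
      by_contra hcon
      have h1 : 3 ≤ q := by omega
      have h2 : 3 ^ 20 * 2 ^ 3 ≤ q ^ 20 * (q - 1) ^ 3 :=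
        Nat.mul_le_mul (Nat.pow_le_pow_left h1 _) (Nat.pow_le_pow_left (by omega) _)
      norm_num at h2 hge
      omega
    interval_cases q
    simp [Fin.prod_univ_succ] at h
    omega

/-! ### symplectic orders -/

theorem sp_ge {m q : ℕ} (hq : 2 ≤ q) :
    q ^ (m ^ 2) ≤ ∏ i ∈ range m, (q ^ (2 * (i + 1)) - 1) := by
  have h1 : ∏ i ∈ range m, q ^ (2 * i + 1) ≤ ∏ i ∈ range m, (q ^ (2 * (i + 1)) - 1) := by
    apply Finset.prod_le_prod'
    intro i _
    have h2 : q ^ (2 * (i + 1)) = q ^ (2 * i + 1) * q := by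
      rw [show 2 * (i + 1) = 2 * i + 1 + 1 by ring, pow_succ]
    have h3 : 1 ≤ q ^ (2 * i + 1) := Nat.one_le_pow _ _ (by omega)
    have h4 : q ^ (2 * i + 1) * 2 ≤ q ^ (2 * i + 1) * q := Nat.mul_le_mul_left _ hq
    omega
  refine le_trans (le_of_eq ?_) h1
  rw [Finset.prod_pow_eq_pow_sum]
  congr 1
  induction m with
  | zero => simp
  | succ m ih =>
    rw [Finset.sum_range_succ, ← ih]
    · ring
    · exact (Finset.prod_le_prod' (fun i _ => by
        have h2 : q ^ (2 * (i + 1)) = q ^ (2 * i + 1) * q := by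
          rw [show 2 * (i + 1) = 2 * i + 1 + 1 by ring, pow_succ]
        have h3 : 1 ≤ q ^ (2 * i + 1) := Nat.one_le_pow _ _ (by omega)
        have h4 : q ^ (2 * i + 1) * 2 ≤ q ^ (2 * i + 1) * q := Nat.mul_le_mul_left _ hq
        omega))

theorem sp {m q c : ℕ} (hm : 2 ≤ m) (hq : 2 ≤ q) (h3 : m = 2 → 3 ≤ q)
    (h : Nat.gcd 2 (q - 1) * c = q ^ (m ^ 2) * ∏ i ∈ range m, (q ^ (2 * (i + 1)) - 1))
    (hd : 25920 ∣ c) (hc : c ≤ 6531840) : (m = 2 ∧ q = 3) ∨ (m = 3 ∧ q = 2) := by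
  have hge : q ^ (2 * m ^ 2) ≤ 2 * c := by
    calc q ^ (2 * m ^ 2) = q ^ (m ^ 2) * q ^ (m ^ 2) := by rw [two_mul, pow_add]
      _ ≤ q ^ (m ^ 2) * ∏ i ∈ range m, (q ^ (2 * (i + 1)) - 1) := Nat.mul_le_mul_left _ (sp_ge hq)
      _ = _ := h.symm
      _ ≤ 2 * c := Nat.mul_le_mul_right _ (Nat.gcd_le_left _ (by norm_num))
  have hm4 : m < 4 := by
    by_contra hcon
    have h1 : 32 ≤ 2 * m ^ 2 := by nlinarith
    have h2 : 2 ^ 32 ≤ q ^ (2 * m ^ 2) :=
      (Nat.pow_le_pow_right (by norm_num) h1).trans (Nat.pow_le_pow_left hq _)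
    omega
  interval_cases m
  · have hq8 : q < 8 := by
      by_contra hcon
      have h2 : 8 ^ 8 ≤ q ^ 8 := Nat.pow_le_pow_left (by omega) _
      norm_num at h2 hge
      omega
    have h33 := h3 rfl
    interval_cases q
    · exact Or.inl ⟨rfl, rfl⟩
    all_goals
      exfalso
      simp [Finset.prod_range_succ] at h
      omega
  · have hq3 : q < 3 := by
      by_contra hcon
      have h2 : 3 ^ 18 ≤ q ^ 18 := Nat.pow_le_pow_left (by omega) _
      norm_num at h2 hge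
      omega
    interval_cases q
    exact Or.inr ⟨rfl, rfl⟩

/-! ### orthogonal orders -/

theorem odd {m q c : ℕ} (hm : 3 ≤ m) (hq : 3 ≤ q)
    (h : 2 * c = q ^ (m ^ 2) * ∏ i ∈ range m, (q ^ (2 * (i + 1)) - 1)) : 6531840 < c := by
  have hge : q ^ (2 * m ^ 2) ≤ 2 * c := by
    calc q ^ (2 * m ^ 2) = q ^ (m ^ 2) * q ^ (m ^ 2) := by rw [two_mul, pow_add]
      _ ≤ q ^ (m ^ 2) * ∏ i ∈ range m, (q ^ (2 * (i + 1)) - 1) := Nat.mul_le_mul_left _ (sp_ge (by omega))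
      _ = _ := h.symm
  have h1 : 18 ≤ 2 * m ^ 2 := by nlinarith
  have h2 : 3 ^ 18 ≤ q ^ (2 * m ^ 2) :=
    (Nat.pow_le_pow_right (by norm_num) h1).trans (Nat.pow_le_pow_left hq _)
  norm_num at h2
  omega

/-- `q ^ (m(m-1)) * x * ∏_{i<m-1}` with `x ≥ 15`, `q ^ m - 1 ≤ x`. -/
theorem even_aux {m q x c g : ℕ} (hm : 4 ≤ m) (hq : 2 ≤ q) (hx : 15 ≤ x) (hg : g ≤ 4)
    (h : g * c = q ^ (m * (m - 1)) * x * ∏ i ∈ range (m - 1), (q ^ (2 * (i + 1)) - 1)) : 6531840 < c := by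
  have h1 : 12 ≤ m * (m - 1) := by
    calc 12 = 4 * 3 := by norm_num
      _ ≤ m * (m - 1) := Nat.mul_le_mul hm (by omega)
  have h2 : 2 ^ 12 ≤ q ^ (m * (m - 1)) :=
    (Nat.pow_le_pow_right (by norm_num) h1).trans (Nat.pow_le_pow_left hq _)
  have h3 : 2 ^ 9 ≤ ∏ i ∈ range (m - 1), (q ^ (2 * (i + 1)) - 1) := by
    refine le_trans ?_ (sp_ge hq)
    have h4 : 9 ≤ (m - 1) ^ 2 := by
      have : 3 ≤ m - 1 := by omega
      nlinarith
    exact (Nat.pow_le_pow_right (by norm_num) h4).trans (Nat.pow_le_pow_left hq _)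
  have h5 : 2 ^ 12 * 15 * 2 ^ 9 ≤ g * c := by
    rw [h]
    exact Nat.mul_le_mul (Nat.mul_le_mul h2 hx) h3
  have h6 : g * c ≤ 4 * c := Nat.mul_le_mul_right _ hg
  norm_num at h5
  omega

theorem plus {m q c : ℕ} (hm : 4 ≤ m) (hq : 2 ≤ q)
    (h : Nat.gcd 4 (q ^ m - 1) * c = q ^ (m * (m - 1)) * (q ^ m - 1) * ∏ i ∈ range (m - 1), (q ^ (2 * (i + 1)) - 1)) :
    6531840 < c := by
  refine even_aux hm hq ?_ (Nat.gcd_le_left _ (by norm_num)) h
  have h2 : 2 ^ 4 ≤ q ^ m := (Nat.pow_le_pow_right (by norm_num) hm).trans (Nat.pow_le_pow_left hq _)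
  omega

theorem minus {m q c : ℕ} (hm : 4 ≤ m) (hq : 2 ≤ q)
    (h : Nat.gcd 4 (q ^ m + 1) * c = q ^ (m * (m - 1)) * (q ^ m + 1) * ∏ i ∈ range (m - 1), (q ^ (2 * (i + 1)) - 1)) :
    6531840 < c := by
  refine even_aux hm hq ?_ (Nat.gcd_le_left _ (by norm_num)) h
  have h2 : 2 ^ 4 ≤ q ^ m := (Nat.pow_le_pow_right (by norm_num) hm).trans (Nat.pow_le_pow_left hq _)
  omega

/-! ### unitary orders -/

theorem psu_ge {n q : ℕ} (hq : 2 ≤ q) :
    q ^ (n * (n - 1) / 2) ≤ ∏ i ∈ range n, (if Even i then q ^ (i + 1) + 1 else q ^ (i + 1) - 1) := by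
  have h1 : ∏ i ∈ range n, q ^ i ≤
      ∏ i ∈ range n, (if Even i then q ^ (i + 1) + 1 else q ^ (i + 1) - 1) := by
    apply Finset.prod_le_prod'
    intro i _
    have h2 : q ^ (i + 1) = q ^ i * q := pow_succ _ _
    have h3 : 1 ≤ q ^ i := Nat.one_le_pow _ _ (by omega)
    have h4 : q ^ i * 2 ≤ q ^ i * q := Nat.mul_le_mul_left _ hq
    split_ifs <;> omega
  refine le_trans (le_of_eq ?_) h1
  rw [Finset.prod_pow_eq_pow_sum, Finset.sum_range_id]

theorem psu {n q c : ℕ} (hn : 3 ≤ n) (hq : 2 ≤ q) (h32 : ¬ (n = 3 ∧ q = 2))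
    (h : Nat.gcd n (q + 1) * ((q + 1) * c) =
      q ^ (n * (n - 1) / 2) * ∏ i ∈ range n, (if Even i then q ^ (i + 1) + 1 else q ^ (i + 1) - 1))
    (hd : 25920 ∣ c) (hc : c ≤ 6531840) : (n = 4 ∧ q = 2) ∨ (n = 4 ∧ q = 3) := by
  have hge : q ^ (2 * (n * (n - 1) / 2)) ≤ (q + 1) * ((q + 1) * c) := by
    calc q ^ (2 * (n * (n - 1) / 2)) = q ^ (n * (n - 1) / 2) * q ^ (n * (n - 1) / 2) := by
          rw [two_mul, pow_add]
      _ ≤ _ := Nat.mul_le_mul_left _ (psu_ge hq)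
      _ = _ := h.symm
      _ ≤ _ := Nat.mul_le_mul_right _ (Nat.gcd_le_right _ (by omega))
  have hn5 : n < 6 := by
    by_contra hcon
    have h1 : 15 ≤ n * (n - 1) / 2 := by
      rw [Nat.le_div_iff_mul_le (by norm_num)]
      calc 15 * 2 = 6 * 5 := by norm_num
        _ ≤ n * (n - 1) := Nat.mul_le_mul (by omega) (by omega)
    have h2 : q ^ 30 ≤ q ^ (2 * (n * (n - 1) / 2)) := Nat.pow_le_pow_right (by omega) (by omega)
    have h3 : q + 1 ≤ q * q := by nlinarith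
    have h4 : (q + 1) * ((q + 1) * c) ≤ q * q * (q * q * c) :=
      Nat.mul_le_mul h3 (Nat.mul_le_mul h3 le_rfl)
    have h5 : q * q * (q * q * c) = q ^ 4 * c := by ring
    have h6 : q ^ 30 = q ^ 4 * q ^ 26 := by ring
    have h7 : q ^ 4 * q ^ 26 ≤ q ^ 4 * c := by omega
    have h8 : q ^ 26 ≤ c := Nat.le_of_mul_le_mul_left h7 (Nat.pow_pos (by omega))
    have h9 : 2 ^ 26 ≤ q ^ 26 := Nat.pow_le_pow_left hq _
    norm_num at h9
    omega
  interval_cases n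
  · exfalso
    have e : ∏ i ∈ range 3, (if Even i then q ^ (i + 1) + 1 else q ^ (i + 1) - 1)
        = (q + 1) * ((q ^ 2 - 1) * (q ^ 3 + 1)) := by
      have h1 : ¬ Even 1 := by decide
      have h2 : Even 2 := by decide
      simp only [Finset.prod_range_succ, Finset.prod_range_zero, Even.zero, if_true, h1, if_false, h2]
      ring
    have e2 : Nat.gcd 3 (q + 1) * c = q ^ 3 * ((q ^ 2 - 1) * (q ^ 3 + 1)) := by
      apply Nat.eq_of_mul_eq_mul_left (show 0 < q + 1 by omega)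
      rw [e] at h
      calc (q + 1) * (Nat.gcd 3 (q + 1) * c) = Nat.gcd 3 (q + 1) * ((q + 1) * c) := by ring
        _ = q ^ (3 * (3 - 1) / 2) * ((q + 1) * ((q ^ 2 - 1) * (q ^ 3 + 1))) := h
        _ = _ := by norm_num; ring
    have e3 : Nat.gcd 3 (q + 1) * c ≤ 3 * c := Nat.mul_le_mul_right _ (Nat.gcd_le_left _ (by norm_num))
    have hq9 : q < 9 := by
      by_contra hcon
      have h9 : 9 ≤ q := by omega
      have h1 : 9 ^ 3 ≤ q ^ 3 := Nat.pow_le_pow_left h9 _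
      have h2 : 9 ^ 2 ≤ q ^ 2 := Nat.pow_le_pow_left h9 _
      have h3 : 9 ^ 3 * (80 * 730) ≤ q ^ 3 * ((q ^ 2 - 1) * (q ^ 3 + 1)) :=
        Nat.mul_le_mul h1 (Nat.mul_le_mul (by omega) (by omega))
      norm_num at h3
      omega
    interval_cases q
    · exact h32 ⟨rfl, rfl⟩
    all_goals
      norm_num at e2
      omega
  · have e : ∏ i ∈ range 4, (if Even i then q ^ (i + 1) + 1 else q ^ (i + 1) - 1)
        = (q + 1) * ((q ^ 2 - 1) * (q ^ 3 + 1) * (q ^ 4 - 1)) := by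
      have h1 : ¬ Even 1 := by decide
      have h2 : Even 2 := by decide
      have h3 : ¬ Even 3 := by decide
      simp only [Finset.prod_range_succ, Finset.prod_range_zero, Even.zero, if_true, h1, if_false, h2, h3]
      ring
    have e2 : Nat.gcd 4 (q + 1) * c = q ^ 6 * ((q ^ 2 - 1) * (q ^ 3 + 1) * (q ^ 4 - 1)) := by
      apply Nat.eq_of_mul_eq_mul_left (show 0 < q + 1 by omega)
      rw [e] at h
      calc (q + 1) * (Nat.gcd 4 (q + 1) * c) = Nat.gcd 4 (q + 1) * ((q + 1) * c) := by ring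
        _ = q ^ (4 * (4 - 1) / 2) * ((q + 1) * ((q ^ 2 - 1) * (q ^ 3 + 1) * (q ^ 4 - 1))) := h
        _ = _ := by norm_num; ring
    have e3 : Nat.gcd 4 (q + 1) * c ≤ 4 * c := Nat.mul_le_mul_right _ (Nat.gcd_le_left _ (by norm_num))
    have hq4 : q < 4 := by
      by_contra hcon
      have h9 : 4 ≤ q := by omega
      have h1 : 4 ^ 6 ≤ q ^ 6 := Nat.pow_le_pow_left h9 _
      have h2 : 4 ^ 2 ≤ q ^ 2 := Nat.pow_le_pow_left h9 _
      have h3 : 4 ^ 3 ≤ q ^ 3 := Nat.pow_le_pow_left h9 _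
      have h4 : 4 ^ 4 ≤ q ^ 4 := Nat.pow_le_pow_left h9 _
      have h5 : 4 ^ 6 * (15 * 65 * 255) ≤ q ^ 6 * ((q ^ 2 - 1) * (q ^ 3 + 1) * (q ^ 4 - 1)) :=
        Nat.mul_le_mul h1 (Nat.mul_le_mul (Nat.mul_le_mul (by omega) (by omega)) (by omega))
      norm_num at h5
      omega
    interval_cases q
    · exact Or.inl ⟨rfl, rfl⟩
    · exact Or.inr ⟨rfl, rfl⟩
  · exfalso
    have e : ∏ i ∈ range 5, (if Even i then q ^ (i + 1) + 1 else q ^ (i + 1) - 1)
        = (q + 1) * ((q ^ 2 - 1) * (q ^ 3 + 1) * (q ^ 4 - 1) * (q ^ 5 + 1)) := by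
      have h1 : ¬ Even 1 := by decide
      have h2 : Even 2 := by decide
      have h3 : ¬ Even 3 := by decide
      have h4 : Even 4 := by decide
      simp only [Finset.prod_range_succ, Finset.prod_range_zero, Even.zero, if_true, h1, if_false, h2, h3, h4]
      ring
    have e2 : Nat.gcd 5 (q + 1) * c = q ^ 10 * ((q ^ 2 - 1) * (q ^ 3 + 1) * (q ^ 4 - 1) * (q ^ 5 + 1)) := by
      apply Nat.eq_of_mul_eq_mul_left (show 0 < q + 1 by omega)
      rw [e] at h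
      calc (q + 1) * (Nat.gcd 5 (q + 1) * c) = Nat.gcd 5 (q + 1) * ((q + 1) * c) := by ring
        _ = q ^ (5 * (5 - 1) / 2) * ((q + 1) * ((q ^ 2 - 1) * (q ^ 3 + 1) * (q ^ 4 - 1) * (q ^ 5 + 1))) := h
        _ = _ := by norm_num; ring
    have e3 : Nat.gcd 5 (q + 1) * c ≤ 5 * c := Nat.mul_le_mul_right _ (Nat.gcd_le_left _ (by norm_num))
    have hq3 : q < 3 := by
      by_contra hcon
      have h9 : 3 ≤ q := by omega
      have h1 : 3 ^ 10 ≤ q ^ 10 := Nat.pow_le_pow_left h9 _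
      have h2 : 3 ^ 2 ≤ q ^ 2 := Nat.pow_le_pow_left h9 _
      have h3 : 3 ^ 3 ≤ q ^ 3 := Nat.pow_le_pow_left h9 _
      have h4 : 3 ^ 4 ≤ q ^ 4 := Nat.pow_le_pow_left h9 _
      have h5 : 3 ^ 5 ≤ q ^ 5 := Nat.pow_le_pow_left h9 _
      have h6 : 3 ^ 10 * (8 * 28 * 80 * 244) ≤ q ^ 10 * ((q ^ 2 - 1) * (q ^ 3 + 1) * (q ^ 4 - 1) * (q ^ 5 + 1)) :=
        Nat.mul_le_mul h1 (Nat.mul_le_mul (Nat.mul_le_mul (Nat.mul_le_mul (by omega) (by omega)) (by omega))
          (by omega))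
      norm_num at h6
      omega
    interval_cases q
    norm_num at e2
    omega

end Cfsg.Agent.OddHalf.D6.QThree.PumpArith
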