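import Cfsg.Agent.OddHalf.D6.QThree.PumpHyp
import Cfsg.Agent.OddHalf.D6.QThree.PumpArith
import Cfsg.Agent.S0243
import Cfsg.Agent.S0245
import Cfsg.Agent.S0246
import Cfsg.Agent.S0280
import Cfsg.Agent.S0292
import Cfsg.Agent.S0293
import Cfsg.Agent.S0294
import Cfsg.Agent.S0822

/-!
# The pump-up fact: known simple groups of order divisible by `|PSp₄(3)|` and at most `|L₄(3)|`
-/

set_option autoImplicit false

namespace Cfsg.Agent.OddHalf.D6.QThree.Pump

universe u

/-- The outcomes. -/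
inductive Seven (X : Type u) [Group X] : Prop
  | psp (F : Type) [Field F] [Fintype F] (h : Fintype.card F = 3) (e : Nonempty (X ≃* PSp 2 F)) : Seven X
  | psu (F : Type) [Field F] [Fintype F] (h : Fintype.card F = 9) (e : Nonempty (X ≃* PSU 4 F 3)) : Seven X
  | psl (F : Type) [Field F] [Fintype F] (h : Fintype.card F = 3)
      (e : Nonempty (X ≃* Matrix.ProjectiveSpecialLinearGroup (Fin 4) F)) : Seven X
  | sp6 (F : Type) [Field F] [Fintype F] (h : Fintype.card F = 2) (e : Nonempty (X ≃* PSp 3 F)) : Seven X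
  | a9 (e : Nonempty (X ≃* alternatingGroup (Fin 9))) : Seven X
  | a10 (e : Nonempty (X ≃* alternatingGroup (Fin 10))) : Seven X

theorem card_alt (n : ℕ) (hn : 2 ≤ n) : 2 * Nat.card (alternatingGroup (Fin n)) = n.factorial := by
  haveI : Nontrivial (Fin n) := Fin.nontrivial_iff_two_le.2 hn
  rw [Nat.card_eq_fintype_card, two_mul_card_alternatingGroup, Fintype.card_perm, Fintype.card_fin]

theorem alternating {X : Type u} [Group X] (hX : IsAlternating X) (hd : 25920 ∣ Nat.card X)
    (hc : Nat.card X ≤ 6531840) : Seven X := by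
  obtain ⟨n, hn, ⟨e⟩⟩ := hX
  have h1 := card_alt n (by omega)
  rw [← Nat.card_congr e.toEquiv] at h1
  have hn11 : n < 11 := by
    by_contra hcon
    have h2 : Nat.factorial 11 ≤ Nat.factorial n := Nat.factorial_le (by omega)
    have h3 : Nat.factorial 11 = 39916800 := by decide +kernel
    omega
  interval_cases n
  · exfalso
    have : Nat.factorial 5 = 120 := by decide
    omega
  · exfalso
    have : Nat.factorial 6 = 720 := by decide
    omega
  · exfalso
    have : Nat.factorial 7 = 5040 := by decide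
    omega
  · exfalso
    have : Nat.factorial 8 = 40320 := by decide
    omega
  · exact Seven.a9 ⟨e⟩
  · exact Seven.a10 ⟨e⟩

theorem psl {X : Type u} [Group X] (hX : IsPSL X) (hd : 25920 ∣ Nat.card X)
    (hc : Nat.card X ≤ 6531840) : Seven X := by
  obtain ⟨F, _, _, n, hn, _, ⟨e⟩⟩ := hX
  have h1 := Cfsg.Agent.S0243.result (F := F) rfl n hn
  rw [← Nat.card_congr e.toEquiv] at h1
  have hq : 2 ≤ Fintype.card F := Fintype.one_lt_card
  obtain ⟨rfl, hF⟩ := PumpArith.psl hn hq h1 hd hc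
  exact Seven.psl F hF ⟨e⟩

theorem card_psp (F : Type) [Field F] [Fintype F] (m : ℕ) (hm : 1 ≤ m) :
    Nat.gcd 2 (Fintype.card F - 1) * Nat.card (PSp m F)
      = (Fintype.card F) ^ (m ^ 2) * ∏ i ∈ Finset.range m, ((Fintype.card F) ^ (2 * (i + 1)) - 1) := by
  rw [← Cfsg.Agent.S0245.result (F := F) rfl m, ← Cfsg.Agent.S0246.result (F := F) rfl m hm]
  exact Subgroup.card_mul_index (Subgroup.center (Matrix.symplecticGroup (Fin m) F))

theorem psp {X : Type u} [Group X] (hX : IsPSp X) (hd : 25920 ∣ Nat.card X)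
    (hc : Nat.card X ≤ 6531840) : Seven X := by
  obtain ⟨F, _, _, m, hm, hm3, ⟨e⟩⟩ := hX
  have h1 := card_psp F m (by omega)
  rw [← Nat.card_congr e.toEquiv] at h1
  have hq : 2 ≤ Fintype.card F := Fintype.one_lt_card
  rcases PumpArith.sp hm hq hm3 h1 hd hc with ⟨rfl, hF⟩ | ⟨rfl, hF⟩
  · exact Seven.psp F hF ⟨e⟩
  · exact Seven.sp6 F hF ⟨e⟩

theorem psu {X : Type u} [Group X] (hX : IsPSU X) (hd : 25920 ∣ Nat.card X)
    (hc : Nat.card X ≤ 6531840) : Seven X := by
  obtain ⟨F, _, _, n, q, hF, hn, h32, ⟨e⟩⟩ := hX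
  have h1 := Cfsg.Agent.S0280.result hF n (by omega)
  rw [← Nat.card_congr e.toEquiv] at h1
  have hq : 2 ≤ q := by
    have h2 : 2 ≤ Fintype.card F := Fintype.one_lt_card
    rw [hF] at h2
    by_contra hcon
    have : q = 0 ∨ q = 1 := by omega
    rcases this with rfl | rfl <;> norm_num at h2
  rcases PumpArith.psu hn hq h32 h1 hd hc with ⟨rfl, rfl⟩ | ⟨rfl, rfl⟩
  · have e3 : Fintype.card (ZMod 3) = 3 := ZMod.card 3
    obtain ⟨e'⟩ := Cfsg.Agent.S0822.result (F := F) (K := ZMod 3) (by simpa using hF) e3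
    exact Seven.psp (ZMod 3) e3 ⟨e.trans e'⟩
  · exact Seven.psu F (by simpa using hF) ⟨e⟩

theorem omegaOdd {X : Type u} [Group X] (hX : IsPOmegaOdd X) : 6531840 < Nat.card X := by
  obtain ⟨F, _, _, m, hm, hodd, ⟨e⟩⟩ := hX
  have h1 := Cfsg.Agent.S0292.result (F := F) rfl hodd m hm
  rw [← Nat.card_congr e.toEquiv] at h1
  have hq : 3 ≤ Fintype.card F := by
    have h2 : 2 ≤ Fintype.card F := Fintype.one_lt_card
    rcases hodd with ⟨k, hk⟩
    omega
  exact PumpArith.odd hm hq h1

theorem omegaPlus {X : Type u} [Group X] (hX : IsPOmegaPlus X) : 6531840 < Nat.card X := by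
  obtain ⟨F, _, _, m, hm, ⟨e⟩⟩ := hX
  have h1 := Cfsg.Agent.S0293.result (F := F) rfl m hm
  rw [← Nat.card_congr e.toEquiv] at h1
  exact PumpArith.plus hm Fintype.one_lt_card h1

theorem omegaMinus {X : Type u} [Group X] (hX : IsPOmegaMinus X) : 6531840 < Nat.card X := by
  obtain ⟨F, _, _, m, a, b, hm, hab, ⟨e⟩⟩ := hX
  have h1 := Cfsg.Agent.S0294.result (F := F) rfl m hm a b hab
  rw [← Nat.card_congr e.toEquiv] at h1
  exact PumpArith.minus hm Fintype.one_lt_card h1

/-- **(PU1)** -/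
theorem seven (hS : SpOrd.{u}) (hE : ExcOrd.{u}) {X : Type u} [Group X] (hX : IsKnownSimple' X)
    (hd : 25920 ∣ Nat.card X) (hc : Nat.card X ≤ 6531840) : Seven X := by
  rcases hX with h | h | h | h | h | h | h | h | h | h
  · exfalso
    have h2 : Nat.Prime (Nat.card X) := h
    have h3 : 2 ∣ Nat.card X := Dvd.dvd.trans (by norm_num) hd
    have h4 : 3 ∣ Nat.card X := Dvd.dvd.trans (by norm_num) hd
    have h5 := (Nat.prime_dvd_prime_iff_eq Nat.prime_two h2).1 h3
    have h6 := (Nat.prime_dvd_prime_iff_eq Nat.prime_three h2).1 h4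
    omega
  · exact alternating h hd hc
  · exact psl h hd hc
  · exact psp h hd hc
  · exact psu h hd hc
  · exact absurd (omegaOdd h) (by omega)
  · exact absurd (omegaPlus h) (by omega)
  · exact absurd (omegaMinus h) (by omega)
  · exact absurd (exceptional hS hE h hd) (by omega)
  · exact absurd (hS.sporadic h hd) (by omega)

end Cfsg.Agent.OddHalf.D6.QThree.Pump
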