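import Cfsg.Agent.OddHalf.D6.QThree.PumpAbs
import Cfsg.Agent.OddHalf.D6.QThree.U43Facts
import Cfsg.Agent.KFacts.LFourThree.Facts
import Cfsg.Agent.KFacts.PSpFourThree.Classes
import Cfsg.Agent.OddHalf.D6.QThree.PumpKnown

/-!
# The pump-up fact: `O²(C(z))` in `U₄(3)`, `L₄(3)` and `PSp₄(3)`
-/

set_option autoImplicit false

namespace Cfsg.Agent.OddHalf.D6.QThree.Pump

open Subgroup Cfsg.Agent.OddHalf.D6.QThree.Facts
open Cfsg.Agent.LargeExtra.W2 Cfsg.Agent.SmallExtra438.ModelA Cfsg.Agent.SmallExtra438.FrameA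

/-! ### `U₄(3)`, `L₄(3)` -/

theorem chk_nine : ∀ k < 36, 9 ≤ k → km (km (km (km k k) (km k k)) (km (km k k) (km k k))) k ≠ 0 := by
  decide +kernel

theorem chk_km : ∀ k < 9, ∀ k' < 9, km k k' < 9 := by decide +kernel

theorem mm_div {t m n : ℕ} (hm : m < 1152) (hn : n < 1152) : mm t m n / 32 = km (m / 32) (n / 32) := by
  have h1 : act (m / 32) (n % 32) < 32 := act_lt _ (by omega) _ (by omega)
  have h2 := Cfsg.Agent.SmallExtra438.Model.qm_lt (m % 32) (by omega) _ h1
  have h5 := (xor_tw _ h2 (tw t (m / 32) (n / 32)) (tw_lt _ _ _)).1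
  unfold mm; omega

section

variable {G : Type*} [Group G] [Finite G] {Q : Subgroup G} {z i j k l x₁ x₂ y s : G}

/-- `O²(C(z))` has at most 288 elements -/
theorem card_oo_le (h : Case9aa Q z i j k l x₁ x₂ y s) : Nat.card (OO z) ≤ 288 := by
  obtain ⟨t, ht8, ht⟩ := exists_tw h
  let K₀ : Submonoid G :=
    { carrier := {g | ∃ m < 288, F z i j k l x₁ x₂ y s m = g}
      one_mem' := ⟨0, by norm_num, F_0⟩
      mul_mem' := by
        rintro _ _ ⟨m, hm, rfl⟩ ⟨n, hn, rfl⟩
        refine ⟨mm t m n, ?_, F_mul h ht (by omega) (by omega)⟩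
        have h1 := mm_div (t := t) (m := m) (n := n) (by omega) (by omega)
        have h2 := chk_km (m / 32) (by omega) (n / 32) (by omega)
        omega }
  let K : Subgroup G :=
    { K₀ with
      inv_mem' := by
        intro g hg
        have h1 : g⁻¹ = g ^ (orderOf g - 1) := by
          rw [inv_eq_iff_mul_eq_one, ← pow_succ', Nat.sub_add_cancel (orderOf_pos g),
            pow_orderOf_eq_one]
        rw [h1]
        exact K₀.pow_mem hg _ }
  have hle : OO z ≤ K := by
    unfold OO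
    rw [closure_le]
    rintro x ⟨hx, ho⟩
    obtain ⟨m, hm, rfl⟩ := exists_code h hx
    refine ⟨m, ?_, rfl⟩
    by_contra hcon
    -- the ninth power is trivial
    have h4 : orderOf (F z i j k l x₁ x₂ y s m) ∣ 1152 := by
      rw [← h.card_cent]
      have h5 : orderOf (⟨F z i j k l x₁ x₂ y s m, mem_centralizer_singleton_iff.2 hx⟩ : centralizer ({z} : Set G)) ∣
        Nat.card (centralizer ({z} : Set G)) := orderOf_dvd_natCard _
      rwa [orderOf_mk] at h5
    have h6 : orderOf (F z i j k l x₁ x₂ y s m) ∣ 9 := by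
      have h7 : Nat.Coprime (orderOf (F z i j k l x₁ x₂ y s m)) (2 ^ 7) :=
        (Nat.coprime_two_right.2 ho).pow_right 7
      exact h7.dvd_of_dvd_mul_left (by norm_num; exact h4)
    have h9 : F z i j k l x₁ x₂ y s m ^ 9 = 1 := orderOf_dvd_iff_pow_eq_one.1 h6
    have c2 := mm_lt (t := t) hm hm
    have c4 := mm_lt (t := t) c2 c2
    have c8 := mm_lt (t := t) c4 c4
    have e9 : F z i j k l x₁ x₂ y s (mm t (mm t (mm t (mm t m m) (mm t m m)) (mm t (mm t m m) (mm t m m))) m) = 1 := by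
      rw [F_mul h ht c8 hm, F_mul h ht c4 c4, F_mul h ht c2 c2, F_mul h ht hm hm, ← h9]
      simp only [pow_succ, pow_zero, one_mul, mul_assoc]
    rw [← F_0 (z := z) (i := i) (j := j) (k := k) (l := l) (x₁ := x₁) (x₂ := x₂) (y := y) (s := s)] at e9
    have e10 := F_inj h (mm_lt c8 hm) (by norm_num) e9
    have e11 := mm_div (t := t) c8 hm
    rw [e10, mm_div (t := t) c4 c4, mm_div (t := t) c2 c2, mm_div (t := t) hm hm] at e11
    exact chk_nine (m / 32) (by omega) (by omega) e11.symm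
  have hK : Nat.card K ≤ 288 := by
    let f : Fin 288 → K := fun m => ⟨F z i j k l x₁ x₂ y s m, ⟨m, m.2, rfl⟩⟩
    have hf : Function.Surjective f := by
      rintro ⟨g, m, hm, rfl⟩
      exact ⟨⟨m, hm⟩, rfl⟩
    have := Nat.card_le_card_of_surjective f hf
    rwa [Nat.card_eq_fintype_card (α := Fin 288), Fintype.card_fin] at this
  exact (card_le_of_le hle).trans hK

end

theorem Top.map {X Y : Type*} [Group X] [Group Y] (h : Top X) (e : X ≃* Y) : Top Y := by
  obtain ⟨z, R, hb, hc⟩ := h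
  exact ⟨e z, _, Base.map hb e, by rw [card_oo_map]; exact hc⟩

theorem top_psl {F : Type*} [Field F] [Fintype F] (hF : Fintype.card F = 3) :
    Top (Matrix.ProjectiveSpecialLinearGroup (Fin 4) F) := by
  obtain ⟨e⟩ := Cfsg.Agent.LargeExtra.W2.LFour.PslFacts.psl_congr F hF
  exact Top.map ⟨_, _, Cfsg.Agent.KFacts.LFourThree.Facts.one_L.toBase,
    card_oo_le Cfsg.Agent.KFacts.LFourThree.case9aa⟩ e

theorem top_psu {F : Type*} [Field F] [Fintype F] (hF : Fintype.card F = 9) : Top (Cfsg.PSU 4 F 3) := by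
  have : Fact (Nat.Prime 3) := ⟨Nat.prime_three⟩
  have : CharP F 3 := charP_of_card_eq_prime_pow (f := 2) (by rw [hF]; norm_num)
  have : Finite (Cfsg.PSU 4 F 3) := inferInstance
  obtain ⟨i, j, k, l, x₁, x₂, y, s, h, hs, -⟩ := U43Tw.exists_tw (F := F) hF
  have hcls := U43Tw.one_class (F := F) hF
  exact ⟨_, _, (U43Facts.two_of_tw h hs (U43Tw.odd_index (by rw [U43Tw.card_K hF]; norm_num) hcls) hcls).toBase,
    card_oo_le h.toCase9aa⟩

/-! ### `PSp₄(3)` -/

section

open Cfsg.Agent.KFacts.PSpFourThree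
open Cfsg.Agent.Lib.FieldThree (F3)

theorem psp_aux : 288 ≤ Nat.card (OO (PE.z)) := by
  have hcard : Nat.card (Cfsg.PSp 2 F3) = 25920 := by
    have h := card_psp F3 2 (by norm_num)
    rw [Cfsg.Agent.Lib.FieldThree.F3.card, Finset.prod_range_succ, Finset.prod_range_succ,
      Finset.prod_range_zero] at h
    norm_num at h
    omega
  have hi : (centralizer ({PE.z} : Set (Cfsg.PSp 2 F3))).index = 45 := by
    have h1 : PE.HH.index = (centralizer ({PE.z} : Set (Cfsg.PSp 2 F3))).index :=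
      index_comap_of_surjective _ (QuotientGroup.mk'_surjective _)
    have h2 := PE.HH.card_mul_index
    rw [PE.card_HH, PE.card_Sp] at h2
    rw [← h1]
    omega
  have hC := (centralizer ({PE.z} : Set (Cfsg.PSp 2 F3))).card_mul_index
  rw [hi, hcard] at hC
  obtain ⟨v, k, hvv, hvz, -, -, -, -, hcov, -⟩ := three.ex
  have hle : OO PE.z ≤ centralizer ({PE.z} : Set (Cfsg.PSp 2 F3)) := by
    unfold OO
    rw [closure_le]
    rintro x ⟨hx, -⟩
    exact mem_centralizer_singleton_iff.2 hx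
  let f : OO (PE.z) ⊕ OO (PE.z) → centralizer ({PE.z} : Set (Cfsg.PSp 2 F3)) := fun p =>
    Sum.elim (fun d : OO (PE.z) => (⟨d.1, hle d.2⟩ : centralizer ({PE.z} : Set (Cfsg.PSp 2 F3))))
      (fun d : OO (PE.z) => ⟨v * d.1, mul_mem (mem_centralizer_singleton_iff.2 hvz) (hle d.2)⟩) p
  have hf : Function.Surjective f := by
    rintro ⟨g, hg⟩
    rcases hcov g (mem_centralizer_singleton_iff.1 hg) with h1 | h1
    · exact ⟨Sum.inl ⟨g, h1⟩, rfl⟩
    · refine ⟨Sum.inr ⟨v * g, h1⟩, Subtype.ext ?_⟩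
      show v * (v * g) = g
      rw [← mul_assoc, hvv, one_mul]
  have h1 := Nat.card_le_card_of_surjective f hf
  rw [Nat.card_sum] at h1
  omega

/-- facts on `L` -/
theorem sp_fact {L : Type*} [Group L] {F : Type*} [Field F] [Fintype F] (hF : Fintype.card F = 3)
    (e : L ≃* Cfsg.PSp 2 F) {z : L} (zz : z * z = 1) (z1 : z ≠ 1) {N : Subgroup L} (hN : IsPGroup 2 N)
    (hz : ∀ n ∈ N, n * z = z * n) (hn : ∀ g, g * z = z * g → ∀ n ∈ N, g * n * g⁻¹ ∈ N)
    (hna : ∃ a ∈ N, ∃ b ∈ N, a * b ≠ b * a) : ∃ R : Subgroup L, Base z R ∧ 288 ≤ Nat.card (OO z) := by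
  let f : L ≃* Cfsg.PSp 2 F3 := e.trans
    (Cfsg.Agent.LieClassical.FieldTransfer.pspCongr 2 (Cfsg.Agent.Lib.FieldThree.equivOfCard hF))
  obtain ⟨k, hk⟩ : ∃ k, k * PE.z * k⁻¹ = f z := by
    rcases three.classes (f z) (by rw [← map_mul, zz, map_one])
      (fun h1 => z1 ((map_eq_one_iff f f.injective).1 h1)) with h1 | h1
    · exact h1
    · exfalso
      obtain ⟨a, ha, b, hb, hab⟩ := hna
      apply hab
      apply f.injective
      rw [map_mul, map_mul]
      refine h1 (N.map f.toMonoidHom) (hN.map _) ?_ ?_ _ (mem_map_of_mem _ ha) _ (mem_map_of_mem _ hb)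
      · rintro _ ⟨n, hn', rfl⟩
        show f n * f z = f z * f n
        rw [← map_mul, hz n hn', map_mul]
      · rintro g hg _ ⟨n, hn', rfl⟩
        obtain ⟨g, rfl⟩ := f.surjective g
        have hg' : g * z = z * g := f.injective (by rw [map_mul, map_mul]; exact hg)
        refine ⟨g * n * g⁻¹, hn g hg' n hn', ?_⟩
        show f (g * n * g⁻¹) = f g * f n * (f g)⁻¹
        rw [map_mul, map_mul, map_inv]
  let f' : Cfsg.PSp 2 F3 ≃* L := (MulAut.conj k).trans f.symm
  have hz' : f' PE.z = z := by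
    show f.symm (k * PE.z * k⁻¹) = z
    rw [hk, f.symm_apply_apply]
  refine ⟨_, hz' ▸ Base.map three.toBase f', ?_⟩
  rw [← hz', card_oo_map]
  exact psp_aux

end

end Cfsg.Agent.OddHalf.D6.QThree.Pump
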