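import Cfsg.Agent.StandardComponent.AltAut
import Cfsg.Agent.Cit.CoreTools
import Cfsg.Agent.OddHalf.Table.OutSpSix
import Cfsg.Agent.OddHalf.Small.Sp
import Cfsg.Agent.UGT.End.SpSix
import Cfsg.Agent.OddHalf.Small.Generic
import Cfsg.Agent.S1246

/-!
# The pump-up fact: `A₉`, `A₁₀` and `Sp₆(2)` have no involutory automorphism with a component `PSp₄(3)` in its
centraliser
-/

set_option autoImplicit false

namespace Cfsg.Agent.OddHalf.D6.QThree.Pump

open Subgroup Equiv

/-- the fixed points of an automorphism -/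
def fixSub {X : Type*} [Group X] (τ : MulAut X) : Subgroup X where
  carrier := {x | τ x = x}
  mul_mem' := fun {a b} ha hb => by
    show τ (a * b) = a * b
    rw [map_mul]
    exact congrArg₂ _ ha hb
  one_mem' := map_one τ
  inv_mem' := fun {a} ha => by
    show τ a⁻¹ = a⁻¹
    rw [map_inv]
    exact congrArg _ ha

theorem mem_fixSub {X : Type*} [Group X] {τ : MulAut X} {x : X} : x ∈ fixSub τ ↔ τ x = x := Iff.rfl

/-! ### Alternating groups -/

/-- the orders of the centralisers of involutions of `S_n` -/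
theorem card_cent_perm {n : ℕ} (σ : Perm (Fin n)) (h1 : σ ≠ 1) (h2 : σ * σ = 1) :
    ∃ k : ℕ, 1 ≤ k ∧ 2 * k ≤ n ∧
      Nat.card (centralizer ({σ} : Set (Perm (Fin n)))) = (n - 2 * k).factorial * 2 ^ k * k.factorial := by
  have ho : orderOf σ = 2 := orderOf_eq_prime (by rw [pow_two]; exact h2) h1
  obtain ⟨k, hk⟩ := Perm.cycleType_prime_order (σ := σ) (by rw [ho]; exact Nat.prime_two)
  rw [ho] at hk
  have hs : σ.cycleType.sum = 2 * (k + 1) := by rw [hk]; simp; ring
  refine ⟨k + 1, by omega, ?_, ?_⟩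
  · rw [← hs]
    have h3 := σ.sum_cycleType
    rw [h3]
    exact (Finset.card_le_univ _).trans (by simp)
  · have h4 : (Multiset.replicate (k + 1) 2).toFinset = {2} := by
      ext a
      simp only [Multiset.mem_toFinset, Finset.mem_singleton, Multiset.mem_replicate]
      omega
    rw [Perm.nat_card_centralizer, hs, hk, Fintype.card_fin, Multiset.prod_replicate, h4,
      Finset.prod_singleton, Multiset.count_replicate_self]

theorem no_alt_aux {m : ℕ} (hm : m = 7 ∨ m = 8) (τ : MulAut (alternatingGroup (Fin (m + 2))))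
    (hτ : ∀ x, τ (τ x) = x) (h1 : τ ≠ 1) (L : Subgroup (alternatingGroup (Fin (m + 2))))
    (hL : ∀ x ∈ L, τ x = x) (hc : Nat.card L = 25920) : False := by
  obtain ⟨σ, hσ⟩ := Cfsg.Agent.StandardComponent.AltAut.exists_conj (m := m) (by omega) τ
  -- `σ` commutes with no alternating group
  have hcen : ∀ ρ : Perm (Fin (m + 2)), (∀ x : alternatingGroup (Fin (m + 2)), ρ * (x : Perm (Fin (m + 2))) * ρ⁻¹ = x) → ρ = 1 := by
    intro ρ hρ
    by_contra hne
    obtain ⟨a, ha⟩ : ∃ a, ρ a ≠ a := by
      by_contra hcon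
      push Not at hcon
      exact hne (Perm.ext hcon)
    obtain ⟨c, hc⟩ : ∃ c : Fin (m + 2), c ∉ ({a, ρ a} : Finset (Fin (m + 2))) := by
      by_contra hcon
      push Not at hcon
      have h3 : (Finset.univ : Finset (Fin (m + 2))).card ≤ ({a, ρ a} : Finset (Fin (m + 2))).card :=
        Finset.card_le_card (fun x _ => hcon x)
      have h4 := Finset.card_le_two (a := a) (b := ρ a)
      rw [Finset.card_univ, Fintype.card_fin] at h3
      omega
    obtain ⟨d, hd⟩ : ∃ d : Fin (m + 2), d ∉ ({a, ρ a, c} : Finset (Fin (m + 2))) := by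
      by_contra hcon
      push Not at hcon
      have h3 : (Finset.univ : Finset (Fin (m + 2))).card ≤ ({a, ρ a, c} : Finset (Fin (m + 2))).card :=
        Finset.card_le_card (fun x _ => hcon x)
      have h4 := Finset.card_le_three (a := a) (b := ρ a) (c := c)
      rw [Finset.card_univ, Fintype.card_fin] at h3
      omega
    simp only [Finset.mem_insert, Finset.mem_singleton, not_or] at hc hd
    obtain ⟨hca, hcb⟩ := hc
    obtain ⟨hda, hdb, hdc⟩ := hd
    have h3 : (swap a c * swap a d).IsThreeCycle :=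
      Perm.isThreeCycle_swap_mul_swap_same (Ne.symm hca) (Ne.symm hda) (Ne.symm hdc)
    have h4 := hρ ⟨_, h3.mem_alternatingGroup⟩
    have h5 : ρ * (swap a c * swap a d) = (swap a c * swap a d) * ρ := by
      rw [mul_inv_eq_iff_eq_mul] at h4
      exact h4
    have h6 := congrArg (fun f : Perm (Fin (m + 2)) => f a) h5
    simp only [Perm.mul_apply, swap_apply_left] at h6
    rw [swap_apply_of_ne_of_ne (a := a) (b := c) (x := d) hda hdc,
      swap_apply_of_ne_of_ne (a := a) (b := d) (x := ρ a) ha (Ne.symm hdb),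
      swap_apply_of_ne_of_ne (a := a) (b := c) (x := ρ a) ha (Ne.symm hcb)] at h6
    exact hda (ρ.injective h6)
  have hσ1 : σ ≠ 1 := by
    rintro rfl
    apply h1
    ext x : 2
    rw [hσ]
    simp
  have hσ2 : σ * σ = 1 := by
    apply hcen
    intro x
    have h3 := hσ (τ x)
    rw [hτ, hσ] at h3
    rw [mul_inv_rev]
    simp only [mul_assoc] at h3 ⊢
    exact h3.symm
  obtain ⟨k, hk1, hk2, hk3⟩ := card_cent_perm σ hσ1 hσ2
  have h4 : Nat.card L ∣ Nat.card (centralizer ({σ} : Set (Perm (Fin (m + 2))))) := by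
    have h5 : (L.map (alternatingGroup (Fin (m + 2))).subtype) ≤ centralizer ({σ} : Set (Perm (Fin (m + 2)))) := by
      rintro _ ⟨x, hx, rfl⟩
      rw [mem_centralizer_singleton_iff]
      have h6 := hσ x
      rw [hL x hx] at h6
      show (x : Perm (Fin (m + 2))) * σ = σ * x
      conv_lhs => rw [h6]
      group
    have h6 : Nat.card (L.map (alternatingGroup (Fin (m + 2))).subtype) = Nat.card L :=
      Nat.card_congr (L.equivMapOfInjective _ (alternatingGroup (Fin (m + 2))).subtype_injective).symm.toEquiv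
    rw [← h6]
    exact Subgroup.card_dvd_of_le h5
  rw [hc, hk3] at h4
  rcases hm with rfl | rfl
  · have hk5 : k < 5 := by omega
    interval_cases k <;> revert h4 <;> decide +kernel
  · have hk5 : k < 6 := by omega
    interval_cases k <;> revert h4 <;> decide +kernel

/-- `A₉`, `A₁₀` -/
theorem no_alt {X : Type*} [Group X] {n : ℕ} (hn : n = 9 ∨ n = 10) (e : X ≃* alternatingGroup (Fin n))
    (τ : MulAut X) (hτ : ∀ x, τ (τ x) = x) (h1 : τ ≠ 1) (L : Subgroup X)
    (hL : ∀ x ∈ L, τ x = x) (hc : Nat.card L = 25920) : False := by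
  obtain ⟨m, rfl, hm⟩ : ∃ m, n = m + 2 ∧ (m = 7 ∨ m = 8) := by
    rcases hn with rfl | rfl
    · exact ⟨7, rfl, Or.inl rfl⟩
    · exact ⟨8, rfl, Or.inr rfl⟩
  refine no_alt_aux hm ((e.symm.trans τ).trans e) ?_ ?_ (L.map e.toMonoidHom) ?_ ?_
  · intro x
    show e (τ (e.symm (e (τ (e.symm x))))) = x
    rw [e.symm_apply_apply, hτ, e.apply_symm_apply]
  · intro hcon
    apply h1
    ext x
    have h2 := DFunLike.congr_fun hcon (e x)
    change e (τ (e.symm (e x))) = e x at h2
    rw [e.symm_apply_apply] at h2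
    exact e.injective h2
  · rintro _ ⟨x, hx, rfl⟩
    show e (τ (e.symm (e x))) = e x
    rw [e.symm_apply_apply, hL x hx]
  · rw [← hc]
    exact Nat.card_congr (L.equivMapOfInjective _ e.injective).symm.toEquiv

/-! ### `Sp₆(2)` -/

/-- in a group of characteristic two type all of whose automorphisms are inner -/
theorem no_charTwo {X : Type*} [Group X] [Finite X] (hX : IsCharacteristicTwoType X)
    (hI : ∀ α : MulAut X, ∃ x : X, α = MulAut.conj x) (hZ : center X = ⊥)
    (τ : MulAut X) (hτ : ∀ x, τ (τ x) = x) (h1 : τ ≠ 1) (L : Subgroup X)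
    (hL : ∀ x ∈ L, τ x = x) (hs : (L.subgroupOf (fixSub τ)).IsSubnormal) (hq : IsQuasisimple ↥L)
    (hc : ¬ IsPGroup 2 L) : False := by
  obtain ⟨g, rfl⟩ := hI τ
  have hg1 : g ≠ 1 := by
    rintro rfl
    exact h1 (map_one _)
  have hg2 : g * g = 1 := by
    have h2 : g * g ∈ center X := by
      rw [mem_center_iff]
      intro x
      have h3 := hτ x
      simp only [MulAut.conj_apply] at h3
      have h4 : g * g * x * (g * g)⁻¹ = x := by
        rw [mul_inv_rev]; simp only [mul_assoc] at h3 ⊢; exact h3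
      rw [mul_inv_eq_iff_eq_mul] at h4
      exact h4.symm
    rw [hZ, mem_bot] at h2
    exact h2
  -- the fixed points are the normaliser of `⟨g⟩`
  have hT2 : IsPGroup 2 (zpowers g) := by
    refine IsPGroup.of_card (n := 1) ?_
    rw [Nat.card_zpowers, pow_one]
    exact orderOf_eq_prime (by rw [pow_two]; exact hg2) hg1
  have hT1 : zpowers g ≠ ⊥ := by
    rw [Ne, zpowers_eq_bot]; exact hg1
  have hch := hX.2 (zpowers g) hT2 hT1
  have hz : ∀ h : X, h ∈ zpowers g ↔ h = 1 ∨ h = g := by
    intro h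
    constructor
    · rintro ⟨k, rfl⟩
      rcases Int.even_or_odd' k with ⟨m, rfl | rfl⟩
      · left
        show g ^ (2 * m) = 1
        rw [zpow_mul, zpow_two, hg2, one_zpow]
      · right
        show g ^ (2 * m + 1) = g
        rw [zpow_add, zpow_mul, zpow_two, hg2, one_zpow, one_mul, zpow_one]
    · rintro (rfl | rfl)
      · exact one_mem _
      · exact mem_zpowers _
  have hN : fixSub (MulAut.conj g) = normalizer (zpowers g : Set X) := by
    ext x
    rw [mem_fixSub, MulAut.conj_apply, mem_normalizer_iff]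
    constructor
    · intro h h'
      have h2 : x * g * x⁻¹ = g := by
        rw [mul_inv_eq_iff_eq_mul] at h ⊢
        exact h.symm
      show h' ∈ zpowers g ↔ x * h' * x⁻¹ ∈ zpowers g
      rw [hz, hz]
      constructor
      · rintro (rfl | rfl)
        · left; group
        · right; exact h2
      · rintro (h3 | h3)
        · left
          rw [mul_inv_eq_iff_eq_mul, one_mul] at h3
          exact mul_left_cancel (a := x) (by rw [h3, mul_one])
        · right
          rw [← h2] at h3
          exact mul_left_cancel (mul_right_cancel h3)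
    · intro h
      have h2 : x * g * x⁻¹ ∈ zpowers g := (h g).1 (mem_zpowers g)
      rw [hz] at h2
      rcases h2 with h2 | h2
      · exfalso
        apply hg1
        rw [mul_inv_eq_iff_eq_mul, one_mul] at h2
        exact mul_left_cancel (a := x) (by rw [h2, mul_one])
      · rw [mul_inv_eq_iff_eq_mul] at h2 ⊢
        exact h2.symm
  rw [hN] at hs
  have hLN : L ≤ normalizer (zpowers g : Set X) := fun x hx => hN ▸ hL x hx
  have hcomp : IsComponent (L.subgroupOf (normalizer (zpowers g : Set X))) := by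
    refine ⟨hs, ?_⟩
    exact Cfsg.Agent.S1246.quasisimple_of_equiv (subgroupOfEquivOfLe hLN).symm hq
  have h3 := Cfsg.Agent.Cit.CoreTools.component_le_centralizer_pCore hcomp
  have h4 := h3.trans hch
  apply hc
  have h5 : IsPGroup 2 (L.subgroupOf (normalizer (zpowers g : Set X))) :=
    (Cfsg.Agent.Lib.Cores.pCore_isPGroup 2).to_le h4
  exact h5.of_equiv (subgroupOfEquivOfLe hLN)

/-- `Sp₆(2)` -/
theorem no_sp {X : Type*} [Group X] [Finite X] (hZ : center X = ⊥) {F : Type} [Field F] [Fintype F] (hF : Fintype.card F = 2)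
    (e : X ≃* PSp 3 F) (τ : MulAut X) (hτ : ∀ x, τ (τ x) = x) (h1 : τ ≠ 1) (L : Subgroup X)
    (hL : ∀ x ∈ L, τ x = x) (hs : (L.subgroupOf (fixSub τ)).IsSubnormal) (hq : IsQuasisimple ↥L)
    (hc : ¬ IsPGroup 2 L) : False := by
  have hF' : Nat.card F = 2 := by rw [Nat.card_eq_fintype_card, hF]
  refine no_charTwo (Cfsg.Agent.OddHalf.Small.Generic.isCharacteristicTwoType_congr e.symm
    (Cfsg.Agent.UGT.End.SpSix.charTwo le_rfl hF')) ?_ hZ τ hτ h1 L hL hs hq hc
  · intro α
    obtain ⟨y, hy⟩ := Cfsg.Agent.OddHalf.Table.OutSpSix.inner (F := F) le_rfl hF' ((e.symm.trans α).trans e)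
    refine ⟨e.symm y, ?_⟩
    ext x
    have h2 := DFunLike.congr_fun hy (e x)
    change e (α (e.symm (e x))) = y * e x * y⁻¹ at h2
    rw [e.symm_apply_apply] at h2
    rw [MulAut.conj_apply]
    apply e.injective
    rw [h2, map_mul, map_mul, map_inv, e.apply_symm_apply]

end Cfsg.Agent.OddHalf.D6.QThree.Pump
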