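import Cfsg.Agent.OddHalf.D6.QThree.PumpKnown
import Cfsg.Agent.OddHalf.D6.QThree.PumpTwo
import Cfsg.Agent.OddHalf.D6.QThree.PumpKF
import Cfsg.Agent.OddHalf.D6.QThree.PumpExc
import Cfsg.Agent.S0270

/-!
# The pump-up fact

`M` quasisimple with `Z(M)` a 2-group and `M / Z(M)` a known simple group of order at most `6531840`, `τ` an
automorphism with `τ² = 1`, `L ≅ PSp₄(3)` subnormal in `C_M(τ)`, `z` a 2-central involution of `L`. Then every element
of odd order of `C_M(z)` lies in `L`.
-/

set_option autoImplicit false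

namespace Cfsg.Agent.OddHalf.D6.QThree.Pump

open Subgroup Cfsg.Agent.OddHalf.D6.QThree.Facts
open scoped commutatorElement

universe u

section

variable {M : Type u} [Group M]

/-- the automorphism of the central quotient -/
def bar (τ : MulAut M) : MulAut (M ⧸ center M) :=
  QuotientGroup.congr (center M) (center M) τ (by
    ext x
    constructor
    · rintro ⟨y, hy, rfl⟩
      rw [SetLike.mem_coe, mem_center_iff] at hy
      rw [mem_center_iff]
      intro g
      obtain ⟨g, rfl⟩ := τ.surjective g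
      show τ g * τ y = τ y * τ g
      rw [← map_mul, hy g, map_mul]
    · intro hx
      refine ⟨τ.symm x, ?_, τ.apply_symm_apply x⟩
      rw [mem_center_iff] at hx
      rw [SetLike.mem_coe, mem_center_iff]
      intro g
      apply τ.injective
      rw [map_mul, map_mul]
      show τ g * τ (τ.symm x) = τ (τ.symm x) * τ g
      rw [τ.apply_symm_apply]
      exact hx _)

theorem bar_mk (τ : MulAut M) (x : M) : bar τ (QuotientGroup.mk' (center M) x) = QuotientGroup.mk' (center M) (τ x) :=
  rfl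

theorem mk_eq_iff {x y : M} : QuotientGroup.mk' (center M) x = QuotientGroup.mk' (center M) y ↔
    ∃ ζ ∈ center M, x = y * ζ := by
  rw [QuotientGroup.mk'_apply, QuotientGroup.mk'_apply, eq_comm, QuotientGroup.eq]
  constructor
  · intro h
    exact ⟨_, h, by group⟩
  · rintro ⟨ζ, hζ, rfl⟩
    simpa using hζ

/-- if `bar τ = 1` and `M` is perfect then `τ = 1` -/
theorem eq_one_of_bar (hp : commutator M = ⊤) {τ : MulAut M} (h : bar τ = 1) : τ = 1 := by
  have h1 : ∀ x : M, x⁻¹ * τ x ∈ center M := by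
    intro x
    have h2 := DFunLike.congr_fun h (QuotientGroup.mk' (center M) x)
    rw [bar_mk] at h2
    obtain ⟨ζ, hζ, h3⟩ := mk_eq_iff.1 h2
    rw [h3]; simpa using hζ
  have hτ : ∀ x : M, τ x = x * (x⁻¹ * τ x) := fun x => by group
  let f : M →* M :=
    { toFun := fun x => x⁻¹ * τ x
      map_one' := by simp
      map_mul' := fun x y => by
        have h2 := (mem_center_iff.1 (h1 x)) y⁻¹
        rw [map_mul, mul_inv_rev]
        calc y⁻¹ * x⁻¹ * (τ x * τ y) = (y⁻¹ * (x⁻¹ * τ x)) * τ y := by group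
          _ = (x⁻¹ * τ x * y⁻¹) * τ y := by rw [h2]
          _ = _ := by group }
  have hf : ∀ x, f x ∈ center M := h1
  have hk : commutator M ≤ f.ker := by
    rw [commutator_def, commutator_le]
    intro a _ b _
    rw [MonoidHom.mem_ker, map_commutatorElement, commutatorElement_eq_one_iff_mul_comm]
    exact ((mem_center_iff.1 (hf a)) (f b)).symm
  ext x
  have h2 : x⁻¹ * τ x = 1 := hk (by rw [hp]; exact mem_top x)
  rw [MulAut.one_apply]
  rw [inv_mul_eq_one] at h2
  exact h2.symm

/-- subnormality in the fixed points of `bar τ` -/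
theorem subnormal_bar {τ : MulAut M} {L : Subgroup M} (hL : ∀ x ∈ L, τ x = x)
    (hs : (L.subgroupOf (fixSub τ)).IsSubnormal) :
    ((L.map (QuotientGroup.mk' (center M))).subgroupOf (fixSub (bar τ))).IsSubnormal := by
  let P : Subgroup M := (fixSub (bar τ)).comap (QuotientGroup.mk' (center M))
  have hP : ∀ x, x ∈ P ↔ x⁻¹ * τ x ∈ center M := by
    intro x
    show bar τ (QuotientGroup.mk' (center M) x) = QuotientGroup.mk' (center M) x ↔ _
    rw [bar_mk]
    constructor
    · intro h
      obtain ⟨ζ, hζ, h3⟩ := mk_eq_iff.1 h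
      rw [h3]; simpa using hζ
    · intro h
      exact mk_eq_iff.2 ⟨_, h, by group⟩
  have hFP : fixSub τ ≤ P := by
    intro x hx
    rw [hP, mem_fixSub.1 hx]
    simp
  have hn : ((fixSub τ).subgroupOf P).Normal := by
    refine ⟨fun f hf g => ?_⟩
    show τ ((g : M) * f * (g : M)⁻¹) = g * f * (g : M)⁻¹
    have hf' : τ (f : M) = f := hf
    have h1 := (hP g).1 g.2
    have h2 : τ (g : M) = g * ((g : M)⁻¹ * τ g) := by group
    have h3 := mem_center_iff.1 h1 (f : M)
    rw [map_mul, map_mul, map_inv, hf', h2]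
    generalize (g : M)⁻¹ * τ g = c at h3
    calc (g : M) * c * f * ((g : M) * c)⁻¹ = g * (c * f) * c⁻¹ * (g : M)⁻¹ := by group
      _ = g * (f * c) * c⁻¹ * (g : M)⁻¹ := by rw [h3]
      _ = _ := by group
  have hLF : L ≤ fixSub τ := fun x hx => hL x hx
  have h1 : (L.subgroupOf P).IsSubnormal := by
    -- `L` is subnormal in `fixSub τ`, which is normal in `P`
    have h2 : ((L.subgroupOf P).subgroupOf ((fixSub τ).subgroupOf P)).IsSubnormal := by
      let e : ((fixSub τ).subgroupOf P) ≃* (fixSub τ) := subgroupOfEquivOfLe hFP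
      have h3 := hs.comap e.toMonoidHom
      exact h3
    refine IsSubnormal.trans ?_ h2 hn.isSubnormal
    intro x hx
    exact hLF hx
  -- the image
  let φ : P →* fixSub (bar τ) :=
    ((QuotientGroup.mk' (center M)).comp P.subtype).codRestrict (fixSub (bar τ)) (fun x => x.2)
  have hφ : Function.Surjective φ := by
    rintro ⟨y, hy⟩
    obtain ⟨x, rfl⟩ := QuotientGroup.mk'_surjective (center M) y
    exact ⟨⟨x, hy⟩, rfl⟩
  have h2 := h1.map hφ
  have h3 : (L.subgroupOf P).map φ = (L.map (QuotientGroup.mk' (center M))).subgroupOf (fixSub (bar τ)) := by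
    ext y
    constructor
    · rintro ⟨x, hx, rfl⟩
      exact ⟨x, hx, rfl⟩
    · rintro ⟨x, hx, hy⟩
      exact ⟨⟨x, hFP (hLF hx)⟩, hx, Subtype.ext hy⟩
  rw [← h3]
  exact h2

end

/-- a non-abelian simple group is quasisimple -/
theorem quasisimple_of_simple {X : Type*} [Group X] [IsSimpleGroup X] (h : ∃ a b : X, a * b ≠ b * a) :
    IsQuasisimple X := by
  obtain ⟨a, b, hab⟩ := h
  have hc : center X = ⊥ := by
    rcases (inferInstance : (center X).Normal).eq_bot_or_eq_top with h1 | h1
    · exact h1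
    · exfalso
      apply hab
      have h2 : b ∈ center X := by rw [h1]; exact mem_top b
      exact mem_center_iff.1 h2 a
  have hp : commutator X = ⊤ := by
    rcases (inferInstance : (commutator X).Normal).eq_bot_or_eq_top with h1 | h1
    · exfalso
      apply hab
      have h2 : ⁅a, b⁆ ∈ commutator X := commutator_mem_commutator (mem_top a) (mem_top b)
      rw [h1, mem_bot, commutatorElement_eq_one_iff_mul_comm] at h2
      exact h2
    · exact h1
  refine ⟨⟨hp⟩, ?_⟩
  have e : X ≃* X ⧸ center X :=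
    (QuotientGroup.quotientBot.symm).trans (QuotientGroup.quotientMulEquivOfEq hc.symm)
  exact e.isSimpleGroup_congr.1 inferInstance

theorem card_psp_three {F : Type*} [Field F] [Fintype F] (hF : Fintype.card F = 3) :
    Nat.card (PSp 2 F) = 25920 := by
  have h := card_psp (ZMod 3) 2 (by norm_num)
  rw [ZMod.card, Finset.prod_range_succ, Finset.prod_range_succ, Finset.prod_range_zero] at h
  norm_num at h
  have e1 := Cfsg.Agent.LieClassical.FieldTransfer.pspCongr 2 (Cfsg.Agent.Lib.FieldThree.equivOfCard hF)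
  have e2 := Cfsg.Agent.LieClassical.FieldTransfer.pspCongr 2
    (Cfsg.Agent.Lib.FieldThree.equivOfCard (F := ZMod 3) (ZMod.card 3))
  rw [Nat.card_congr (e1.trans e2.symm).toEquiv]
  omega

/-- **The pump-up fact.** -/
theorem main {M : Type u} [Group M] [Finite M] (hS : SpOrd.{u}) (hq : IsQuasisimple M)
    (hZ : IsPGroup 2 (center M)) (hK : IsKnownSimple' (M ⧸ center M))
    (hc : Nat.card (M ⧸ center M) ≤ 6531840) (τ : MulAut M) (hτ : ∀ x, τ (τ x) = x) (L : Subgroup M)
    (hL : ∀ x ∈ L, τ x = x) (hs : (L.subgroupOf (fixSub τ)).IsSubnormal)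
    {F : Type*} [Field F] [Fintype F] (hF : Fintype.card F = 3) (e : L ≃* PSp 2 F)
    {z : M} (hz : z ∈ L) (zz : z * z = 1) (z1 : z ≠ 1) {N : Subgroup M} (hN : IsPGroup 2 N) (hNL : N ≤ L)
    (hNz : ∀ n ∈ N, n * z = z * n) (hNn : ∀ g ∈ L, g * z = z * g → ∀ n ∈ N, g * n * g⁻¹ ∈ N)
    (hna : ∃ a ∈ N, ∃ b ∈ N, a * b ≠ b * a) {x : M} (hx : x * z = z * x) (ho : Odd (orderOf x)) : x ∈ L := by
  haveI := hq.1
  haveI hXs := hq.2
  haveI hLs : IsSimpleGroup L := by
    have := Cfsg.Agent.S0270.result (F := F) 2 le_rfl (fun _ => hF.ge)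
    exact e.isSimpleGroup_congr.2 this
  -- the facts on `L`
  obtain ⟨R, hb, hO⟩ := sp_fact (z := (⟨z, hz⟩ : L)) hF e (Subtype.ext zz) (fun h => z1 (congrArg Subtype.val h))
    (N := N.subgroupOf L) (hN.of_equiv (subgroupOfEquivOfLe hNL).symm)
    (fun n hn => Subtype.ext (hNz n hn)) (fun g hg n hn => hNn g g.2 (congrArg Subtype.val hg) n hn) (by
      obtain ⟨a, ha, b, hb, hab⟩ := hna
      exact ⟨⟨a, hNL ha⟩, ha, ⟨b, hNL hb⟩, hb, fun h => hab (congrArg Subtype.val h)⟩)
  have hLn : ∃ a b : L, a * b ≠ b * a := by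
    obtain ⟨a, ha, b, hb, hab⟩ := hna
    exact ⟨⟨a, hNL ha⟩, ⟨b, hNL hb⟩, fun h => hab (congrArg Subtype.val h)⟩
  have hcardL : Nat.card L = 25920 := by
    rw [Nat.card_congr e.toEquiv, card_psp_three hF]
  -- the central quotient
  set π := QuotientGroup.mk' (center M) with hπ
  have hinj : Function.Injective (π.comp L.subtype) := by
    rw [← MonoidHom.ker_eq_bot_iff]
    rcases (inferInstance : (π.comp L.subtype).ker.Normal).eq_bot_or_eq_top with h1 | h1
    · exact h1
    · exfalso
      obtain ⟨a, b, hab⟩ := hLn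
      apply hab
      have h2 : b ∈ (π.comp L.subtype).ker := by rw [h1]; exact mem_top b
      have h3 : (b : M) ∈ center M := by
        rw [MonoidHom.mem_ker] at h2
        exact (QuotientGroup.eq_one_iff _).1 h2
      exact Subtype.ext (mem_center_iff.1 h3 a)
  have hLm : L.map π = (π.comp L.subtype).range := by
    rw [MonoidHom.range_comp, range_subtype]
  have hcardLm : Nat.card (L.map π) = 25920 := by
    rw [hLm, ← hcardL]
    exact Nat.card_congr (MonoidHom.ofInjective hinj).symm.toEquiv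
  -- it is enough to have `x ∈ L Z(M)`
  have hfin : π x ∈ L.map π → x ∈ L := by
    rintro ⟨l, hl, h1⟩
    obtain ⟨ζ, hζ, h2⟩ := mk_eq_iff.1 h1.symm
    obtain ⟨n, hn⟩ := hZ ⟨ζ, hζ⟩
    rw [h2] at ho ⊢
    exact mem_of_odd hl (mem_center_iff.1 hζ l) (congrArg Subtype.val hn) ho
  apply hfin
  by_cases hb1 : bar τ = 1
  · -- `τ = 1`
    have h1 := eq_one_of_bar hq.1.commutator_eq_top hb1
    have h2 := subnormal_bar hL hs
    rw [hb1] at h2
    have h3 : fixSub (1 : MulAut (M ⧸ center M)) = ⊤ := by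
      ext y; simp [mem_fixSub]
    have h4 : (L.map π).IsSubnormal := by
      refine IsSubnormal.trans (K := fixSub (1 : MulAut (M ⧸ center M))) (by rw [h3]; exact le_top) h2 ?_
      rw [h3]; exact IsSubnormal.top
    rcases h4.eq_bot_or_top_of_isSimpleGroup hXs with h5 | h5
    · rw [h5] at hcardLm
      simp at hcardLm
    · rw [h5]; exact mem_top _
  -- the general case
  have hbL : ∀ y ∈ L.map π, bar τ y = y := by
    rintro _ ⟨l, hl, rfl⟩
    rw [bar_mk, hL l hl]
  have hbτ : ∀ y, bar τ (bar τ y) = y := by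
    intro y
    obtain ⟨y, rfl⟩ := QuotientGroup.mk'_surjective (center M) y
    rw [bar_mk, bar_mk, hτ]
  have hqL : IsQuasisimple (L.map π) :=
    Cfsg.Agent.S1246.quasisimple_of_equiv
      ((MonoidHom.ofInjective hinj).trans (MulEquiv.subgroupCongr hLm.symm)) (quasisimple_of_simple hLn)
  have hnp : ¬ IsPGroup 2 (L.map π) := by
    intro h1
    obtain ⟨n, hn⟩ := IsPGroup.iff_card.1 h1
    rw [hcardLm] at hn
    have h3 : 3 ∣ 2 ^ n := by rw [← hn]; norm_num
    have h4 := Nat.prime_three.dvd_of_dvd_pow h3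
    omega
  have hπx : π x * π z = π z * π x := by rw [← map_mul, hx, map_mul]
  have hπo : Odd (orderOf (π x)) := Odd.of_dvd_nat ho (orderOf_map_dvd π x)
  have hrange : ∀ {m : ℕ}, Nat.card (M ⧸ center M) = 2 ^ 7 * m → Odd m → Top (M ⧸ center M) → π x ∈ L.map π := by
    intro m h1 h2 h3
    rw [hLm]
    exact mem_range h1 h2 h3 (n := 405) (by rw [hcardL]; norm_num) (by decide) hb hO hinj hπx hπo
  have hdvd : 25920 ∣ Nat.card (M ⧸ center M) := by
    rw [← hcardLm]; exact card_subgroup_dvd_card _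
  cases seven hS excOrd hK hdvd hc with
  | psp F' h e' =>
    have h1 : L.map π = ⊤ := by
      apply eq_top_of_card_eq
      obtain ⟨e'⟩ := e'
      rw [hcardLm, Nat.card_congr e'.toEquiv, card_psp_three h]
    rw [h1]; exact mem_top _
  | psu F' h e' =>
    obtain ⟨e'⟩ := e'
    refine hrange (m := 25515) ?_ (by decide) (Top.map (top_psu h) e'.symm)
    rw [Nat.card_congr e'.toEquiv, U43Tw.card_K h]
  | psl F' h e' =>
    obtain ⟨e'⟩ := e'
    refine hrange (m := 47385) ?_ (by decide) (Top.map (top_psl h) e'.symm)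
    obtain ⟨e2⟩ := Cfsg.Agent.LargeExtra.W2.LFour.PslFacts.psl_congr F' h
    rw [Nat.card_congr (e'.trans e2.symm).toEquiv, Cfsg.Agent.LargeExtra.W2.LFour.PslFacts.card_psl]
    norm_num
  | sp6 F' h e' =>
    obtain ⟨e'⟩ := e'
    exact absurd (no_sp (Group.IsPerfect.center_quotient_center_eq_bot M) h e' (bar τ) hbτ hb1 (L.map π) hbL
      (subnormal_bar hL hs) hqL hnp) id
  | a9 e' =>
    obtain ⟨e'⟩ := e'
    exact absurd (no_alt (Or.inl rfl) e' (bar τ) hbτ hb1 (L.map π) hbL hcardLm) id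
  | a10 e' =>
    obtain ⟨e'⟩ := e'
    exact absurd (no_alt (Or.inr rfl) e' (bar τ) hbτ hb1 (L.map π) hbL hcardLm) id

end Cfsg.Agent.OddHalf.D6.QThree.Pump
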