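import Cfsg.Agent.LargeExtra.W2.PlusHom

/-!
# ODD half, D6, `q = 3`: a constructor for `Plus` (helper577)

Elements `i, j, k, l` satisfying the relations of `Q₈ ∘ Q₈` (with centre `z`), a subgroup `Q` generated by them,
normalised by `C(z)` and containing its centraliser in `C(z)`.
-/

set_option autoImplicit false

namespace Cfsg.Agent.OddHalf.D6.QThree.PlusOf

open Cfsg.Agent.Co2Type.Quad Cfsg.Agent.LargeExtra.Model Cfsg.Agent.LargeExtra.Pres
open Cfsg.Agent.LargeExtra.Models Cfsg.Agent.LargeExtra.W2 Cfsg.Agent.LargeExtra.W2.PlusHom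

variable {G : Type*} [Group G]

/-- The relations of `Q₈ ∘ Q₈`. -/
structure QRel (z i j k l : G) : Prop where
  zz : z * z = 1
  z1 : z ≠ 1
  iz : i * z = z * i
  jz : j * z = z * j
  kz : k * z = z * k
  lz : l * z = z * l
  ii : i * i = z
  jj : j * j = z
  kk : k * k = z
  ll : l * l = z
  ji : j * i = i * j * z
  lk : l * k = k * l * z
  ki : k * i = i * k
  li : l * i = i * l
  kj : k * j = j * k
  lj : l * j = j * l

variable {Q : Subgroup G} {z i j k l : G}

theorem rels (h : QRel z i j k l) : Rels rP4 4 z (gens i j k l) where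
  zz := h.zz
  comm := by
    intro n hn
    have : n = 0 ∨ n = 1 ∨ n = 2 ∨ n = 3 := by omega
    rcases this with rfl | rfl | rfl | rfl
    · exact h.iz
    · exact h.jz
    · exact h.kz
    · exact h.lz
  sq := by
    intro n hn
    have : n = 0 ∨ n = 1 ∨ n = 2 ∨ n = 3 := by omega
    rcases this with rfl | rfl | rfl | rfl
    · have e : (rP4 0).testBit 0 = true := by decide
      rw [e]; exact h.ii
    · have e : (rP4 1).testBit 1 = true := by decide
      rw [e]; exact h.jj
    · have e : (rP4 2).testBit 2 = true := by decide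
      rw [e]; exact h.kk
    · have e : (rP4 3).testBit 3 = true := by decide
      rw [e]; exact h.ll
  cm := by
    intro n hn m hm
    have : (n = 1 ∧ m = 0) ∨ (n = 2 ∧ m = 0) ∨ (n = 2 ∧ m = 1) ∨ (n = 3 ∧ m = 0) ∨ (n = 3 ∧ m = 1) ∨
      (n = 3 ∧ m = 2) := by omega
    rcases this with ⟨rfl, rfl⟩ | ⟨rfl, rfl⟩ | ⟨rfl, rfl⟩ | ⟨rfl, rfl⟩ | ⟨rfl, rfl⟩ | ⟨rfl, rfl⟩
    · have e : (rP4 1).testBit 0 = true := by decide
      rw [e]
      show j * i = z * (i * j)
      rw [h.ji, mul_assoc, h.jz, ← mul_assoc, h.iz, mul_assoc]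
    · have e : (rP4 2).testBit 0 = false := by decide
      rw [e]
      show k * i = 1 * (i * k)
      rw [one_mul]; exact h.ki
    · have e : (rP4 2).testBit 1 = false := by decide
      rw [e]
      show k * j = 1 * (j * k)
      rw [one_mul]; exact h.kj
    · have e : (rP4 3).testBit 0 = false := by decide
      rw [e]
      show l * i = 1 * (i * l)
      rw [one_mul]; exact h.li
    · have e : (rP4 3).testBit 1 = false := by decide
      rw [e]
      show l * j = 1 * (j * l)
      rw [one_mul]; exact h.lj
    · have e : (rP4 3).testBit 2 = true := by decide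
      rw [e]
      show l * k = z * (k * l)
      rw [h.lk, mul_assoc, h.lz, ← mul_assoc, h.kz, mul_assoc]

/-- the homomorphism from the model -/
def hom (h : QRel z i j k l) : M →* G := lift (rels h) tri_P4

theorem hom_zz (h : QRel z i j k l) : hom h zz = z := lift_zz _ _
theorem hom_i (h : QRel z i j k l) : hom h mi = i := lift_q _ _ 0
theorem hom_j (h : QRel z i j k l) : hom h mj = j := lift_q _ _ 1
theorem hom_k (h : QRel z i j k l) : hom h mk = k := lift_q _ _ 2
theorem hom_l (h : QRel z i j k l) : hom h ml = l := lift_q _ _ 3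

theorem hom_injective (h : QRel z i j k l) : Function.Injective (hom h) :=
  lift_injective _ _ nd_P4 h.z1

theorem hom_range (h : QRel z i j k l) : (hom h).range = Subgroup.closure {i, j, k, l} := by
  rw [MonoidHom.range_eq_map, ← closure_q rP4 4, MonoidHom.map_closure]
  apply le_antisymm
  · rw [Subgroup.closure_le]
    have mem : ∀ x ∈ ({i, j, k, l} : Set G), x ∈ Subgroup.closure {i, j, k, l} :=
      fun x hx => Subgroup.subset_closure hx
    rintro _ ⟨x, (rfl | ⟨n, rfl⟩), rfl⟩
    · rw [hom_zz, ← h.ii]
      exact mul_mem (mem i (by simp)) (mem i (by simp))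
    · fin_cases n
      · exact (hom_i h).symm ▸ mem i (by simp)
      · exact (hom_j h).symm ▸ mem j (by simp)
      · exact (hom_k h).symm ▸ mem k (by simp)
      · exact (hom_l h).symm ▸ mem l (by simp)
  · rw [Subgroup.closure_le]
    intro x hx
    have hx' : x = i ∨ x = j ∨ x = k ∨ x = l := by simpa using hx
    apply Subgroup.subset_closure
    rcases hx' with rfl | rfl | rfl | rfl
    · exact ⟨mi, Or.inr ⟨0, rfl⟩, hom_i h⟩
    · exact ⟨mj, Or.inr ⟨1, rfl⟩, hom_j h⟩
    · exact ⟨mk, Or.inr ⟨2, rfl⟩, hom_k h⟩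
    · exact ⟨ml, Or.inr ⟨3, rfl⟩, hom_l h⟩

/-- **The constructor.** -/
theorem plus_of (h : QRel z i j k l) (gen : Q = Subgroup.closure {i, j, k, l})
    (conj : ∀ g, g * z = z * g → ∀ x ∈ Q, g * x * g⁻¹ ∈ Q)
    (self : ∀ g, g * z = z * g → (∀ x ∈ Q, g * x = x * g) → g ∈ Q) : Plus Q z i j k l := by
  have hr : (hom h).range = Q := by rw [hom_range h, gen]
  have ex : ∀ x ∈ Q, ∃ m, hom h m = x := fun x hx => by
    rw [← hr] at hx; exact hx
  have mem : ∀ m, hom h m ∈ Q := fun m => by rw [← hr]; exact ⟨m, rfl⟩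
  refine
    { large :=
        { z_mem := by rw [← hom_zz h]; exact mem _
          z_ne := h.z1
          z_sq := h.zz
          comm_z := ?_
          conj_mem := conj
          sq := ?_
          comm := ?_
          cent := ?_
          self := self }
      card := ?_
      gen := gen
      ii := h.ii
      jj := h.jj
      kk := h.kk
      ll := h.ll
      ji := h.ji
      lk := h.lk
      ki := h.ki
      li := h.li
      kj := h.kj
      lj := h.lj }
  · intro x hx
    obtain ⟨m, rfl⟩ := ex x hx
    have h1 : hom h m * hom h zz = hom h zz * hom h m := by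
      rw [← map_mul, ← map_mul, zz_comm]
    rwa [hom_zz] at h1
  · intro x hx
    obtain ⟨m, rfl⟩ := ex x hx
    rcases mul_self_mem m with h1 | h1
    · left; rw [← map_mul, h1, map_one]
    · right; rw [← map_mul, h1, hom_zz]
  · intro x hx y hy
    obtain ⟨m, rfl⟩ := ex x hx
    obtain ⟨n, rfl⟩ := ex y hy
    rcases comm_or m n with h1 | h1
    · left; rw [← map_mul, h1, map_mul]
    · right
      rw [← map_mul, h1, ← zz_comm, map_mul, map_mul, hom_zz]
  · intro x hx hc
    obtain ⟨m, rfl⟩ := ex x hx
    have h1 : m ∈ Subgroup.center M := by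
      rw [Subgroup.mem_center_iff]
      intro n
      apply hom_injective h
      rw [map_mul, map_mul]
      exact (hc _ (mem n)).symm
    rcases (mem_center_iff nd_P4 m).1 h1 with rfl | rfl
    · left; exact map_one _
    · right; exact hom_zz h
  · rw [← hr]
    have h1 : Nat.card (hom h).range = Nat.card M :=
      Nat.card_congr ((hom h).ofInjective (hom_injective h)).toEquiv.symm
    rw [h1, card_XG]
    norm_num

end Cfsg.Agent.OddHalf.D6.QThree.PlusOf
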