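import Cfsg.Agent.OddHalf.D6.QThree.Facts

/-!
# The pump-up fact: the K-free part

`L ≅ PSp₄(3)` inside `X ≅ U₄(3)` or `L₄(3)`: the elements of odd order of `C_X(z)` lie in `L`.
-/

set_option autoImplicit false

namespace Cfsg.Agent.OddHalf.D6.QThree.Pump

open Subgroup Cfsg.Agent.OddHalf.D6.QThree.Facts

/-- the subgroup generated by the elements of odd order of `C(z)` -/
def OO {X : Type*} [Group X] (z : X) : Subgroup X := closure {x : X | x * z = z * x ∧ Odd (orderOf x)}

section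

variable {X Y : Type*} [Group X] [Group Y]

theorem oo_map_le {f : X →* Y} (hf : Function.Injective f) (z : X) : (OO z).map f ≤ OO (f z) := by
  unfold OO
  rw [MonoidHom.map_closure, closure_le]
  rintro _ ⟨x, ⟨hx, ho⟩, rfl⟩
  refine subset_closure ⟨?_, ?_⟩
  · rw [← map_mul, hx, map_mul]
  · rw [orderOf_injective f hf]; exact ho

theorem oo_map (f : X ≃* Y) (z : X) : (OO z).map f.toMonoidHom = OO (f z) := by
  refine le_antisymm (oo_map_le f.injective z) ?_
  intro x hx
  have h1 := oo_map_le (f := f.symm.toMonoidHom) f.symm.injective (f z) (mem_map_of_mem _ hx)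
  have h2 : f.symm.toMonoidHom (f z) = z := f.symm_apply_apply z
  rw [h2] at h1
  exact ⟨_, h1, f.apply_symm_apply x⟩

theorem card_map_inj {f : X →* Y} (hf : Function.Injective f) (H : Subgroup X) :
    Nat.card (H.map f) = Nat.card H := Nat.card_congr (H.equivMapOfInjective _ hf).symm.toEquiv

theorem card_oo_map (f : X ≃* Y) (z : X) : Nat.card (OO (f z)) = Nat.card (OO z) := by
  rw [← oo_map f z]
  exact card_map_inj f.injective _

theorem card_oo_conj {z : X} (k : X) : Nat.card (OO (k * z * k⁻¹)) = Nat.card (OO z) :=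
  card_oo_map (MulAut.conj k) z

end

/-! ### 2-central involutions -/

section

variable {X : Type*} [Group X] [Finite X]

/-- 2-part of the order of a Sylow subgroup -/
theorem card_syl {m k : ℕ} (hX : Nat.card X = 2 ^ k * m) (hm : Odd m) (S : Sylow 2 X) :
    Nat.card S = 2 ^ k := by
  have : Fact (Nat.Prime 2) := ⟨Nat.prime_two⟩
  have h1 := (S : Subgroup X).card_mul_index
  have h2 : ¬ 2 ∣ (S : Subgroup X).index := S.not_dvd_index
  have h3 : Nat.Coprime (2 ^ k) (S : Subgroup X).index :=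
    Nat.Coprime.pow_left k ((Nat.Prime.coprime_iff_not_dvd Nat.prime_two).2 h2)
  have h4 : 2 ^ k ∣ Nat.card (S : Subgroup X) := by
    refine h3.dvd_of_dvd_mul_right ?_
    rw [h1, hX]; exact dvd_mul_right _ _
  obtain ⟨j, hj⟩ := IsPGroup.iff_card.1 S.isPGroup'
  have h5 : Nat.Coprime (Nat.card (S : Subgroup X)) m := by
    rw [hj]
    refine Nat.Coprime.pow_left j ((Nat.Prime.coprime_iff_not_dvd Nat.prime_two).2 ?_)
    intro h6
    rcases hm with ⟨a, ha⟩
    omega
  have h6 : Nat.card (S : Subgroup X) ∣ 2 ^ k := by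
    refine h5.dvd_of_dvd_mul_right ?_
    rw [← hX, ← h1]; exact dvd_mul_right _ _
  exact Nat.dvd_antisymm h6 h4

/-- a 2-subgroup of a subgroup of odd index lies in a Sylow 2-subgroup contained in it -/
theorem exists_sylow_le {H : Subgroup X} (hH : Odd H.index) {R : Subgroup X} (hR : IsPGroup 2 R) (hRH : R ≤ H) :
    ∃ S : Sylow 2 X, (S : Subgroup X) ≤ H ∧ R ≤ S := by
  have : Fact (Nat.Prime 2) := ⟨Nat.prime_two⟩
  have hR2 : IsPGroup 2 (R.subgroupOf H) := hR.of_equiv (subgroupOfEquivOfLe hRH).symm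
  obtain ⟨S0, hS0⟩ := hR2.exists_le_sylow
  have h2 : IsPGroup 2 ((S0 : Subgroup H).map H.subtype) := S0.isPGroup'.map _
  have h4 : ¬ 2 ∣ ((S0 : Subgroup H).map H.subtype).index := by
    rw [index_map_subtype]
    intro h5
    rcases (Nat.Prime.dvd_mul Nat.prime_two).1 h5 with h6 | h6
    · exact S0.not_dvd_index h6
    · rcases hH with ⟨a, ha⟩
      omega
  refine ⟨h2.toSylow h4, ?_, ?_⟩
  · rw [IsPGroup.toSylow_coe]
    exact map_subtype_le _
  · rw [IsPGroup.toSylow_coe]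
    intro r hr
    exact ⟨⟨r, hRH hr⟩, hS0 hr, rfl⟩

/-- a Sylow 2-subgroup whose centre is `⟨z⟩` -/
theorem exists_syl {z : X} {R : Subgroup X} (h : Base z R) :
    ∃ S : Sylow 2 X, z ∈ S ∧ (∀ g ∈ S, g * z = z * g) ∧ ∀ g ∈ S, (∀ s ∈ S, g * s = s * g) → g = 1 ∨ g = z := by
  have hRC : R ≤ centralizer ({z} : Set X) := fun r hr => mem_centralizer_singleton_iff.2 (h.RP r hr)
  obtain ⟨S, hSC, hRS⟩ := exists_sylow_le h.odd h.pR hRC
  have hSC : ∀ g ∈ S, g * z = z * g := fun g hg => mem_centralizer_singleton_iff.1 (hSC hg)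
  exact ⟨S, hRS h.zR, hSC, fun g hg hc => h.cR g (hSC g hg) fun r hr => hc r (hRS hr)⟩

theorem isPGroup_zpowers {w : X} (ww : w * w = 1) : IsPGroup 2 (zpowers w) := by
  rintro ⟨x, k, rfl⟩
  refine ⟨1, Subtype.ext ?_⟩
  show (w ^ k) ^ (2 ^ 1) = 1
  rw [pow_one, pow_two, ← zpow_add, ← two_mul, zpow_mul, zpow_two, ww, one_zpow]

/-- 2-central involutions are conjugate -/
theorem conj_of_odd {z : X} {R : Subgroup X} (h : Base z R) {w : X} (ww : w * w = 1) (w1 : w ≠ 1)
    (hw : Odd (centralizer ({w} : Set X)).index) : ∃ k, k * z * k⁻¹ = w := by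
  have : Fact (Nat.Prime 2) := ⟨Nat.prime_two⟩
  obtain ⟨S, hz, hzc, hcen⟩ := exists_syl h
  obtain ⟨T, hTC, hwT⟩ := exists_sylow_le hw (isPGroup_zpowers ww)
    (by rw [zpowers_le]; exact mem_centralizer_singleton_iff.2 rfl)
  have hwT' : w ∈ T := hwT (mem_zpowers w)
  obtain ⟨g, hg⟩ := MulAction.exists_smul_eq X T S
  have hmem : ∀ x, x ∈ S ↔ g⁻¹ * x * g ∈ T := by
    intro x
    rw [← hg]
    have h3 : x ∈ ((g • T : Sylow 2 X) : Subgroup X) ↔ (MulAut.conj g)⁻¹ • x ∈ (T : Subgroup X) := by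
      rw [Sylow.coe_subgroup_smul]
      exact Subgroup.mem_pointwise_smul_iff_inv_smul_mem
    have h4 : (MulAut.conj g)⁻¹ • x = g⁻¹ * x * g := by simp [MulAut.smul_def]
    rw [h4] at h3
    exact h3
  have h1 : g * w * g⁻¹ ∈ S := by
    rw [hmem]
    have : g⁻¹ * (g * w * g⁻¹) * g = w := by group
    rw [this]; exact hwT'
  have h2 := hcen _ h1 (by
    intro s hs
    rw [hmem] at hs
    have h3 := mem_centralizer_singleton_iff.1 (hTC hs)
    calc g * w * g⁻¹ * s = g * (w * (g⁻¹ * s * g)) * g⁻¹ := by group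
      _ = g * ((g⁻¹ * s * g) * w) * g⁻¹ := by rw [h3]
      _ = _ := by group)
  rcases h2 with h2 | h2
  · exfalso
    apply w1
    have : w = g⁻¹ * (g * w * g⁻¹) * g := by group
    rw [this, h2]; group
  · refine ⟨g⁻¹, ?_⟩
    rw [← h2]; group

end

/-! ### The embedding -/

/-- facts on `X = U₄(3)`, `L₄(3)` -/
def Top (X : Type*) [Group X] : Prop := ∃ (z : X) (R : Subgroup X), Base z R ∧ Nat.card (OO z) ≤ 288

section

variable {X : Type*} [Group X] [Finite X]

theorem Top.le (h : Top X) {w : X} (ww : w * w = 1) (w1 : w ≠ 1)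
    (hw : Odd (centralizer ({w} : Set X)).index) : Nat.card (OO w) ≤ 288 := by
  obtain ⟨z, R, hb, hc⟩ := h
  obtain ⟨k, rfl⟩ := conj_of_odd hb ww w1 hw
  rw [card_oo_conj]; exact hc

/-- `z` is 2-central -/
theorem odd_index {m : ℕ} (hX : Nat.card X = 2 ^ 7 * m) (hm : Odd m) {P : Subgroup X} (hP : Nat.card P = 64)
    {z : X} (zP : z ∈ P) (hz : ∀ g ∈ P, g * z = z * g) (z1 : z ≠ 1)
    (hc : ∀ g ∈ P, (∀ h ∈ P, g * h = h * g) → g = 1 ∨ g = z) : Odd (centralizer ({z} : Set X)).index := by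
  have : Fact (Nat.Prime 2) := ⟨Nat.prime_two⟩
  have hP2 : IsPGroup 2 P := IsPGroup.of_card (n := 6) (by rw [hP]; norm_num)
  obtain ⟨S, hPS⟩ := hP2.exists_le_sylow
  have hS := card_syl hX hm S
  have hi : (P.subgroupOf (S : Subgroup X)).index = 2 := by
    have h1 := (P.subgroupOf (S : Subgroup X)).card_mul_index
    have h2 : Nat.card (P.subgroupOf (S : Subgroup X)) = 64 := by
      rw [← hP]; exact Nat.card_congr (subgroupOfEquivOfLe hPS).toEquiv
    rw [h2] at h1
    have h3 : 64 * (P.subgroupOf (S : Subgroup X)).index = 128 := by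
      rw [h1]; exact hS
    omega
  have hn : (P.subgroupOf (S : Subgroup X)).Normal := normal_of_index_eq_two hi
  have hnc : ∀ s ∈ S, ∀ g ∈ P, s * g * s⁻¹ ∈ P := by
    intro s hs g hg
    exact hn.conj_mem ⟨g, hPS hg⟩ hg ⟨s, hs⟩
  have hcen : (S : Subgroup X) ≤ centralizer ({z} : Set X) := by
    intro s hs
    rw [mem_centralizer_singleton_iff]
    have h1 := hc _ (hnc s hs z zP) (by
      intro h hh
      have h2 : s⁻¹ * h * s ∈ P := by
        have := hnc s⁻¹ (inv_mem hs) h hh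
        rwa [inv_inv] at this
      have h3 := hz _ h2
      calc s * z * s⁻¹ * h = s * (z * (s⁻¹ * h * s)) * s⁻¹ := by group
        _ = s * ((s⁻¹ * h * s) * z) * s⁻¹ := by rw [h3]
        _ = _ := by group)
    rcases h1 with h1 | h1
    · exfalso
      apply z1
      have : z = s⁻¹ * (s * z * s⁻¹) * s := by group
      rw [this, h1]; group
    · rw [mul_inv_eq_iff_eq_mul] at h1
      exact h1
  have h1 : ¬ 2 ∣ (centralizer ({z} : Set X)).index := fun h2 =>
    S.not_dvd_index (h2.trans (index_dvd_of_le hcen))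
  exact Nat.not_even_iff_odd.1 (fun h2 => h1 h2.two_dvd)

/-- the elements of odd order of `C_X(z)` lie in `L` -/
theorem mem_range {L : Type*} [Group L] [Finite L] {m : ℕ} (hX : Nat.card X = 2 ^ 7 * m) (hm : Odd m) (hT : Top X)
    {n : ℕ} (hL : Nat.card L = 2 ^ 6 * n) (hn : Odd n) {z : L} {R : Subgroup L} (hb : Base z R)
    (hO : 288 ≤ Nat.card (OO z)) {f : L →* X} (hf : Function.Injective f) {x : X} (hx : x * f z = f z * x)
    (ho : Odd (orderOf x)) : x ∈ f.range := by
  obtain ⟨S, zS, hzS, hcS⟩ := exists_syl hb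
  have hcard := card_syl hL hn S
  have hodd : Odd (centralizer ({f z} : Set X)).index := by
    refine odd_index hX hm (P := (S : Subgroup L).map f) ?_ (mem_map_of_mem f zS) ?_ ?_ ?_
    · rw [card_map_inj hf]; exact hcard
    · rintro _ ⟨g, hg, rfl⟩
      rw [← map_mul, hzS g hg, map_mul]
    · intro h1
      rw [map_eq_one_iff f hf] at h1
      exact hb.z1 h1
    · rintro _ ⟨g, hg, rfl⟩ h1
      rcases hcS g hg (fun s hs => hf (by rw [map_mul, map_mul]; exact h1 _ (mem_map_of_mem f hs))) with h2 | h2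
      · left; rw [h2, map_one]
      · right; rw [h2]
  have h1 := hT.le (w := f z) (by rw [← map_mul, hb.zz, map_one])
    (fun h1 => hb.z1 ((map_eq_one_iff f hf).1 h1)) hodd
  have h2 := oo_map_le hf z
  have h3 : (OO z).map f = OO (f z) := by
    refine eq_of_le_of_card_ge h2 ?_
    rw [card_map_inj hf]; omega
  have h4 : x ∈ OO (f z) := subset_closure ⟨hx, ho⟩
  rw [← h3] at h4
  obtain ⟨y, -, rfl⟩ := h4
  exact ⟨y, rfl⟩

end

/-- an element of odd order of `L * Z` with `Z` a central 2-subgroup lies in `L` -/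
theorem mem_of_odd {M : Type*} [Group M] {L : Subgroup M} {l ζ : M} (hl : l ∈ L) (hc : l * ζ = ζ * l) {n : ℕ}
    (hn : ζ ^ (2 ^ n) = 1) (ho : Odd (orderOf (l * ζ))) : l * ζ ∈ L := by
  have h1 : (l * ζ) ^ (2 ^ n) = l ^ (2 ^ n) := by
    rw [Commute.mul_pow hc, hn, mul_one]
  have h2 : Nat.Coprime (2 ^ n) (orderOf (l * ζ)) := Nat.Coprime.pow_left n (Nat.coprime_two_left.2 ho)
  obtain ⟨m, hm⟩ := exists_pow_eq_self_of_coprime h2
  rw [← hm, h1]
  exact pow_mem (pow_mem hl _) _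

end Cfsg.Agent.OddHalf.D6.QThree.Pump
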