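import Cfsg.Prelude.Def_Classification2

/-!
# The pump-up fact of the row `U₄(3)` / `L₄(3)`: the order bounds for the heavy families

`Big P`: every group with the property `P` whose order is divisible by `25920 = |PSp₄(3)|` has order larger than
`6531840 = |2.U₄(3)|` (and `6065280 = |L₄(3)|`). The bounds for the sporadic groups and the Tits group are collected in `SpOrd`, those for the
other exceptional families in `ExcOrd`; they are proved one by one in `PumpOrd/*.lean`.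
-/

set_option autoImplicit false

namespace Cfsg.Agent.OddHalf.D6.QThree.Pump

universe u

/-- Every group with property `P` and order divisible by `25920` has order larger than `6531840`. -/
def Big (P : ∀ (G : Type u) [Group G], Prop) : Prop :=
  ∀ (G : Type u) [Group G], P G → 25920 ∣ Nat.card G → 6531840 < Nat.card G

/-- the bound for each sporadic group and for the Tits group -/
structure SpOrd : Prop where
  m11 : Big.{u} (fun G _ => Spor.IsoM11 G)
  m12 : Big.{u} (fun G _ => Spor.IsoM12 G)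
  m22 : Big.{u} (fun G _ => Spor.IsoM22 G)
  m23 : Big.{u} (fun G _ => Spor.IsoM23 G)
  m24 : Big.{u} (fun G _ => Spor.IsoM24 G)
  j1 : Big.{u} (fun G _ => Spor.IsoJ1 G)
  j2 : Big.{u} (fun G _ => Spor.IsoJ2 G)
  j3 : Big.{u} (fun G _ => Spor.IsoJ3 G)
  j4 : Big.{u} (fun G _ => Spor.IsoJ4 G)
  co1 : Big.{u} (fun G _ => Spor.IsoCo1 G)
  co2 : Big.{u} (fun G _ => Spor.IsoCo2 G)
  co3 : Big.{u} (fun G _ => Spor.IsoCo3 G)
  mcl : Big.{u} (fun G _ => Spor.IsoMcL G)
  hs : Big.{u} (fun G _ => Spor.IsoHS G)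
  suz : Big.{u} (fun G _ => Spor.IsoSuz G)
  he : Big.{u} (fun G _ => Spor.IsoHe G)
  ru : Big.{u} (fun G _ => Spor.IsoRu G)
  on : Big.{u} (fun G _ => Spor.IsoON G)
  ly : Big.{u} (fun G _ => Spor.IsoLy G)
  fi22 : Big.{u} (fun G _ => Spor.IsoFi22 G)
  fi23 : Big.{u} (fun G _ => Spor.IsoFi23 G)
  fi24 : Big.{u} (fun G _ => Spor.IsoFi24' G)
  hn : Big.{u} (fun G _ => Spor.IsoHN G)
  th : Big.{u} (fun G _ => Spor.IsoTh G)
  b : Big.{u} (fun G _ => Spor.IsoB G)
  m : Big.{u} (fun G _ => Spor.IsoM G)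
  tits : Big.{u} (fun G _ => Lie.IsoTits G)

/-- the bound for each other exceptional family -/
structure ExcOrd : Prop where
  g2 : Big.{u} (fun G _ => Lie.IsoChevG2 G)
  f4 : Big.{u} (fun G _ => Lie.IsoF4 G)
  e6 : Big.{u} (fun G _ => Lie.IsoChevE6 G)
  e7 : Big.{u} (fun G _ => Lie.IsoE7 G)
  e8 : Big.{u} (fun G _ => Lie.IsoE8 G)
  te6 : Big.{u} (fun G _ => Lie.Iso2E6 G)
  td4 : Big.{u} (fun G _ => Lie.Iso3D4 G)
  sz : Big.{u} (fun G _ => Lie.IsoSuzuki G)
  ree : Big.{u} (fun G _ => Lie.IsoRee G)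
  tf4 : Big.{u} (fun G _ => Lie.Iso2F4 G)

theorem SpOrd.sporadic (h : SpOrd.{u}) {G : Type u} [Group G] (hG : IsSporadicGroup G)
    (hd : 25920 ∣ Nat.card G) : 6531840 < Nat.card G := by
  rcases hG with h1 | h1 | h1 | h1 | h1 | h1 | h1 | h1 | h1 | h1 | h1 | h1 | h1 | h1 | h1 | h1 | h1 |
    h1 | h1 | h1 | h1 | h1 | h1 | h1 | h1 | h1
  · exact h.m11 G h1 hd
  · exact h.m12 G h1 hd
  · exact h.m22 G h1 hd
  · exact h.m23 G h1 hd
  · exact h.m24 G h1 hd
  · exact h.j1 G h1 hd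
  · exact h.j2 G h1 hd
  · exact h.j3 G h1 hd
  · exact h.j4 G h1 hd
  · exact h.co1 G h1 hd
  · exact h.co2 G h1 hd
  · exact h.co3 G h1 hd
  · exact h.mcl G h1 hd
  · exact h.hs G h1 hd
  · exact h.suz G h1 hd
  · exact h.he G h1 hd
  · exact h.ru G h1 hd
  · exact h.on G h1 hd
  · exact h.ly G h1 hd
  · exact h.fi22 G h1 hd
  · exact h.fi23 G h1 hd
  · exact h.fi24 G h1 hd
  · exact h.hn G h1 hd
  · exact h.th G h1 hd
  · exact h.b G h1 hd
  · exact h.m G h1 hd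

theorem exceptional (h : SpOrd.{u}) (h' : ExcOrd.{u}) {G : Type u} [Group G] (hG : IsExceptionalLieType G)
    (hd : 25920 ∣ Nat.card G) : 6531840 < Nat.card G := by
  rcases hG with h1 | h1 | h1 | h1 | h1 | h1 | h1 | h1 | h1 | h1 | h1
  · exact h'.g2 G h1 hd
  · exact h'.f4 G h1 hd
  · exact h'.e6 G h1 hd
  · exact h'.e7 G h1 hd
  · exact h'.e8 G h1 hd
  · exact h'.te6 G h1 hd
  · exact h'.td4 G h1 hd
  · exact h'.sz G h1 hd
  · exact h'.ree G h1 hd
  · exact h'.tf4 G h1 hd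
  · exact h.tits G h1 hd

end Cfsg.Agent.OddHalf.D6.QThree.Pump
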