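import Cfsg.Agent.OddHalf.NI3.K.Sp
import Cfsg.Agent.OddHalf.NI.SpClosed

/-!
# The intrinsic double cover of `PSp₄(3)` has `HasY`

`M` quasisimple, `Z(M)` a nontrivial 2-group, `M / Z(M) ≅ PSp₄(3)`. Then `M ≅ Sp₄(3)`, so `HasY M`.
-/

set_option autoImplicit false

namespace Cfsg.Agent.OddHalf.D6.QThree.RefIntr

open Subgroup Matrix Cfsg Cfsg.Agent.OddHalf.NI3 Cfsg.Agent.OddHalf.NI3.K Cfsg.Agent.OddHalf.LieOddFam
open Cfsg.Agent.OddHalf.NI (CompIn Even8 IsSL CoverOf.exists_cover)
open Cfsg.Agent.OddHalf.NI3.K.Sp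

universe u

theorem hasY {M : Type u} [Group M] [Finite M] (hq : IsQuasisimple M) (hZ : IsPGroup 2 (center M))
    (hne : center M ≠ ⊥) {F : Type} [Field F] [Fintype F] (hF : Fintype.card F = 3)
    (e : M ⧸ center M ≃* PSp 2 F) : HasY M := by
  have h2 : (2 : F) ≠ 0 := NI.Blocks.two_ne_zero_of_odd (by rw [hF]; decide)
  have h3 : (3 : F) = 0 := by
    have := FiniteField.cast_card_eq_zero F
    rw [hF] at this
    exact_mod_cast this
  have hqs : IsQuasisimple ↥(symplecticGroup (Fin 2) F) :=
    ⟨⟨Cfsg.Agent.S0269.result 2 (Or.inr (Or.inl ⟨rfl, by omega⟩))⟩,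
      Cfsg.Agent.S0270.result 2 le_rfl (fun _ => by omega)⟩
  have hr : Rk (↥(symplecticGroup (Fin 2) F) ⧸ center ↥(symplecticGroup (Fin 2) F)) 3 :=
    Or.inr (Or.inl ⟨F, _, _, 2, hF, le_rfl, ⟨MulEquiv.refl _⟩⟩)
  obtain ⟨φ, hs, hk⟩ := NI.CoverOf.exists_cover (L := symplecticGroup (Fin 2) F) hq.1.commutator_eq_top hZ
    hqs.1.commutator_eq_top (NI.SpClosed.closed2 (by rw [hF]; decide) one_le_two) e
  have hcen : ∀ x ∈ center (symplecticGroup (Fin 2) F), x = 1 ∨ x = NI.FrameSp.neg 2 F := by
    intro x hx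
    obtain ⟨a, ha⟩ := (LieClassical.SympCenter.mem_center_iff 2 x).1 hx
    have h4 := x.2
    rw [SymplecticGroup.mem_iff, ha] at h4
    have h5 : a * a = 1 := by
      have h6 := congrFun (congrFun h4 (Sum.inl 0)) (Sum.inr 0)
      simp [J, Matrix.fromBlocks, Matrix.mul_apply, Matrix.one_apply] at h6
      exact h6
    have h7 : (a - 1) * (a + 1) = 0 := by linear_combination h5
    rcases mul_eq_zero.1 h7 with h8 | h8
    · left
      apply Subtype.ext
      show x.1 = 1
      rw [ha, sub_eq_zero.1 h8, one_smul]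
    · right
      apply Subtype.ext
      show x.1 = (NI.FrameSp.neg 2 F : Matrix _ _ F)
      rw [ha, NI.FrameSp.neg_coe, eq_neg_of_add_eq_zero_left h8, neg_smul, one_smul]
  have hinj : Function.Injective φ := by
    rw [← MonoidHom.ker_eq_bot_iff]
    by_contra hk'
    apply hne
    obtain ⟨x, hx0⟩ := Subgroup.ne_bot_iff_exists_ne_one.1 hk'
    obtain ⟨x, hx⟩ := x
    have hx1 : x ≠ 1 := fun h => hx0 (Subtype.ext h)
    have hker : φ.ker = center (symplecticGroup (Fin 2) F) := by
      apply le_antisymm hk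
      intro y hy
      rcases hcen y hy with rfl | rfl
      · exact one_mem _
      · rcases hcen x (hk hx) with h | h
        · exact absurd h hx1
        · rw [← h]; exact hx
    -- `M ≅ PSp` has trivial centre
    have hM : M ≃* PSp 2 F :=
      (QuotientGroup.quotientKerEquivOfSurjective φ hs).symm.trans (QuotientGroup.quotientMulEquivOfEq hker)
    have hsim : IsSimpleGroup M := hM.isSimpleGroup_congr.2 hqs.2
    rcases (inferInstance : (center M).Normal).eq_bot_or_eq_top with h4 | h4
    · exact h4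
    · exfalso
      have := hq.1.commutator_eq_top
      have h5 : commutator M = ⊥ := by
        rw [commutator_def, commutator_eq_bot_iff_le_centralizer]
        intro x _
        rw [mem_centralizer_iff]
        intro y _
        have h6 : x ∈ center M := by rw [h4]; exact mem_top x
        exact mem_center_iff.1 h6 y
      rw [h5] at this
      have h6 := hq.2.exists_pair_ne
      obtain ⟨a, b, hab⟩ := h6
      obtain ⟨a, rfl⟩ := QuotientGroup.mk_surjective a
      obtain ⟨b, rfl⟩ := QuotientGroup.mk_surjective b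
      have h7 : a = b := by
        have h8 : ∀ x : M, x = 1 := fun x => by
          have : x ∈ (⊥ : Subgroup M) := by rw [this]; exact mem_top x
          exact mem_bot.1 this
        rw [h8 a, h8 b]
      exact hab (by rw [h7])
  exact hasY_of_block φ hs hk (MonoidHom.id _) hqs (neg_mem_center 2) (even8_neg one_le_two h3 h2) hr
    (fun g _ a => ⟨g * a * g⁻¹, rfl⟩) (by simpa using hinj)

end Cfsg.Agent.OddHalf.D6.QThree.RefIntr
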