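import Cfsg.Agent.OddHalf.D6.QThree.PumpMain
import Cfsg.Agent.OddHalf.D6.QThree.DiagEnd
import Cfsg.Agent.OddHalf.D6.QThree.RefIntr
import Cfsg.Agent.OddHalf.D6.PumpDown
import Cfsg.Agent.OddHalf.D8.PumpX
import Cfsg.Agent.OddHalf.Orders.Quo
import Cfsg.Agent.SmallSimple.PSLTwoPart

/-!
# ODD half, D6, `q = 3`: the reflections (L-balance in `C(b)`)

`t`, `b` commuting involutions, `L ≅ PSp₄(3)` subnormal in `C(b) ∩ C(t)`, `z ∈ D ≤ L`, `D = O²(C(t) ∩ C(z))`.
`Data.main`: `D` is normalised by `C(b) ∩ C(z)`, or `DiagAt t z b D M L`.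
-/

set_option autoImplicit false

namespace Cfsg.Agent.OddHalf.D6.QThree.RefOf

open Subgroup Cfsg Cfsg.Agent.OddHalf.Iface Cfsg.Agent.OddHalf.D3
open Cfsg.Agent.OddHalf.D6.QThree.Pump (SpOrd fixSub)
open Cfsg.Agent.OddHalf.D6.QThree.Diag (DiagAt)

universe u

variable {G : Type u} [Group G]

/-- the hypotheses: `L ≅ PSp₄(3)` a component of `C(b) ∩ C(t)` -/
structure Data (t z b : G) (D R L : Subgroup G) (F : Type) [Field F] [Fintype F] : Prop where
  tt : t * t = 1
  t1 : t ≠ 1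
  bb : b * b = 1
  b1 : b ≠ 1
  bt : b * t = t * b
  zz : z * z = 1
  z1 : z ≠ 1
  hF : Fintype.card F = 3
  iso : Nonempty (L ≃* PSp 2 F)
  Lb : ∀ l ∈ L, l * b = b * l
  Lt : ∀ l ∈ L, l * t = t * l
  sub : (L.subgroupOf (centralizer ({b} : Set G) ⊓ centralizer ({t} : Set G))).IsSubnormal
  DL : D ≤ L
  zR : z ∈ R
  RD : R ≤ D
  Dz : ∀ d ∈ D, d * z = z * d
  gen : D ≤ closure {x | x ∈ D ∧ Odd (orderOf x)}
  /-- `D` contains the elements of odd order of `C_L(z)` -/
  odd : ∀ x ∈ L, x * z = z * x → Odd (orderOf x) → x ∈ D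
  nD : ∀ g ∈ L, g * z = z * g → ∀ d ∈ D, g * d * g⁻¹ ∈ D
  pR : IsPGroup 2 R
  nR : ∀ g ∈ L, g * z = z * g → ∀ r ∈ R, g * r * g⁻¹ ∈ R
  na : ∃ x ∈ R, ∃ y ∈ R, x * y ≠ y * x

namespace Data

variable {t z b : G} {D R L : Subgroup G} {F : Type} [Field F] [Fintype F]

theorem card_L (h : Data t z b D R L F) : Nat.card L = 25920 := by
  obtain ⟨e⟩ := h.iso
  rw [Nat.card_congr e.toEquiv, Pump.card_psp_three h.hF]

theorem simple_L (h : Data t z b D R L F) : IsSimpleGroup L := by
  obtain ⟨e⟩ := h.iso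
  have := Cfsg.Agent.S0270.result (F := F) 2 le_rfl (fun _ => h.hF.ge)
  exact e.isSimpleGroup_congr.2 this

theorem na_L (h : Data t z b D R L F) : ∃ a b : L, a * b ≠ b * a := by
  obtain ⟨x, hx, y, hy, hxy⟩ := h.na
  exact ⟨⟨x, h.DL (h.RD hx)⟩, ⟨y, h.DL (h.RD hy)⟩, fun e => hxy (congrArg Subtype.val e)⟩

theorem quasi_L (h : Data t z b D R L F) : IsQuasisimple L :=
  have := h.simple_L
  Pump.quasisimple_of_simple h.na_L

theorem eq_one_L (h : Data t z b D R L F) {x : G} (hx : x ∈ L) (hc : ∀ l ∈ L, x * l = l * x) : x = 1 := by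
  haveI := h.simple_L
  have h1 : (⟨x, hx⟩ : L) ∈ center L := by
    rw [mem_center_iff]
    intro g
    exact Subtype.ext (hc g g.2).symm
  rcases (inferInstance : (center L).Normal).eq_bot_or_eq_top with h2 | h2
  · rw [h2, mem_bot] at h1
    exact congrArg Subtype.val h1
  · exfalso
    obtain ⟨a, b, hab⟩ := h.na_L
    have h3 : b ∈ center L := by rw [h2]; exact mem_top b
    exact hab (mem_center_iff.1 h3 a)

theorem not_l2o (h : Data t z b D R L F) : ¬ IsL2o L := by
  rintro ⟨E, _, _, ho, h5, ⟨e⟩⟩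
  have h1 : Nat.card (Matrix.ProjectiveSpecialLinearGroup (Fin 2) E) = 25920 := by
    rw [← Nat.card_congr e.toEquiv, h.card_L]
  have h2 := Cfsg.Agent.SmallSimple.PSLTwoPart.card_psl_two_odd ho
  rw [h1] at h2
  generalize Fintype.card E = q at h2 h5
  obtain ⟨k, rfl⟩ := Nat.exists_eq_add_of_le h5
  have h3 : (5 + k) ^ 2 - 1 = 24 + 10 * k + k ^ 2 := by
    rw [Nat.sub_eq_iff_eq_add (by nlinarith)]
    ring
  rw [h3] at h2
  have h4 : k < 37 := by
    by_contra hk
    push Not at hk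
    have h5 : 37 * 37 ≤ k * k := Nat.mul_le_mul hk hk
    nlinarith
  interval_cases k <;> omega

theorem b_ord (h : Data t z b D R L F) : orderOf b = 2 :=
  orderOf_eq_prime (by rw [pow_two]; exact h.bb) h.b1

theorem zL (h : Data t z b D R L F) : z ∈ L := h.DL (h.RD h.zR)

/-! ### the vertical case -/

/-- **the vertical case**: `D` contains the elements of odd order of `C_M(z)` -/
theorem odd_mem (h : Data t z b D R L F) (C : Ctx G) (hS : SpOrd.{u}) {K : Subgroup G} (S : Std G K)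
    (hK : Nat.card K ≤ 6531840) {M : Subgroup G} (hM : Comp b M) (hLM : L ≤ M) (ht : cj t M = M) {x : G}
    (hx : x ∈ M) (hxz : x * z = z * x) (ho : Odd (orderOf x)) : x ∈ D := by
  have := C.fin
  have ti : t⁻¹ = t := inv_eq_of_mul_eq_one_right h.tt
  have htM : ∀ m ∈ M, t * m * t⁻¹ ∈ M := fun m hm => by
    have := conj_mem_cj (g := t) hm
    rwa [ht] at this
  have hcomp : CompOf b M := ⟨hM.le, hM.comp⟩
  have hZ : IsPGroup 2 (center M) := Soft.CompOf.center_isPGroup (C.bal b h.b_ord) hcomp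
  -- the order of `M`
  have hcard : Nat.card M ≤ 6531840 := by
    refine (S.max b M h.b_ord hcomp fun hl => ?_).trans hK
    exfalso
    apply h.not_l2o
    refine D6.PumpDown.of_le hl h.tt htM hLM h.Lt ?_ ?_ ?_
    · have h1 := h.quasi_L.1.commutator_eq_top
      have h2 := congrArg (Subgroup.map L.subtype) h1
      rw [commutator_def, map_commutator, ← MonoidHom.range_eq_map, range_subtype] at h2
      exact h2
    · intro h1
      have h2 := h.zL
      rw [h1, mem_bot] at h2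
      exact h.z1 h2
    · refine Diag.sn_mono ?_ h.sub
      exact inf_le_inf_right _ hM.le
  have hne : M ≠ ⊤ := by
    intro h1
    have := C.simple
    have h2 : b ∈ center G := by
      rw [mem_center_iff]
      intro g
      exact mem_cs.1 (hM.le (h1 ▸ mem_top g))
    rcases (inferInstance : (center G).Normal).eq_bot_or_eq_top with h3 | h3
    · rw [h3, mem_bot] at h2
      exact h.b1 h2
    · apply C.na
      refine ⟨⟨fun x y => ?_⟩⟩
      have h4 : y ∈ center G := h3 ▸ mem_top y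
      exact mem_center_iff.1 h4 x
  have hknown : IsKnownSimple' (M ⧸ center M) :=
    Known.known_quotient C.kproper M hne (center M) hM.quasi.2 (Orders.Quo.quo_na hM.quasi)
  have hcq : Nat.card (M ⧸ center M) ≤ 6531840 := by
    refine le_trans ?_ hcard
    exact Nat.le_of_dvd Nat.card_pos (card_quotient_dvd_card (center M))
  -- the automorphism
  have htM' : ∀ m ∈ M, t⁻¹ * m * t ∈ M := by
    intro m hm
    have h1 := htM m hm
    rw [ti] at h1 ⊢
    exact h1
  let τ : MulAut M :=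
    { toFun := fun l => ⟨t * l * t⁻¹, htM l l.2⟩
      invFun := fun l => ⟨t⁻¹ * l * t, htM' l l.2⟩
      left_inv := fun l => Subtype.ext (by simp only; group)
      right_inv := fun l => Subtype.ext (by simp only; group)
      map_mul' := fun a b => Subtype.ext (by
        show t * ((a : G) * b) * t⁻¹ = t * a * t⁻¹ * (t * b * t⁻¹)
        group) }
  have hτc : ∀ l : M, ((τ l : M) : G) = t * l * t⁻¹ := fun l => rfl
  have hτ : ∀ x, τ (τ x) = x := by
    intro l
    apply Subtype.ext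
    rw [hτc, hτc]
    calc t * (t * (l : G) * t⁻¹) * t⁻¹ = t * t * l * (t * t)⁻¹ := by group
      _ = l := by rw [h.tt]; group
  have hfix : ∀ l : M, τ l = l ↔ (l : G) * t = t * l := by
    intro l
    constructor
    · intro h1
      have := congrArg Subtype.val h1
      rw [hτc, mul_inv_eq_iff_eq_mul] at this
      exact this.symm
    · intro h1
      apply Subtype.ext
      rw [hτc, ← h1, mul_inv_cancel_right]
  have hLfix : ∀ x ∈ L.subgroupOf M, τ x = x := by
    intro x hx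
    rw [hfix]
    exact h.Lt x hx
  have hsub : ((L.subgroupOf M).subgroupOf (fixSub τ)).IsSubnormal := by
    let ι : fixSub τ →* (centralizer ({b} : Set G) ⊓ centralizer ({t} : Set G) : Subgroup G) :=
      { toFun := fun l => ⟨((l : M) : G), ⟨hM.le (l : M).2, mem_cs.2 ((hfix _).1 l.2)⟩⟩
        map_one' := rfl
        map_mul' := fun _ _ => rfl }
    exact h.sub.comap ι
  obtain ⟨e⟩ := h.iso
  have hRL : R ≤ L := h.RD.trans h.DL
  have hRM : R ≤ M := hRL.trans hLM
  have h1 := Pump.main hS hM.quasi hZ hknown hcq τ hτ (L.subgroupOf M) hLfix hsub h.hF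
    ((subgroupOfEquivOfLe hLM).trans e) (z := ⟨z, hLM h.zL⟩) h.zL (Subtype.ext h.zz)
    (fun h1 => h.z1 (congrArg Subtype.val h1)) (N := R.subgroupOf M)
    (h.pR.of_equiv (subgroupOfEquivOfLe hRM).symm) (fun r hr => hRL hr)
    (fun n hn => Subtype.ext (h.Dz n (h.RD hn)))
    (fun g hg hgz n hn => h.nR g hg (congrArg Subtype.val hgz) n hn)
    (by
      obtain ⟨a, ha, b, hb, hab⟩ := h.na
      exact ⟨⟨a, hRM ha⟩, ha, ⟨b, hRM hb⟩, hb, fun h1 => hab (congrArg Subtype.val h1)⟩)
    (x := ⟨x, hx⟩) (Subtype.ext hxz) (by rwa [Subgroup.orderOf_mk])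
  exact h.odd x h1 hxz ho

/-- in the vertical case `D` is normalised by `C(b) ∩ C(z)` -/
theorem norm_of_le (h : Data t z b D R L F) (C : Ctx G) (hS : SpOrd.{u}) {K : Subgroup G} (S : Std G K)
    (hK : Nat.card K ≤ 6531840) {M : Subgroup G} (hM : Comp b M) (hLM : L ≤ M) (ht : cj t M = M) {g : G}
    (hgb : g * b = b * g) (hgz : g * z = z * g) : ∀ d ∈ D, g * d * g⁻¹ ∈ D := by
  have := C.fin
  have hg : cj g M = M := by
    by_contra hne
    have h1 := (hM.conj_of_comm hgb).comm hM hne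
    apply h.z1
    apply h.eq_one_L h.zL
    intro l hl
    have h2 : z ∈ cj g M := by
      rw [mem_cj]
      have h3 : g⁻¹ * z * g = z := by rw [mul_assoc, ← hgz, ← mul_assoc, inv_mul_cancel, one_mul]
      rw [h3]
      exact hLM h.zL
    exact comm_elt h1 h2 (hLM hl)
  have key : ∀ d ∈ D, Odd (orderOf d) → g * d * g⁻¹ ∈ D := by
    intro d hd ho
    apply h.odd_mem C hS S hK hM hLM ht
    · have := conj_mem_cj (g := g) (hLM (h.DL hd))
      rwa [hg] at this
    · have hc1 : Commute g z := hgz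
      have hc2 : Commute d z := h.Dz d hd
      exact (hc1.mul_left hc2).mul_left hc1.inv_left
    · rwa [orderOf_conj]
  have h1 : D ≤ D.comap (MulAut.conj g).toMonoidHom :=
    h.gen.trans ((closure_le _).2 (fun x hx => key x hx.1 hx.2))
  exact fun d hd => h1 hd

/-! ### the diagonal case -/

variable {M : Subgroup G}

/-- in the diagonal case `Z(M) = 1` -/
theorem center_eq_bot (h : Data t z b D R L F) (C : Ctx G) (hN : ∀ K : Subgroup G, CompOf b K → ¬ NI3.HasY ↥K)
    (hM : Comp b M) (ht : cj t M ≠ M) (hML : ∀ m ∈ M, m * (t * m * t⁻¹) ∈ L)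
    (hLM : ∀ l ∈ L, ∃ m ∈ M, l = m * (t * m * t⁻¹)) : center M = ⊥ := by
  have := C.fin
  by_contra hne
  have hcomp : CompOf b M := ⟨hM.le, hM.comp⟩
  have hZ : IsPGroup 2 (center M) := Soft.CompOf.center_isPGroup (C.bal b h.b_ord) hcomp
  have hMt := hM.conj_of_comm (g := t) h.bt.symm
  have hcom : ∀ m ∈ M, ∀ n ∈ M, m * (t * n * t⁻¹) = (t * n * t⁻¹) * m := by
    intro m hm n hn
    exact (comm_elt (hMt.comm hM ht) (conj_mem_cj hn) hm).symm
  -- the diagonal homomorphism
  let φ : M →* L :=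
    { toFun := fun m => ⟨m * (t * m * t⁻¹), hML m m.2⟩
      map_one' := Subtype.ext (by
        show (1 : G) * (t * 1 * t⁻¹) = 1
        group)
      map_mul' := fun m n => Subtype.ext (by
        show ((m : G) * n) * (t * (m * n) * t⁻¹) = (m * (t * m * t⁻¹)) * (n * (t * n * t⁻¹))
        have h1 := hcom n n.2 m m.2
        calc ((m : G) * n) * (t * (m * n) * t⁻¹) = m * (n * (t * m * t⁻¹)) * (t * n * t⁻¹) := by group
          _ = m * ((t * m * t⁻¹) * n) * (t * n * t⁻¹) := by rw [h1]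
          _ = (m * (t * m * t⁻¹)) * (n * (t * n * t⁻¹)) := by group) }
  have hφc : ∀ m : M, ((φ m : L) : G) = m * (t * m * t⁻¹) := fun _ => rfl
  have hφs : Function.Surjective φ := by
    rintro ⟨l, hl⟩
    obtain ⟨m, hm, h1⟩ := hLM l hl
    exact ⟨⟨m, hm⟩, Subtype.ext h1.symm⟩
  have hker : φ.ker = center M := by
    ext m
    rw [MonoidHom.mem_ker]
    constructor
    · intro h1
      have h2 : (m : G) * (t * m * t⁻¹) = 1 := congrArg Subtype.val h1
      rw [mem_center_iff]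
      intro n
      apply Subtype.ext
      have h3 := hcom n n.2 m m.2
      have h4 : t * (m : G) * t⁻¹ = (m : G)⁻¹ := (inv_eq_of_mul_eq_one_right h2).symm
      rw [h4] at h3
      show (n : G) * m = m * n
      calc (n : G) * m = m * ((m : G)⁻¹ * n) * m := by group
        _ = m * (n * (m : G)⁻¹) * m := by rw [h3]
        _ = m * n := by group
    · intro h1
      apply Subtype.ext
      apply h.eq_one_L (φ m).2
      intro l hl
      obtain ⟨n, hn, rfl⟩ := hLM l hl
      have h2 : ((φ m : L) * (φ ⟨n, hn⟩ : L)) = φ ⟨n, hn⟩ * φ m := by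
        rw [← map_mul, ← map_mul, mem_center_iff.1 h1 ⟨n, hn⟩]
      exact congrArg Subtype.val h2
  -- `M / Z(M) ≅ PSp₄(3)`
  obtain ⟨e⟩ := h.iso
  have e1 : M ⧸ center M ≃* PSp 2 F :=
    ((QuotientGroup.quotientMulEquivOfEq hker.symm).trans (QuotientGroup.quotientKerEquivOfSurjective φ hφs)).trans e
  exact hN M hcomp (RefIntr.hasY hM.quasi hZ hne h.hF e1)

/-- **the diagonal case** -/
theorem diagAt (h : Data t z b D R L F) (C : Ctx G) (hN : ∀ K : Subgroup G, CompOf b K → ¬ NI3.HasY ↥K)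
    (hM : Comp b M) (ht : cj t M ≠ M) (hML : ∀ m ∈ M, m * (t * m * t⁻¹) ∈ L)
    (hLM : ∀ l ∈ L, ∃ m ∈ M, l = m * (t * m * t⁻¹)) : DiagAt t z b D M L := by
  have := C.fin
  have hZ := h.center_eq_bot C hN hM ht hML hLM
  have hMt := hM.conj_of_comm (g := t) h.bt.symm
  have hcom : ∀ m ∈ M, ∀ n ∈ M, m * (t * n * t⁻¹) = (t * n * t⁻¹) * m := by
    intro m hm n hn
    exact (comm_elt (hMt.comm hM ht) (conj_mem_cj hn) hm).symm
  have hcen : ∀ m ∈ M, (∀ n ∈ M, m * n = n * m) → m = 1 := by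
    intro m hm h1
    have h2 : (⟨m, hm⟩ : M) ∈ center M := by
      rw [mem_center_iff]
      intro n
      exact Subtype.ext (h1 n n.2).symm
    rw [hZ, mem_bot] at h2
    exact congrArg Subtype.val h2
  have hdis : ∀ m ∈ M, t * m * t⁻¹ ∈ M → m = 1 := by
    intro m hm h1
    have h2 : t * m * t⁻¹ = 1 := hcen _ h1 (fun n hn => (hcom n hn m hm).symm)
    calc m = t⁻¹ * (t * m * t⁻¹) * t := by group
      _ = 1 := by rw [h2]; group
  refine ⟨fun m hm => mem_cs.1 (hM.le hm), hcom, hdis, ?_, hML, ?_, h.DL, ?_⟩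
  · intro g hgz hgb
    by_contra hne
    push Not at hne
    have hgM := hM.conj_of_comm hgb
    have h1 := hgM.comm hM hne.1
    have h2 := hgM.comm hMt hne.2
    obtain ⟨m, hm, hz⟩ := hLM z h.zL
    -- `z` centralises `cj g M`, so `M`
    have h3 : ∀ n ∈ M, z * n = n * z := by
      intro n hn
      have h4 : (g * n * g⁻¹) * z = z * (g * n * g⁻¹) := by
        have h5 := comm_elt h1 (conj_mem_cj (g := g) hn) hm
        have h6 := comm_elt h2 (conj_mem_cj (g := g) hn) (conj_mem_cj (g := t) hm)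
        have c1 : Commute (g * n * g⁻¹) m := h5
        have c2 : Commute (g * n * g⁻¹) (t * m * t⁻¹) := h6
        rw [hz]
        exact c1.mul_right c2
      have c3 : Commute g z := hgz
      have c4 : Commute (g * n * g⁻¹) z := h4
      have c5 : Commute (g⁻¹ * (g * n * g⁻¹) * g) z := (c3.inv_left.mul_left c4).mul_left c3
      have e : g⁻¹ * (g * n * g⁻¹) * g = n := by group
      rw [e] at c5
      exact c5.symm
    have h4 : m = 1 := by
      apply hcen m hm
      intro n hn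
      have h5 := h3 n hn
      rw [hz] at h5
      have h6 := hcom n hn m hm
      have c1 : Commute n (t * m * t⁻¹) := h6
      have c2 : Commute (m * (t * m * t⁻¹)) n := h5
      have c3 : Commute (m * (t * m * t⁻¹) * (t * m * t⁻¹)⁻¹) n := c2.mul_left c1.symm.inv_left
      rw [mul_inv_cancel_right] at c3
      exact c3
    apply h.z1
    rw [hz, h4]; group
  · intro l hl
    obtain ⟨m, hm, h1⟩ := hLM l hl
    exact ⟨m, hm, h1.symm⟩
  · refine Diag.sn_of_conj ?_
    rintro x ⟨hx1, hx2⟩ d hd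
    exact h.nD x hx1 (mem_cs.1 hx2) d hd

/-- **The reflections.** -/
theorem main (h : Data t z b D R L F) (C : Ctx G) (hS : SpOrd.{u}) {K : Subgroup G} (S : Std G K)
    (hK : Nat.card K ≤ 6531840) (hN : ∀ K : Subgroup G, CompOf b K → ¬ NI3.HasY ↥K) :
    (∀ g, g * b = b * g → g * z = z * g → ∀ d ∈ D, g * d * g⁻¹ ∈ D) ∨
      ∃ M L' : Subgroup G, Comp b M ∧ L' = L ∧ DiagAt t z b D M L' := by
  have := C.fin
  have heven : 2 ∣ Nat.card L := by rw [h.card_L]; norm_num
  obtain ⟨M, hM, h1 | ⟨h1, h2⟩ | ⟨h1, h2, h3⟩⟩ := D8.PumpX.pump (C.bal b h.b_ord) h.tt h.bt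
    (fun l hl => mem_cs.2 (h.Lb l hl)) (fun l hl => mem_cs.2 (h.Lt l hl)) h.quasi_L heven h.sub
  · left
    intro g hgb hgz
    refine h.norm_of_le C hS S hK hM h1.le ?_ hgb hgz
    rw [← h1]
    apply le_antisymm
    · rintro _ ⟨l, hl, rfl⟩
      show t * l * t⁻¹ ∈ L
      rw [← h.Lt l hl, mul_inv_cancel_right]
      exact hl
    · intro l hl
      rw [mem_cj, mul_assoc, h.Lt l hl]
      have e : t⁻¹ * (t * l) = l := by group
      rw [e]
      exact hl
  · left
    intro g hgb hgz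
    exact h.norm_of_le C hS S hK hM h1.le h2 hgb hgz
  · right
    exact ⟨M, L, hM, rfl, h.diagAt C hN hM h1 h2 h3⟩

/-- helper948's form -/
theorem ref (h : Data t z b D R L F) (C : Ctx G) (hS : SpOrd.{u}) {K : Subgroup G} (S : Std G K)
    (hK : Nat.card K ≤ 6531840) (hN : ∀ K : Subgroup G, CompOf b K → ¬ NI3.HasY ↥K) {J : Subgroup G}
    (hJD : J ≤ D) (hJ : (J.subgroupOf D).IsSubnormal) : DiagEnd.Ref t z b D J := by
  rcases h.main C hS S hK hN with h1 | ⟨M, L', -, -, h1⟩
  · left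
    refine Diag.sn_chain hJD hJ (Diag.sn_of_conj ?_)
    rintro g ⟨hg1, hg2⟩ d hd
    exact h1 g (mem_cs.1 hg1) (mem_cs.1 hg2) d hd
  · exact Or.inr ⟨M, L', h1⟩

end Data

end Cfsg.Agent.OddHalf.D6.QThree.RefOf
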