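import Cfsg.Agent.OddHalf.D6.QThree.NIB.RowU
import Cfsg.Agent.OddHalf.D6.QThree.NIB.NF
import Cfsg.Agent.OddHalf.D6.QThree.FrontBU
import Cfsg.Agent.OddHalf.D6.QThree.FrontLocOf
import Cfsg.Agent.OddHalf.D6.QThree.FrontKMap
import Cfsg.Agent.OddHalf.D6.QThree.FrontInstE
import Cfsg.Agent.OddHalf.D6.QThree.EndSymG
import Cfsg.Agent.OddHalf.D6.Cut

/-!
# ODD half, D6, `q = 3`: the row `U₄(3)` (helper948)

`row`: the field `u4` of `D6.Cut.Three`.
-/

set_option autoImplicit false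

namespace Cfsg.Agent.OddHalf.D6.QThree.RowU4

open Subgroup Cfsg Cfsg.Agent.OddHalf Cfsg.Agent.OddHalf.Iface
open Cfsg.Agent.OddHalf.D6.QThree.FrontB (BA Z2 FrontK Out)
open Cfsg.Agent.OddHalf.D6.QThree.FrontLoc (Loc Bt T4 up az bz)
open Cfsg.Agent.OddHalf.D6.QThree.RefData (KH DD Rf)
open Cfsg.Agent.SignalizersComponents.Components
open Cfsg.Agent.Co2Type.Quad

universe u

/-- the facts on `K = U₄(3)` -/
structure KU {K : Type*} [Group K] (z : K) (R : Subgroup K) (i j k l a b : K) : Prop where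
  f : FrontK z R i j k l a b
  two : Facts.Two z R
  rf : Rf z R
  kf : NIB.KFOf.KFK z R
  mv : NIB.KU.Mv z R

theorem exists_KU {K : Type*} [Group K] {F : Type*} [Field F] [CharP F 3] [Fintype F] (hF : Fintype.card F = 9)
    (e : K ≃* PSU 4 F 3) : ∃ (z : K) (R : Subgroup K) (i j k l a b : K), KU z R i j k l a b := by
  obtain ⟨i, j, k, l, a, b, f⟩ := U43AutKF.exists_front hF
  exact ⟨_, _, _, _, _, _, _, _, f.map e.symm, (U43AutKF.two_pr hF).map e.symm,
    NIB.KU.rf_map (NIB.KU.rf_pr hF) e.symm, (NIB.KFOf.kfk_pr hF).map e.symm, NIB.KU.mv_map (NIB.KU.mv_pr hF) e.symm⟩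

variable {G : Type u} [Group G] {K : Subgroup G} {t : G} {z : K} {R : Subgroup K} {i j k l a b : K}

/-- **the position of a reflection** -/
theorem data (O : Out K t (z : G)) (f : FrontK z R i j k l a b)
    (L : Loc t (z : G) (R.map K.subtype) (i : G) j k l a b) (rf : Rf z R) {c : G}
    (hc : FrontLoc.Loc.Rf t (z : G) (R.map K.subtype) c) :
    ∃ (E : Subgroup G) (F : Type) (_ : Field F) (_ : Fintype F),
      RefOf.Data t (z : G) c (closure {(i : G), (j : G), (k : G), (l : G), (a : G), (b : G)}) (R.map K.subtype) E F := by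
  have hcz : c * z = z * c := hc.1.2 z L.zR
  obtain ⟨E, F, i1, i2, h⟩ := NIB.RowU.data O f L rf (x := up (z : G) c hcz)
    ⟨(L.Bt_iff _).2 hc.1, Subtype.ext hc.2.1, fun h => hc.2.2 ((L.T4_iff _).1 h)⟩
  refine ⟨E, F, i1, i2, ?_⟩
  rw [FrontLoc.closure_map]
  exact h

theorem ord_two {c : G}
    (hc : FrontLoc.Loc.Rf t (z : G) (R.map K.subtype) c) : orderOf c = 2 :=
  orderOf_eq_prime (by rw [pow_two]; exact hc.2.1) fun h => hc.2.2 (Or.inl h)

theorem refE (C : Ctx G) (hSp : Pump.SpOrd.{u}) (S : Std G K) (hK : Nat.card K ≤ 6531840)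
    (hN : ∀ b : G, orderOf b = 2 → ∀ L : Subgroup G, CompOf b L → ¬ NI3.HasY ↥L)
    (O : Out K t (z : G)) (f : FrontK z R i j k l a b)
    (L : Loc t (z : G) (R.map K.subtype) (i : G) j k l a b) (rf : Rf z R) {c : G}
    (hc : FrontLoc.Loc.Rf t (z : G) (R.map K.subtype) c) :
    (∀ g, g * c = c * g → g * (z : G) = z * g →
      ∀ d ∈ closure ({(i : G), (j : G), (k : G), (l : G), (a : G), (b : G)} : Set G),
      g * d * g⁻¹ ∈ closure ({(i : G), (j : G), (k : G), (l : G), (a : G), (b : G)} : Set G)) ∨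
      ∃ M L' : Subgroup G,
        Diag.DiagAt t (z : G) c (closure {(i : G), (j : G), (k : G), (l : G), (a : G), (b : G)}) M L' := by
  obtain ⟨E, F, _, _, h⟩ := data O f L rf hc
  rcases h.main C hSp S hK (hN c (ord_two hc)) with h1 | ⟨M, L', -, -, h1⟩
  · exact Or.inl h1
  · exact Or.inr ⟨M, L', h1⟩

theorem refD (C : Ctx G) (hSp : Pump.SpOrd.{u}) (S : Std G K) (hK : Nat.card K ≤ 6531840)
    (hN : ∀ b : G, orderOf b = 2 → ∀ L : Subgroup G, CompOf b L → ¬ NI3.HasY ↥L)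
    (O : Out K t (z : G)) (f : FrontK z R i j k l a b)
    (L : Loc t (z : G) (R.map K.subtype) (i : G) j k l a b) (rf : Rf z R) {c : G}
    (hc : FrontLoc.Loc.Rf t (z : G) (R.map K.subtype) c) :
    NIB.RefD t (z : G) c (closure {(i : G), (j : G), (k : G), (l : G), (a : G), (b : G)}) := by
  rcases refE C hSp S hK hN O f L rf hc with h1 | h1
  · left
    apply Diag.sn_of_conj
    rintro g ⟨hg1, hg2⟩ d hd
    exact h1 g (mem_centralizer_singleton_iff.1 hg1) (mem_centralizer_singleton_iff.1 hg2) d hd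
  · exact Or.inr h1

/-- **no components in `C_G(z)`** -/
theorem noComp (hGW : SylowSp4.Hyps.GW.{u}) (I : Intr2.{u}) (hS : CaseM.IntrSign.{u}) (C : Ctx G)
    (hcy : ∀ K : Subgroup G, Std0 G K → PRankLE 2 1 ↥(centralizer (K : Set G)) → Cyc K) (hSp : Pump.SpOrd.{u})
    (S : Std G K) (hK : Nat.card K ≤ 6531840)
    (hN : ∀ b : G, orderOf b = 2 → ∀ L : Subgroup G, CompOf b L → ¬ NI3.HasY ↥L)
    (hU : ∃ (F : Type) (_ : Field F) (_ : Fintype F), Fintype.card F = 9 ∧ Nonempty (K ≃* PSU 4 F 3))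
    (O : Out K t (z : G)) (h : KU z R i j k l a b) (L : Loc t (z : G) (R.map K.subtype) (i : G) j k l a b) :
    ∀ M : Subgroup ↥(centralizer ({(z : G)} : Set G)), ¬ IsComponent M := by
  intro M₀ hM₀
  have hfin := C.fin
  have hz : orderOf (z : G) = 2 := orderOf_eq_prime (by rw [pow_two]; exact L.fr.zz) L.fr.z1
  refine NIB.RowU.false_of_hypB hGW I hS C hcy hSp S hN hU O h.f L h.kf h.rf h.mv
    (L.hypB C (fun c hc => refD C hSp S hK hN O h.f L h.rf hc) ?_) rfl rfl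
  intro P hel zM hall F hF hF2 hQ
  -- an involution of `R - ⟨z⟩` conjugate to `z`
  have k := h.kf.kf (t := t) (Subtype.ext L.fr.zz) (fun e => L.fr.z1 (congrArg Subtype.val e)) O.Kt
  obtain ⟨v, hv, vv, v1, vz⟩ := k.ex
  obtain ⟨m, -, hm⟩ := k.one v (k.RK hv) vv v1
  obtain ⟨x, hx, y, hy, e⟩ := NIB.RowU.hR L v hv
  have e' : ((x * y : ↥(centralizer ({(z : G)} : Set G))) : G) = v := e.symm
  obtain ⟨h1, h2⟩ := NIB.FusB.factor P.s₁ P.s₂ P.zz P.z1 P.comm hx hy (Subtype.ext (by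
      show ((x * y : ↥(centralizer ({(z : G)} : Set G))) : G) *
        ((x * y : ↥(centralizer ({(z : G)} : Set G))) : G) = 1
      rw [e', vv])) (fun h1 => v1 (by rw [← e', h1]; rfl)) (fun h1 => vz (by rw [← e', h1]))
  have hm' : m⁻¹ * (z : G) * m⁻¹⁻¹ = v := by rw [← hm]; group
  exact NIB.NF.nF_of C.bal hz rfl P.s₁ P.s₂ P.comm hel zM hx hy h1 h2 (hm'.trans e) ⟨M₀, hM₀⟩ hall

/-- **the contradiction** -/
theorem false_of (hGW : SylowSp4.Hyps.GW.{u}) (I : Intr2.{u}) (hS : CaseM.IntrSign.{u}) (C : Ctx G)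
    (hcy : ∀ K : Subgroup G, Std0 G K → PRankLE 2 1 ↥(centralizer (K : Set G)) → Cyc K) (hSp : Pump.SpOrd.{u})
    (R58 : Small.Excl.Rows) (h58 : D8.HS.Elim.P1758.{u}) (S : Std G K) (hK : Nat.card K ≤ 6531840)
    (hN : ∀ b : G, orderOf b = 2 → ∀ L : Subgroup G, CompOf b L → ¬ NI3.HasY ↥L)
    (hU : ∃ (F : Type) (_ : Field F) (_ : Fintype F), Fintype.card F = 9 ∧ Nonempty (K ≃* PSU 4 F 3))
    (O : Out K t (z : G)) (h : KU z R i j k l a b) (L : Loc t (z : G) (R.map K.subtype) (i : G) j k l a b) :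
    False := by
  have hfin := C.fin
  have hz : orderOf (z : G) = 2 := orderOf_eq_prime (by rw [pow_two]; exact L.fr.zz) L.fr.z1
  have H : DiagEnd.Hyp t (z : G) (closure {(i : G), (j : G), (k : G), (l : G), (a : G), (b : G)}) (R.map K.subtype)
      (closure {(i : G), (j : G), (a : G)}) :=
    L.hyp C fun c hc => NIB.RefD.ref (refD C hSp S hK hN O h.f L h.rf hc) FrontLoc.Loc.JD (Diag.sn_of_conj L.nJ)
  obtain ⟨s, hs, hsz⟩ := L.s
  have κ := h.kf.kf (t := t) (Subtype.ext L.fr.zz) (fun e => L.fr.z1 (congrArg Subtype.val e)) O.Kt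
  obtain ⟨g, r, hgz, hr, rr, r1, rz, hg⟩ := κ.fus hs (NIB.FusOf.norm_R L hs hsz)
  exact EndSymG.false_of (t := t)
    (D := closure {(i : G), (j : G), (k : G), (l : G), (a : G), (b : G)}) (R := R.map K.subtype) R58 h58 C hz (noComp hGW I hS C hcy hSp S hK hN hU O h L)
    (fun W h1 h2 h3 => H.le_of_normal h1 h2 h3) fun F hF =>
      FrontInstE.endSym L hF (fun c hc => refE C hSp S hK hN O h.f L h.rf hc) ⟨g, r, hgz, hr, r1, rz, hg⟩
        (FrontInstE.exists_yt O.Kt O.nK h.two)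

/-- **The row `U₄(3)`** (the field `u4` of `D6.Cut.Three`) -/
theorem row (hGW : SylowSp4.Hyps.GW.{u}) (I : Intr2.{u}) (hS : CaseM.IntrSign.{u})
    (hcy : ∀ (G : Type u) [Group G], Ctx G → ∀ K : Subgroup G, Std0 G K → PRankLE 2 1 ↥(centralizer (K : Set G)) →
      Cyc K) (hSp : Pump.SpOrd.{u}) (R58 : Small.Excl.Rows) (h58 : D8.HS.Elim.P1758.{u}) (hN : NI3.NoThree.{u}) :
    D6.Cut.Row.{u} (fun X _ => ∃ (F : Type) (_ : Field F) (_ : Fintype F), Fintype.card F = 9 ∧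
      Nonempty (X ≃* PSU 4 F 3)) := by
  intro G _ C K S hC _ hX
  have hfin := C.fin
  obtain ⟨F, _, _, hF, ⟨e⟩⟩ := id hX
  have : Fact (Nat.Prime 3) := ⟨Nat.prime_three⟩
  have : CharP F 3 := charP_of_card_eq_prime_pow (f := 2) (by rw [hF]; norm_num)
  have hcard : Nat.card K ≤ 6531840 := by
    rw [Nat.card_congr e.toEquiv, U43Tw.card_K hF]; norm_num
  obtain ⟨z, R, i, j, k, l, a, b, h⟩ := exists_KU hF e
  obtain ⟨t, O⟩ := FrontBU.exists_out hF C S hC e h.f.toBase h.f.out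
  obtain ⟨a', b', f', L⟩ := FrontLoc.exists_loc O h.f
  exact false_of hGW I hS C (hcy G C) hSp R58 h58 S hcard (fun b hb L hL => hN G C b L hb hL) hX O
    ⟨f', h.two, h.rf, h.kf, h.mv⟩ L

end Cfsg.Agent.OddHalf.D6.QThree.RowU4
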