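import Cfsg.Agent.OddHalf.D6.QThree.Facts
import Cfsg.Agent.OddHalf.Clean

/-!
# ODD half, D6, `q = 3`: the local situation and the frame (helper143, after helper135 #7766 (1))

`Loc t z K R`: `C_G(t) = ⟨t⟩ × K` and the facts `Facts.Base` on `K`, as statements on subgroups of `G`.
`Loc.start`: an element `s` with `t^s = t z`, `z^s = z`; `z` is not conjugate to `t`; `t ∈ C_G(z)'`.
-/

set_option autoImplicit false

namespace Cfsg.Agent.OddHalf.D6.QThree.Sit

open Subgroup Cfsg.Agent.OddHalf.TR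

variable {G : Type*} [Group G]

/-- `C_G(t) = ⟨t⟩ × K`, `P = C_K(z)`, `R = O₂(P)` -/
structure Loc (t z : G) (K R : Subgroup G) : Prop where
  tt : t * t = 1
  tK : t ∉ K
  Kt : ∀ x ∈ K, x * t = t * x
  cen : ∀ g, g * t = t * g → g ∈ K ∨ t * g ∈ K
  zK : z ∈ K
  RK : R ≤ K
  zz : z * z = 1
  z1 : z ≠ 1
  zR : z ∈ R
  pR : IsPGroup 2 R
  RP : ∀ r ∈ R, r * z = z * r
  nR : ∀ g ∈ K, g * z = z * g → ∀ r ∈ R, g * r * g⁻¹ ∈ R
  max : ∀ N : Subgroup G, N ≤ K → IsPGroup 2 N → (∀ n ∈ N, n * z = z * n) →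
    (∀ g ∈ K, g * z = z * g → ∀ n ∈ N, g * n * g⁻¹ ∈ N) → N ≤ R
  cR : ∀ g ∈ K, g * z = z * g → (∀ r ∈ R, g * r = r * g) → g = 1 ∨ g = z
  ab : ∀ B : Subgroup G, B ≤ R → (∀ a ∈ B, ∀ b ∈ B, a * b = b * a) →
    (∀ g ∈ K, g * z = z * g → ∀ b ∈ B, g * b * g⁻¹ ∈ B) → ∀ b ∈ B, b = 1 ∨ b = z
  oz : z ∈ closure {x : G | x ∈ K ∧ x * z = z * x ∧ Odd (orderOf x)}
  /-- a Sylow subgroup of `K` -/
  syl : ∃ S : Subgroup G, S ≤ K ∧ IsPGroup 2 S ∧ (∀ x ∈ S, x * z = z * x) ∧ R ≤ S ∧
    ∀ Q : Subgroup G, Q ≤ K → IsPGroup 2 Q → S ≤ Q → Q ≤ S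

/-- a Sylow subgroup of `K` inside `C_K(z)` -/
theorem exists_sylow {K : Type*} [Group K] [Finite K] {z : K} {R : Subgroup K} (h : Facts.Base z R) :
    ∃ S : Subgroup K, IsPGroup 2 S ∧ (∀ x ∈ S, x * z = z * x) ∧ R ≤ S ∧
      ∀ Q : Subgroup K, IsPGroup 2 Q → S ≤ Q → Q ≤ S := by
  set C := centralizer ({z} : Set K) with hC
  have hRC : R ≤ C := fun r hr => mem_centralizer_singleton_iff.2 (h.RP r hr)
  obtain ⟨P, hP⟩ := (h.pR.comap_of_injective C.subtype C.subtype_injective).exists_le_sylow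
  refine ⟨(P : Subgroup C).map C.subtype, P.isPGroup'.map _, ?_, ?_, ?_⟩
  · rintro _ ⟨y, -, rfl⟩
    exact mem_centralizer_singleton_iff.1 y.2
  · intro r hr
    exact ⟨⟨r, hRC hr⟩, hP hr, rfl⟩
  · intro Q hQ hle
    have h1 : Nat.card ((P : Subgroup C).map C.subtype) = Nat.card (P : Subgroup C) :=
      Nat.card_congr ((P : Subgroup C).equivMapOfInjective _ C.subtype_injective).toEquiv.symm
    have h2 : Nat.card Q ≤ Nat.card (P : Subgroup C) := by
      obtain ⟨Q', hQ'⟩ := hQ.exists_le_sylow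
      have h3 : Nat.card Q ≤ Nat.card Q' := Nat.card_le_card_of_injective _ (inclusion_injective hQ')
      have h4 : Nat.card Q' = Nat.card (P : Subgroup C) := by
        have h5 := Q'.card_eq_multiplicity
        have h6 := P.card_eq_multiplicity
        have h7 : (Nat.card K).factorization 2 = (Nat.card C).factorization 2 := by
          have h8 := C.index_mul_card
          have h11 : Odd C.index := h.odd
          have h9 : C.index ≠ 0 := by
            rintro h0
            rw [h0] at h11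
            exact absurd h11 (by decide)
          have h10 : ¬ 2 ∣ C.index := by
            rw [Nat.odd_iff] at h11
            omega
          rw [← h8, Nat.factorization_mul h9 Nat.card_pos.ne', Finsupp.add_apply,
            Nat.factorization_eq_zero_of_not_dvd h10, zero_add]
        exact h5.trans ((congrArg (2 ^ ·) h7).trans h6.symm)
      omega
    exact (Subgroup.eq_of_le_of_card_ge hle (by omega)).ge

/-- the facts on `K`, seen in `G` -/
theorem Loc.of_base [Finite G] {t : G} {K : Subgroup G} (tt : t * t = 1) (tK : t ∉ K)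
    (Kt : ∀ x ∈ K, x * t = t * x) (cen : ∀ g, g * t = t * g → g ∈ K ∨ t * g ∈ K)
    {z : ↥K} {R : Subgroup ↥K} (h : Facts.Base z R) : Loc t (z : G) K (R.map K.subtype) where
  tt := tt
  tK := tK
  Kt := Kt
  cen := cen
  zK := z.2
  RK := by
    rintro _ ⟨y, -, rfl⟩
    exact y.2
  zz := congrArg Subtype.val h.zz
  z1 := fun e => h.z1 (Subtype.ext e)
  zR := ⟨z, h.zR, rfl⟩
  pR := h.pR.map _
  RP := by
    rintro _ ⟨y, hy, rfl⟩
    exact congrArg Subtype.val (h.RP y hy)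
  nR := by
    rintro g hg hgz _ ⟨y, hy, rfl⟩
    exact ⟨⟨g, hg⟩ * y * ⟨g, hg⟩⁻¹, h.nR ⟨g, hg⟩ (Subtype.ext hgz) y hy, rfl⟩
  max := by
    intro N hN hp hz hn x hx
    have h1 := h.max (N.subgroupOf K) (hp.comap_of_injective K.subtype K.subtype_injective)
      (fun n hn => Subtype.ext (hz n hn)) (fun g hg n hn' => hn g g.2 (congrArg Subtype.val hg) n hn')
    exact ⟨⟨x, hN hx⟩, h1 hx, rfl⟩
  cR := by
    intro g hg hgz hr
    rcases h.cR ⟨g, hg⟩ (Subtype.ext hgz) (fun r hr' => Subtype.ext (hr r ⟨r, hr', rfl⟩)) with h1 | h1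
    · exact Or.inl (congrArg Subtype.val h1)
    · exact Or.inr (congrArg Subtype.val h1)
  ab := by
    intro B hB hab hn b hb
    have hBK : B ≤ K := by
      intro x hx
      obtain ⟨y, -, rfl⟩ := hB hx
      exact y.2
    have hBR : ∀ x : ↥K, (x : G) ∈ B → x ∈ R := by
      intro x hx
      obtain ⟨y, hy, hyx⟩ := hB hx
      have : y = x := Subtype.ext hyx
      rwa [← this]
    rcases h.ab (B.subgroupOf K) (fun x hx => hBR x hx)
      (fun a ha b hb => Subtype.ext (hab a ha b hb))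
      (fun g hg b hb => hn g g.2 (congrArg Subtype.val hg) b hb) ⟨b, hBK hb⟩ hb with h1 | h1
    · exact Or.inl (congrArg Subtype.val h1)
    · exact Or.inr (congrArg Subtype.val h1)
  oz := by
    have h1 : (z : G) ∈ (closure {x : ↥K | x * z = z * x ∧ Odd (orderOf x)}).map K.subtype :=
      ⟨z, h.oz, rfl⟩
    rw [MonoidHom.map_closure] at h1
    refine closure_mono ?_ h1
    rintro _ ⟨y, ⟨hy1, hy2⟩, rfl⟩
    refine ⟨y.2, congrArg Subtype.val hy1, ?_⟩
    show Odd (orderOf (y : G))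
    rwa [Subgroup.orderOf_coe]
  syl := by
    obtain ⟨S, h1, h2, h3, h4⟩ := exists_sylow h
    refine ⟨S.map K.subtype, ?_, h1.map _, ?_, map_mono h3, ?_⟩
    · rintro _ ⟨y, -, rfl⟩
      exact y.2
    · rintro _ ⟨y, hy, rfl⟩
      exact congrArg Subtype.val (h2 y hy)
    · intro Q hQ hp hle x hx
      have h5 := h4 (Q.subgroupOf K) (hp.comap_of_injective K.subtype K.subtype_injective)
        (fun y hy => hle ⟨y, hy, rfl⟩)
      exact ⟨⟨x, hQ hx⟩, h5 hx, rfl⟩

namespace Loc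

variable {t z : G} {K R : Subgroup G}

theorem t1 (h : Loc t z K R) : t ≠ 1 := fun e => h.tK (e ▸ K.one_mem)

theorem zt (h : Loc t z K R) : z ≠ t := fun e => h.tK (e ▸ h.zK)

theorem comm (h : Loc t z K R) : t * z = z * t := (h.Kt z h.zK).symm

theorem t_inv (h : Loc t z K R) : t⁻¹ = t := inv_eq_of_mul_eq_one_left h.tt

theorem z_inv (h : Loc t z K R) : z⁻¹ = z := inv_eq_of_mul_eq_one_left h.zz

theorem tmul (h : Loc t z K R) (g : G) : t * (t * g) = g := by rw [← mul_assoc, h.tt, one_mul]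

theorem not_mem (h : Loc t z K R) {g : G} (hg : g ∈ K) : t * g ∉ K := fun h1 => h.tK (by
  have := K.mul_mem h1 (K.inv_mem hg)
  rwa [mul_inv_cancel_right] at this)

theorem tz_not (h : Loc t z K R) : t * z ∉ K := h.not_mem h.zK

/-- an element of odd order of `C(t)` lies in `K` -/
theorem mem_of_odd (h : Loc t z K R) {g : G} (hg : g * t = t * g) (ho : Odd (orderOf g)) : g ∈ K := by
  rcases h.cen g hg with h1 | h1
  · exact h1
  · exfalso
    obtain ⟨n, hn⟩ := ho
    have h2 : (t * g) ^ (2 * n + 1) = t := by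
      have hc : Commute t g := hg.symm
      rw [hc.mul_pow, ← hn, pow_orderOf_eq_one, mul_one, hn, pow_succ, pow_mul, pow_two, h.tt, one_pow,
        one_mul]
    exact h.tK (by rw [← h2]; exact K.pow_mem h1 _)

/-- the subgroup `⟨t⟩ × A`, `A ≤ K` -/
def ext (h : Loc t z K R) (A : Subgroup G) (hA : A ≤ K) : Subgroup G where
  carrier := {x | x ∈ A ∨ t * x ∈ A}
  one_mem' := Or.inl A.one_mem
  mul_mem' := by
    rintro x y (hx | hx) (hy | hy)
    · exact Or.inl (A.mul_mem hx hy)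
    · right
      have e : t * (x * y) = x * (t * y) := by
        rw [← mul_assoc, ← h.Kt x (hA hx), mul_assoc]
      rw [e]; exact A.mul_mem hx hy
    · right
      rw [← mul_assoc]; exact A.mul_mem hx hy
    · left
      have e : x * y = (t * x) * (t * y) := by
        have h1 := h.Kt _ (hA hx)
        calc x * y = t * (t * x) * y := by rw [h.tmul]
          _ = (t * x) * t * y := by rw [h1]
          _ = (t * x) * (t * y) := by group
      rw [e]; exact A.mul_mem hx hy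
  inv_mem' := by
    rintro x (hx | hx)
    · exact Or.inl (A.inv_mem hx)
    · right
      have h1 := h.Kt _ (hA hx)
      have e : t * x⁻¹ = (t * x)⁻¹ := by
        have h2 : x = t * (t * x) := (h.tmul x).symm
        have h3 : x⁻¹ = (t * x)⁻¹ * t⁻¹ := by
          conv_lhs => rw [h2]
          rw [mul_inv_rev]
        have h4 : Commute (t * x) t := h1
        rw [h3, h.t_inv, ← mul_assoc, ← (h4.inv_left).eq, mul_assoc, h.tt, mul_one]
      rw [e]; exact A.inv_mem hx

theorem mem_ext (h : Loc t z K R) {A : Subgroup G} (hA : A ≤ K) {x : G} :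
    x ∈ h.ext A hA ↔ x ∈ A ∨ t * x ∈ A := Iff.rfl

theorem t_mem_ext (h : Loc t z K R) {A : Subgroup G} (hA : A ≤ K) : t ∈ h.ext A hA :=
  Or.inr (by rw [h.tt]; exact A.one_mem)

theorem isPGroup_ext (h : Loc t z K R) {A : Subgroup G} (hA : A ≤ K) (hp : IsPGroup 2 A) :
    IsPGroup 2 (h.ext A hA) := by
  have key : ∀ x : G, t * x ∈ A → ∃ k : ℕ, x ^ 2 ^ k = 1 := by
    intro x hx
    obtain ⟨k, hk⟩ := hp ⟨t * x, hx⟩
    have hk' : (t * x) ^ 2 ^ k = 1 := congrArg Subtype.val hk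
    have hc : Commute t x := by
      have h1 := h.Kt _ (hA hx)
      have h2 : t * x * t = t * (t * x) := h1
      show t * x = x * t
      have h3 : t * (x * t) = t * (t * x) := by rw [← mul_assoc]; exact h2
      exact (mul_left_cancel h3).symm
    refine ⟨k + 1, ?_⟩
    have e : t ^ 2 ^ (k + 1) = 1 := by rw [pow_succ, mul_comm, pow_mul, pow_two, h.tt, one_pow]
    calc x ^ 2 ^ (k + 1) = t ^ 2 ^ (k + 1) * x ^ 2 ^ (k + 1) := by rw [e, one_mul]
      _ = (t * x) ^ 2 ^ (k + 1) := (hc.mul_pow _).symm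
      _ = 1 := by rw [pow_succ, pow_mul, hk', one_pow]
  rintro ⟨x, hx | hx⟩
  · obtain ⟨k, hk⟩ := hp ⟨x, hx⟩
    have hk' : x ^ 2 ^ k = 1 := congrArg Subtype.val hk
    exact ⟨k, Subtype.ext hk'⟩
  · obtain ⟨k, hk⟩ := key x hx
    exact ⟨k, Subtype.ext hk⟩

/-- an element normalising `⟨t, z⟩` normalises the group generated by the elements of odd order of
`C_K(z)` -/
theorem conj_mem (h : Loc t z K R) {g : G} (hg : ∀ x : G, x * t = t * x → x * z = z * x →
    (g * x * g⁻¹) * t = t * (g * x * g⁻¹) ∧ (g * x * g⁻¹) * z = z * (g * x * g⁻¹)) {y : G}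
    (hy : y ∈ closure {x : G | x ∈ K ∧ x * z = z * x ∧ Odd (orderOf x)}) :
    g * y * g⁻¹ ∈ closure {x : G | x ∈ K ∧ x * z = z * x ∧ Odd (orderOf x)} := by
  have h1 : MulAut.conj g y ∈ (closure {x : G | x ∈ K ∧ x * z = z * x ∧ Odd (orderOf x)}).map
      (MulAut.conj g).toMonoidHom := ⟨y, hy, rfl⟩
  rw [MonoidHom.map_closure] at h1
  refine closure_mono ?_ h1
  rintro _ ⟨x, ⟨hxK, hxz, hxo⟩, rfl⟩
  obtain ⟨h2, h3⟩ := hg x (h.Kt x hxK) hxz
  have h4 : Odd (orderOf (g * x * g⁻¹)) := by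
    have : orderOf (g * x * g⁻¹) = orderOf x :=
      orderOf_injective (MulAut.conj g).toMonoidHom (MulAut.conj g).injective x
    rw [this]; exact hxo
  exact ⟨h.mem_of_odd h2 h4, h3, h4⟩

/-- `M = C(t) ∩ C(z)` is normalised by the elements normalising `⟨t, z⟩` -/
theorem norm_cen {g : G} (ht : g⁻¹ * t * g = t ∨ g⁻¹ * t * g = z ∨ g⁻¹ * t * g = t * z)
    (hz : g⁻¹ * z * g = t ∨ g⁻¹ * z * g = z ∨ g⁻¹ * z * g = t * z) (x : G) (hxt : x * t = t * x)
    (hxz : x * z = z * x) :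
    (g * x * g⁻¹) * t = t * (g * x * g⁻¹) ∧ (g * x * g⁻¹) * z = z * (g * x * g⁻¹) := by
  have hxtz : x * (t * z) = t * z * x := by rw [← mul_assoc, hxt, mul_assoc, hxz, mul_assoc]
  have key : ∀ c : G, x * (g⁻¹ * c * g) = g⁻¹ * c * g * x → (g * x * g⁻¹) * c = c * (g * x * g⁻¹) := by
    intro c hc
    calc (g * x * g⁻¹) * c = g * (x * (g⁻¹ * c * g)) * g⁻¹ := by group
      _ = g * (g⁻¹ * c * g * x) * g⁻¹ := by rw [hc]
      _ = c * (g * x * g⁻¹) := by group
  constructor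
  · apply key
    rcases ht with e | e | e <;> rw [e]
    exacts [hxt, hxz, hxtz]
  · apply key
    rcases hz with e | e | e <;> rw [e]
    exacts [hxt, hxz, hxtz]

/-- `z` is isolated in `⟨t, z⟩` -/
theorem iso (h : Loc t z K R) (g : G)
    (h1 : g * t * g⁻¹ = t ∨ g * t * g⁻¹ = z ∨ g * t * g⁻¹ = t * z)
    (h2 : g * z * g⁻¹ = t ∨ g * z * g⁻¹ = z ∨ g * z * g⁻¹ = t * z) : g * z * g⁻¹ = z := by
  -- apply `norm_cen` to `g⁻¹`
  have h3 : g⁻¹ * z * g⁻¹⁻¹ ∈ closure {x : G | x ∈ K ∧ x * z = z * x ∧ Odd (orderOf x)} := by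
    apply h.conj_mem _ h.oz
    intro x hxt hxz
    apply norm_cen _ _ x hxt hxz
    · rwa [inv_inv]
    · rwa [inv_inv]
  have h4 : g⁻¹ * z * g ∈ K := by
    rw [inv_inv] at h3
    exact (closure_le K).2 (fun x hx => hx.1) h3
  have hmul : g * (t * z) * g⁻¹ = (g * t * g⁻¹) * (g * z * g⁻¹) := by group
  have back : ∀ y, g * y * g⁻¹ = z → y ∈ K := by
    intro y hy
    have : g⁻¹ * z * g = y := by rw [← hy]; group
    rwa [this] at h4
  have hinj : ∀ c d, g * c * g⁻¹ = g * d * g⁻¹ → c = d :=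
    fun c d e => mul_left_cancel (mul_right_cancel e)
  have htz := h.comm
  rcases h2 with h2 | h2 | h2
  · exfalso
    rcases h1 with h1 | h1 | h1
    · exact h.zt (hinj _ _ (h2.trans h1.symm))
    · exact h.tK (back t h1)
    · apply h.tz_not
      apply back
      rw [hmul, h1, h2, htz, mul_assoc, h.tt, mul_one]
  · exact h2
  · exfalso
    rcases h1 with h1 | h1 | h1
    · apply h.tz_not
      apply back
      rw [hmul, h1, h2, ← mul_assoc, h.tt, one_mul]
    · exact h.tK (back t h1)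
    · exact h.zt (hinj _ _ (h2.trans h1.symm))

/-- the frame -/
theorem frame (h : Loc t z K R) {S : Subgroup G} (hSK : S ≤ K) (hS : IsPGroup 2 S)
    (hSz : ∀ x ∈ S, x * z = z * x) (hRS : R ≤ S)
    (hmax : ∀ Q : Subgroup G, Q ≤ K → IsPGroup 2 Q → S ≤ Q → Q ≤ S) : Frame t z (h.ext S hSK) where
  tt := h.tt
  zz := h.zz
  t1 := h.t1
  z1 := h.z1
  ne := h.zt
  pT := h.isPGroup_ext hSK hS
  tT := h.t_mem_ext hSK
  tc := by
    rintro x (hx | hx)
    · exact h.Kt x (hSK hx)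
    · have h1 := h.Kt _ (hSK hx)
      have h3 : t * (x * t) = t * (t * x) := by rw [← mul_assoc]; exact h1
      exact mul_left_cancel h3
  zT := Or.inl (hRS h.zR)
  zc := by
    rintro x (hx | hx)
    · exact hSz x hx
    · have h1 := hSz _ hx
      have h3 : t * (x * z) = t * (z * x) := by
        rw [← mul_assoc, h1, ← mul_assoc, ← mul_assoc, h.comm]
      exact mul_left_cancel h3
  max := by
    intro P hP hle hPt x hx
    have h1 : P ⊓ K ≤ S := by
      apply hmax _ inf_le_right (hP.to_le inf_le_left)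
      intro y hy
      exact ⟨hle (Or.inl hy), hSK hy⟩
    rcases h.cen x (hPt x hx) with h2 | h2
    · exact Or.inl (h1 ⟨hx, h2⟩)
    · exact Or.inr (h1 ⟨P.mul_mem (hle (h.t_mem_ext hSK)) hx, h2⟩)
  om := by
    have key : ∀ y ∈ S, (∀ x ∈ S, x * y = y * x) → y = 1 ∨ y = z := by
      intro y hy hc
      exact h.cR y (hSK hy) (hSz y hy) (fun r hr => (hc r (hRS hr)).symm)
    rintro y (hy | hy) hc -
    · rcases key y hy (fun x hx => hc x (Or.inl hx)) with h1 | h1
      · exact Or.inl h1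
      · exact Or.inr (Or.inr (Or.inl h1))
    · have h2 : ∀ x ∈ S, x * (t * y) = t * y * x := by
        intro x hx
        rw [← mul_assoc, h.Kt x (hSK hx), mul_assoc, hc x (Or.inl hx), mul_assoc]
      rcases key _ hy h2 with h1 | h1
      · right; left
        rw [← h.tmul y, h1, mul_one]
      · right; right; right
        rw [← h.tmul y, h1]
  iso := fun g h1 h2 => h.iso g h1 h2

theorem comm_aux {a b c d : G} (c1 : Commute c a) (c2 : Commute c b) (d1 : Commute d a) (d2 : Commute d b)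
    (cd : Commute c d) : (c * a) * (d * b) * (c * a)⁻¹ * (d * b)⁻¹ = a * b * a⁻¹ * b⁻¹ := by
  have e1 : (c * a) * (d * b) = (c * d) * (a * b) := by
    calc (c * a) * (d * b) = c * (a * d) * b := by group
      _ = c * (d * a) * b := by rw [d1.eq]
      _ = (c * d) * (a * b) := by group
  have e2 : (c * a)⁻¹ * (d * b)⁻¹ = (a⁻¹ * b⁻¹) * (c⁻¹ * d⁻¹) := by
    rw [mul_inv_rev, mul_inv_rev]
    calc a⁻¹ * c⁻¹ * (b⁻¹ * d⁻¹) = a⁻¹ * (c⁻¹ * b⁻¹) * d⁻¹ := by group
      _ = a⁻¹ * (b⁻¹ * c⁻¹) * d⁻¹ := by rw [c2.inv_inv.eq]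
      _ = (a⁻¹ * b⁻¹) * (c⁻¹ * d⁻¹) := by group
  have cw : Commute (c * d) (a * b * a⁻¹ * b⁻¹) := by
    have h1 : Commute (c * d) a := c1.mul_left d1
    have h2 : Commute (c * d) b := c2.mul_left d2
    exact ((h1.mul_right h2).mul_right h1.inv_right).mul_right h2.inv_right
  calc (c * a) * (d * b) * (c * a)⁻¹ * (d * b)⁻¹ = ((c * a) * (d * b)) * ((c * a)⁻¹ * (d * b)⁻¹) := by group
    _ = (c * d) * (a * b * a⁻¹ * b⁻¹) * (c⁻¹ * d⁻¹) := by rw [e1, e2]; group
    _ = (a * b * a⁻¹ * b⁻¹) * (c * d) * (c⁻¹ * d⁻¹) := by rw [cw.eq]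
    _ = (a * b * a⁻¹ * b⁻¹) * ((c * d) * (d * c)⁻¹) := by group
    _ = a * b * a⁻¹ * b⁻¹ := by rw [← cd.eq, mul_inv_cancel, mul_one]

/-- **(1)** -/
theorem start [Finite G] (h : Loc t z K R) (hG : commutator G = ⊤) :
    (∃ s : G, s * t * s⁻¹ = t * z ∧ s * z * s⁻¹ = z) ∧ (∀ g, g * t * g⁻¹ ≠ z) ∧
      (⟨t, mem_centralizer_singleton_iff.2 h.comm⟩ : centralizer ({z} : Set G)) ∈
        commutator (centralizer ({z} : Set G)) := by
  obtain ⟨S, hSK, hS, hSz, hRS, hmax⟩ := h.syl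
  have F := h.frame hSK hS hSz hRS hmax
  have hnc : (⟨t, F.tT⟩ : h.ext S hSK) ∉ commutator (h.ext S hSK) := by
    have hle : commutator (h.ext S hSK) ≤ S.subgroupOf (h.ext S hSK) := by
      rw [commutator_def, commutator_le]
      rintro ⟨a, ha⟩ - ⟨b, hb⟩ -
      rw [mem_subgroupOf]
      show a * b * a⁻¹ * b⁻¹ ∈ S
      have hct : ∀ x ∈ h.ext S hSK, ∃ y ∈ S, (x = y ∨ x = t * y) := by
        rintro x (hx | hx)
        · exact ⟨x, hx, Or.inl rfl⟩
        · exact ⟨t * x, hx, Or.inr (h.tmul x).symm⟩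
      obtain ⟨a', ha', e1⟩ := hct a ha
      obtain ⟨b', hb', e2⟩ := hct b hb
      have hmem : a' * b' * a'⁻¹ * b'⁻¹ ∈ S :=
        S.mul_mem (S.mul_mem (S.mul_mem ha' hb') (S.inv_mem ha')) (S.inv_mem hb')
      have hca : ∀ x ∈ S, Commute t x := fun x hx => (h.Kt x (hSK hx)).symm
      have h1 : ∀ c d : G, (c = 1 ∨ c = t) → (d = 1 ∨ d = t) →
          (c * a') * (d * b') * (c * a')⁻¹ * (d * b')⁻¹ = a' * b' * a'⁻¹ * b'⁻¹ := by
        intro c d hc hd
        have c1 : Commute c a' := by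
          rcases hc with rfl | rfl
          exacts [Commute.one_left _, hca a' ha']
        have c2 : Commute c b' := by
          rcases hc with rfl | rfl
          exacts [Commute.one_left _, hca b' hb']
        have d1 : Commute d a' := by
          rcases hd with rfl | rfl
          exacts [Commute.one_left _, hca a' ha']
        have d2 : Commute d b' := by
          rcases hd with rfl | rfl
          exacts [Commute.one_left _, hca b' hb']
        have cd : Commute c d := by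
          rcases hc with rfl | rfl <;> rcases hd with rfl | rfl
          exacts [Commute.one_left _, Commute.one_left _, Commute.one_right _, Commute.refl _]
        exact comm_aux c1 c2 d1 d2 cd
      have h2 : a = a' ∨ a = t * a' := e1
      have h3 : b = b' ∨ b = t * b' := e2
      rcases h2 with rfl | rfl <;> rcases h3 with rfl | rfl
      · exact hmem
      · have := h1 1 t (Or.inl rfl) (Or.inr rfl)
        rw [one_mul] at this
        rw [this]; exact hmem
      · have := h1 t 1 (Or.inr rfl) (Or.inl rfl)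
        rw [one_mul] at this
        rw [this]; exact hmem
      · rw [h1 t t (Or.inr rfl) (Or.inr rfl)]; exact hmem
    intro h1
    exact h.tK (hSK (hle h1))
  obtain ⟨-, -, -, ⟨x, -, -, -, hxt, hxz⟩, hn, hc⟩ := F.main' hG hnc
  exact ⟨⟨x, hxt, hxz⟩, hn, hc⟩

end Loc

end Cfsg.Agent.OddHalf.D6.QThree.Sit
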