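import Cfsg.Agent.OddHalf.D6.QThree.SpTwo

/-!
# ODD half, D6, `q = 3`: `PSp₄(3)` with an outer part, all the cores `F ∋ t` of `C(z)` in `C(t)` (helper143)

`HPos`: the position; `Dl`: the facts on `D = O²(C_K(z))` and its action; `HPos.false_one`: contradiction, when
`C(t) ∩ C(z)` has an element outside `⟨t⟩ K`.
-/

set_option autoImplicit false
set_option linter.unusedSectionVars false

namespace Cfsg.Agent.OddHalf.D6.QThree.SpOne

open Subgroup Cfsg Cfsg.Agent.OddHalf.D6.QThree.Sit Cfsg.Agent.OddHalf.D6.QThree.Core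
open Cfsg.Agent.OddHalf.D6.QThree.Outer Cfsg.Agent.OddHalf.D6.QThree.SpSit
open Cfsg.Agent.OddHalf.D6.QThree.End (Pos.oddGen Pos.oddGen_le Pos.oddGen_le' comm_mem_of_gen
  mem_of_commutator Pos.swap_cen Pos.swap_inv)

variable {G : Type*} [Group G] {t z : G} {K R F : Subgroup G}

/-! ### signs -/

section signs

variable {x g h : G}

theorem plus_plus (hg : ∀ r ∈ R, g * r * g⁻¹ ∈ R) (h1 : g * x * g⁻¹ * x⁻¹ ∈ R) (h2 : h * x * h⁻¹ * x⁻¹ ∈ R) :
    (g * h) * x * (g * h)⁻¹ * x⁻¹ ∈ R := by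
  have e : (g * h) * x * (g * h)⁻¹ * x⁻¹ = (g * (h * x * h⁻¹ * x⁻¹) * g⁻¹) * (g * x * g⁻¹ * x⁻¹) := by group
  rw [e]; exact R.mul_mem (hg _ h2) h1

theorem minus_plus (hg : ∀ r ∈ R, g * r * g⁻¹ ∈ R) (h1 : g * x * g⁻¹ * x ∈ R) (h2 : h * x * h⁻¹ * x⁻¹ ∈ R) :
    (g * h) * x * (g * h)⁻¹ * x ∈ R := by
  have e : (g * h) * x * (g * h)⁻¹ * x = (g * (h * x * h⁻¹ * x⁻¹) * g⁻¹) * (g * x * g⁻¹ * x) := by group
  rw [e]; exact R.mul_mem (hg _ h2) h1

theorem plus_minus (hg : ∀ r ∈ R, g * r * g⁻¹ ∈ R) (hx : ∀ r ∈ R, x⁻¹ * r * x ∈ R)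
    (h1 : g * x * g⁻¹ * x⁻¹ ∈ R) (h2 : h * x * h⁻¹ * x ∈ R) : (g * h) * x * (g * h)⁻¹ * x ∈ R := by
  have e : (g * h) * x * (g * h)⁻¹ * x =
      (g * (h * x * h⁻¹ * x) * g⁻¹) * (x⁻¹ * (g * x * g⁻¹ * x⁻¹)⁻¹ * x) := by group
  rw [e]; exact R.mul_mem (hg _ h2) (hx _ (R.inv_mem h1))

theorem minus_minus (hg : ∀ r ∈ R, g * r * g⁻¹ ∈ R) (hx : ∀ r ∈ R, x * r * x⁻¹ ∈ R)
    (h1 : g * x * g⁻¹ * x ∈ R) (h2 : h * x * h⁻¹ * x ∈ R) : (g * h) * x * (g * h)⁻¹ * x⁻¹ ∈ R := by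
  have e : (g * h) * x * (g * h)⁻¹ * x⁻¹ =
      (g * (h * x * h⁻¹ * x) * g⁻¹) * (x * (g * x * g⁻¹ * x) * x⁻¹)⁻¹ := by group
  rw [e]; exact R.mul_mem (hg _ h2) (R.inv_mem (hx _ h1))

end signs

/-! ### an extension by an element of order two -/

/-- `D ∪ u D`, `u² ∈ D` -/
def ext (D : Subgroup G) (u : G) (hu : u * u ∈ D) (hn : ∀ d ∈ D, u * d * u⁻¹ ∈ D) : Subgroup G where
  carrier := {x | x ∈ D ∨ u * x ∈ D}
  one_mem' := Or.inl D.one_mem
  mul_mem' := by
    rintro x y (hx | hx) (hy | hy)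
    · exact Or.inl (D.mul_mem hx hy)
    · right
      have e : u * (x * y) = (u * x * u⁻¹) * (u * y) := by group
      rw [e]; exact D.mul_mem (hn x hx) hy
    · right
      have e : u * (x * y) = (u * x) * y := by group
      rw [e]; exact D.mul_mem hx hy
    · left
      have e : x * y = (u * u)⁻¹ * ((u * (u * x) * u⁻¹) * (u * y)) := by group
      rw [e]; exact D.mul_mem (D.inv_mem hu) (D.mul_mem (hn _ hx) hy)
  inv_mem' := by
    rintro x (hx | hx)
    · exact Or.inl (D.inv_mem hx)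
    · right
      have e : u * x⁻¹ = (u * (u * x)⁻¹ * u⁻¹) * (u * u) := by group
      rw [e]; exact D.mul_mem (hn _ (D.inv_mem hx)) hu

theorem ext_conj {D : Subgroup G} {u : G} {hu : u * u ∈ D} {hn : ∀ d ∈ D, u * d * u⁻¹ ∈ D} {a : G}
    (ha : ∀ d ∈ D, a * d * a⁻¹ ∈ D) (hau : u * (a * u * a⁻¹)⁻¹ ∈ D) {m : G} (hm : m ∈ ext D u hu hn) :
    a * m * a⁻¹ ∈ ext D u hu hn := by
  rcases hm with hm | hm
  · exact Or.inl (ha m hm)
  · right
    have e : u * (a * m * a⁻¹) = (u * (a * u * a⁻¹)⁻¹) * (a * (u * m) * a⁻¹) := by group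
    rw [e]; exact D.mul_mem hau (ha _ hm)

/-! ### the parts of an element -/

/-- the 2-part and the `2'`-part -/
theorem exists_parts [Finite G] (x : G) : ∃ a ∈ zpowers x, ∃ b ∈ zpowers x, x = a * b ∧
    IsPGroup 2 (zpowers a) ∧ Odd (orderOf b) := by
  obtain ⟨k, m, hm, hx⟩ := Nat.exists_eq_two_pow_mul_odd (orderOf_pos x).ne'
  have hcop : Nat.Coprime (2 ^ k) m := Nat.Coprime.pow_left k (Nat.coprime_two_left.2 hm)
  have hb := Nat.gcd_eq_gcd_ab (2 ^ k) m
  rw [hcop, Nat.cast_one] at hb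
  set u := Nat.gcdA (2 ^ k) m
  set w := Nat.gcdB (2 ^ k) m
  refine ⟨x ^ ((m : ℤ) * w), ⟨_, rfl⟩, x ^ (((2 ^ k : ℕ) : ℤ) * u), ⟨_, rfl⟩, ?_, ?_, ?_⟩
  · rw [← zpow_add, add_comm, ← hb, zpow_one]
  · have h1 : (x ^ ((m : ℤ) * w)) ^ (2 ^ k) = 1 := by
      rw [← zpow_natCast, ← zpow_mul]
      have e : (m : ℤ) * w * ((2 ^ k : ℕ) : ℤ) = ((orderOf x : ℕ) : ℤ) * w := by
        rw [hx]; push_cast; ring
      rw [e, zpow_mul, zpow_natCast, pow_orderOf_eq_one, one_zpow]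
    rw [IsPGroup.iff_card]
    rw [Nat.card_zpowers]
    obtain ⟨j, -, hj⟩ := (Nat.dvd_prime_pow Nat.prime_two).1 (orderOf_dvd_of_pow_eq_one h1)
    exact ⟨j, hj⟩
  · have h1 : (x ^ (((2 ^ k : ℕ) : ℤ) * u)) ^ m = 1 := by
      rw [← zpow_natCast, ← zpow_mul]
      have e : ((2 ^ k : ℕ) : ℤ) * u * (m : ℤ) = ((orderOf x : ℕ) : ℤ) * u := by
        rw [hx]; push_cast; ring
      rw [e, zpow_mul, zpow_natCast, pow_orderOf_eq_one, one_zpow]
    exact hm.of_dvd_nat (orderOf_dvd_of_pow_eq_one h1)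

/-! ### the position -/

/-- the facts on `D = O²(C_K(z))` -/
structure Dl (t z : G) (K R : Subgroup G) (v d e : G) : Prop where
  vK : v ∈ K
  vv : v * v = 1
  vz : v * z = z * v
  vD : v ∉ Pos.oddGen K z
  PD : ∀ g ∈ K, g * z = z * g → g ∈ Pos.oddGen K z ∨ v * g ∈ Pos.oddGen K z
  dD : d ∈ Pos.oddGen K z
  eD : e ∈ Pos.oddGen K z
  dR : d ∉ R
  eR : e ∉ R
  vd : v * d * v⁻¹ * d⁻¹ ∈ R
  ve : v * e * v⁻¹ * e ∈ R
  cd : ∀ x ∈ Pos.oddGen K z, v * x * v⁻¹ * x⁻¹ ∈ R → x ∈ R ∨ x * d⁻¹ ∈ R ∨ x * d ∈ R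
  ce : ∀ x ∈ Pos.oddGen K z, v * x * v⁻¹ * x ∈ R → x ∈ R ∨ x * e⁻¹ ∈ R ∨ x * e ∈ R
  gen : Pos.oddGen K z ≤ closure ({d, e} ∪ (R : Set G))
  dd : ∀ a ∈ Pos.oddGen K z, ∀ b ∈ Pos.oddGen K z, a * b * a⁻¹ * b⁻¹ ∈ R
  /-- the 2-elements of `C(t) ∩ C(z)` trivial on `D / R` -/
  o2 : ∀ g, g * t = t * g → g * z = z * g → IsPGroup 2 (zpowers g) →
    (∀ x ∈ Pos.oddGen K z, g * x * g⁻¹ * x⁻¹ ∈ R) → g ∈ R ∨ t * g ∈ R
  /-- `|C(t) : ⟨t⟩ K| ≤ 2` -/
  ix : ∀ a b, a * t = t * a → b * t = t * b → a ∉ K → t * a ∉ K → b ∉ K → t * b ∉ K →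
    a * b ∈ K ∨ t * (a * b) ∈ K

/-- all the cores `F ∋ t` of `C(z)` are in `C(t)` -/
structure HPos (t z : G) (K R F : Subgroup G) : Prop extends SPos t z K R F where
  hle : ∀ F' : Subgroup G, IsF z F' → t ∈ F' → ∀ x ∈ F', x * t = t * x

namespace HPos

variable (h : HPos t z K R F)

include h

theorem ntH [Finite G] {g : G} (hg : g * z = z * g) : Nt t z g :=
  ⟨hg, h.toOLoc.data.conj_t_of_le h.F' h.tF h.nc (h.hle F h.F' h.tF) hg⟩

theorem nD [Finite G] {g : G} (hg : g * z = z * g) {d : G} (hd : d ∈ Pos.oddGen K z) :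
    g * d * g⁻¹ ∈ Pos.oddGen K z := h.toSLoc.Nt_D (h.ntH hg) hd

theorem nR' [Finite G] {g : G} (hg : g * z = z * g) : ∀ r ∈ R, g * r * g⁻¹ ∈ R :=
  fun _ hr => h.toSLoc.Nt_R (h.ntH hg) hr

theorem inv_comm {g : G} (hg : g * z = z * g) : g⁻¹ * z = z * g⁻¹ :=
  (Commute.inv_left (show Commute g z from hg)).eq

/-- **(I2)** elements of odd order of `C(z)` lie in `D` -/
theorem odd_mem [Finite G] {g : G} (hg : g * z = z * g) (ho : Odd (orderOf g)) : g ∈ Pos.oddGen K z := by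
  have hgt : g * t = t * g := by
    rcases (h.ntH hg).ct with h1 | h1
    · exact mul_inv_eq_iff_eq_mul.1 h1
    · have hgz : g * z * g⁻¹ = z := by rw [hg]; group
      have h2 : Commute (g * g) t := by
        apply mul_inv_eq_iff_eq_mul.1
        calc g * g * t * (g * g)⁻¹ = g * (g * t * g⁻¹) * g⁻¹ := by group
          _ = g * (t * z) * g⁻¹ := by rw [h1]
          _ = (g * t * g⁻¹) * (g * z * g⁻¹) := by group
          _ = t := by rw [h1, hgz, mul_assoc, h.zz, mul_one]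
      obtain ⟨m, hm⟩ := ho
      have h3 : g = (g * g) ^ (m + 1) := by
        have h4 : g ^ (2 * m + 1) = 1 := by rw [← hm]; exact pow_orderOf_eq_one g
        calc g = g ^ (2 * m + 1) * g := by rw [h4, one_mul]
          _ = g ^ (2 * (m + 1)) := by rw [← pow_succ]; congr 1
          _ = (g * g) ^ (m + 1) := by rw [pow_mul, pow_two]
      rw [h3]; exact (h2.pow_left _).eq
  exact subset_closure ⟨h.mo g hgt ho, hg, ho⟩

variable {v d e : G} (l : Dl t z K R v d e)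

include l

theorem v_inv : v⁻¹ = v := inv_eq_of_mul_eq_one_left l.vv

/-- **(I7)** -/
theorem X_v [Finite G] {x : G} (hxt : x * t = t * x) (hxz : x * z = z * x) :
    v * (x * v * x⁻¹) ∈ Pos.oddGen K z := by
  have h1 : x * v * x⁻¹ ∈ K := h.nK x hxt v l.vK
  have h2 : (x * v * x⁻¹) * z = z * (x * v * x⁻¹) := by
    have c1 : Commute x z := hxz
    have c2 : Commute v z := l.vz
    exact (c1.mul_left c2).mul_left c1.inv_left
  rcases l.PD _ h1 h2 with h3 | h3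
  · exfalso
    apply l.vD
    have h4 := h.nD (h.inv_comm hxz) h3
    have e : x⁻¹ * (x * v * x⁻¹) * x⁻¹⁻¹ = v := by group
    rwa [e] at h4
  · exact h3

/-- **triviality on `D / R`** -/
theorem triv [Finite G] {g : G} (hg : g * z = z * g) (hd : g * d * g⁻¹ * d⁻¹ ∈ R) (he : g * e * g⁻¹ * e⁻¹ ∈ R) :
    ∀ x ∈ Pos.oddGen K z, g * x * g⁻¹ * x⁻¹ ∈ R := by
  have hDz : ∀ x ∈ Pos.oddGen K z, x * z = z * x := fun x hx =>
    mem_centralizer_singleton_iff.1 (Pos.oddGen_le' hx)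
  let C : Subgroup G :=
    { carrier := {x | x ∈ Pos.oddGen K z ∧ g * x * g⁻¹ * x⁻¹ ∈ R}
      one_mem' := ⟨one_mem _, by
        have e : g * 1 * g⁻¹ * 1⁻¹ = 1 := by group
        rw [e]; exact R.one_mem⟩
      mul_mem' := by
        rintro x y ⟨hx, hx'⟩ ⟨hy, hy'⟩
        refine ⟨mul_mem hx hy, ?_⟩
        have e : g * (x * y) * g⁻¹ * (x * y)⁻¹ = (g * x * g⁻¹ * x⁻¹) * (x * (g * y * g⁻¹ * y⁻¹) * x⁻¹) := by
          group
        rw [e]; exact R.mul_mem hx' (h.nR' (hDz x hx) _ hy')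
      inv_mem' := by
        rintro x ⟨hx, hx'⟩
        refine ⟨inv_mem hx, ?_⟩
        have e : g * x⁻¹ * g⁻¹ * x⁻¹⁻¹ = x⁻¹ * (g * x * g⁻¹ * x⁻¹)⁻¹ * x⁻¹⁻¹ := by group
        rw [e]; exact h.nR' (h.inv_comm (hDz x hx)) _ (R.inv_mem hx') }
  have h1 : Pos.oddGen K z ≤ C := by
    refine l.gen.trans ((closure_le _).2 ?_)
    rintro x ((hx | hx) | hx)
    · rw [hx]; exact ⟨l.dD, hd⟩
    · have hx' : x = e := hx
      rw [hx']; exact ⟨l.eD, he⟩
    · have hx' : x ∈ R := hx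
      exact ⟨h.RD hx', R.mul_mem (h.nR' hg x hx') (R.inv_mem hx')⟩
  exact fun x hx => (h1 hx).2

/-- `C₁`: the kernel of the action of `C(z)` on `D / R` -/
def C1 [Finite G] : Subgroup G where
  carrier := {g | g * z = z * g ∧ ∀ x ∈ Pos.oddGen K z, g * x * g⁻¹ * x⁻¹ ∈ R}
  one_mem' := ⟨by rw [one_mul, mul_one], fun x _ => by
    have e : 1 * x * 1⁻¹ * x⁻¹ = 1 := by group
    rw [e]; exact R.one_mem⟩
  mul_mem' := by
    rintro a b ⟨ha, ha'⟩ ⟨hb, hb'⟩
    have c1 : Commute a z := ha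
    have c2 : Commute b z := hb
    exact ⟨c1.mul_left c2, fun x hx => plus_plus (h.nR' ha) (ha' x hx) (hb' x hx)⟩
  inv_mem' := by
    rintro a ⟨ha, ha'⟩
    refine ⟨h.inv_comm ha, fun x hx => ?_⟩
    have e : a⁻¹ * x * a⁻¹⁻¹ * x⁻¹ = a⁻¹ * (a * x * a⁻¹ * x⁻¹)⁻¹ * a⁻¹⁻¹ := by group
    rw [e]; exact h.nR' (h.inv_comm ha) _ (R.inv_mem (ha' x hx))

/-- **(I5)** -/
theorem mem_C1 [Finite G] {x : G} (hx : x ∈ h.C1) (hxt : x * t = t * x) :
    x ∈ Pos.oddGen K z ∨ t * x ∈ Pos.oddGen K z := by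
  obtain ⟨a, ha, b, hb, hab, ha2, hbo⟩ := exists_parts x
  have haC : a ∈ h.C1 := (zpowers_le.2 hx) ha
  have hbC : b ∈ h.C1 := (zpowers_le.2 hx) hb
  have hxc : x ∈ centralizer ({t} : Set G) := mem_centralizer_singleton_iff.2 hxt
  have hat : a * t = t * a := mem_centralizer_singleton_iff.1 ((zpowers_le.2 hxc) ha)
  have hbD := h.odd_mem hbC.1 hbo
  rcases l.o2 a hat haC.1 ha2 haC.2 with h1 | h1
  · left
    rw [hab]; exact mul_mem (h.RD h1) hbD
  · right
    rw [hab, ← mul_assoc]; exact mul_mem (h.RD h1) hbD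

/-! ### the sign dichotomy -/

/-- `c ∈ D ∪ t D` acts trivially on `D / R` -/
theorem act_triv [Finite G] {c : G} (hc : c ∈ Pos.oddGen K z ∨ t * c ∈ Pos.oddGen K z) {x : G}
    (hx : x ∈ Pos.oddGen K z) : c * x * c⁻¹ * x⁻¹ ∈ R := by
  rcases hc with hc | hc
  · exact l.dd c hc x hx
  · have h1 := l.dd _ hc x hx
    have h2 : t * c * x * (t * c)⁻¹ * x⁻¹ = t * (c * x * c⁻¹) * t⁻¹ * x⁻¹ := by group
    have hct : c * t = t * c := by
      have h3 := h.toSLoc.oddGen_comm_t hc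
      have h4 : c = t * (t * c) := (h.tmul c).symm
      have c1 : Commute (t * c) t := h3
      have c2 : Commute (t * (t * c)) t := (Commute.refl t).mul_left c1
      rw [← h4] at c2
      exact c2
    have h3 : (c * x * c⁻¹) * t = t * (c * x * c⁻¹) := by
      have c1 : Commute c t := hct
      have c2 : Commute x t := h.toSLoc.oddGen_comm_t hx
      exact (c1.mul_left c2).mul_left c1.inv_left
    rw [h2, ← h3, mul_inv_cancel_right] at h1
    exact h1

/-- the sign of `g` on `d` -/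
theorem sgn_d [Finite G] {g : G} (hg : g * z = z * g)
    (hc : v * (g * v * g⁻¹) ∈ Pos.oddGen K z ∨ t * (v * (g * v * g⁻¹)) ∈ Pos.oddGen K z) :
    g * d * g⁻¹ * d⁻¹ ∈ R ∨ g * d * g⁻¹ * d ∈ R := by
  have hx : g * d * g⁻¹ ∈ Pos.oddGen K z := h.nD hg l.dD
  have hvi := v_inv h l
  have hcz : (v * (g * v * g⁻¹)) * z = z * (v * (g * v * g⁻¹)) := by
    have c1 : Commute v z := l.vz
    have c2 : Commute g z := hg
    exact c1.mul_left ((c2.mul_left c1).mul_left c2.inv_left)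
  have h1 : v * (g * d * g⁻¹) * v⁻¹ * (g * d * g⁻¹)⁻¹ ∈ R := by
    have e : v * (g * d * g⁻¹) * v⁻¹ * (g * d * g⁻¹)⁻¹ =
        ((v * (g * v⁻¹ * g⁻¹)) * (g * (v * d * v⁻¹ * d⁻¹) * g⁻¹) * (v * (g * v⁻¹ * g⁻¹))⁻¹) *
          ((v * (g * v⁻¹ * g⁻¹)) * (g * d * g⁻¹) * (v * (g * v⁻¹ * g⁻¹))⁻¹ * (g * d * g⁻¹)⁻¹) := by group
    rw [e]
    have hvi' : v * (g * v⁻¹ * g⁻¹) = v * (g * v * g⁻¹) := by rw [hvi]
    rw [hvi']
    exact R.mul_mem (h.nR' hcz _ (h.nR' hg _ l.vd)) (act_triv h l hc hx)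
  rcases l.cd _ hx h1 with h2 | h2 | h2
  · exfalso
    apply l.dR
    have h3 := h.nR' (h.inv_comm hg) _ h2
    have e : g⁻¹ * (g * d * g⁻¹) * g⁻¹⁻¹ = d := by group
    rwa [e] at h3
  · exact Or.inl h2
  · exact Or.inr h2

/-- the sign of `g` on `e` -/
theorem sgn_e [Finite G] {g : G} (hg : g * z = z * g)
    (hc : v * (g * v * g⁻¹) ∈ Pos.oddGen K z ∨ t * (v * (g * v * g⁻¹)) ∈ Pos.oddGen K z) :
    g * e * g⁻¹ * e⁻¹ ∈ R ∨ g * e * g⁻¹ * e ∈ R := by
  have hx : g * e * g⁻¹ ∈ Pos.oddGen K z := h.nD hg l.eD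
  have hvi := v_inv h l
  have hcz : (v * (g * v * g⁻¹)) * z = z * (v * (g * v * g⁻¹)) := by
    have c1 : Commute v z := l.vz
    have c2 : Commute g z := hg
    exact c1.mul_left ((c2.mul_left c1).mul_left c2.inv_left)
  have h1 : v * (g * e * g⁻¹) * v⁻¹ * (g * e * g⁻¹) ∈ R := by
    have e' : v * (g * e * g⁻¹) * v⁻¹ * (g * e * g⁻¹) =
        ((v * (g * v⁻¹ * g⁻¹)) * (g * (v * e * v⁻¹ * e) * g⁻¹) * (v * (g * v⁻¹ * g⁻¹))⁻¹) *
          ((v * (g * v⁻¹ * g⁻¹)) * (g * e * g⁻¹)⁻¹ * (v * (g * v⁻¹ * g⁻¹))⁻¹ * (g * e * g⁻¹)⁻¹⁻¹) := by group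
    rw [e']
    have hvi' : v * (g * v⁻¹ * g⁻¹) = v * (g * v * g⁻¹) := by rw [hvi]
    rw [hvi']
    exact R.mul_mem (h.nR' hcz _ (h.nR' hg _ l.ve)) (act_triv h l hc (inv_mem hx))
  rcases l.ce _ hx h1 with h2 | h2 | h2
  · exfalso
    apply l.eR
    have h3 := h.nR' (h.inv_comm hg) _ h2
    have e' : g⁻¹ * (g * e * g⁻¹) * g⁻¹⁻¹ = e := by group
    rwa [e'] at h3
  · exact Or.inl h2
  · exact Or.inr h2

/-- an element of `C(t) ∩ C(z)` outside `⟨t⟩ K` is `-1` on `d` -/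
theorem outer_d [Finite G] {f : G} (hft : f * t = t * f) (hfz : f * z = z * f) (hfK : f ∉ K)
    (hftK : t * f ∉ K) : f * d * f⁻¹ * d ∈ R := by
  have hvt := h.Kt v l.vK
  rcases sgn_d h l hfz (Or.inl (X_v h l hft hfz)) with h1 | h1
  swap
  · exact h1
  exfalso
  have hfR := h.nR' hfz
  have heR : ∀ r ∈ R, e * r * e⁻¹ ∈ R := h.nR' (mem_centralizer_singleton_iff.1 (Pos.oddGen_le' l.eD))
  rcases sgn_e h l hfz (Or.inl (X_v h l hft hfz)) with h2 | h2
  · have h3 : f ∈ h.C1 := ⟨hfz, triv h l hfz h1 h2⟩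
    rcases mem_C1 h l h3 hft with h4 | h4
    · exact hfK (Pos.oddGen_le h4)
    · exact hftK (Pos.oddGen_le h4)
  · have hfv : (f * v) * z = z * (f * v) := by
      have c1 : Commute f z := hfz
      have c2 : Commute v z := l.vz
      exact c1.mul_left c2
    have hfvt : (f * v) * t = t * (f * v) := by
      have c1 : Commute f t := hft
      have c2 : Commute v t := hvt
      exact c1.mul_left c2
    have h3 : f * v ∈ h.C1 :=
      ⟨hfv, triv h l hfv (plus_plus hfR h1 l.vd) (minus_minus hfR heR h2 l.ve)⟩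
    have hvi := K.inv_mem l.vK
    rcases mem_C1 h l h3 hfvt with h4 | h4
    · apply hfK
      have h5 := K.mul_mem (Pos.oddGen_le h4) hvi
      rwa [mul_inv_cancel_right] at h5
    · apply hftK
      have h5 := K.mul_mem (Pos.oddGen_le h4) hvi
      rwa [← mul_assoc, mul_inv_cancel_right] at h5

/-- an element moving `t` and trivial on `D / R` -/
theorem exists_s [Finite G] {f s : G} (hft : f * t = t * f) (hfz : f * z = z * f) (hfK : f ∉ K)
    (hftK : t * f ∉ K) (hst : s * t * s⁻¹ = t * z) (hsz : s * z = z * s)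
    (hsv : v * (s * v * s⁻¹) ∈ Pos.oddGen K z ∨ t * (v * (s * v * s⁻¹)) ∈ Pos.oddGen K z) :
    ∃ s' ∈ h.C1, s' * t * s'⁻¹ = t * z := by
  have hvt := h.Kt v l.vK
  have hDR : ∀ x ∈ Pos.oddGen K z, ∀ r ∈ R, x * r * x⁻¹ ∈ R := fun x hx =>
    h.nR' (mem_centralizer_singleton_iff.1 (Pos.oddGen_le' hx))
  have hDR' : ∀ x ∈ Pos.oddGen K z, ∀ r ∈ R, x⁻¹ * r * x ∈ R := fun x hx r hr => by
    have h1 := hDR _ (inv_mem hx) r hr
    rwa [inv_inv] at h1
  have hmul : ∀ a b : G, a * t * a⁻¹ = t * z → b * t = t * b → (a * b) * t * (a * b)⁻¹ = t * z := by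
    intro a b ha hb
    calc (a * b) * t * (a * b)⁻¹ = a * (b * t * b⁻¹) * a⁻¹ := by group
      _ = a * t * a⁻¹ := by rw [hb, mul_inv_cancel_right]
      _ = t * z := ha
  have hmz : ∀ a b : G, a * z = z * a → b * z = z * b → (a * b) * z = z * (a * b) := by
    intro a b ha hb
    have c1 : Commute a z := ha
    have c2 : Commute b z := hb
    exact c1.mul_left c2
  -- first `d`
  have key : ∃ s', s' * t * s'⁻¹ = t * z ∧ s' * z = z * s' ∧ s' * d * s'⁻¹ * d⁻¹ ∈ R ∧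
      (s' * e * s'⁻¹ * e⁻¹ ∈ R ∨ s' * e * s'⁻¹ * e ∈ R) := by
    rcases sgn_d h l hsz hsv with h1 | h1
    · exact ⟨s, hst, hsz, h1, sgn_e h l hsz hsv⟩
    · have hfd := outer_d h l hft hfz hfK hftK
      refine ⟨s * f, hmul s f hst hft, hmz s f hsz hfz, minus_minus (h.nR' hsz) (hDR d l.dD) h1 hfd, ?_⟩
      rcases sgn_e h l hsz hsv with h2 | h2 <;>
        rcases sgn_e h l hfz (Or.inl (X_v h l hft hfz)) with h3 | h3
      · exact Or.inl (plus_plus (h.nR' hsz) h2 h3)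
      · exact Or.inr (plus_minus (h.nR' hsz) (hDR' e l.eD) h2 h3)
      · exact Or.inr (minus_plus (h.nR' hsz) h2 h3)
      · exact Or.inl (minus_minus (h.nR' hsz) (hDR e l.eD) h2 h3)
  obtain ⟨s', h1, h2, h3, h4 | h4⟩ := key
  · exact ⟨s', ⟨h2, triv h l h2 h3 h4⟩, h1⟩
  · refine ⟨s' * v, ⟨hmz s' v h2 l.vz, triv h l (hmz s' v h2 l.vz) (plus_plus (h.nR' h2) h3 l.vd)
      (minus_minus (h.nR' h2) (hDR e l.eD) h4 l.ve)⟩, hmul s' v h1 hvt⟩

/-! ### `C₁ / R` is abelian -/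

theorem t_C1 [Finite G] : t ∈ h.C1 := by
  refine ⟨h.comm, fun x hx => ?_⟩
  have c : Commute t x := (h.toSLoc.oddGen_comm_t hx).symm
  rw [c.eq, mul_inv_cancel_right, mul_inv_cancel]
  exact R.one_mem

theorem D_C1 [Finite G] : Pos.oddGen K z ≤ h.C1 := fun x hx =>
  ⟨mem_centralizer_singleton_iff.1 (Pos.oddGen_le' hx), fun y hy => l.dd x hx y hy⟩

theorem C1_comm [Finite G] {s : G} (hs : s ∈ h.C1) (hst : s * t * s⁻¹ = t * z) :
    ∀ a ∈ h.C1, ∀ b ∈ h.C1, a * b * a⁻¹ * b⁻¹ ∈ R := by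
  have ht := t_C1 h l
  have hD := D_C1 h l
  have hsz := hs.1
  have hswap : ∀ a b : G, a * b * a⁻¹ * b⁻¹ ∈ R → b * a * b⁻¹ * a⁻¹ ∈ R := by
    intro a b hab
    have e : b * a * b⁻¹ * a⁻¹ = (a * b * a⁻¹ * b⁻¹)⁻¹ := by group
    rw [e]; exact R.inv_mem hab
  have hself : ∀ a : G, a * a * a⁻¹ * a⁻¹ ∈ R := fun a => by
    have e : a * a * a⁻¹ * a⁻¹ = 1 := by group
    rw [e]; exact R.one_mem
  have hst' : s * t * s⁻¹ * t⁻¹ ∈ R := by
    have e : s * t * s⁻¹ * t⁻¹ = z := by rw [hst, h.comm, mul_assoc, mul_inv_cancel, mul_one]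
    rw [e]; exact h.zR
  apply comm_mem_of_gen (T := ({t, s} : Set G) ∪ Pos.oddGen K z)
  · intro x hx r hr
    exact h.nR' hx.1 r hr
  · rintro a ((ha | ha) | ha)
    · rw [ha]; exact ht
    · have ha' : a = s := ha
      rw [ha']; exact hs
    · exact hD ha
  · exact h.RD.trans hD
  · intro c hc
    have h1 : ∀ c ∈ h.C1, c * t = t * c → c ∈ closure ((({t, s} : Set G) ∪ Pos.oddGen K z) ∪ (R : Set G)) := by
      intro c hc hct
      rcases mem_C1 h l hc hct with h1 | h1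
      · exact subset_closure (Or.inl (Or.inr h1))
      · rw [← h.tmul c]
        exact mul_mem (subset_closure (Or.inl (Or.inl (Or.inl rfl)))) (subset_closure (Or.inl (Or.inr h1)))
    rcases (h.ntH hc.1).ct with h2 | h2
    · exact h1 c hc (mul_inv_eq_iff_eq_mul.1 h2)
    · have h3 : (s⁻¹ * c) * t = t * (s⁻¹ * c) := by
        have h4 : c * t * c⁻¹ = s * t * s⁻¹ := by rw [h2, hst]
        calc (s⁻¹ * c) * t = s⁻¹ * (c * t * c⁻¹) * c := by group
          _ = s⁻¹ * (s * t * s⁻¹) * c := by rw [h4]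
          _ = t * (s⁻¹ * c) := by group
      have e : c = s * (s⁻¹ * c) := by group
      rw [e]
      exact mul_mem (subset_closure (Or.inl (Or.inl (Or.inr rfl)))) (h1 _ (mul_mem (inv_mem hs) hc) h3)
  · rintro a ((ha | ha) | ha) b ((hb | hb) | hb)
    · rw [ha, hb]; exact hself t
    · have hb' : b = s := hb
      rw [ha, hb']; exact hswap _ _ hst'
    · rw [ha]; exact ht.2 b hb
    · have ha' : a = s := ha
      rw [ha', hb]; exact hst'
    · have ha' : a = s := ha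
      have hb' : b = s := hb
      rw [ha', hb']; exact hself s
    · have ha' : a = s := ha
      rw [ha']; exact hs.2 b hb
    · rw [hb]; exact hswap _ _ (ht.2 a ha)
    · have hb' : b = s := hb
      rw [hb']; exact hswap _ _ (hs.2 a ha)
    · exact l.dd a ha b hb

/-- the 2-elements of `C₁` form a subgroup -/
def P1 [Finite G] {s : G} (hs : s ∈ h.C1) (hst : s * t * s⁻¹ = t * z) : Subgroup G where
  carrier := {x | x ∈ h.C1 ∧ ∃ n : ℕ, x ^ 2 ^ n ∈ R}
  one_mem' := ⟨one_mem _, 0, by rw [one_pow]; exact R.one_mem⟩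
  mul_mem' := by
    rintro a b ⟨ha, n, hn⟩ ⟨hb, m, hm⟩
    refine ⟨mul_mem ha hb, n + m, ?_⟩
    have hN : (R.subgroupOf h.C1).Normal := by
      constructor
      rintro ⟨x, hx⟩ hxR ⟨g, hg⟩
      exact h.nR' hg.1 x hxR
    set a' : h.C1 := ⟨a, ha⟩
    set b' : h.C1 := ⟨b, hb⟩
    have hc : Commute (QuotientGroup.mk' (R.subgroupOf h.C1) a')
        (QuotientGroup.mk' (R.subgroupOf h.C1) b') := by
      have h1 : a' * b' * a'⁻¹ * b'⁻¹ ∈ R.subgroupOf h.C1 := C1_comm h l hs hst a ha b hb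
      have h2 : QuotientGroup.mk' (R.subgroupOf h.C1) (a' * b' * a'⁻¹ * b'⁻¹) = 1 :=
        (QuotientGroup.eq_one_iff _).2 h1
      rw [map_mul, map_mul, map_mul, map_inv, map_inv, mul_inv_eq_one, mul_inv_eq_iff_eq_mul] at h2
      exact h2
    have h3 : QuotientGroup.mk' (R.subgroupOf h.C1) ((a' * b') ^ 2 ^ (n + m)) = 1 := by
      rw [map_pow, map_mul, hc.mul_pow, ← map_pow, ← map_pow]
      have h4 : QuotientGroup.mk' (R.subgroupOf h.C1) (a' ^ 2 ^ (n + m)) = 1 := by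
        apply (QuotientGroup.eq_one_iff _).2
        show a ^ 2 ^ (n + m) ∈ R
        rw [pow_add, pow_mul]; exact R.pow_mem hn _
      have h5 : QuotientGroup.mk' (R.subgroupOf h.C1) (b' ^ 2 ^ (n + m)) = 1 := by
        apply (QuotientGroup.eq_one_iff _).2
        show b ^ 2 ^ (n + m) ∈ R
        rw [add_comm, pow_add, pow_mul]; exact R.pow_mem hm _
      rw [h4, h5, one_mul]
    have h6 : (a' * b') ^ 2 ^ (n + m) ∈ R.subgroupOf h.C1 := (QuotientGroup.eq_one_iff _).1 h3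
    exact h6
  inv_mem' := by
    rintro a ⟨ha, n, hn⟩
    refine ⟨inv_mem ha, n, ?_⟩
    rw [inv_pow]; exact R.inv_mem hn

/-- **(I8)** -/
theorem false_C1 [Finite G] {s : G} (hs : s ∈ h.C1) (hst : s * t * s⁻¹ = t * z) : False := by
  set P : Subgroup G := P1 h l hs hst with hP
  have hPz : ∀ x ∈ P, x * z = z * x := fun x hx => hx.1.1
  have hPp : IsPGroup 2 P := by
    rintro ⟨x, hx, n, hn⟩
    obtain ⟨k, hk⟩ := h.pR ⟨_, hn⟩
    refine ⟨n + k, Subtype.ext ?_⟩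
    show x ^ 2 ^ (n + k) = 1
    rw [pow_add, pow_mul]
    exact congrArg Subtype.val hk
  have hPn : ∀ g, g * z = z * g → ∀ x ∈ P, g * x * g⁻¹ ∈ P := by
    rintro g hg x ⟨hx, n, hn⟩
    refine ⟨⟨?_, ?_⟩, n, ?_⟩
    · have c1 : Commute g z := hg
      have c2 : Commute x z := hx.1
      exact (c1.mul_left c2).mul_left c1.inv_left
    · intro y hy
      have h1 := h.nD (h.inv_comm hg) hy
      rw [inv_inv] at h1
      have h2 := h.nR' hg _ (hx.2 _ h1)
      have e : g * (x * (g⁻¹ * y * g) * x⁻¹ * (g⁻¹ * y * g)⁻¹) * g⁻¹ =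
          g * x * g⁻¹ * y * (g * x * g⁻¹)⁻¹ * y⁻¹ := by group
      rwa [e] at h2
    · rw [conj_pow]; exact h.nR' hg _ hn
  have hnorm : F ≤ normalizer (P : Set G) := fun f hf =>
    mem_normalizer_fintype fun x hx => hPn f (h.F'.le f hf) x hx
  have hF' : IsF z (F ⊔ P) :=
    { pF := h.F'.pF.to_sup_of_normal_right' hPp hnorm
      le := by
        have h1 : F ⊔ P ≤ centralizer ({z} : Set G) := sup_le
          (fun x hx => mem_centralizer_singleton_iff.2 (h.F'.le x hx))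
          (fun x hx => mem_centralizer_singleton_iff.2 (hPz x hx))
        exact fun x hx => mem_centralizer_singleton_iff.1 (h1 hx)
      nor := by
        intro g hg x hx
        have h1 : MulAut.conj g x ∈ (F ⊔ P).map (MulAut.conj g).toMonoidHom := ⟨x, hx, rfl⟩
        rw [Subgroup.map_sup] at h1
        refine (sup_le ?_ ?_ : _ ≤ F ⊔ P) h1
        · rintro _ ⟨y, hy, rfl⟩
          exact mem_sup_left (h.F'.nor g hg y hy)
        · rintro _ ⟨y, hy, rfl⟩
          exact mem_sup_right (hPn g hg y hy)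
      self := fun g hg hgF => mem_sup_left (h.F'.self g hg fun x hx => hgF x (mem_sup_left hx)) }
  have hcom := h.hle _ hF' (mem_sup_left h.tF)
  obtain ⟨a, ha, b, hb, hab, ha2, hbo⟩ := exists_parts s
  have haC : a ∈ h.C1 := (zpowers_le.2 hs) ha
  have hbC : b ∈ h.C1 := (zpowers_le.2 hs) hb
  have hbD := h.odd_mem hbC.1 hbo
  have haP : a ∈ P := by
    refine ⟨haC, ?_⟩
    obtain ⟨k, hk⟩ := ha2 ⟨a, mem_zpowers a⟩
    refine ⟨k, ?_⟩
    have h1 : a ^ 2 ^ k = 1 := congrArg Subtype.val hk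
    rw [h1]; exact R.one_mem
  have c1 : Commute a t := hcom a (mem_sup_right haP)
  have c2 : Commute b t := h.toSLoc.oddGen_comm_t hbD
  have c3 : Commute s t := by rw [hab]; exact c1.mul_left c2
  apply h.t_ne_tz
  rw [← hst, c3.eq, mul_inv_cancel_right]

/-! ### `(I10)` -/

/-- `w = s v s⁻¹` outside `⟨t⟩ K` -/
theorem false_w [Finite G] (tH : (⟨t, mem_centralizer_singleton_iff.2 h.comm⟩ : centralizer ({z} : Set G)) ∈
      _root_.commutator (centralizer ({z} : Set G)))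
    {s : G} (hst : s * t * s⁻¹ = t * z) (hsz : s * z = z * s)
    (hwK : s * v * s⁻¹ ∉ K) (htwK : t * (s * v * s⁻¹) ∉ K) : False := by
  have hvt := h.Kt v l.vK
  have hvi := v_inv h l
  have hsz' : s * z * s⁻¹ = z := by rw [hsz]; group
  obtain ⟨hwt, hwz⟩ := Pos.swap_cen h.zz hst hsz' hvt l.vz
  set w : G := s * v * s⁻¹ with hw
  set D : Subgroup G := Pos.oddGen K z with hD
  have hww : w * w = 1 := by
    calc w * w = s * (v * v) * s⁻¹ := by rw [hw]; group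
      _ = 1 := by rw [l.vv]; group
  have hwi : w⁻¹ = w := inv_eq_of_mul_eq_one_left hww
  have hDz : D ≤ centralizer ({z} : Set G) := Pos.oddGen_le'
  -- `w v w⁻¹ ∈ v D`
  have h1 : v * (w * v * w⁻¹) ∈ D := X_v h l hwt hwz
  have huz : (v * w) * z = z * (v * w) := by
    have c1 : Commute v z := l.vz
    have c2 : Commute w z := hwz
    exact c1.mul_left c2
  have hut : (v * w) * t = t * (v * w) := by
    have c1 : Commute v t := hvt
    have c2 : Commute w t := hwt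
    exact c1.mul_left c2
  have huu : (v * w) * (v * w) ∈ D := by
    have e : (v * w) * (v * w) = v * (w * v * w⁻¹) := by rw [hwi]; group
    rw [e]; exact h1
  have hun : ∀ d ∈ D, (v * w) * d * (v * w)⁻¹ ∈ D := fun d hd => h.nD huz hd
  set M : Subgroup G := ext D (v * w) huu hun with hM
  have hDM : D ≤ M := fun x hx => Or.inl hx
  have hMz : ∀ x ∈ M, x * z = z * x := by
    rintro x (hx | hx)
    · exact mem_centralizer_singleton_iff.1 (hDz hx)
    · have c1 : Commute ((v * w) * x) z := mem_centralizer_singleton_iff.1 (hDz hx)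
      have c2 : Commute (v * w) z := huz
      have e : x = (v * w)⁻¹ * ((v * w) * x) := by group
      rw [e]; exact c2.inv_left.mul_left c1
  -- `[u, v] ∈ D`
  have hA : (v * w) * (v * (v * w) * v⁻¹)⁻¹ ∈ D := by
    have e : (v * w) * (v * (v * w) * v⁻¹)⁻¹ = v * (w * v * w⁻¹) * (v * v)⁻¹ := by group
    rw [e, l.vv, inv_one, mul_one]; exact h1
  -- `[u, s] ∈ D`
  have hB : (v * w) * (s * (v * w) * s⁻¹)⁻¹ ∈ D := by
    have hsst : (s * s) * t = t * (s * s) := by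
      apply mul_inv_eq_iff_eq_mul.1
      calc s * s * t * (s * s)⁻¹ = s * (s * t * s⁻¹) * s⁻¹ := by group
        _ = s * (t * z) * s⁻¹ := by rw [hst]
        _ = (s * t * s⁻¹) * (s * z * s⁻¹) := by group
        _ = t := by rw [hst, hsz', mul_assoc, h.zz, mul_one]
    have hssz : (s * s) * z = z * (s * s) := by
      have c1 : Commute s z := hsz
      exact c1.mul_left c1
    have h2 : v * ((s * s) * v * (s * s)⁻¹) ∈ D := X_v h l hsst hssz
    have e1 : s * (v * w) * s⁻¹ = w * ((s * s) * v * (s * s)⁻¹) := by rw [hw]; group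
    have e : (v * w) * (w * ((s * s) * v * (s * s)⁻¹))⁻¹ =
        ((v * w) * (v * ((s * s) * v * (s * s)⁻¹))⁻¹ * (v * w)⁻¹) * (v * (w * v * w⁻¹)) := by group
    rw [e1, e]
    exact D.mul_mem (hun _ (D.inv_mem h2)) h1
  have htu : (v * w) * (t * (v * w) * t⁻¹)⁻¹ ∈ D := by
    rw [← hut, mul_inv_cancel_right, mul_inv_cancel]; exact D.one_mem
  have hDu : ∀ d ∈ D, (v * w) * (d * (v * w) * d⁻¹)⁻¹ ∈ D := by
    intro d hd
    have e : (v * w) * (d * (v * w) * d⁻¹)⁻¹ = ((v * w) * d * (v * w)⁻¹) * d⁻¹ := by group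
    rw [e]; exact D.mul_mem (hun d hd) (D.inv_mem hd)
  have hX : ∀ y : G, y * t = t * y → y * z = z * y → y ∈ closure (({t, s, v} : Set G) ∪ D) := by
    have hvc : v ∈ closure (({t, s, v} : Set G) ∪ D) := subset_closure (Or.inl (Or.inr (Or.inr rfl)))
    have htc : t ∈ closure (({t, s, v} : Set G) ∪ D) := subset_closure (Or.inl (Or.inl rfl))
    have hsc : s ∈ closure (({t, s, v} : Set G) ∪ D) := subset_closure (Or.inl (Or.inr (Or.inl rfl)))
    have hwc : w ∈ closure (({t, s, v} : Set G) ∪ D) := mul_mem (mul_mem hsc hvc) (inv_mem hsc)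
    have hK : ∀ y ∈ K, y * z = z * y → y ∈ closure (({t, s, v} : Set G) ∪ D) := by
      intro y hy hyz
      rcases l.PD y hy hyz with h3 | h3
      · exact subset_closure (Or.inr h3)
      · have e : y = v * (v * y) := by rw [← mul_assoc, l.vv, one_mul]
        rw [e]
        exact mul_mem hvc (subset_closure (Or.inr h3))
    have hK' : ∀ y, (y ∈ K ∨ t * y ∈ K) → y * z = z * y → y ∈ closure (({t, s, v} : Set G) ∪ D) := by
      intro y hy hyz
      rcases hy with hy | hy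
      · exact hK y hy hyz
      · have c1 : Commute t z := h.comm
        have c2 : Commute y z := hyz
        rw [← h.tmul y]
        exact mul_mem htc (hK _ hy (c1.mul_left c2).eq)
    intro y hyt hyz
    by_cases hy : y ∈ K ∨ t * y ∈ K
    · exact hK' y hy hyz
    · have hy1 : y ∉ K := fun e => hy (Or.inl e)
      have hy2 : t * y ∉ K := fun e => hy (Or.inr e)
      have h3 := l.ix w y hwt hyt hwK htwK hy1 hy2
      have c1 : Commute w z := hwz
      have c2 : Commute y z := hyz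
      have h4 := hK' (w * y) h3 (c1.mul_left c2).eq
      have e : y = w⁻¹ * (w * y) := by group
      rw [e]; exact mul_mem (inv_mem hwc) h4
  have hXD : centralizer ({z} : Set G) ≤ closure (({t, s, v} : Set G) ∪ D) := by
    intro x hx
    have hxz := mem_centralizer_singleton_iff.1 hx
    rcases (h.ntH hxz).ct with h2 | h2
    · exact hX x (mul_inv_eq_iff_eq_mul.1 h2) hxz
    · have h3 : (s⁻¹ * x) * t = t * (s⁻¹ * x) := by
        have h4 : x * t * x⁻¹ = s * t * s⁻¹ := by rw [h2, hst]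
        calc (s⁻¹ * x) * t = s⁻¹ * (x * t * x⁻¹) * x := by group
          _ = s⁻¹ * (s * t * s⁻¹) * x := by rw [h4]
          _ = t * (s⁻¹ * x) := by group
      have h4 : (s⁻¹ * x) * z = z * (s⁻¹ * x) := by
        have c1 : Commute s z := hsz
        have c2 : Commute x z := hxz
        exact c1.inv_left.mul_left c2
      have e : x = s * (s⁻¹ * x) := by group
      rw [e]
      exact mul_mem (subset_closure (Or.inl (Or.inr (Or.inl rfl)))) (hX _ h3 h4)
  have hnorm : centralizer ({z} : Set G) ≤ normalizer (M : Set G) := by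
    refine hXD.trans ((closure_le _).2 ?_)
    rintro a ((ha | ha | ha) | ha)
    · rw [ha, SetLike.mem_coe]
      exact mem_normalizer_fintype fun x hx => ext_conj (fun d hd => h.nD h.comm hd) htu hx
    · rw [ha, SetLike.mem_coe]
      exact mem_normalizer_fintype fun x hx => ext_conj (fun d hd => h.nD hsz hd) hB hx
    · have ha' : a = v := ha
      rw [ha', SetLike.mem_coe]
      exact mem_normalizer_fintype fun x hx => ext_conj (fun d hd => h.nD l.vz hd) hA hx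
    · exact le_normalizer (hDM ha)
  have hcomm := comm_mem_of_gen (X := centralizer ({z} : Set G)) (D := M) (T := ({t, s, v} : Set G))
    (fun x hx m hm => (mem_normalizer_iff.1 (hnorm hx) m).1 hm) ?_
    (fun x hx => mem_centralizer_singleton_iff.2 (hMz x hx)) ?_ ?_
  · rcases mem_of_commutator hcomm _ tH with h2 | h2
    · exact h.tK (Pos.oddGen_le h2)
    · -- `t w ∈ v D`
      apply htwK
      have h3 := K.mul_mem (K.inv_mem l.vK) (Pos.oddGen_le h2)
      have e : v⁻¹ * ((v * w) * t) = w * t := by group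
      rw [e, hwt] at h3
      exact h3
  · rintro a (ha | ha | ha)
    · rw [ha]; exact mem_centralizer_singleton_iff.2 h.comm
    · rw [ha]; exact mem_centralizer_singleton_iff.2 hsz
    · have ha' : a = v := ha
      rw [ha']; exact mem_centralizer_singleton_iff.2 l.vz
  · refine hXD.trans (closure_mono ?_)
    exact Set.union_subset_union_right _ hDM
  · have hself : ∀ a : G, a * a * a⁻¹ * a⁻¹ = 1 := fun a => by group
    have hswap : ∀ a b : G, a * b * a⁻¹ * b⁻¹ ∈ M → b * a * b⁻¹ * a⁻¹ ∈ M := by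
      intro a b hab
      have e : b * a * b⁻¹ * a⁻¹ = (a * b * a⁻¹ * b⁻¹)⁻¹ := by group
      rw [e]; exact M.inv_mem hab
    have h11 : v * t * v⁻¹ * t⁻¹ = 1 := by rw [hvt]; group
    have h1' : v * t * v⁻¹ * t⁻¹ ∈ M := by rw [h11]; exact M.one_mem
    have h2 : s * t * s⁻¹ * t⁻¹ ∈ M := by
      have e : s * t * s⁻¹ * t⁻¹ = z := by rw [hst, h.comm, mul_assoc, mul_inv_cancel, mul_one]
      rw [e]; exact hDM (h.RD h.zR)
    have hsv : s * v * s⁻¹ * v⁻¹ ∈ M := by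
      right
      have e : (v * w) * (s * v * s⁻¹ * v⁻¹) = v * (w * w) * v⁻¹ := by rw [hw]; group
      rw [e, hww, mul_one, mul_inv_cancel]; exact D.one_mem
    rintro a ha b hb
    have ha' : a = t ∨ a = s ∨ a = v := ha
    have hb' : b = t ∨ b = s ∨ b = v := hb
    rcases ha' with ha' | ha' | ha' <;> rcases hb' with hb' | hb' | hb' <;> rw [ha', hb']
    · rw [hself]; exact M.one_mem
    · exact hswap _ _ h2
    · exact hswap _ _ h1'
    · exact h2
    · rw [hself]; exact M.one_mem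
    · exact hsv
    · exact h1'
    · exact hswap _ _ hsv
    · rw [hself]; exact M.one_mem

/-- **Case I** -/
theorem false_one [Finite G] (tH : (⟨t, mem_centralizer_singleton_iff.2 h.comm⟩ : centralizer ({z} : Set G)) ∈
      _root_.commutator (centralizer ({z} : Set G)))
    {f : G} (hft : f * t = t * f) (hfz : f * z = z * f) (hfK : f ∉ K) (hftK : t * f ∉ K) : False := by
  have hvt := h.Kt v l.vK
  obtain ⟨s, hst, hsz'⟩ := h.sw
  have hsz : s * z = z * s := mul_inv_eq_iff_eq_mul.1 hsz'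
  obtain ⟨hwt, hwz⟩ := Pos.swap_cen h.zz hst hsz' hvt l.vz
  have hsi : s⁻¹ * z = z * s⁻¹ := h.inv_comm hsz
  have key : v * (s * v * s⁻¹) ∈ Pos.oddGen K z ∨ t * (v * (s * v * s⁻¹)) ∈ Pos.oddGen K z → False := by
    intro hsv
    obtain ⟨s', hs', hst'⟩ := exists_s h l hft hfz hfK hftK hst hsz hsv
    exact false_C1 h l hs' hst'
  by_cases h1 : s * v * s⁻¹ ∈ K
  · apply key
    left
    rcases l.PD _ h1 hwz with h2 | h2
    · exfalso
      apply l.vD
      have h3 := h.nD hsi h2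
      have e : s⁻¹ * (s * v * s⁻¹) * s⁻¹⁻¹ = v := by group
      rwa [e] at h3
    · exact h2
  by_cases h2 : t * (s * v * s⁻¹) ∈ K
  · apply key
    right
    have h3 : (t * (s * v * s⁻¹)) * z = z * (t * (s * v * s⁻¹)) := by
      have c1 : Commute t z := h.comm
      have c2 : Commute (s * v * s⁻¹) z := hwz
      exact c1.mul_left c2
    rcases l.PD _ h2 h3 with h4 | h4
    · exfalso
      apply h.tK
      have h5 := h.nD hsi h4
      have e : s⁻¹ * (t * (s * v * s⁻¹)) * s⁻¹⁻¹ = (s⁻¹ * t * s) * v := by group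
      rw [e, (Pos.swap_inv h.zz hst hsz').1] at h5
      have h6 := K.mul_mem (K.mul_mem (Pos.oddGen_le h5) (K.inv_mem l.vK)) (K.inv_mem h.zK)
      have e2 : t * z * v * v⁻¹ * z⁻¹ = t := by group
      rwa [e2] at h6
    · have c1 : Commute t v := (show Commute v t from hvt).symm
      have e : t * (v * (s * v * s⁻¹)) = v * (t * (s * v * s⁻¹)) := by
        rw [← mul_assoc, c1.eq, mul_assoc]
      rw [e]; exact h4
  · exact false_w h l tH hst hsz h1 h2

end HPos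

end Cfsg.Agent.OddHalf.D6.QThree.SpOne
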