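import Cfsg.Agent.OddHalf.D6.QThree.Outer
import Cfsg.Agent.OddHalf.D6.QThree.Extra
import Cfsg.Agent.ClassificationK.Extraspecial

/-!
# ODD half, D6, `q = 3`: `PSp₄(3)`, the situation (helper143)

`SLoc`: the local facts; `SPos`: with the core `F` of `C(z)`.
-/

set_option autoImplicit false

namespace Cfsg.Agent.OddHalf.D6.QThree.SpSit

open Subgroup Cfsg Cfsg.Agent.OddHalf.D6.QThree.Sit Cfsg.Agent.OddHalf.D6.QThree.Core
open Cfsg.Agent.OddHalf.D6.QThree.Outer
open Cfsg.Agent.OddHalf.D6.QThree.End (Pos.swap_cen Pos.swap_cen_inv Pos.oddGen Pos.oddGen_le Pos.oddGen_le')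

variable {G : Type*} [Group G] {t z : G} {K R F : Subgroup G}

/-- `g` centralises `z` and normalises `⟨t, z⟩`, fixing or moving `t` to `t z` -/
structure Nt (t z g : G) : Prop where
  cz : g * z = z * g
  ct : g * t * g⁻¹ = t ∨ g * t * g⁻¹ = t * z

theorem Nt.inv (zz : z * z = 1) {g : G} (h : Nt t z g) : Nt t z g⁻¹ := by
  have hcz : g⁻¹ * z = z * g⁻¹ := (Commute.inv_left (show Commute g z from h.cz)).eq
  refine ⟨hcz, ?_⟩
  rw [inv_inv]
  rcases h.ct with h1 | h1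
  · left
    calc g⁻¹ * t * g = g⁻¹ * (g * t * g⁻¹) * g := by rw [h1]
      _ = t := by group
  · right
    exact (End.Pos.swap_inv zz h1 (by rw [h.cz]; group)).1

/-- `Nt` elements normalise `C(t) ∩ C(z)` -/
theorem Nt.cen (zz : z * z = 1) {g : G} (h : Nt t z g) {x : G} (hxt : x * t = t * x) (hxz : x * z = z * x) :
    (g * x * g⁻¹) * t = t * (g * x * g⁻¹) ∧ (g * x * g⁻¹) * z = z * (g * x * g⁻¹) := by
  have h1 := h.inv zz
  apply Loc.norm_cen _ _ x hxt hxz
  · have h2 := h1.ct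
    rw [inv_inv] at h2
    rcases h2 with h2 | h2
    · exact Or.inl h2
    · exact Or.inr (Or.inr h2)
  · right; left
    have h2 := h1.cz
    rw [h2]; group

theorem Nt.of_comm {g : G} (ht : g * t = t * g) (hz : g * z = z * g) : Nt t z g :=
  ⟨hz, Or.inl (by rw [ht]; group)⟩

/-- the local facts -/
structure SLoc (t z : G) (K R : Subgroup G) : Prop extends OLoc t z K R where
  /-- elements of odd order of `C(t)` lie in `K` -/
  mo : ∀ g, g * t = t * g → Odd (orderOf g) → g ∈ K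
  oz : z ∈ Pos.oddGen K z
  /-- `C_K(z)` is irreducible on `R / ⟨z⟩` -/
  irr : ∀ N : Subgroup G, N ≤ R → (∀ g ∈ K, g * z = z * g → ∀ n ∈ N, g * n * g⁻¹ ∈ N) →
      (∀ n ∈ N, n = 1 ∨ n = z) ∨ N = R
  rr : ∀ a ∈ R, ∀ b ∈ R, a * b * a⁻¹ * b⁻¹ = 1 ∨ a * b * a⁻¹ * b⁻¹ = z
  RD : R ≤ Pos.oddGen K z
  /-- `C(t)`-conjugates of `z` are `K`-conjugates -/
  kz : ∀ g, g * t = t * g → ∃ k ∈ K, k * z * k⁻¹ = g * z * g⁻¹
  zR1 : ∀ k ∈ K, k * z * k⁻¹ ∈ R → k * z * k⁻¹ = z
  p2 : ∀ k ∈ K, ∀ k' ∈ K, (k * z * k⁻¹) * z = z * (k * z * k⁻¹) → k * z * k⁻¹ ≠ z →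
    k' * z * k'⁻¹ ≠ k * z * k⁻¹ * z
  p4 : ∀ r ∈ R, r ≠ 1 → r ≠ z → ∃ p ∈ K, p * z = z * p ∧ (p * r * p⁻¹) * r = r * (p * r * p⁻¹) ∧
    p * r * p⁻¹ ≠ r ∧ p * r * p⁻¹ ≠ r * z

namespace SLoc

theorem oddGen_comm_t (h : SLoc t z K R) {d : G} (hd : d ∈ Pos.oddGen K z) : d * t = t * d :=
  h.Kt d (Pos.oddGen_le hd)

theorem oddGen_comm_z {d : G} (hd : d ∈ Pos.oddGen K z) : d * z = z * d :=
  mem_centralizer_singleton_iff.1 (Pos.oddGen_le' hd)

/-- an element normalising `C(t) ∩ C(z)` normalises `D` -/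
theorem norm_D (h : SLoc t z K R) {g : G} (hg : ∀ x, x * t = t * x → x * z = z * x →
    (g * x * g⁻¹) * t = t * (g * x * g⁻¹) ∧ (g * x * g⁻¹) * z = z * (g * x * g⁻¹)) {d : G}
    (hd : d ∈ Pos.oddGen K z) : g * d * g⁻¹ ∈ Pos.oddGen K z := by
  have h1 : MulAut.conj g d ∈ (Pos.oddGen K z).map (MulAut.conj g).toMonoidHom := ⟨d, hd, rfl⟩
  rw [Pos.oddGen, MonoidHom.map_closure] at h1
  refine closure_mono ?_ h1
  rintro _ ⟨x, ⟨hxK, hxz, hxo⟩, rfl⟩
  obtain ⟨h2, h3⟩ := hg x (h.Kt x hxK) hxz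
  have h4 : Odd (orderOf (g * x * g⁻¹)) := by
    have : orderOf (g * x * g⁻¹) = orderOf x :=
      orderOf_injective (MulAut.conj g).toMonoidHom (MulAut.conj g).injective x
    rw [this]; exact hxo
  exact ⟨h.mo _ h2 h4, h3, h4⟩

theorem Nt_D (h : SLoc t z K R) {g : G} (hg : Nt t z g) {d : G} (hd : d ∈ Pos.oddGen K z) :
    g * d * g⁻¹ ∈ Pos.oddGen K z := h.norm_D (fun _ hxt hxz => hg.cen h.zz hxt hxz) hd

/-- `Nt` elements normalise `R` -/
theorem Nt_R (h : SLoc t z K R) {g : G} (hg : Nt t z g) {r : G} (hr : r ∈ R) : g * r * g⁻¹ ∈ R := by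
  have hgi := hg.inv h.zz
  have key : g * r * g⁻¹ ∈ R ∨ t * (g * r * g⁻¹) ∈ R := by
    refine h.oR (R.map (MulAut.conj g).toMonoidHom) (h.pR.map _) ?_ ?_ ?_ _ ⟨r, hr, rfl⟩
    · rintro _ ⟨r, hr, rfl⟩
      exact (hg.cen h.zz (h.Kt r (h.RK hr)) (h.RP r hr)).1
    · rintro _ ⟨r, hr, rfl⟩
      exact (hg.cen h.zz (h.Kt r (h.RK hr)) (h.RP r hr)).2
    · rintro x hxt hxz _ ⟨r, hr, rfl⟩
      obtain ⟨h1, h2⟩ := hgi.cen h.zz hxt hxz
      rw [inv_inv] at h1 h2
      refine ⟨(g⁻¹ * x * g) * r * (g⁻¹ * x * g)⁻¹, h.nR _ h1 h2 r hr, ?_⟩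
      show g * ((g⁻¹ * x * g) * r * (g⁻¹ * x * g)⁻¹) * g⁻¹ = x * (g * r * g⁻¹) * x⁻¹
      group
  rcases key with h1 | h1
  · exact h1
  · exfalso
    apply h.tK
    have h2 : g * r * g⁻¹ ∈ K := Pos.oddGen_le (h.Nt_D hg (h.RD hr))
    have h3 : t * (g * r * g⁻¹) ∈ K := h.RK h1
    have h4 := K.mul_mem h3 (K.inv_mem h2)
    rwa [mul_assoc, mul_inv_cancel, mul_one] at h4

/-- `R ≠ ⟨z⟩` -/
theorem exists_R (h : SLoc t z K R) : ∃ r ∈ R, r ≠ 1 ∧ r ≠ z := by
  by_contra hcon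
  push Not at hcon
  have h1 : ∀ r ∈ R, r = 1 ∨ r = z := fun r hr => by
    by_cases h2 : r = 1
    · exact Or.inl h2
    · exact Or.inr (hcon r hr h2)
  have h2 : Pos.oddGen K z ≤ ⊥ := by
    rw [Pos.oddGen, closure_le]
    rintro d ⟨hdK, hdz, hdo⟩
    rw [SetLike.mem_coe, mem_bot]
    rcases h.cR d hdK hdz (fun r hr => by
      rcases h1 r hr with h3 | h3
      · rw [h3, mul_one, one_mul]
      · rw [h3, hdz]) with h3 | h3
    · exact h3
    · exfalso
      rw [h3] at hdo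
      have h4 : orderOf z = 2 := orderOf_eq_prime (by rw [pow_two]; exact h.zz) h.z1
      rw [h4] at hdo
      exact absurd hdo (by decide)
  exact h.z1 (mem_bot.1 (h2 h.oz))

/-- elements of `K ∩ C(z)` normalise `R` -/
theorem P_R (h : SLoc t z K R) {p : G} (hp : p ∈ K) (hpz : p * z = z * p) {r : G} (hr : r ∈ R) :
    p * r * p⁻¹ ∈ R := h.nR p (h.Kt p hp) hpz r hr

/-- **inner**: an element acting on `R` trivially modulo `⟨z⟩` acts as an element of `R` -/
theorem exists_inner [Finite G] (h : SLoc t z K R) {s : G} (hs : ∀ r ∈ R, s * r * s⁻¹ = r ∨ s * r * s⁻¹ = r * z) :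
    ∃ x ∈ R, ∀ r ∈ R, s * r * s⁻¹ = x * r * x⁻¹ := by
  have hmem : ∀ r ∈ R, s * r * s⁻¹ ∈ R := by
    intro r hr
    rcases hs r hr with h1 | h1
    · rw [h1]; exact hr
    · rw [h1]; exact R.mul_mem hr h.zR
  have hcen : ∀ x : R, x ∈ center R ↔ (x : G) = 1 ∨ (x : G) = z := by
    intro x
    constructor
    · intro hx
      exact h.cR x (h.RK x.2) (h.RP x x.2) (fun r hr =>
        (congrArg Subtype.val (mem_center_iff.1 hx ⟨r, hr⟩)).symm)
    · intro hx
      rw [mem_center_iff]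
      intro y
      apply Subtype.ext
      show (y : G) * x = x * y
      rcases hx with hx | hx
      · rw [hx, mul_one, one_mul]
      · rw [hx]; exact h.RP y y.2
  have hz1 : (⟨z, h.zR⟩ : R) ≠ 1 := fun e => h.z1 (congrArg Subtype.val e)
  have hcard : Nat.card (center R) = 2 := by
    have h1 : ((center R : Subgroup R) : Set R) = {1, ⟨z, h.zR⟩} := by
      ext c
      rw [SetLike.mem_coe, hcen, Set.mem_insert_iff, Set.mem_singleton_iff]
      exact or_congr ⟨fun h => Subtype.ext h, fun h => congrArg Subtype.val h⟩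
        ⟨fun h => Subtype.ext h, fun h => congrArg Subtype.val h⟩
    have h2 : Nat.card (center R) = ((center R : Subgroup R) : Set R).ncard := rfl
    rw [h2, h1, Set.ncard_pair hz1.symm]
  have hcle : _root_.commutator R ≤ center R := by
    rw [_root_.commutator_def, commutator_le]
    intro a _ b _
    rw [hcen]
    exact h.rr a a.2 b b.2
  have hcom : _root_.commutator R = center R := by
    apply le_antisymm hcle
    -- `R` is not abelian
    obtain ⟨a, ha, b, hb, hab⟩ : ∃ a ∈ R, ∃ b ∈ R, a * b * a⁻¹ * b⁻¹ ≠ 1 := by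
      by_contra hcon
      push Not at hcon
      obtain ⟨r, hr, hr1, hrz⟩ := h.exists_R
      rcases h.cR r (h.RK hr) (h.RP r hr) (fun x hx => by
        have h3 := hcon r hr x hx
        rw [mul_inv_eq_one, mul_inv_eq_iff_eq_mul] at h3
        exact h3) with h4 | h4
      · exact hr1 h4
      · exact hrz h4
    have h3 : a * b * a⁻¹ * b⁻¹ = z := (h.rr a ha b hb).resolve_left hab
    intro c hc
    have hzc : (⟨z, h.zR⟩ : R) ∈ _root_.commutator R := by
      have h4 : (⟨a, ha⟩ : R) * ⟨b, hb⟩ * ⟨a, ha⟩⁻¹ * ⟨b, hb⟩⁻¹ ∈ _root_.commutator R := by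
        rw [_root_.commutator_def]
        exact commutator_mem_commutator (mem_top _) (mem_top _)
      have e : (⟨a, ha⟩ : R) * ⟨b, hb⟩ * ⟨a, ha⟩⁻¹ * ⟨b, hb⟩⁻¹ = ⟨z, h.zR⟩ := Subtype.ext h3
      rwa [e] at h4
    rcases (hcen c).1 hc with h4 | h4
    · have : c = 1 := Subtype.ext h4
      rw [this]; exact one_mem _
    · have : c = ⟨z, h.zR⟩ := Subtype.ext h4
      rw [this]; exact hzc
  let σ : R →* R :=
    { toFun := fun r => ⟨s * r * s⁻¹, hmem r r.2⟩
      map_one' := Subtype.ext (by simp)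
      map_mul' := fun a b => Subtype.ext (by
        show s * ((a : G) * b) * s⁻¹ = s * a * s⁻¹ * (s * b * s⁻¹)
        group) }
  obtain ⟨x, hx⟩ := Cfsg.Agent.ClassificationK.Extraspecial.exists_inner hcom Nat.prime_two hcard σ (by
    intro q
    rw [hcen]
    show s * (q : G) * s⁻¹ * (q : G)⁻¹ = 1 ∨ s * (q : G) * s⁻¹ * (q : G)⁻¹ = z
    rcases hs q q.2 with h1 | h1
    · left; rw [h1, mul_inv_cancel]
    · right; rw [h1, h.RP q q.2]; group)
  exact ⟨x, x.2, fun r hr => congrArg Subtype.val (hx ⟨r, hr⟩)⟩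

end SLoc

/-- the position -/
structure SPos (t z : G) (K R F : Subgroup G) : Prop extends SLoc t z K R where
  F' : IsF z F
  tF : t ∈ F
  nc : ∀ g, g * t * g⁻¹ ≠ z
  sw : ∃ s : G, s * t * s⁻¹ = t * z ∧ s * z * s⁻¹ = z
  lam : ∀ φ : centralizer ({z} : Set G) →* ℤˣ, φ ⟨t, mem_centralizer_singleton_iff.2 toOLoc.comm⟩ = 1

namespace SPos

theorem pos (h : SPos t z K R F) : OPos t z K R F :=
  { toOLoc := h.toOLoc, F' := h.F', tF := h.tF, nc := h.nc, sw := h.sw }

theorem zF (h : SPos t z K R F) : z ∈ F := h.F'.self z rfl (fun x hx => (h.F'.le x hx).symm)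

/-- the elements of `F` are `Nt` -/
theorem nt [Finite G] (h : SPos t z K R F) {f : G} (hf : f ∈ F) : Nt t z f :=
  ⟨h.F'.le f hf, h.toOLoc.data.comm_t h.F' h.tF h.nc h.lam hf⟩

theorem t_ne_tz (h : SPos t z K R F) : t ≠ t * z := fun e => h.z1 (mul_eq_left.1 e.symm)

/-- the action of `F` on `⟨t, z⟩`: commutators with elements of `C(t) ∩ C(z)` centralise `t` -/
theorem comm_comm (h : SPos t z K R F) {s p : G} (hs : s * t * s⁻¹ = t * z) (hsz : s * z = z * s)
    (hpt : p * t = t * p) (hpz : p * z = z * p) :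
    (p * s * p⁻¹ * s⁻¹) * t = t * (p * s * p⁻¹ * s⁻¹) := by
  have hsz' : s * z * s⁻¹ = z := by rw [hsz]; group
  have h1 := (End.Pos.swap_inv h.zz hs hsz').1
  have hpi : p⁻¹ * t * p = t := by
    have c : Commute p t := hpt
    rw [c.inv_left.eq]; group
  have hpiz : p⁻¹ * z * p = z := by
    have c : Commute p z := hpz
    rw [c.inv_left.eq]; group
  have hpt' : p * t * p⁻¹ = t := by rw [hpt]; group
  have hpz' : p * z * p⁻¹ = z := by rw [hpz]; group
  have e : (p * s * p⁻¹ * s⁻¹) * t * (p * s * p⁻¹ * s⁻¹)⁻¹ = t := by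
    calc (p * s * p⁻¹ * s⁻¹) * t * (p * s * p⁻¹ * s⁻¹)⁻¹
        = p * s * (p⁻¹ * (s⁻¹ * t * s) * p) * s⁻¹ * p⁻¹ := by group
      _ = p * s * ((p⁻¹ * t * p) * (p⁻¹ * z * p)) * s⁻¹ * p⁻¹ := by rw [h1]; group
      _ = p * ((s * t * s⁻¹) * (s * z * s⁻¹)) * p⁻¹ := by rw [hpi, hpiz]; group
      _ = p * (t * z * z) * p⁻¹ := by rw [hs, hsz']
      _ = p * t * p⁻¹ := by rw [mul_assoc t z z, h.zz, mul_one]
      _ = t := hpt'
  exact mul_inv_eq_iff_eq_mul.1 e

/-- elements of `F ∩ C(t)` centralising `R` -/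
theorem cent_R (h : SPos t z K R F) {x : G} (hx : x ∈ F) (hxt : x * t = t * x) (hxR : ∀ r ∈ R, x * r = r * x) :
    x = 1 ∨ x = z ∨ x = t ∨ x = t * z := by
  rcases h.pos.mem_or hx hxt with h1 | h1
  · rcases h.cR x (h.RK h1) (h.RP x h1) hxR with h2 | h2
    · exact Or.inl h2
    · exact Or.inr (Or.inl h2)
  · rcases h.cR (t * x) (h.RK h1) (h.RP _ h1) (fun r hr => by
      have c1 : Commute t r := (h.Kt r (h.RK hr)).symm
      have c2 : Commute x r := hxR r hr
      exact c1.mul_left c2) with h2 | h2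
    · right; right; left
      rw [← h.tmul x, h2, mul_one]
    · right; right; right
      rw [← h.tmul x, h2]

/-- **(L2)** `R ≤ F` -/
theorem R_le [Finite G] (h : SPos t z K R F) : R ≤ F := by
  rcases h.irr (F ⊓ R) inf_le_right (fun g hg hgz n hn =>
    ⟨h.F'.nor g hgz n hn.1, h.P_R hg hgz hn.2⟩) with h1 | h1
  swap
  · rw [← h1]; exact inf_le_left
  exfalso
  have h2 : ∀ x ∈ F, x * t = t * x → x = 1 ∨ x = z ∨ x = t ∨ x = t * z := by
    intro x hx hxt
    rcases h.pos.mem_or hx hxt with h3 | h3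
    · rcases h1 x ⟨hx, h3⟩ with h4 | h4
      · exact Or.inl h4
      · exact Or.inr (Or.inl h4)
    · right; right
      rcases h1 _ ⟨F.mul_mem h.tF hx, h3⟩ with h4 | h4
      · left; rw [← h.tmul x, h4, mul_one]
      · right; rw [← h.tmul x, h4]
  have h3 : ∀ d ∈ K, d * z = z * d → Odd (orderOf d) → d = 1 := by
    intro d hd hdz hdo
    have hdt := h.Kt d hd
    have c1 : Commute d t := hdt
    have c2 : Commute d z := hdz
    have h4 : ∀ f ∈ F, d * f = f * d := by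
      intro f hf
      have hnt := h.nt hf
      set c : G := d * f * d⁻¹ * f⁻¹ with hc
      have hcF : c ∈ F := F.mul_mem (h.F'.nor d hdz f hf) (F.inv_mem hf)
      have hct : c * t = t * c := by
        rcases hnt.ct with h5 | h5
        · have c3 : Commute f t := mul_inv_eq_iff_eq_mul.1 h5
          exact ((c1.mul_left c3).mul_left c1.inv_left).mul_left c3.inv_left
        · exact h.comm_comm h5 hnt.cz hdt hdz
      have hc4 := h2 c hcF hct
      have hcd : Commute d c := by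
        rcases hc4 with h5 | h5 | h5 | h5 <;> rw [h5]
        · exact Commute.one_right d
        · exact c2
        · exact c1
        · exact c1.mul_right c2
      have hcc : c * c = 1 := by
        rcases hc4 with h5 | h5 | h5 | h5 <;> rw [h5]
        · exact one_mul 1
        · exact h.zz
        · exact h.tt
        · have c3 : Commute t z := h.comm
          calc t * z * (t * z) = t * (z * t) * z := by group
            _ = t * (t * z) * z := by rw [h.comm]
            _ = 1 := by rw [h.tmul, h.zz]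
      have hpow : ∀ n : ℕ, d ^ n * f * (d ^ n)⁻¹ = c ^ n * f := by
        intro n
        induction n with
        | zero => simp
        | succ n ih =>
          have c4 : Commute d (c ^ n) := hcd.pow_right n
          calc d ^ (n + 1) * f * (d ^ (n + 1))⁻¹ = d * (d ^ n * f * (d ^ n)⁻¹) * d⁻¹ := by
                rw [pow_succ']; group
            _ = (d * c ^ n) * f * d⁻¹ := by rw [ih]; group
            _ = c ^ n * (d * f * d⁻¹) := by rw [c4.eq]; group
            _ = c ^ n * (c * f) := by rw [hc]; group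
            _ = c ^ (n + 1) * f := by rw [pow_succ]; group
      have h6 := hpow (orderOf d)
      rw [pow_orderOf_eq_one, one_mul, inv_one, mul_one] at h6
      have h7 : c ^ orderOf d = 1 := mul_eq_right.1 h6.symm
      obtain ⟨m, hm⟩ := hdo
      rw [hm, pow_succ, pow_mul, pow_two, hcc, one_pow, one_mul] at h7
      rw [hc, mul_inv_eq_one, mul_inv_eq_iff_eq_mul] at h7
      exact h7
    have h5 : d ∈ F := h.F'.self d hdz h4
    rcases h2 d h5 hdt with h6 | h6 | h6 | h6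
    · exact h6
    all_goals exfalso
    · rw [h6] at hdo
      have h7 : orderOf z = 2 := orderOf_eq_prime (by rw [pow_two]; exact h.zz) h.z1
      rw [h7] at hdo
      exact absurd hdo (by decide)
    · exact h.tK (h6 ▸ hd)
    · apply h.tK
      have h7 := K.mul_mem hd (K.inv_mem h.zK)
      rwa [h6, mul_assoc, mul_inv_cancel, mul_one] at h7
  have h4 : Pos.oddGen K z ≤ ⊥ := by
    rw [Pos.oddGen, closure_le]
    intro x hx
    rw [SetLike.mem_coe, mem_bot]
    exact h3 x hx.1 hx.2.1 hx.2.2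
  exact h.z1 (mem_bot.1 (h4 h.oz))

/-- **(L3)** `F` acts trivially on `R / ⟨z⟩` -/
theorem comm_R [Finite G] (h : SPos t z K R F) {f r : G} (hf : f ∈ F) (hr : r ∈ R) :
    f * r * f⁻¹ = r ∨ f * r * f⁻¹ = r * z := by
  have hzc : ∀ f ∈ F, f * z = z * f := h.F'.le
  let C : Subgroup G :=
    { carrier := {r | r ∈ R ∧ ∀ f ∈ F, f * r * f⁻¹ * r⁻¹ = 1 ∨ f * r * f⁻¹ * r⁻¹ = z}
      one_mem' := ⟨R.one_mem, fun f _ => Or.inl (by group)⟩
      mul_mem' := by
        rintro a b ⟨ha, ha'⟩ ⟨hb, hb'⟩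
        refine ⟨R.mul_mem ha hb, fun f hf => ?_⟩
        have e : f * (a * b) * f⁻¹ * (a * b)⁻¹ = (f * a * f⁻¹ * a⁻¹) * (a * (f * b * f⁻¹ * b⁻¹) * a⁻¹) := by
          group
        have haz : a * z * a⁻¹ = z := by rw [h.RP a ha]; group
        rw [e]
        rcases ha' f hf with h1 | h1 <;> rcases hb' f hf with h2 | h2 <;> rw [h1, h2]
        · left; group
        · right; rw [haz, one_mul]
        · right; group
        · left; rw [haz, h.zz]
      inv_mem' := by
        rintro a ⟨ha, ha'⟩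
        refine ⟨R.inv_mem ha, fun f hf => ?_⟩
        have e : f * a⁻¹ * f⁻¹ * a⁻¹⁻¹ = a⁻¹ * (f * a * f⁻¹ * a⁻¹)⁻¹ * a := by group
        have haz : a⁻¹ * z * a = z := by
          have c : Commute a z := h.RP a ha
          rw [c.inv_left.eq]; group
        have hzi : z⁻¹ = z := inv_eq_of_mul_eq_one_left h.zz
        rw [e]
        rcases ha' f hf with h1 | h1 <;> rw [h1]
        · left; group
        · right; rw [hzi, haz] }
  have hCle : C ≤ R := fun x hx => hx.1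
  have hCn : ∀ g ∈ K, g * z = z * g → ∀ n ∈ C, g * n * g⁻¹ ∈ C := by
    rintro g hg hgz n ⟨hn, hn'⟩
    refine ⟨h.P_R hg hgz hn, fun f hf => ?_⟩
    have hgi : g⁻¹ * z = z * g⁻¹ := (Commute.inv_left (show Commute g z from hgz)).eq
    have hf' : g⁻¹ * f * g ∈ F := by
      have := h.F'.nor g⁻¹ hgi f hf
      rwa [inv_inv] at this
    have e : f * (g * n * g⁻¹) * f⁻¹ * (g * n * g⁻¹)⁻¹ =
        g * ((g⁻¹ * f * g) * n * (g⁻¹ * f * g)⁻¹ * n⁻¹) * g⁻¹ := by group
    rw [e]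
    rcases hn' _ hf' with h1 | h1 <;> rw [h1]
    · left; group
    · right; rw [hgz]; group
  have hR := h.irr C hCle hCn
  have hfin : ∀ {f r : G}, f ∈ F → r ∈ C → f * r * f⁻¹ = r ∨ f * r * f⁻¹ = r * z := by
    rintro f r hf ⟨hr, hr'⟩
    rcases hr' f hf with h1 | h1
    · exact Or.inl (mul_inv_eq_one.1 h1)
    · right
      rw [mul_inv_eq_iff_eq_mul] at h1
      rw [h1, h.RP r hr]
  rcases hR with hR | hR
  swap
  · exact hfin hf (by rw [hR]; exact hr)
  exfalso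
  -- `R / ⟨z⟩` meets the centre of `F / ⟨z⟩`
  have hRF := h.R_le
  set z' : F := ⟨z, h.zF⟩ with hz'
  have hzn : (zpowers z').Normal := by
    refine ⟨fun x hx g => ?_⟩
    obtain ⟨i, rfl⟩ := mem_zpowers_iff.1 hx
    have hc : Commute g z' := Subtype.ext (hzc g g.2)
    have : g * z' ^ i * g⁻¹ = z' ^ i := by
      rw [(hc.zpow_right i).eq, mul_inv_cancel_right]
    rw [this]; exact zpow_mem (mem_zpowers z') i
  have hz2 : ∀ x ∈ zpowers z', x = 1 ∨ x = z' := by
    intro x hx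
    obtain ⟨i, rfl⟩ := mem_zpowers_iff.1 hx
    have hzz : z' * z' = 1 := Subtype.ext h.zz
    rcases Int.even_or_odd i with ⟨j, rfl⟩ | ⟨j, rfl⟩
    · left
      have e : z' ^ (j + j) = (z' * z') ^ j := by
        rw [zpow_add, ← (Commute.refl z').mul_zpow]
      rw [e, hzz, one_zpow]
    · right
      have e : z' ^ (2 * j + 1) = (z' * z') ^ j * z' := by
        rw [zpow_add, zpow_one, zpow_mul, show (z' ^ (2 : ℤ)) = z' * z' from zpow_two z']
      rw [e, hzz, one_zpow, one_mul]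
  set π := QuotientGroup.mk' (zpowers z') with hπ
  set R' : Subgroup F := R.subgroupOf F with hR'
  have hR'n : R'.Normal := by
    refine ⟨fun x hx g => ?_⟩
    rw [hR', mem_subgroupOf] at hx ⊢
    exact h.toSLoc.Nt_R (h.nt g.2) hx
  have hNn : (R'.map π).Normal := hR'n.map π (QuotientGroup.mk'_surjective _)
  have hNb : R'.map π ≠ ⊥ := by
    intro h1
    obtain ⟨r, hr, hr1, hrz⟩ := h.exists_R
    have h2 : π ⟨r, hRF hr⟩ ∈ R'.map π := ⟨⟨r, hRF hr⟩, mem_subgroupOf.2 hr, rfl⟩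
    rw [h1, mem_bot, hπ, QuotientGroup.mk'_apply, QuotientGroup.eq_one_iff] at h2
    rcases hz2 _ h2 with h3 | h3
    · exact hr1 (congrArg Subtype.val h3)
    · exact hrz (congrArg Subtype.val h3)
  have : Fact (Nat.Prime 2) := ⟨Nat.prime_two⟩
  have hQp : IsPGroup 2 (F ⧸ zpowers z') := h.F'.pF.to_quotient _
  obtain ⟨x, hxN, hxc, hxo⟩ := Cfsg.Agent.Transfer.PGroupNormal.exists_mem_inf_center_orderOf hQp
    (R'.map π) hNb
  obtain ⟨r, hr, hrx⟩ := hxN
  rw [mem_center_iff] at hxc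
  have hrC : (r : G) ∈ C := by
    refine ⟨mem_subgroupOf.1 hr, fun f hf => ?_⟩
    have h1 := hxc (π ⟨f, hf⟩)
    rw [← hrx, ← map_mul, ← map_mul] at h1
    have h2 : π (⟨f, hf⟩ * r * ⟨f, hf⟩⁻¹ * r⁻¹) = 1 := by
      have h3 : π (⟨f, hf⟩ * r * ⟨f, hf⟩⁻¹ * r⁻¹) = π (⟨f, hf⟩ * r) * (π (r * ⟨f, hf⟩))⁻¹ := by
        rw [← map_inv, ← map_mul]; congr 1; group
      rw [h3, h1, mul_inv_cancel]
    rw [hπ, QuotientGroup.mk'_apply, QuotientGroup.eq_one_iff] at h2
    rcases hz2 _ h2 with h3 | h3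
    · exact Or.inl (congrArg Subtype.val h3)
    · exact Or.inr (congrArg Subtype.val h3)
  have hr2 := hR _ hrC
  have hx1 : x = 1 := by
    rw [← hrx, hπ, QuotientGroup.mk'_apply, QuotientGroup.eq_one_iff]
    rcases hr2 with h3 | h3
    · have : r = 1 := Subtype.ext h3
      rw [this]; exact one_mem _
    · have : r = z' := Subtype.ext h3
      rw [this]; exact mem_zpowers z'
  rw [hx1, orderOf_one] at hxo
  omega

end SPos

end Cfsg.Agent.OddHalf.D6.QThree.SpSit
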