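import Cfsg.Agent.OddHalf.D6.QThree.SpSit

/-!
# ODD half, D6, `q = 3`: `PSp₄(3)`, the case `F` not contained in `C(t)` (helper143)

`S1 s`: `s ∈ F` centralises `R` and maps `t` to `t z`; `SPos.false_two`: contradiction.
-/

set_option autoImplicit false

namespace Cfsg.Agent.OddHalf.D6.QThree.SpTwo

open Subgroup Cfsg Cfsg.Agent.OddHalf.D6.QThree.Sit Cfsg.Agent.OddHalf.D6.QThree.Core
open Cfsg.Agent.OddHalf.D6.QThree.Outer Cfsg.Agent.OddHalf.D6.QThree.SpSit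
open Cfsg.Agent.OddHalf.D6.QThree.End (Pos.oddGen Pos.oddGen_le Pos.oddGen_le')

variable {G : Type*} [Group G] {t z : G} {K R F : Subgroup G}

/-- `s ∈ F` centralises `R` and maps `t` to `t z` -/
structure S1 (t z : G) (R F : Subgroup G) (s : G) : Prop where
  sF : s ∈ F
  st : s * t * s⁻¹ = t * z
  sR : ∀ r ∈ R, s * r = r * s

/-- `z₃, z₄, z₁, z₂`: the frame -/
structure Fr (z : G) (K R : Subgroup G) (z₁ z₂ z₃ z₄ k₁ k₂ c₃ c₄ : G) : Prop where
  k1 : k₁ ∈ K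
  k2 : k₂ ∈ K
  c3 : c₃ ∈ K
  c4 : c₄ ∈ K
  e1 : k₁ * z * k₁⁻¹ = z₁
  e2 : k₂ * z * k₂⁻¹ = z₂
  e3 : c₃ * z * c₃⁻¹ = z₃
  e4 : c₄ * z * c₄⁻¹ = z₄
  z1z : z₁ * z = z * z₁
  z2z : z₂ * z = z * z₂
  z3z : z₃ * z = z * z₃
  z4z : z₄ * z = z * z₄
  c12 : z₁ * z₂ = z₂ * z₁
  c13 : z₁ * z₃ = z₃ * z₁
  c24 : z₂ * z₄ = z₄ * z₂
  n12 : z₁ ≠ z₂
  n13 : z₁ ≠ z₃
  n24 : z₂ ≠ z₄
  n31 : z₃ * z₁ ≠ z
  prod : (z₃ * z₁) * z = z₄ * z₂
  d3 : c₃ * (z₁ * z₂) = (z₁ * z₂) * c₃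
  d4 : c₄ * (z₁ * z₂) = (z₁ * z₂) * c₄
  /-- the involutions of `R - ⟨z⟩` are conjugate to `z₁ z₂` -/
  p3 : ∀ r ∈ R, r * r = 1 → r ≠ 1 → r ≠ z → ∃ p ∈ K, p * z = z * p ∧ p * r * p⁻¹ = z₁ * z₂

variable (h : SPos t z K R F)

include h

/-- **(L4)** -/
theorem exists_S1 [Finite G] (hFt : ¬ ∀ x ∈ F, x * t = t * x) : ∃ s, S1 t z R F s := by
  obtain ⟨s, hsF, hs⟩ := h.toOLoc.data.exists_mem h.F' h.tF h.nc hFt
  obtain ⟨x, hx, hxs⟩ := h.toSLoc.exists_inner (s := s) (fun r hr => h.comm_R hsF hr)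
  refine ⟨x⁻¹ * s, F.mul_mem (F.inv_mem (h.R_le hx)) hsF, ?_, ?_⟩
  · have hxt : x⁻¹ * t * x = t := by
      have c : Commute x t := h.Kt x (h.RK hx)
      rw [c.inv_left.eq]; group
    have hxz : x⁻¹ * z * x = z := by
      have c : Commute x z := h.RP x hx
      rw [c.inv_left.eq]; group
    calc x⁻¹ * s * t * (x⁻¹ * s)⁻¹ = x⁻¹ * (s * t * s⁻¹) * x := by group
      _ = (x⁻¹ * t * x) * (x⁻¹ * z * x) := by rw [hs]; group
      _ = t * z := by rw [hxt, hxz]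
  · intro r hr
    have h1 : x⁻¹ * s * r * (x⁻¹ * s)⁻¹ = r := by
      calc x⁻¹ * s * r * (x⁻¹ * s)⁻¹ = x⁻¹ * (s * r * s⁻¹) * x := by group
        _ = r := by rw [hxs r hr]; group
    exact mul_inv_eq_iff_eq_mul.1 h1

variable {s : G}

theorem s_z (hs : S1 t z R F s) : s * z = z * s := h.F'.le s hs.sF

/-- `s t s⁻¹ = t z`, the other forms -/
theorem s_inv (hs : S1 t z R F s) : s⁻¹ * t * s = t * z :=
  (End.Pos.swap_inv h.zz hs.st (by rw [s_z h hs]; group)).1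

theorem t_s (hs : S1 t z R F s) : t * s * t⁻¹ = s * z := by
  have h1 := s_inv h hs
  have hti : t⁻¹ = t := inv_eq_of_mul_eq_one_left h.tt
  calc t * s * t⁻¹ = s * (s⁻¹ * t * s) * t⁻¹ := by group
    _ = s * (t * z) * t := by rw [h1, hti]
    _ = s * (z * t) * t := by rw [h.comm]
    _ = s * z * (t * t) := by group
    _ = s * z := by rw [h.tt, mul_one]

/-- `s² ∈ ⟨z⟩` -/
theorem s_sq (hs : S1 t z R F s) : s * s = 1 ∨ s * s = z := by
  have hsz := s_z h hs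
  have hsz' : s * z * s⁻¹ = z := by rw [hsz]; group
  have h1 : (s * s) * t * (s * s)⁻¹ = t := by
    calc (s * s) * t * (s * s)⁻¹ = s * (s * t * s⁻¹) * s⁻¹ := by group
      _ = s * (t * z) * s⁻¹ := by rw [hs.st]
      _ = (s * t * s⁻¹) * (s * z * s⁻¹) := by group
      _ = t := by rw [hs.st, hsz', mul_assoc, h.zz, mul_one]
  have h2 : ∀ r ∈ R, (s * s) * r = r * (s * s) := fun r hr => by
    have c : Commute s r := hs.sR r hr
    exact c.mul_left c
  have c1 : s * (s * s) = (s * s) * s := by group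
  rcases h.cent_R (F.mul_mem hs.sF hs.sF) (mul_inv_eq_iff_eq_mul.1 h1) h2 with h3 | h3 | h3 | h3
  · exact Or.inl h3
  · exact Or.inr h3
  · exfalso
    rw [h3] at c1
    apply h.z1
    have h4 : s * t * s⁻¹ = t := by rw [c1]; group
    rw [hs.st] at h4
    exact mul_eq_left.1 h4
  · exfalso
    rw [h3] at c1
    apply h.z1
    have h4 : s * (t * z) * s⁻¹ = t * z := by rw [c1]; group
    have h5 : s * (t * z) * s⁻¹ = t := by
      calc s * (t * z) * s⁻¹ = (s * t * s⁻¹) * (s * z * s⁻¹) := by group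
        _ = t := by rw [hs.st, hsz', mul_assoc, h.zz, mul_one]
    rw [h5] at h4
    exact mul_eq_left.1 h4.symm

theorem ts_sq (hs : S1 t z R F s) : (t * s) * (t * s) = z * (s * s) := by
  have h1 := t_s h hs
  have hti : t⁻¹ = t := inv_eq_of_mul_eq_one_left h.tt
  rw [hti] at h1
  calc (t * s) * (t * s) = (t * s * t) * s := by group
    _ = s * z * s := by rw [h1]
    _ = z * (s * s) := by rw [s_z h hs]; group

/-- `p s p⁻¹ ∈ s ⟨z⟩` for `p ∈ C_K(z)` -/
theorem conj_s (hs : S1 t z R F s) {p : G} (hp : p ∈ K) (hpz : p * z = z * p) :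
    p * s * p⁻¹ = s ∨ p * s * p⁻¹ = s * z := by
  have hpt := h.Kt p hp
  have hsz := s_z h hs
  have h1 : p * s * p⁻¹ ∈ F := h.F'.nor p hpz s hs.sF
  set c : G := p * s * p⁻¹ * s⁻¹ with hc
  have hcF : c ∈ F := F.mul_mem h1 (F.inv_mem hs.sF)
  have hct : c * t = t * c := h.comm_comm hs.st hsz hpt hpz
  have hcR : ∀ r ∈ R, c * r = r * c := by
    intro r hr
    have hpi : p⁻¹ * z = z * p⁻¹ := (Commute.inv_left (show Commute p z from hpz)).eq
    have h2 : p⁻¹ * r * p ∈ R := by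
      have := h.P_R (K.inv_mem hp) hpi hr
      rwa [inv_inv] at this
    have h3 := hs.sR _ h2
    have c1 : Commute (p * s * p⁻¹) r := by
      show p * s * p⁻¹ * r = r * (p * s * p⁻¹)
      calc p * s * p⁻¹ * r = p * (s * (p⁻¹ * r * p)) * p⁻¹ := by group
        _ = p * ((p⁻¹ * r * p) * s) * p⁻¹ := by rw [h3]
        _ = r * (p * s * p⁻¹) := by group
    have c2 : Commute s r := hs.sR r hr
    exact (c1.mul_left c2.inv_left).eq
  have e : p * s * p⁻¹ = c * s := by rw [hc]; group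
  have hsq : (c * s) * (c * s) = s * s := by
    rw [← e]
    have : p * s * p⁻¹ * (p * s * p⁻¹) = p * (s * s) * p⁻¹ := by group
    rw [this]
    rcases s_sq h hs with h4 | h4 <;> rw [h4]
    · group
    · rw [hpz]; group
  have hz1 := h.z1
  rcases h.cent_R hcF hct hcR with h4 | h4 | h4 | h4
  · left; rw [e, h4, one_mul]
  · right; rw [e, h4, hsz]
  · exfalso
    rw [h4, ts_sq h hs] at hsq
    exact hz1 (mul_eq_right.1 hsq)
  · exfalso
    apply hz1
    have h5 : (t * z * s) * (t * z * s) = z * (s * s) := by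
      rw [← ts_sq h hs]
      have c1 : Commute z (t * s) := by
        have a1 : Commute z t := h.comm.symm
        have a2 : Commute z s := hsz.symm
        exact a1.mul_right a2
      calc (t * z * s) * (t * z * s) = (z * (t * s)) * (z * (t * s)) := by rw [h.comm]; group
        _ = ((t * s) * z) * (z * (t * s)) := by rw [c1.eq]
        _ = (t * s) * (z * z) * (t * s) := by group
        _ = (t * s) * (t * s) := by rw [h.zz, mul_one]
    rw [h4, h5] at hsq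
    exact mul_eq_right.1 hsq

/-- `s` centralises `D` -/
theorem s_D (hs : S1 t z R F s) {d : G} (hd : d ∈ Pos.oddGen K z) : s * d = d * s := by
  have h1 : Pos.oddGen K z ≤ centralizer ({s} : Set G) := by
    rw [Pos.oddGen, closure_le]
    rintro d ⟨hdK, hdz, hdo⟩
    rw [SetLike.mem_coe, mem_centralizer_singleton_iff]
    rcases conj_s h hs hdK hdz with h2 | h2
    · exact mul_inv_eq_iff_eq_mul.1 h2
    · exfalso
      have cdz : Commute d z := hdz
      have hpow : ∀ n : ℕ, d ^ n * s * (d ^ n)⁻¹ = s * z ^ n := by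
        intro n
        induction n with
        | zero => simp
        | succ n ih =>
          have c4 : Commute d (z ^ n) := cdz.pow_right n
          calc d ^ (n + 1) * s * (d ^ (n + 1))⁻¹ = d * (d ^ n * s * (d ^ n)⁻¹) * d⁻¹ := by
                rw [pow_succ']; group
            _ = (d * s) * z ^ n * d⁻¹ := by rw [ih]; group
            _ = (d * s * d⁻¹) * (d * z ^ n) * d⁻¹ := by group
            _ = (s * z) * (z ^ n * d) * d⁻¹ := by rw [h2, c4.eq]
            _ = s * z ^ (n + 1) := by rw [pow_succ']; group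
      have h6 := hpow (orderOf d)
      rw [pow_orderOf_eq_one, one_mul, inv_one, mul_one] at h6
      have h7 : z ^ orderOf d = 1 := mul_eq_left.1 h6.symm
      obtain ⟨m, hm⟩ := hdo
      rw [hm, pow_succ, pow_mul, pow_two, h.zz, one_pow, one_mul] at h7
      exact h.z1 h7
  exact (mem_centralizer_singleton_iff.1 (h1 hd)).symm

/-- **(S)** `[s, v] = z` for every `v ∈ z^K ∩ C(z)`, `v ≠ z` -/
theorem s_v (hs : S1 t z R F s) {k : G} (hk : k ∈ K) (hvz : (k * z * k⁻¹) * z = z * (k * z * k⁻¹))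
    (hvn : k * z * k⁻¹ ≠ z) : s * (k * z * k⁻¹) * s⁻¹ = (k * z * k⁻¹) * z := by
  set v : G := k * z * k⁻¹ with hv
  have hvK : v ∈ K := K.mul_mem (K.mul_mem hk h.zK) (K.inv_mem hk)
  have hvv : v * v = 1 := by
    calc v * v = k * (z * z) * k⁻¹ := by rw [hv]; group
      _ = 1 := by rw [h.zz]; group
  have hzv : IsConj z v := isConj_iff.2 ⟨k, rfl⟩
  have htv : IsConj t (t * v) := h.pos.conj_tv hk rfl
  have hvw : IsConj v (s * v * s⁻¹) := isConj_iff.2 ⟨s, rfl⟩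
  obtain ⟨r, hr, -, h1⟩ := h.pos.exists_of_mem hs.sF hs.st hvK hvv hvz
  -- `r` centralises `R`
  have hrR : ∀ x ∈ R, r * x = x * r := by
    intro x hx
    have hvx : v * x * v⁻¹ ∈ R := h.P_R hvK hvz hx
    have e1 : (s * v * s⁻¹) * x * (s * v * s⁻¹)⁻¹ = v * x * v⁻¹ := by
      have c1 : Commute s x := hs.sR x hx
      have c2 : Commute s (v * x * v⁻¹) := hs.sR _ hvx
      have e3 : s⁻¹ * x * s = x := by rw [c1.inv_left.eq]; group
      calc (s * v * s⁻¹) * x * (s * v * s⁻¹)⁻¹ = s * (v * (s⁻¹ * x * s) * v⁻¹) * s⁻¹ := by group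
        _ = s * (v * x * v⁻¹) * s⁻¹ := by rw [e3]
        _ = v * x * v⁻¹ := by rw [c2.eq]; group
    have e2 : (s * v * s⁻¹) * x * (s * v * s⁻¹)⁻¹ = v * (r * x * r⁻¹) * v⁻¹ := by
      rcases h1 with h1 | h1
      · rw [h1]; group
      · rw [h1]
        have hy : v * r * x * (v * r)⁻¹ ∈ K :=
          K.mul_mem (K.mul_mem (K.mul_mem hvK (h.RK hr)) (h.RK hx)) (K.inv_mem (K.mul_mem hvK (h.RK hr)))
        have c1 : Commute (v * r * x * (v * r)⁻¹) t := h.Kt _ hy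
        calc t * (v * r) * x * (t * (v * r))⁻¹ = t * (v * r * x * (v * r)⁻¹) * t⁻¹ := by group
          _ = v * r * x * (v * r)⁻¹ := by rw [← c1.eq]; group
          _ = v * (r * x * r⁻¹) * v⁻¹ := by group
    rw [e1] at e2
    have e3 : x = r * x * r⁻¹ := mul_left_cancel (mul_right_cancel e2)
    exact (mul_inv_eq_iff_eq_mul.1 e3.symm)
  have hr1 := h.cR r (h.RK hr) (h.RP r hr) hrR
  have hkR : k⁻¹ * z * k ∉ R := by
    intro h2
    have h3 := h.zR1 k⁻¹ (K.inv_mem hk) (by rwa [inv_inv])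
    rw [inv_inv] at h3
    apply hvn
    rw [hv]
    calc k * z * k⁻¹ = k * (k⁻¹ * z * k) * k⁻¹ := by rw [h3]
      _ = z := by group
  rcases h1 with h1 | h1 <;> rcases hr1 with h2 | h2
  · exfalso
    rw [h2, mul_one] at h1
    exact h.pos.ytrick hk rfl hkR h1 hs.st
  · rw [h1, h2]
  · exfalso
    rw [h2, mul_one] at h1
    rw [h1] at hvw
    exact h.pos.conj_ne_t (hzv.trans hvw) htv
  · exfalso
    rw [h2] at h1
    have e2 : s * (t * v) * s⁻¹ = v := by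
      calc s * (t * v) * s⁻¹ = (s * t * s⁻¹) * (s * v * s⁻¹) := by group
        _ = (t * z) * (t * (v * z)) := by rw [hs.st, h1]
        _ = (t * z) * (t * (z * v)) := by rw [hvz]
        _ = t * (z * t) * z * v := by group
        _ = t * (t * z) * z * v := by rw [h.comm]
        _ = v := by rw [h.tmul, h.zz, one_mul]
    exact h.pos.conj_ne_t hzv (htv.trans (isConj_iff.2 ⟨s, e2⟩))

/-- `s_k = k s k⁻¹`: the action on `z^K` -/
theorem sk_v (hs : S1 t z R F s) {k k' : G} (hk : k ∈ K) (hk' : k' ∈ K)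
    (hc : (k * z * k⁻¹) * (k' * z * k'⁻¹) = (k' * z * k'⁻¹) * (k * z * k⁻¹))
    (hn : k * z * k⁻¹ ≠ k' * z * k'⁻¹) :
    (k * s * k⁻¹) * (k' * z * k'⁻¹) * (k * s * k⁻¹)⁻¹ = (k' * z * k'⁻¹) * (k * z * k⁻¹) := by
  have h1 := s_v h hs (k := k⁻¹ * k') (K.mul_mem (K.inv_mem hk) hk') ?_ ?_
  · calc (k * s * k⁻¹) * (k' * z * k'⁻¹) * (k * s * k⁻¹)⁻¹
        = k * (s * (k⁻¹ * k' * z * (k⁻¹ * k')⁻¹) * s⁻¹) * k⁻¹ := by group
      _ = k * (k⁻¹ * k' * z * (k⁻¹ * k')⁻¹ * z) * k⁻¹ := by rw [h1]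
      _ = (k' * z * k'⁻¹) * (k * z * k⁻¹) := by group
  · calc (k⁻¹ * k' * z * (k⁻¹ * k')⁻¹) * z = k⁻¹ * ((k' * z * k'⁻¹) * (k * z * k⁻¹)) * k := by group
      _ = k⁻¹ * ((k * z * k⁻¹) * (k' * z * k'⁻¹)) * k := by rw [hc]
      _ = z * (k⁻¹ * k' * z * (k⁻¹ * k')⁻¹) := by group
  · intro e
    apply hn
    calc k * z * k⁻¹ = k * (k⁻¹ * k' * z * (k⁻¹ * k')⁻¹) * k⁻¹ := by rw [e]
      _ = k' * z * k'⁻¹ := by group

theorem sk_z (hs : S1 t z R F s) (k : G) : (k * s * k⁻¹) * (k * z * k⁻¹) * (k * s * k⁻¹)⁻¹ = k * z * k⁻¹ := by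
  have h1 : s * z * s⁻¹ = z := by rw [s_z h hs]; group
  calc (k * s * k⁻¹) * (k * z * k⁻¹) * (k * s * k⁻¹)⁻¹ = k * (s * z * s⁻¹) * k⁻¹ := by group
    _ = k * z * k⁻¹ := by rw [h1]

theorem sk_t (hs : S1 t z R F s) {k : G} (hk : k ∈ K) :
    (k * s * k⁻¹) * t * (k * s * k⁻¹)⁻¹ = t * (k * z * k⁻¹) := by
  have c : Commute k t := h.Kt k hk
  have e1 : k⁻¹ * t * k = t := by rw [c.inv_left.eq]; group
  have e2 : k * t * k⁻¹ = t := by rw [c.eq]; group
  calc (k * s * k⁻¹) * t * (k * s * k⁻¹)⁻¹ = k * (s * (k⁻¹ * t * k) * s⁻¹) * k⁻¹ := by group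
    _ = (k * t * k⁻¹) * (k * z * k⁻¹) := by rw [e1, hs.st]; group
    _ = t * (k * z * k⁻¹) := by rw [e2]

/-- **(L7)** `t z₁ z₂` is not conjugate to `t` in `C(z)` -/
theorem not_y (hs : S1 t z R F s) {z₁ z₂ z₃ z₄ k₁ k₂ c₃ c₄ : G} (f : Fr z K R z₁ z₂ z₃ z₄ k₁ k₂ c₃ c₄)
    {g : G} (hgz : g * z = z * g) : g * t * g⁻¹ ≠ t * (z₁ * z₂) := by
  intro hg
  set y : G := t * (z₁ * z₂) with hy
  have hz1K : z₁ ∈ K := by rw [← f.e1]; exact K.mul_mem (K.mul_mem f.k1 h.zK) (K.inv_mem f.k1)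
  have hz2K : z₂ ∈ K := by rw [← f.e2]; exact K.mul_mem (K.mul_mem f.k2 h.zK) (K.inv_mem f.k2)
  have hz11 : z₁ * z₁ = 1 := by
    calc z₁ * z₁ = k₁ * (z * z) * k₁⁻¹ := by rw [← f.e1]; group
      _ = 1 := by rw [h.zz]; group
  have hz22 : z₂ * z₂ = 1 := by
    calc z₂ * z₂ = k₂ * (z * z) * k₂⁻¹ := by rw [← f.e2]; group
      _ = 1 := by rw [h.zz]; group
  set s₁ : G := k₁ * s * k₁⁻¹ with hs₁
  set s₂ : G := k₂ * s * k₂⁻¹ with hs₂
  have a1t : s₁ * t * s₁⁻¹ = t * z₁ := by rw [hs₁, sk_t h hs f.k1, f.e1]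
  have a11 : s₁ * z₁ * s₁⁻¹ = z₁ := by
    have := sk_z h hs k₁
    rwa [f.e1] at this
  have a12 : s₁ * z₂ * s₁⁻¹ = z₂ * z₁ := by
    have := sk_v h hs f.k1 f.k2 (by rw [f.e1, f.e2, f.c12]) (by rw [f.e1, f.e2]; exact f.n12)
    rwa [f.e1, f.e2] at this
  have a13 : s₁ * z₃ * s₁⁻¹ = z₃ * z₁ := by
    have := sk_v h hs f.k1 f.c3 (by rw [f.e1, f.e3, f.c13]) (by rw [f.e1, f.e3]; exact f.n13)
    rwa [f.e1, f.e3] at this
  have a2t : s₂ * t * s₂⁻¹ = t * z₂ := by rw [hs₂, sk_t h hs f.k2, f.e2]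
  have a22 : s₂ * z₂ * s₂⁻¹ = z₂ := by
    have := sk_z h hs k₂
    rwa [f.e2] at this
  have a21 : s₂ * z₁ * s₂⁻¹ = z₁ * z₂ := by
    have := sk_v h hs f.k2 f.k1 (by rw [f.e1, f.e2, f.c12]) (by rw [f.e1, f.e2]; exact f.n12.symm)
    rwa [f.e1, f.e2] at this
  have a24 : s₂ * z₄ * s₂⁻¹ = z₄ * z₂ := by
    have := sk_v h hs f.k2 f.c4 (by rw [f.e2, f.e4, f.c24]) (by rw [f.e2, f.e4]; exact f.n24)
    rwa [f.e2, f.e4] at this
  -- `s₁`, `s₂` centralise `y`
  have b1 : s₁ * y * s₁⁻¹ = y := by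
    calc s₁ * y * s₁⁻¹ = (s₁ * t * s₁⁻¹) * (s₁ * z₁ * s₁⁻¹) * (s₁ * z₂ * s₁⁻¹) := by rw [hy]; group
      _ = t * (z₁ * z₁) * (z₂ * z₁) := by rw [a1t, a11, a12]; group
      _ = t * (z₁ * z₂) := by rw [hz11, mul_one, f.c12]
  have b2 : s₂ * y * s₂⁻¹ = y := by
    calc s₂ * y * s₂⁻¹ = (s₂ * t * s₂⁻¹) * (s₂ * z₁ * s₂⁻¹) * (s₂ * z₂ * s₂⁻¹) := by rw [hy]; group
      _ = t * (z₂ * z₁) * (z₂ * z₂) := by rw [a2t, a22, a21]; group
      _ = t * (z₁ * z₂) := by rw [hz22, mul_one, f.c12]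
  have b3 : c₃ * y * c₃⁻¹ = y := by
    have c1 : Commute c₃ t := h.Kt c₃ f.c3
    have c2 : Commute c₃ (z₁ * z₂) := f.d3
    rw [hy, (c1.mul_right c2).eq]; group
  have b4 : c₄ * y * c₄⁻¹ = y := by
    have c1 : Commute c₄ t := h.Kt c₄ f.c4
    have c2 : Commute c₄ (z₁ * z₂) := f.d4
    rw [hy, (c1.mul_right c2).eq]; group
  set a : G := s₁ * c₃ with ha
  set b : G := s₂ * c₄ with hb
  have hay : a * y * a⁻¹ = y := by
    calc a * y * a⁻¹ = s₁ * (c₃ * y * c₃⁻¹) * s₁⁻¹ := by rw [ha]; group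
      _ = y := by rw [b3, b1]
  have hby : b * y * b⁻¹ = y := by
    calc b * y * b⁻¹ = s₂ * (c₄ * y * c₄⁻¹) * s₂⁻¹ := by rw [hb]; group
      _ = y := by rw [b4, b2]
  have haz : a * z * a⁻¹ = z₃ * z₁ := by
    calc a * z * a⁻¹ = s₁ * (c₃ * z * c₃⁻¹) * s₁⁻¹ := by rw [ha]; group
      _ = z₃ * z₁ := by rw [f.e3, a13]
  have hbz : b * z * b⁻¹ = z₄ * z₂ := by
    calc b * z * b⁻¹ = s₂ * (c₄ * z * c₄⁻¹) * s₂⁻¹ := by rw [hb]; group
      _ = z₄ * z₂ := by rw [f.e4, a24]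
  -- pull back
  have hgz' : g⁻¹ * z * g = z := by
    have c : Commute g z := hgz
    rw [c.inv_left.eq]; group
  have hgz'' : g * z * g⁻¹ = z := by rw [hgz]; group
  have hgy : g⁻¹ * y * g = t := by rw [← hg]; group
  have key : ∀ x : G, x * y * x⁻¹ = y → (g⁻¹ * x * g) * t = t * (g⁻¹ * x * g) ∧
      (g⁻¹ * x * g) * z * (g⁻¹ * x * g)⁻¹ = g⁻¹ * (x * z * x⁻¹) * g := by
    intro x hx
    constructor
    · have e : (g⁻¹ * x * g) * t * (g⁻¹ * x * g)⁻¹ = t := by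
        calc (g⁻¹ * x * g) * t * (g⁻¹ * x * g)⁻¹ = g⁻¹ * (x * (g * t * g⁻¹) * x⁻¹) * g := by group
          _ = t := by rw [hg, hx, hgy]
      exact mul_inv_eq_iff_eq_mul.1 e
    · calc (g⁻¹ * x * g) * z * (g⁻¹ * x * g)⁻¹ = g⁻¹ * (x * (g * z * g⁻¹) * x⁻¹) * g := by group
        _ = g⁻¹ * (x * z * x⁻¹) * g := by rw [hgz'']
  obtain ⟨ha1, ha2⟩ := key a hay
  obtain ⟨hb1, hb2⟩ := key b hby
  obtain ⟨k, hk, hka⟩ := h.kz _ ha1
  obtain ⟨k', hk', hkb⟩ := h.kz _ hb1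
  rw [ha2, haz] at hka
  rw [hb2, hbz] at hkb
  have hc31 : (z₃ * z₁) * z = z * (z₃ * z₁) := by
    have c1 : Commute z₃ z := f.z3z
    have c2 : Commute z₁ z := f.z1z
    exact c1.mul_left c2
  refine h.p2 k hk k' hk' ?_ ?_ ?_
  · rw [hka]
    calc g⁻¹ * (z₃ * z₁) * g * z = g⁻¹ * (z₃ * z₁) * (g * z * g⁻¹) * g := by group
      _ = g⁻¹ * ((z₃ * z₁) * z) * g := by rw [hgz'']; group
      _ = g⁻¹ * (z * (z₃ * z₁)) * g := by rw [hc31]
      _ = (g⁻¹ * z * g) * (g⁻¹ * (z₃ * z₁) * g) := by group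
      _ = z * (g⁻¹ * (z₃ * z₁) * g) := by rw [hgz']
  · rw [hka]
    intro e
    apply f.n31
    calc z₃ * z₁ = g * (g⁻¹ * (z₃ * z₁) * g) * g⁻¹ := by group
      _ = z := by rw [e, hgz'']
  · rw [hka, hkb]
    calc g⁻¹ * (z₄ * z₂) * g = g⁻¹ * ((z₃ * z₁) * z) * g := by rw [f.prod]
      _ = g⁻¹ * (z₃ * z₁) * g * (g⁻¹ * z * g) := by group
      _ = g⁻¹ * (z₃ * z₁) * g * z := by rw [hgz']

/-- **(L6)** `t^H ∩ C(t) = {t, t z}` -/
theorem conj_t (hs : S1 t z R F s) {z₁ z₂ z₃ z₄ k₁ k₂ c₃ c₄ : G} (f : Fr z K R z₁ z₂ z₃ z₄ k₁ k₂ c₃ c₄)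
    {g : G} (hgz : g * z = z * g) (hgt : (g * t * g⁻¹) * t = t * (g * t * g⁻¹)) :
    g * t * g⁻¹ = t ∨ g * t * g⁻¹ = t * z := by
  set y : G := g * t * g⁻¹ with hy
  have hyF : y ∈ F := h.F'.nor g hgz t h.tF
  have hyy : y * y = 1 := by
    calc y * y = g * (t * t) * g⁻¹ := by rw [hy]; group
      _ = 1 := by rw [h.tt]; group
  have hty : IsConj t y := isConj_iff.2 ⟨g, rfl⟩
  -- `z₁ z₂` is conjugate to `z`
  have h12 : IsConj z (z₁ * z₂) := by
    have a12 : (k₁ * s * k₁⁻¹) * z₂ * (k₁ * s * k₁⁻¹)⁻¹ = z₂ * z₁ := by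
      have := sk_v h hs f.k1 f.k2 (by rw [f.e1, f.e2, f.c12]) (by rw [f.e1, f.e2]; exact f.n12)
      rwa [f.e1, f.e2] at this
    have h1 : IsConj z z₂ := isConj_iff.2 ⟨k₂, f.e2⟩
    have h2 : IsConj z₂ (z₁ * z₂) := by
      rw [f.c12]
      exact isConj_iff.2 ⟨_, a12⟩
    exact h1.trans h2
  rcases h.pos.mem_or hyF hgt with h1 | h1
  · exfalso
    have hy1 : y ≠ 1 := fun e => h.t1 (conj_eq_one_iff.1 e)
    have hyz : y ≠ z := h.nc g
    obtain ⟨p, -, -, hp⟩ := f.p3 y h1 hyy hy1 hyz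
    exact h.pos.conj_ne_t h12 (hty.trans (isConj_iff.2 ⟨p, hp⟩))
  · have hr2 : (t * y) * (t * y) = 1 := by
      calc (t * y) * (t * y) = t * (y * t) * y := by group
        _ = t * (t * y) * y := by rw [hgt]
        _ = 1 := by rw [h.tmul, hyy]
    by_cases hr1 : t * y = 1
    · left; rw [← h.tmul y, hr1, mul_one]
    by_cases hrz : t * y = z
    · right; rw [← h.tmul y, hrz]
    exfalso
    obtain ⟨p, hp, hpz, hpe⟩ := f.p3 (t * y) h1 hr2 hr1 hrz
    have hpt : p * t * p⁻¹ = t := by rw [h.Kt p hp]; group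
    have c1 : Commute p z := hpz
    have c2 : Commute g z := hgz
    refine not_y h hs f (g := p * g) (c1.mul_left c2).eq ?_
    calc p * g * t * (p * g)⁻¹ = p * y * p⁻¹ := by rw [hy]; group
      _ = p * (t * (t * y)) * p⁻¹ := by rw [h.tmul]
      _ = (p * t * p⁻¹) * (p * (t * y) * p⁻¹) := by group
      _ = t * (z₁ * z₂) := by rw [hpt, hpe]

/-- **(L8)** `t^H ⊆ ⟨z⟩ {t, s, t s}` -/
theorem conj_t_mem [Finite G] (hs : S1 t z R F s) {z₁ z₂ z₃ z₄ k₁ k₂ c₃ c₄ : G}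
    (f : Fr z K R z₁ z₂ z₃ z₄ k₁ k₂ c₃ c₄) {g : G} (hgz : g * z = z * g) :
    (g * t * g⁻¹ = t ∨ g * t * g⁻¹ = t * z) ∨ (g * t * g⁻¹ = s ∨ g * t * g⁻¹ = z * s) ∨
      (g * t * g⁻¹ = t * s ∨ g * t * g⁻¹ = t * (z * s)) := by
  set y : G := g * t * g⁻¹ with hy
  have hyF : y ∈ F := h.F'.nor g hgz t h.tF
  by_cases hyt : y * t = t * y
  · exact Or.inl (conj_t h hs f hgz hyt)
  right
  have hnt := h.nt hyF
  have hyt2 : y * t * y⁻¹ = t * z := by
    rcases hnt.ct with h1 | h1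
    · exact absurd (mul_inv_eq_iff_eq_mul.1 h1) hyt
    · exact h1
  have hsinv := s_inv h hs
  have hsz := s_z h hs
  -- `y s⁻¹ ∈ C(t)`
  have hxF : y * s⁻¹ ∈ F := F.mul_mem hyF (F.inv_mem hs.sF)
  have hxt : (y * s⁻¹) * t = t * (y * s⁻¹) := by
    have e : (y * s⁻¹) * t * (y * s⁻¹)⁻¹ = t := by
      have hyz' : y * z * y⁻¹ = z := by rw [hnt.cz]; group
      calc (y * s⁻¹) * t * (y * s⁻¹)⁻¹ = y * (s⁻¹ * t * s) * y⁻¹ := by group
        _ = (y * t * y⁻¹) * (y * z * y⁻¹) := by rw [hsinv]; group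
        _ = t := by rw [hyt2, hyz', mul_assoc, h.zz, mul_one]
    exact mul_inv_eq_iff_eq_mul.1 e
  -- `y = r σ`, `σ ∈ {s, t s}`
  obtain ⟨r, hr, σ, hσ, hyσ⟩ : ∃ r ∈ R, ∃ σ, (σ = s ∨ σ = t * s) ∧ y = r * σ := by
    rcases h.pos.mem_or hxF hxt with h1 | h1
    · exact ⟨_, h1, s, Or.inl rfl, by group⟩
    · refine ⟨_, h1, t * s, Or.inr rfl, ?_⟩
      have c : Commute t (y * s⁻¹) := hxt.symm
      calc y = (y * s⁻¹) * s := by group
        _ = (t * t * (y * s⁻¹)) * s := by rw [h.tt, one_mul]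
        _ = t * (t * (y * s⁻¹)) * s := by group
        _ = (t * (y * s⁻¹)) * t * s := by
            have c2 : Commute t (t * (y * s⁻¹)) := (Commute.refl t).mul_right c
            rw [c2.eq]
        _ = t * (y * s⁻¹) * (t * s) := by group
  have hσR : ∀ x ∈ R, Commute σ x := by
    intro x hx
    have c1 : Commute s x := hs.sR x hx
    have c2 : Commute t x := (h.Kt x (h.RK hx)).symm
    rcases hσ with e | e <;> rw [e]
    · exact c1
    · exact c2.mul_left c1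
  have hσz : Commute σ z := hσR z h.zR
  by_cases hr1 : r = 1
  · rw [hr1, one_mul] at hyσ
    rcases hσ with e | e
    · left; left; rw [hyσ, e]
    · right; left; rw [hyσ, e]
  by_cases hrz : r = z
  · rw [hrz] at hyσ
    rcases hσ with e | e
    · left; right; rw [hyσ, e]
    · right; right; rw [hyσ, e, ← mul_assoc, ← mul_assoc, h.comm]
  exfalso
  obtain ⟨p, hp, hpz, hpr, hn1, hn2⟩ := h.p4 r hr hr1 hrz
  have hpt := h.Kt p hp
  have hpt' : p * t * p⁻¹ = t := by rw [hpt]; group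
  have hr' : p * r * p⁻¹ ∈ R := h.P_R hp hpz hr
  -- `p σ p⁻¹ = σ ζ`
  obtain ⟨ζ, hζ, hpσ⟩ : ∃ ζ, (ζ = 1 ∨ ζ = z) ∧ p * σ * p⁻¹ = σ * ζ := by
    rcases conj_s h hs hp hpz with h1 | h1 <;> rcases hσ with e | e
    · exact ⟨1, Or.inl rfl, by rw [e, h1, mul_one]⟩
    · refine ⟨1, Or.inl rfl, ?_⟩
      rw [e]
      calc p * (t * s) * p⁻¹ = (p * t * p⁻¹) * (p * s * p⁻¹) := by group
        _ = t * s * 1 := by rw [hpt', h1, mul_one]
    · exact ⟨z, Or.inr rfl, by rw [e, h1]⟩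
    · refine ⟨z, Or.inr rfl, ?_⟩
      rw [e]
      calc p * (t * s) * p⁻¹ = (p * t * p⁻¹) * (p * s * p⁻¹) := by group
        _ = t * s * z := by rw [hpt', h1]; group
  have hζz : ∀ x : G, Commute x z → Commute x ζ := by
    intro x hx
    rcases hζ with e | e <;> rw [e]
    · exact Commute.one_right x
    · exact hx
  set y' : G := p * y * p⁻¹ with hy'
  have hy'e : y' = (p * r * p⁻¹) * (σ * ζ) := by
    rw [hy', hyσ, ← hpσ]; group
  have hrz' : Commute r z := h.RP r hr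
  have hrz'' : Commute (p * r * p⁻¹) z := h.RP _ hr'
  have hcomm : Commute y' y := by
    rw [hy'e, hyσ]
    have c1 : Commute (p * r * p⁻¹) r := hpr
    have c2 : Commute (p * r * p⁻¹) σ := (hσR _ hr').symm
    have c3 : Commute (σ * ζ) r := (hσR r hr).mul_left (hζz r hrz').symm
    have c4 : Commute (σ * ζ) σ := (Commute.refl σ).mul_left (hζz σ hσz).symm
    exact (c1.mul_right c2).mul_left (c3.mul_right c4)
  -- `y' = (g a) t (g a)⁻¹`
  set a : G := g⁻¹ * p * g with ha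
  have c1 : Commute p z := hpz
  have c2 : Commute g z := hgz
  have haz : a * z = z * a := ((c2.inv_left.mul_left c1).mul_left c2).eq
  have hy'a : g⁻¹ * y' * g = a * t * a⁻¹ := by rw [hy', hy, ha]; group
  have hat : (a * t * a⁻¹) * t = t * (a * t * a⁻¹) := by
    rw [← hy'a]
    have e : g⁻¹ * y * g = t := by rw [hy]; group
    calc g⁻¹ * y' * g * t = g⁻¹ * y' * g * (g⁻¹ * y * g) := by rw [e]
      _ = g⁻¹ * (y' * y) * g := by group
      _ = g⁻¹ * (y * y') * g := by rw [hcomm.eq]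
      _ = (g⁻¹ * y * g) * (g⁻¹ * y' * g) := by group
      _ = t * (g⁻¹ * y' * g) := by rw [e]
  have hgz'' : g * z * g⁻¹ = z := by rw [hgz]; group
  have hfin : y' = y ∨ y' = y * z := by
    rcases conj_t h hs f haz hat with h1 | h1
    · left
      calc y' = g * (g⁻¹ * y' * g) * g⁻¹ := by group
        _ = y := by rw [hy'a, h1]
    · right
      calc y' = g * (g⁻¹ * y' * g) * g⁻¹ := by group
        _ = (g * t * g⁻¹) * (g * z * g⁻¹) := by rw [hy'a, h1]; group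
        _ = y * z := by rw [hgz'']
  -- hence `p r p⁻¹ ∈ r ⟨z⟩`
  have hσi : ∀ c : G, (p * r * p⁻¹) * (σ * ζ) = r * σ * c → Commute c σ → p * r * p⁻¹ = r * (c * ζ⁻¹) := by
    intro c e hc
    have c5 : Commute σ ζ := hζz σ hσz
    calc p * r * p⁻¹ = (p * r * p⁻¹) * (σ * ζ) * (ζ⁻¹ * σ⁻¹) := by group
      _ = r * (σ * c) * ζ⁻¹ * σ⁻¹ := by rw [e]; group
      _ = r * c * (σ * ζ⁻¹) * σ⁻¹ := by rw [← hc.eq]; group
      _ = r * (c * ζ⁻¹) := by rw [c5.inv_right.eq]; group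
  rw [hy'e, hyσ] at hfin
  have hzi : z⁻¹ = z := inv_eq_of_mul_eq_one_left h.zz
  rcases hfin with h1 | h1
  · have h2 := hσi 1 (by rw [mul_one]; exact h1) (Commute.one_left σ)
    rcases hζ with e | e
    · rw [e, inv_one, mul_one, mul_one] at h2
      exact hn1 h2
    · rw [e, hzi, one_mul] at h2
      exact hn2 h2
  · have h2 := hσi z h1 hσz.symm
    rcases hζ with e | e
    · rw [e, inv_one, mul_one] at h2
      exact hn2 h2
    · rw [e, hzi, h.zz, mul_one] at h2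
      exact hn1 h2

/-- **(L9)** Case II is impossible -/
theorem false_two [Finite G] (hFt : ¬ ∀ x ∈ F, x * t = t * x) {z₁ z₂ z₃ z₄ k₁ k₂ c₃ c₄ : G}
    (f : Fr z K R z₁ z₂ z₃ z₄ k₁ k₂ c₃ c₄) : False := by
  obtain ⟨s, hs⟩ := exists_S1 h hFt
  have hsz := s_z h hs
  have hzt := h.comm
  have czt : Commute z t := hzt.symm
  have czs : Commute z s := hsz.symm
  -- the elements of `F` centralising `D`
  have hcD : ∀ x ∈ F, (∀ d ∈ Pos.oddGen K z, x * d = d * x) →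
      (x = 1 ∨ x = z ∨ x = t ∨ x = t * z) ∨ (x * s⁻¹ = 1 ∨ x * s⁻¹ = z ∨ x * s⁻¹ = t ∨ x * s⁻¹ = t * z) := by
    intro x hx hxD
    have hnt := h.nt hx
    rcases hnt.ct with h1 | h1
    · left
      exact h.cent_R hx (mul_inv_eq_iff_eq_mul.1 h1) (fun r hr => hxD r (h.RD hr))
    · right
      refine h.cent_R (F.mul_mem hx (F.inv_mem hs.sF)) ?_ (fun r hr => ?_)
      · have e : (x * s⁻¹) * t * (x * s⁻¹)⁻¹ = t := by
          have hyz' : x * z * x⁻¹ = z := by rw [hnt.cz]; group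
          calc (x * s⁻¹) * t * (x * s⁻¹)⁻¹ = x * (s⁻¹ * t * s) * x⁻¹ := by group
            _ = (x * t * x⁻¹) * (x * z * x⁻¹) := by rw [s_inv h hs]; group
            _ = t := by rw [h1, hyz', mul_assoc, h.zz, mul_one]
        exact mul_inv_eq_iff_eq_mul.1 e
      · have c1 : Commute x r := hxD r (h.RD hr)
        have c2 : Commute s r := hs.sR r hr
        exact (c1.mul_left c2.inv_left).eq
  -- `H` normalises `D`
  have hHD : ∀ g, g * z = z * g → ∀ d ∈ Pos.oddGen K z, g⁻¹ * d * g ∈ Pos.oddGen K z := by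
    intro g hgz d hd
    -- `D` centralises `g t g⁻¹`
    have hDt : ∀ d ∈ Pos.oddGen K z, d * (g * t * g⁻¹) = (g * t * g⁻¹) * d := by
      intro d hd
      have c1 : Commute d t := h.toSLoc.oddGen_comm_t hd
      have c2 : Commute d z := SLoc.oddGen_comm_z hd
      have c3 : Commute d s := (s_D h hs hd).symm
      have : Commute d (g * t * g⁻¹) := by
        rcases conj_t_mem h hs f hgz with (e | e) | (e | e) | (e | e) <;> rw [e]
        · exact c1
        · exact c1.mul_right c2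
        · exact c3
        · exact c2.mul_right c3
        · exact c1.mul_right c3
        · exact c1.mul_right (c2.mul_right c3)
      exact this
    have h1 : MulAut.conj g⁻¹ d ∈ (Pos.oddGen K z).map (MulAut.conj g⁻¹).toMonoidHom := ⟨d, hd, rfl⟩
    rw [Pos.oddGen, MonoidHom.map_closure] at h1
    have e : MulAut.conj g⁻¹ d = g⁻¹ * d * g := by rw [MulAut.conj_apply, inv_inv]
    rw [e] at h1
    refine closure_mono ?_ h1
    rintro _ ⟨x, ⟨hxK, hxz, hxo⟩, rfl⟩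
    have e2 : (MulAut.conj g⁻¹).toMonoidHom x = g⁻¹ * x * g := by
      show g⁻¹ * x * g⁻¹⁻¹ = _
      rw [inv_inv]
    have hxD : x ∈ Pos.oddGen K z := subset_closure ⟨hxK, hxz, hxo⟩
    have h2 := hDt x hxD
    have h3 : (g⁻¹ * x * g) * t = t * (g⁻¹ * x * g) := by
      calc (g⁻¹ * x * g) * t = g⁻¹ * (x * (g * t * g⁻¹)) * g := by group
        _ = g⁻¹ * ((g * t * g⁻¹) * x) * g := by rw [h2]
        _ = t * (g⁻¹ * x * g) := by group
    have h4 : Odd (orderOf (g⁻¹ * x * g)) := by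
      have : orderOf ((MulAut.conj g⁻¹).toMonoidHom x) = orderOf x :=
        orderOf_injective (MulAut.conj g⁻¹).toMonoidHom (MulAut.conj g⁻¹).injective x
      rw [e2] at this
      rw [this]; exact hxo
    have cgz : Commute g z := hgz
    have cxz : Commute x z := hxz
    rw [e2]
    exact ⟨h.mo _ h3 h4, ((cgz.inv_left.mul_left cxz).mul_left cgz).eq, h4⟩
  -- `H` permutes the elements of `F` centralising `D`
  have hinv : ∀ g, g * z = z * g → ∀ x ∈ F, (∀ d ∈ Pos.oddGen K z, x * d = d * x) →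
      (g * x * g⁻¹ ∈ F ∧ ∀ d ∈ Pos.oddGen K z, (g * x * g⁻¹) * d = d * (g * x * g⁻¹)) := by
    intro g hgz x hx hxD
    refine ⟨h.F'.nor g hgz x hx, fun d hd => ?_⟩
    have h1 := hxD _ (hHD g hgz d hd)
    calc (g * x * g⁻¹) * d = g * (x * (g⁻¹ * d * g)) * g⁻¹ := by group
      _ = g * ((g⁻¹ * d * g) * x) * g⁻¹ := by rw [h1]
      _ = d * (g * x * g⁻¹) := by group
  -- the element `u` of order 4
  obtain ⟨u, huF, huD, huu, hut, huniq⟩ : ∃ u ∈ F, (∀ d ∈ Pos.oddGen K z, u * d = d * u) ∧ u * u = z ∧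
      t * u * t⁻¹ = u * z ∧
      ∀ x ∈ F, (∀ d ∈ Pos.oddGen K z, x * d = d * x) → x * x = z → x = u ∨ x = u * z := by
    have hz1 := h.z1
    have hztz : (t * z) * (t * z) = 1 := by
      calc t * z * (t * z) = t * (z * t) * z := by group
        _ = t * (t * z) * z := by rw [h.comm]
        _ = 1 := by rw [h.tmul, h.zz]
    have hts := ts_sq h hs
    have htst := t_s h hs
    have hsD : ∀ d ∈ Pos.oddGen K z, s * d = d * s := fun d hd => s_D h hs hd
    have htsD : ∀ d ∈ Pos.oddGen K z, (t * s) * d = d * (t * s) := fun d hd => by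
      have c1 : Commute t d := (h.toSLoc.oddGen_comm_t hd).symm
      have c2 : Commute s d := hsD d hd
      exact (c1.mul_left c2).eq
    -- squares of the elements
    have hzsz : (z * s) * (z * s) = s * s := by
      calc (z * s) * (z * s) = z * (s * z) * s := by group
        _ = z * (z * s) * s := by rw [hsz]
        _ = (z * z) * (s * s) := by group
        _ = s * s := by rw [h.zz, one_mul]
    have htzs : (t * z * s) * (t * z * s) = z * (s * s) := by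
      rw [← hts]
      have c1 : Commute z (t * s) := czt.mul_right czs
      calc (t * z * s) * (t * z * s) = (z * (t * s)) * (z * (t * s)) := by rw [h.comm]; group
        _ = ((t * s) * z) * (z * (t * s)) := by rw [c1.eq]
        _ = (t * s) * (z * z) * (t * s) := by group
        _ = (t * s) * (t * s) := by rw [h.zz, mul_one]
    have h0 : ∀ x ∈ F, (∀ d ∈ Pos.oddGen K z, x * d = d * x) → x * x = z →
        x = s ∨ x = z * s ∨ x = t * s ∨ x = t * z * s := by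
      intro x hx hxD hxx
      rcases hcD x hx hxD with h1 | h1
      · exfalso
        rcases h1 with h1 | h1 | h1 | h1 <;> rw [h1] at hxx
        · rw [one_mul] at hxx; exact hz1 hxx.symm
        · rw [h.zz] at hxx; exact hz1 hxx.symm
        · rw [h.tt] at hxx; exact hz1 hxx.symm
        · rw [hztz] at hxx; exact hz1 hxx.symm
      · have e : x = (x * s⁻¹) * s := by group
        rcases h1 with h1 | h1 | h1 | h1 <;> rw [h1] at e
        · left; rw [e, one_mul]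
        · right; left; exact e
        · right; right; left; exact e
        · right; right; right; exact e
    rcases s_sq h hs with h1 | h1
    · -- `s² = 1`: `u = t s`
      refine ⟨t * s, F.mul_mem h.tF hs.sF, htsD, by rw [hts, h1, mul_one], ?_, ?_⟩
      · calc t * (t * s) * t⁻¹ = t * (t * s * t⁻¹) := by group
          _ = t * s * z := by rw [htst]; group
      · intro x hx hxD hxx
        rcases h0 x hx hxD hxx with e | e | e | e
        · exfalso
          rw [e, h1] at hxx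
          exact hz1 hxx.symm
        · exfalso
          rw [e, hzsz, h1] at hxx
          exact hz1 hxx.symm
        · exact Or.inl e
        · right; rw [e, mul_assoc, mul_assoc, hsz]
    · refine ⟨s, hs.sF, hsD, h1, htst, ?_⟩
      intro x hx hxD hxx
      rcases h0 x hx hxD hxx with e | e | e | e
      · exact Or.inl e
      · right; rw [e, hsz]
      · exfalso
        rw [e, hts, h1, h.zz] at hxx
        exact hz1 hxx.symm
      · exfalso
        rw [e, htzs, h1, h.zz] at hxx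
        exact hz1 hxx.symm
  have h5 := Cfsg.Agent.OddHalf.D8.CaseX.sign_pair (u := u) h.zz h.z1 hzt h.lam (by
    intro g hgz
    obtain ⟨h1, h2⟩ := hinv g hgz u huF huD
    apply huniq _ h1 h2
    calc g * u * g⁻¹ * (g * u * g⁻¹) = g * (u * u) * g⁻¹ := by group
      _ = z := by rw [huu, hgz]; group)
  have h6 : t * u * t⁻¹ = u := by rw [h5]; group
  rw [hut] at h6
  exact h.z1 (mul_eq_left.1 h6)

end Cfsg.Agent.OddHalf.D6.QThree.SpTwo
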