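import Cfsg.Agent.OddHalf.Small.U43Good
import Cfsg.Agent.ClassicalGeometry.PSUAutMain

/-!
# ODD half, D6, `q = 3`: the automorphisms of `U₄(3)` as semilinear matrices (helper218)

`sa hF M hM ε : MulAut (PSU 4 F 3)`, `M` unitary, `ε : Bool` (`true`: semilinear).
-/

set_option autoImplicit false
set_option linter.unusedSectionVars false

namespace Cfsg.Agent.OddHalf.D6.QThree.U43Aut

open Matrix Cfsg Cfsg.Agent.OddHalf.Small.U43Mat Cfsg.Agent.OddHalf.Small.U43Good
open Cfsg.Agent.LieClassical.HermSiegel Cfsg.Agent.LieClassical.SUBasic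
open Cfsg.Agent.ClassicalGeometry.UnitAutBasic (pr pr_surjective)
open Cfsg.Agent.ClassicalGeometry.PSUAutCount Cfsg.Agent.ClassicalGeometry.PSUAutMain

variable {F : Type*} [Field F] [CharP F 3]

/-- entrywise cube if `ε` -/
def tw (ε : Bool) (M : M4 F) : M4 F := M.map (fun x => bif ε then x ^ 3 else x)

theorem tw_false (M : M4 F) : tw false M = M := by
  ext i j; rfl

theorem tw_true (M : M4 F) : tw true M = M.map (frobenius F 3) := rfl

theorem tw_mul (ε : Bool) (M N : M4 F) : tw ε (M * N) = tw ε M * tw ε N := by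
  cases ε
  · rw [tw_false, tw_false, tw_false]
  · rw [tw_true, tw_true, tw_true, Matrix.map_mul]

theorem tw_one (ε : Bool) : tw ε (1 : M4 F) = 1 := by
  cases ε
  · rw [tw_false]
  · rw [tw_true, Matrix.map_one _ (map_zero _) (map_one _)]

theorem tw_smul_one {c : F} (hc : c ^ 3 = c) (ε : Bool) (M : M4 F) : tw ε (c • M) = c • tw ε M := by
  cases ε
  · rw [tw_false, tw_false]
  · ext i j
    show (c * M i j) ^ 3 = c * (M i j) ^ 3
    rw [mul_pow, hc]

theorem tw_smul (ε : Bool) (c : F) (M : M4 F) : tw ε (c • M) = (bif ε then c ^ 3 else c) • tw ε M := by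
  cases ε
  · rw [tw_false, tw_false]; rfl
  · ext i j
    show (c * M i j) ^ 3 = c ^ 3 * (M i j) ^ 3
    rw [mul_pow]

theorem trace_tw (ε : Bool) (M : M4 F) : (tw ε M).trace = bif ε then M.trace ^ 3 else M.trace := by
  cases ε
  · rw [tw_false]; rfl
  · rw [tw_true]
    show ((M.map (frobenius F 3)).trace) = (M.trace) ^ 3
    have := map_sum (frobenius F 3) (fun i => M i i) Finset.univ
    exact this.symm

theorem det_tw (ε : Bool) (M : M4 F) : (tw ε M).det = bif ε then M.det ^ 3 else M.det := by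
  cases ε
  · rw [tw_false]; rfl
  · rw [tw_true, ← RingHom.mapMatrix_apply, ← RingHom.map_det]
    rfl

theorem st_tw (ε : Bool) (M : M4 F) : st (tw ε M) = tw ε (st M) := by
  cases ε
  · rw [tw_false, tw_false]
  · ext i j; rfl

theorem tw_tw (h9 : ∀ x : F, x ^ 9 = x) (ε η : Bool) (M : M4 F) : tw ε (tw η M) = tw (xor ε η) M := by
  cases ε <;> cases η
  · rw [tw_false]; rfl
  · rw [tw_false]; rfl
  · rw [tw_false]; rfl
  · ext i j
    show ((M i j) ^ 3) ^ 3 = M i j
    rw [← pow_mul, h9]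

/-- the field automorphism -/
noncomputable def ph (F : Type*) [Field F] [CharP F 3] [Finite F] (ε : Bool) : F ≃+* F :=
  bif ε then RingEquiv.ofBijective (frobenius F 3)
    (Finite.injective_iff_bijective.1 (frobenius F 3).injective) else RingEquiv.refl F

theorem ph_apply [Finite F] (ε : Bool) (x : F) : ph F ε x = bif ε then x ^ 3 else x := by
  cases ε <;> rfl

theorem map_ph [Finite F] (ε : Bool) (M : M4 F) : M.map (ph F ε) = tw ε M := by
  ext i j
  exact ph_apply ε _

theorem exists_a [Fintype F] (hF : Fintype.card F = 9) : ∃ a : F, a ^ 2 = -1 := by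
  have h1 : IsSquare (-1 : F) := by
    rw [FiniteField.isSquare_neg_one_iff, hF]; norm_num
  obtain ⟨a, ha⟩ := h1
  exact ⟨a, by rw [pow_two, ← ha]⟩

theorem exists_ph [Fintype F] (hF : Fintype.card F = 9) (ρ : F ≃+* F) : ∃ ε, ρ = ph F ε := by
  obtain ⟨a, ha⟩ := exists_a hF
  have ha0 : a ≠ 0 := by
    rintro rfl
    have : (1 : F) = 0 := by linear_combination ha
    exact one_ne_zero this
  have hc : Nat.card (F ≃+* F) = 2 :=
    Lib.FieldAutCard.card_ringAut (p := 3) (by norm_num) (by rw [hF]; norm_num)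
  have hne : ph F true ≠ ph F false := by
    intro h
    have h1 := congrArg (fun r : F ≃+* F => r a) h
    simp only [ph_apply, cond_true, cond_false] at h1
    have h2 : (2 : F) * a = 0 := by linear_combination a * ha - h1
    exact (mul_ne_zero two_ne ha0) h2
  obtain ⟨x, y, hxy, hu⟩ := Nat.card_eq_two_iff.1 hc
  have k : ∀ r : F ≃+* F, r = x ∨ r = y := by
    intro r
    have : r ∈ ({x, y} : Set (F ≃+* F)) := by rw [hu]; trivial
    simpa using this
  rcases k ρ with h | h <;> rcases k (ph F true) with h1 | h1 <;> rcases k (ph F false) with h2 | h2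
  · exact ⟨true, h.trans h1.symm⟩
  · exact ⟨true, h.trans h1.symm⟩
  · exact ⟨false, h.trans h2.symm⟩
  · exact absurd (h1.trans h2.symm) hne
  · exact absurd (h1.trans h2.symm) hne
  · exact ⟨false, h.trans h2.symm⟩
  · exact ⟨true, h.trans h1.symm⟩
  · exact ⟨true, h.trans h1.symm⟩

/-! ### Unitary matrices and `GU` -/

theorem herm_of_st {M : M4 F} (h : st M * M = 1) (u v : Fin 4 → F) :
    hermForm 4 F 3 (M *ᵥ u) (M *ᵥ v) = hermForm 4 F 3 u v := by
  have h1 : Mᵀ * M.map (frobenius F 3) = 1 := by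
    have := congrArg transpose h
    rw [transpose_mul, transpose_one] at this
    exact this
  have e1 : hermForm 4 F 3 (M *ᵥ u) (M *ᵥ v) = (M *ᵥ u) ⬝ᵥ (M.map (frobenius F 3) *ᵥ (fun i => v i ^ 3)) := by
    unfold hermForm
    rw [dotProduct]
    apply Finset.sum_congr rfl
    intro i _
    congr 1
    show (M *ᵥ v) i ^ 3 = ∑ j, (M i j) ^ 3 * (v j) ^ 3
    rw [mulVec, dotProduct]
    have := map_sum (frobenius F 3) (fun j => M i j * v j) Finset.univ
    calc (∑ j, M i j * v j) ^ 3 = ∑ j, (M i j * v j) ^ 3 := this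
      _ = _ := Finset.sum_congr rfl (fun j _ => mul_pow _ _ _)
  rw [e1]
  have e2 : (M *ᵥ u) ⬝ᵥ (M.map (frobenius F 3) *ᵥ (fun i => v i ^ 3)) =
      u ⬝ᵥ ((Mᵀ * M.map (frobenius F 3)) *ᵥ (fun i => v i ^ 3)) := by
    rw [← mulVec_mulVec, dotProduct_mulVec u Mᵀ, vecMul_transpose]
  rw [e2, h1, one_mulVec]
  rfl


theorem st_of_form {M : M4 F}
    (h : ∀ u v, hermForm 4 F 3 (M *ᵥ u) (M *ᵥ v) = hermForm 4 F 3 u v) : st M * M = 1 := by
  have h1 : Mᵀ * M.map (frobenius F 3) = 1 := by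
    ext i j
    have h2 := h (Pi.single i 1) (Pi.single j 1)
    rw [mulVec_single_one, mulVec_single_one] at h2
    unfold hermForm at h2
    rw [mul_apply]
    have h3 : ∑ k, (Pi.single i (1 : F) : Fin 4 → F) k * (Pi.single j (1 : F) : Fin 4 → F) k ^ 3 =
        (1 : M4 F) i j := by
      rw [Finset.sum_eq_single i]
      · rw [Pi.single_eq_same, one_mul, one_apply]
        by_cases hij : i = j
        · subst hij
          rw [Pi.single_eq_same, if_pos rfl, one_pow]
        · rw [Pi.single_eq_of_ne hij, if_neg hij]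
          ring
      · intro k _ hk
        rw [Pi.single_eq_of_ne hk, zero_mul]
      · intro hi
        exact absurd (Finset.mem_univ i) hi
    rw [h3] at h2
    rw [← h2]
    rfl
  have h2 := congrArg transpose h1
  rw [transpose_mul, transpose_transpose, transpose_one] at h2
  exact h2

theorem st_gm (A : Cfsg.GU 4 F 3) : st (gm A) * gm A = 1 := st_of_form (herm_gm A)

theorem exists_gu [Fintype F] (hF : Fintype.card F = 9) {M : M4 F} (h : st M * M = 1) :
    ∃ A : Cfsg.GU 4 F 3, gm A = M := by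
  obtain ⟨A, hA, hm⟩ := Cfsg.Agent.ClassicalGeometry.HermOrtho.exists_GU_of_isometry (q := 3)
    (by rw [hF]; norm_num) (herm_of_st h)
  exact ⟨⟨A, hA⟩, hm⟩

theorem gm_inv (A : Cfsg.GU 4 F 3) : gm A⁻¹ = st (gm A) := by
  calc gm A⁻¹ = (st (gm A) * gm A) * gm A⁻¹ := by rw [st_gm, one_mul]
    _ = st (gm A) := by rw [mul_assoc, gm_mul_inv, mul_one]

variable [Fintype F]

/-- the automorphism `x ↦ M x^φ M⁻¹` -/
noncomputable def sa (hF : Fintype.card F = 9) (M : M4 F) (hM : st M * M = 1) (ε : Bool) :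
    MulAut (PSU 4 F 3) := toAut (exists_gu hF hM).choose (ph F ε)

theorem mat_semiConj (A : Cfsg.GU 4 F 3) (ε : Bool) (g : SU 4 F 3) :
    mat (semiConj A (ph F ε) g) = gm A * tw ε (mat g) * st (gm A) := by
  rw [← gm_inv, ← map_ph]
  rfl

theorem sa_pr (hF : Fintype.card F = 9) {M : M4 F} (hM : st M * M = 1) (ε : Bool) (g : SU 4 F 3) :
    ∃ h : SU 4 F 3, sa hF M hM ε (pr 4 F 3 g) = pr 4 F 3 h ∧ mat h = M * tw ε (mat g) * st M := by
  refine ⟨_, toAut_pr _ _ _, ?_⟩
  rw [mat_semiConj, (exists_gu hF hM).choose_spec]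

/-- the action on elements -/
theorem sa_iff (hF : Fintype.card F = 9) {M : M4 F} (hM : st M * M = 1) (ε : Bool) (g h : SU 4 F 3) :
    sa hF M hM ε (pr 4 F 3 g) = pr 4 F 3 h ↔ ∃ c : F, c ^ 4 = 1 ∧ M * tw ε (mat g) = c • (mat h * M) := by
  obtain ⟨k, hk, hm⟩ := sa_pr hF hM ε g
  rw [hk]
  constructor
  · intro h1
    obtain ⟨c, hc, h2⟩ := mat_of_pr_eq hF h1.symm
    refine ⟨c, hc, ?_⟩
    calc M * tw ε (mat g) = M * tw ε (mat g) * (st M * M) := by rw [hM, mul_one]
      _ = mat k * M := by rw [hm, ← mul_assoc]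
      _ = c • (mat h * M) := by rw [h2, Matrix.smul_mul]
  · rintro ⟨c, -, h1⟩
    refine (pr_eq_of_mat (c := c) ?_).symm
    rw [hm, h1, Matrix.smul_mul, mul_assoc, mul_st hM, mul_one]

theorem sa_of (hF : Fintype.card F = 9) {M : M4 F} (hM : st M * M = 1) (ε : Bool) {g h : SU 4 F 3}
    (e : M * tw ε (mat g) = mat h * M) : sa hF M hM ε (pr 4 F 3 g) = pr 4 F 3 h :=
  (sa_iff hF hM ε g h).2 ⟨1, one_pow _, by rw [one_smul]; exact e⟩

theorem exists_sa (hF : Fintype.card F = 9) (α : MulAut (PSU 4 F 3)) :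
    ∃ (M : M4 F) (hM : st M * M = 1) (ε : Bool), α = sa hF M hM ε := by
  obtain ⟨A, ρ, rfl⟩ := exists_toAut (q := 3) (by rw [hF]; norm_num) (by norm_num) (by norm_num) α
  obtain ⟨ε, rfl⟩ := exists_ph hF ρ
  refine ⟨gm A, st_gm A, ε, ?_⟩
  unfold sa
  congr 1
  apply gm_inj
  rw [(exists_gu hF (st_gm A)).choose_spec]

theorem ext_pr {α β : MulAut (PSU 4 F 3)} (h : ∀ g, α (pr 4 F 3 g) = β (pr 4 F 3 g)) : α = β := by
  ext x
  obtain ⟨g, rfl⟩ := pr_surjective x
  exact h g

theorem un_mul {M N : M4 F} (hM : st M * M = 1) (hN : st N * N = 1) : st (M * N) * (M * N) = 1 := by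
  rw [st_mul]
  calc st N * st M * (M * N) = st N * (st M * M) * N := by simp only [mul_assoc]
    _ = 1 := by rw [hM, mul_one, hN]

theorem un_tw (ε : Bool) {M : M4 F} (hM : st M * M = 1) : st (tw ε M) * tw ε M = 1 := by
  rw [st_tw, ← tw_mul, hM, tw_one]

theorem un_smul {c : F} (hc : c ^ 4 = 1) {M : M4 F} (hM : st M * M = 1) : st (c • M) * (c • M) = 1 := by
  rw [st_smul, Matrix.smul_mul, Matrix.mul_smul, smul_smul, hM, ← pow_succ, hc, one_smul]

theorem sa_mul (hF : Fintype.card F = 9) {M N : M4 F} (hM : st M * M = 1) (hN : st N * N = 1)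
    (ε η : Bool) : sa hF M hM ε * sa hF N hN η =
      sa hF (M * tw ε N) (un_mul hM (un_tw ε hN)) (xor ε η) := by
  have h9 : ∀ x : F, x ^ 9 = x := fun x => by rw [← hF]; exact FiniteField.pow_card x
  apply ext_pr
  intro g
  rw [MulAut.mul_apply]
  obtain ⟨k, hk, hkm⟩ := sa_pr hF hN η g
  rw [hk]
  obtain ⟨l, hl, hlm⟩ := sa_pr hF hM ε k
  rw [hl]
  obtain ⟨r, hr, hrm⟩ := sa_pr hF (un_mul hM (un_tw ε hN)) (xor ε η) g
  rw [hr]
  apply pr_eq_of_mat (c := 1)
  rw [hrm, hlm, hkm, one_smul, tw_mul, tw_mul, tw_tw h9, st_mul, st_tw]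
  simp only [mul_assoc]

theorem sa_smul (hF : Fintype.card F = 9) {M N : M4 F} (hM : st M * M = 1) (hN : st N * N = 1)
    (ε : Bool) {c : F} (h : N = c • M) : sa hF M hM ε = sa hF N hN ε := by
  subst h
  apply ext_pr
  intro g
  obtain ⟨k, hk, hkm⟩ := sa_pr hF hM ε g
  obtain ⟨l, hl, hlm⟩ := sa_pr hF hN ε g
  rw [hk, hl]
  apply pr_eq_of_mat (c := c ^ 3 * c)
  rw [hlm, hkm, st_smul, Matrix.smul_mul, Matrix.smul_mul, Matrix.mul_smul, smul_smul, mul_comm (c ^ 3)]

theorem sa_congr (hF : Fintype.card F = 9) {M N : M4 F} (hM : st M * M = 1) (hN : st N * N = 1)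
    (ε : Bool) (h : N = M) : sa hF M hM ε = sa hF N hN ε := by
  subst h; rfl

theorem sa_inj (hF : Fintype.card F = 9) {M N : M4 F} (hM : st M * M = 1) (hN : st N * N = 1)
    {ε η : Bool} (h : sa hF M hM ε = sa hF N hN η) : η = ε ∧ ∃ c : F, c ^ 4 = 1 ∧ N = c • M := by
  obtain ⟨h1, c, hc, h2⟩ := eq_of_toAut_eq (q := 3) (by rw [hF]; norm_num) (by norm_num) h
  rw [(exists_gu hF hM).choose_spec, (exists_gu hF hN).choose_spec] at h2
  refine ⟨?_, c, by rw [← hc]; ring, h2⟩
  obtain ⟨a, ha⟩ := exists_a hF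
  have ha0 : a ≠ 0 := by
    rintro rfl
    have : (1 : F) = 0 := by linear_combination ha
    exact one_ne_zero this
  have h3 := congrArg (fun r : F ≃+* F => r a) h1
  simp only [ph_apply] at h3
  cases ε <;> cases η
  · rfl
  · exfalso
    have h2 : (2 : F) * a = 0 := by
      simp only [cond_true, cond_false] at h3
      linear_combination a * ha - h3
    exact (mul_ne_zero two_ne ha0) h2
  · exfalso
    have h2 : (2 : F) * a = 0 := by
      simp only [cond_true, cond_false] at h3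
      linear_combination a * ha + h3
    exact (mul_ne_zero two_ne ha0) h2
  · rfl

theorem conj_eq (hF : Fintype.card F = 9) (g : SU 4 F 3) :
    MulAut.conj (pr 4 F 3 g) = sa hF (mat g) (st_mat g) false := by
  apply ext_pr
  intro x
  obtain ⟨k, hk, hkm⟩ := sa_pr hF (st_mat g) false x
  rw [hk, MulAut.conj_apply, ← map_inv, ← map_mul, ← map_mul]
  apply pr_eq_of_mat (c := 1)
  rw [hkm, tw_false, one_smul, mat_mul, mat_mul, mat_inv]

theorem sa_one (hF : Fintype.card F = 9) {M : M4 F} (hM : st M * M = 1) {c : F} (h : M = c • 1) :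
    sa hF M hM false = 1 := by
  have h1 : sa hF M hM false = MulAut.conj (pr 4 F 3 1) := by
    rw [conj_eq hF]
    refine (sa_smul hF _ _ false (c := c) ?_).symm
    rw [h, mat_one]
  rw [h1, map_one, map_one]

/-! ### The sign: `-1` on the semilinear automorphisms -/

/-- the type of an automorphism (`true`: semilinear) -/
noncomputable def ty (hF : Fintype.card F = 9) (α : MulAut (PSU 4 F 3)) : Bool :=
  (exists_sa hF α).choose_spec.choose_spec.choose

theorem ty_spec (hF : Fintype.card F = 9) (α : MulAut (PSU 4 F 3)) :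
    ∃ (M : M4 F) (hM : st M * M = 1), α = sa hF M hM (ty hF α) :=
  ⟨_, _, (exists_sa hF α).choose_spec.choose_spec.choose_spec⟩

theorem ty_sa (hF : Fintype.card F = 9) {M : M4 F} (hM : st M * M = 1) (ε : Bool) :
    ty hF (sa hF M hM ε) = ε := by
  obtain ⟨N, hN, h⟩ := ty_spec hF (sa hF M hM ε)
  exact (sa_inj hF hM hN h).1

theorem ty_mul (hF : Fintype.card F = 9) (α β : MulAut (PSU 4 F 3)) :
    ty hF (α * β) = xor (ty hF α) (ty hF β) := by
  obtain ⟨M, hM, ε, rfl⟩ := exists_sa hF α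
  obtain ⟨N, hN, η, rfl⟩ := exists_sa hF β
  rw [sa_mul hF hM hN, ty_sa, ty_sa, ty_sa]

/-- `-1` on the semilinear automorphisms -/
noncomputable def sgn (hF : Fintype.card F = 9) : MulAut (PSU 4 F 3) →* ℤˣ where
  toFun α := bif ty hF α then -1 else 1
  map_one' := by
    have h : (1 : MulAut (PSU 4 F 3)) = sa hF 1 (by rw [st_one, one_mul]) false :=
      (sa_one hF _ (c := 1) (by rw [one_smul])).symm
    rw [h, ty_sa]
    rfl
  map_mul' α β := by
    rw [ty_mul]
    cases ty hF α <;> cases ty hF β <;> simp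

theorem sgn_sa (hF : Fintype.card F = 9) {M : M4 F} (hM : st M * M = 1) (ε : Bool) :
    sgn hF (sa hF M hM ε) = bif ε then -1 else 1 := by
  show (bif ty hF (sa hF M hM ε) then (-1 : ℤˣ) else 1) = _
  rw [ty_sa]

theorem sgn_conj (hF : Fintype.card F = 9) (x : PSU 4 F 3) : sgn hF (MulAut.conj x) = 1 := by
  obtain ⟨g, rfl⟩ := pr_surjective x
  rw [conj_eq hF, sgn_sa]
  rfl

theorem of_sgn (hF : Fintype.card F = 9) {α : MulAut (PSU 4 F 3)} (h : sgn hF α = -1) :
    ∃ (M : M4 F) (hM : st M * M = 1), α = sa hF M hM true := by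
  obtain ⟨M, hM, ε, rfl⟩ := exists_sa hF α
  rw [sgn_sa] at h
  cases ε
  · exact absurd h (by decide)
  · exact ⟨M, hM, rfl⟩

theorem det_pow {M : M4 F} (hM : st M * M = 1) : M.det ^ 4 = 1 := by
  have h := congrArg Matrix.det hM
  rw [det_mul, det_st, det_one] at h
  linear_combination h

theorem four_cases {a c : F} (ha : a ^ 2 = -1) (hc : c ^ 4 = 1) : c = 1 ∨ c = -1 ∨ c = a ∨ c = -a := by
  have h : (c - 1) * ((c + 1) * ((c - a) * (c + a))) = 0 := by
    linear_combination hc - (c ^ 2 - 1) * ha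
  rcases mul_eq_zero.1 h with h | h
  · left; linear_combination h
  rcases mul_eq_zero.1 h with h | h
  · right; left; linear_combination h
  rcases mul_eq_zero.1 h with h | h
  · right; right; left; linear_combination h
  · right; right; right; linear_combination h

/-- automorphisms with the same determinant and type differ by an inner automorphism -/
theorem exists_conj_mul (hF : Fintype.card F = 9) {M N : M4 F} (hM : st M * M = 1) (hN : st N * N = 1)
    (ε : Bool) (h : N.det = M.det) :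
    ∃ k : PSU 4 F 3, MulAut.conj k * sa hF M hM ε = sa hF N hN ε := by
  have hMi : st (st M) * st M = 1 := by
    have h9 : ∀ x : F, x ^ 9 = x := fun x => by rw [← hF]; exact FiniteField.pow_card x
    rw [st_st h9, mul_st hM]
  have hu := un_mul hN hMi
  have hd : (N * st M).det = 1 := by
    rw [det_mul, h, ← det_mul, mul_st hM, det_one]
  refine ⟨pr 4 F 3 (mkSU (N * st M) hd (herm_of_st hu)), ?_⟩
  rw [conj_eq hF, sa_mul]
  have e : N = mat (mkSU (N * st M) hd (herm_of_st hu)) * tw false M := by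
    rw [mat_mkSU, tw_false, mul_assoc, hM, mul_one]
  have h1 : (xor false ε) = ε := by cases ε <;> rfl
  have h2 := sa_congr hF (un_mul (st_mat (mkSU (N * st M) hd (herm_of_st hu))) (un_tw false hM)) hN ε e
  rw [← h2]
  congr 1

end Cfsg.Agent.OddHalf.D6.QThree.U43Aut
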