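import Cfsg.Agent.OddHalf.D6.QThree.U43AutRef

/-!
# ODD half, D6, `q = 3`: `U₄(3)`, the semilinear involutions (helper218)

`exists_good`: every coset `K β`, `β` semilinear, contains an involution `α` with the property `GoodK`.
-/

set_option autoImplicit false
set_option linter.unusedSectionVars false
set_option linter.unusedTactic false
set_option linter.unreachableTactic false

namespace Cfsg.Agent.OddHalf.D6.QThree.U43AutGood

open Matrix Cfsg.Agent.OddHalf.D6.QThree.U43Aut Cfsg.Agent.OddHalf.D6.QThree.U43AutRef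
open Cfsg Cfsg.Agent.OddHalf.Small.U43Mat Cfsg.Agent.OddHalf.Small.U43Good
open Cfsg.Agent.LieClassical.HermSiegel Cfsg.Agent.LieClassical.SUBasic
open Cfsg.Agent.ClassicalGeometry.UnitAutBasic (pr pr_surjective)
open Cfsg.Agent.ClassicalGeometry.PSUAutCount Cfsg.Agent.ClassicalGeometry.PSUAutMain
open Cfsg.Agent.OddHalf.D6.QThree.U43Elt Cfsg.Agent.OddHalf.D6.QThree.U43Plus
open scoped commutatorElement

/-- the fixed points of an automorphism -/
def fixS {K : Type*} [Group K] (α : MulAut K) : Subgroup K where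
  carrier := {x | α x = x}
  one_mem' := map_one α
  mul_mem' := fun {x y} hx hy => by
    show α (x * y) = x * y
    rw [map_mul, show α x = x from hx, show α y = y from hy]
  inv_mem' := fun {x} hx => by
    show α x⁻¹ = x⁻¹
    rw [map_inv, show α x = x from hx]

theorem mem_fixS {K : Type*} [Group K] {α : MulAut K} {x : K} : x ∈ fixS α ↔ α x = x := Iff.rfl

/-- `α` an involutory automorphism, `S` a Sylow 2-subgroup of `C_K(α)`, `v` its central involution, `p ∈ K` with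
`α ^ p = α v`: only `1, v, α, α v` commute with `α` and `S` -/
structure GoodK {K : Type*} [Group K] (α : MulAut K) (v p : K) (S : Subgroup K) : Prop where
  aa : α * α = 1
  vv : v * v = 1
  v1 : v ≠ 1
  vc : v ∈ ⁅fixS α, fixS α⁆
  py : MulAut.conj p * α = α * MulAut.conj v * MulAut.conj p
  pv : p * v = v * p
  Sf : ∀ s ∈ S, α s = s
  pS : IsPGroup 2 S
  max : ∀ P : Subgroup K, IsPGroup 2 P → S ≤ P → (∀ x ∈ P, α x = x) → P ≤ S
  vS : v ∈ S
  vs : ∀ s ∈ S, s * v = v * s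
  cen : ∀ β : MulAut K, β * α = α * β → (∀ s ∈ S, β s = s) →
    β = 1 ∨ β = MulAut.conj v ∨ β = α ∨ β = α * MulAut.conj v

/-- from a smaller 2-group `S₀` -/
theorem good_of {K : Type*} [Group K] [Finite K] {α : MulAut K} {v p : K} {S₀ : Subgroup K}
    (hinj : ∀ x y : K, MulAut.conj x = MulAut.conj y → x = y) (hni : ∀ x : K, MulAut.conj x ≠ α)
    (aa : α * α = 1) (vv : v * v = 1) (v1 : v ≠ 1) (vc : v ∈ ⁅fixS α, fixS α⁆)
    (py : MulAut.conj p * α = α * MulAut.conj v * MulAut.conj p) (pv : p * v = v * p)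
    (Sf : ∀ s ∈ S₀, α s = s) (pS : IsPGroup 2 S₀) (vS : v ∈ S₀)
    (cen : ∀ β : MulAut K, β * α = α * β → (∀ s ∈ S₀, β s = s) →
      β = 1 ∨ β = MulAut.conj v ∨ β = α ∨ β = α * MulAut.conj v) :
    ∃ S, S₀ ≤ S ∧ GoodK α v p S := by
  have hfp : Fact (Nat.Prime 2) := ⟨Nat.prime_two⟩
  have hle : S₀ ≤ fixS α := fun x hx => Sf x hx
  have p1 : IsPGroup 2 (S₀.subgroupOf (fixS α)) := pS.comap_of_injective _ (Subgroup.subtype_injective _)
  obtain ⟨T, hT⟩ := p1.exists_le_sylow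
  set S : Subgroup K := (T : Subgroup (fixS α)).map (fixS α).subtype with hS
  have hS₀ : S₀ ≤ S := by
    intro x hx
    exact ⟨⟨x, hle hx⟩, hT (Subgroup.mem_subgroupOf.2 hx), rfl⟩
  have hSf : ∀ s ∈ S, α s = s := by
    rintro _ ⟨x, -, rfl⟩
    exact x.2
  have hpS : IsPGroup 2 S := T.isPGroup'.map _
  have hmax : ∀ P : Subgroup K, IsPGroup 2 P → S ≤ P → (∀ x ∈ P, α x = x) → P ≤ S := by
    intro P hP hSP hPf x hx
    have q1 : IsPGroup 2 (P.subgroupOf (fixS α)) := hP.comap_of_injective _ (Subgroup.subtype_injective _)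
    have q2 : (T : Subgroup (fixS α)) ≤ P.subgroupOf (fixS α) := by
      intro y hy
      exact Subgroup.mem_subgroupOf.2 (hSP ⟨y, hy, rfl⟩)
    have q3 := T.is_maximal' q1 q2
    have q4 : (⟨x, hPf x hx⟩ : fixS α) ∈ P.subgroupOf (fixS α) := Subgroup.mem_subgroupOf.2 hx
    rw [q3] at q4
    exact ⟨_, q4, rfl⟩
  have hcen : ∀ β : MulAut K, β * α = α * β → (∀ s ∈ S, β s = s) →
      β = 1 ∨ β = MulAut.conj v ∨ β = α ∨ β = α * MulAut.conj v :=
    fun β h1 h2 => cen β h1 fun s hs => h2 s (hS₀ hs)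
  have hvs : ∀ s ∈ S, s * v = v * s := by
    have hnt : Nontrivial S := ⟨⟨⟨v, hS₀ vS⟩, 1, fun h => v1 (congrArg Subtype.val h)⟩⟩
    have hc := hpS.center_nontrivial
    obtain ⟨w, hw⟩ := exists_ne (1 : Subgroup.center S)
    obtain ⟨u, hu⟩ : ∃ u : K, u = ((w : S) : K) := ⟨_, rfl⟩
    have hu1 : u ≠ 1 := fun h => hw (Subtype.ext (Subtype.ext (hu.symm.trans h)))
    have hwc : ∀ x ∈ S, x * u = u * x := by
      intro x hx
      have h1 := Subgroup.mem_center_iff.1 w.2 ⟨x, hx⟩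
      have h2 := congrArg Subtype.val h1
      rw [hu]
      exact h2
    have hαu : α u = u := hSf u (by rw [hu]; exact (w : S).2)
    have h1 : MulAut.conj u * α = α * MulAut.conj u := by
      ext x
      rw [MulAut.mul_apply, MulAut.mul_apply, MulAut.conj_apply, MulAut.conj_apply, map_mul, map_mul,
        map_inv, hαu]
    rcases hcen _ h1 (fun s hs => by rw [MulAut.conj_apply, ← hwc s hs, mul_inv_cancel_right]) with
      h2 | h2 | h2 | h2
    · exact (hu1 (hinj _ _ (h2.trans (map_one _).symm))).elim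
    · rw [hinj _ _ h2] at hwc
      exact hwc
    · exact (hni _ h2).elim
    · exfalso
      apply hni (u * v⁻¹)
      rw [map_mul, h2, map_inv, mul_inv_cancel_right]
  exact ⟨S, hS₀, aa, vv, v1, vc, py, pv, hSf, hpS, hmax, hS₀ vS, hvs, hcen⟩

variable {F : Type*} [Field F] [CharP F 3] [Fintype F]

theorem not_inner (hF : Fintype.card F = 9) {α : MulAut (PSU 4 F 3)} (h : sgn hF α = -1) (x : PSU 4 F 3) :
    MulAut.conj x ≠ α := by
  rintro rfl
  rw [sgn_conj] at h
  exact absurd h (by decide)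

/-! ### The reflections -/

section refl

variable {a : F} (ha : a ^ 2 = -1)

theorem ref_yy_conj (hF : Fintype.card F = 9) {b : F} (hb : b ^ 4 = 1) :
    MulAut.conj (pr 4 F 3 (yy a ha)) * ref hF b hb =
      ref hF b hb * MulAut.conj (pr 4 F 3 d) * MulAut.conj (pr 4 F 3 (yy a ha)) := by
  rw [conj_eq hF, conj_eq hF]
  unfold ref
  rw [sa_mul, sa_mul, sa_mul]
  refine (sa_smul hF _ _ true (c := a) ?_).symm
  rw [tw_false, m_yy, m_d]
  ext i j
  rw [Matrix.smul_apply, mul_apply, mul_apply, Fin.sum_univ_four, Fin.sum_univ_four]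
  fin_cases i <;> fin_cases j <;> simp [rr, tw, mul_apply, Fin.sum_univ_four]
  · linear_combination -(a ^ 2 - 1) * ha
  · linear_combination -b * (a ^ 2 - 1) * ha
  · ring

theorem ref_one_ss (hF : Fintype.card F = 9) (h : (1 : F) ^ 4 = 1) :
    ref hF 1 h (pr 4 F 3 ss) = pr 4 F 3 ss := by
  apply sa_of
  rw [m_ss]
  ext i j
  rw [mul_apply, mul_apply, Fin.sum_univ_four, Fin.sum_univ_four]
  fin_cases i <;> fin_cases j <;> simp [rr, tw]

theorem ref_a_ssyy (hF : Fintype.card F = 9) (h : a ^ 4 = 1) :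
    ref hF a h (pr 4 F 3 (ss * yy a ha)) = pr 4 F 3 (ss * yy a ha) := by
  apply sa_of
  rw [m_ssyy]
  have h3 := a_cube ha
  have h3' : (-a) ^ 3 = a := by linear_combination -a * ha
  ext i j
  rw [mul_apply, mul_apply, Fin.sum_univ_four, Fin.sum_univ_four]
  fin_cases i <;> fin_cases j <;> simp [rr, tw, h3, h3']
  · linear_combination -ha
  · linear_combination -ha

/-- `z = [i, j]` -/
theorem z_comm (hF : Fintype.card F = 9) (α : MulAut (PSU 4 F 3)) (h : ∀ x ∈ QQ hF, α x = x) :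
    pr 4 F 3 d ∈ ⁅fixS α, fixS α⁆ := by
  obtain ⟨a, ha⟩ := exists_a hF
  have e : pr 4 F 3 (i1 a ha) ∈ QQ hF ∧ pr 4 F 3 j1 ∈ QQ hF := by
    rw [gen hF ha]
    exact ⟨Subgroup.subset_closure (by simp), Subgroup.subset_closure (by simp)⟩
  have h1 : ⁅pr 4 F 3 j1, pr 4 F 3 (i1 a ha)⁆ = pr 4 F 3 (d : SU 4 F 3) := by
    have h2 : pr 4 F 3 j1 * pr 4 F 3 (i1 a ha) = pr 4 F 3 (i1 a ha) * pr 4 F 3 j1 * pr 4 F 3 d := by
      rw [← map_mul, ← map_mul, ← map_mul]
      exact pr_eq_of_mat (e_ji ha)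
    have h3 : pr 4 F 3 (i1 a ha) * pr 4 F 3 j1 * pr 4 F 3 d = pr 4 F 3 d * (pr 4 F 3 (i1 a ha) * pr 4 F 3 j1) := by
      have P := plus hF ha
      exact P.large.comm_z _ (mul_mem e.1 e.2)
    rw [commutatorElement_def, h2, h3]
    group
  rw [← h1]
  exact Subgroup.commutator_mem_commutator (h _ e.2) (h _ e.1)

theorem ref_mul_d (hF : Fintype.card F = 9) {b : F} (hb : b ^ 4 = 1) :
    ref hF b hb * MulAut.conj (pr 4 F 3 d) = ref hF (-b) (neg_pow4 hb) := by
  have h1 : (-1 : F) ^ 4 = 1 := by norm_num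
  rw [← del_neg hF h1, ref_mul_del]
  exact sa_congr hF _ _ _ (by rw [show b * (-1) ^ 3 = -b by ring])

theorem good_ref (hF : Fintype.card F = 9) {b : F} (hb : b ^ 4 = 1) {s : PSU 4 F 3} {n : ℕ}
    (hn : s ^ 2 ^ n = 1) (hs : s * pr 4 F 3 d = pr 4 F 3 d * s) (hbs : ref hF b hb s = s)
    (h1 : ∀ c (hc : c ^ 4 = 1), del hF c hc s = s → c ^ 2 = 1)
    (h2 : ∀ c (hc : c ^ 4 = 1), ref hF c hc s = s → c = b ∨ c = -b) :
    ∃ S, QQ hF ≤ S ∧ s ∈ S ∧ GoodK (ref hF b hb) (pr 4 F 3 d) (pr 4 F 3 (yy a ha)) S := by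
  have hfin : Finite (PSU 4 F 3) := inferInstance
  have hp : IsPGroup 2 (Subgroup.zpowers s ⊔ QQ hF : Subgroup (PSU 4 F 3)) :=
    pg_step (isPGroup_QQ hF) hn (fun h hh => U43Plus.conj hF _ hs h hh)
  have hfix : (Subgroup.zpowers s ⊔ QQ hF : Subgroup (PSU 4 F 3)) ≤ fixS (ref hF b hb) := by
    refine sup_le ?_ ?_
    · rw [Subgroup.zpowers_le]; exact hbs
    · exact fun x hx => ref_fix_Q hF hb hx
  obtain ⟨S, hS, hg⟩ := good_of (α := ref hF b hb) (v := pr 4 F 3 d) (p := pr 4 F 3 (yy a ha))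
    (S₀ := Subgroup.zpowers s ⊔ QQ hF) (fun x y h => conj_inj hF h)
    (fun x => not_inner hF (sgn_ref hF b hb) x) (ref_sq hF hb) d_sq (d_ne hF)
    (z_comm hF _ (fun x hx => ref_fix_Q hF hb hx)) (ref_yy_conj ha hF hb) (yy_d hF ha)
    (fun x hx => hfix hx) hp ((le_sup_right : QQ hF ≤ _) (d_mem hF)) (by
      intro β _ hβ
      have hβs : β s = s := hβ s ((le_sup_left : Subgroup.zpowers s ≤ _) (Subgroup.mem_zpowers s))
      obtain ⟨c, hc, rfl | rfl⟩ := cent_Q hF β (fun x hx => hβ x ((le_sup_right : QQ hF ≤ _) hx))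
      · rcases del_sq hF hc (h1 c hc hβs) with h | h
        · exact Or.inl h
        · exact Or.inr (Or.inl h)
      · rcases h2 c hc hβs with h | h
        · subst h
          exact Or.inr (Or.inr (Or.inl rfl))
        · subst h
          exact Or.inr (Or.inr (Or.inr (ref_mul_d hF hb).symm)))
  exact ⟨S, le_sup_right.trans hS, hS ((le_sup_left : Subgroup.zpowers s ≤ _) (Subgroup.mem_zpowers s)), hg⟩

/-- the coset of determinant `1` -/
theorem good_one (hF : Fintype.card F = 9) (h : (1 : F) ^ 4 = 1) :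
    ∃ S, QQ hF ≤ S ∧ pr 4 F 3 ss ∈ S ∧ GoodK (ref hF 1 h) (pr 4 F 3 d) (pr 4 F 3 (yy a ha)) S :=
  good_ref ha hF h (n := 1) (by
    show pr 4 F 3 ss ^ 2 = 1
    rw [pow_two, ← map_mul, ss_sq, map_one]) (ss_d hF) (ref_one_ss hF h) (fun c hc => del_ss hF hc)
    (fun c hc h1 => sq_one (ref_ss hF hc h1))

theorem ssyy_sq : (ss * yy a ha) * (ss * yy a ha) = 1 := by
  apply mat_injective
  rw [mat_mul, mat_one, m_ssyy]
  ext i j
  rw [mul_apply, Fin.sum_univ_four]
  fin_cases i <;> fin_cases j <;> simp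
  · linear_combination -ha
  · linear_combination -ha

/-- the coset of determinant `-1` -/
theorem good_a (hF : Fintype.card F = 9) (h : a ^ 4 = 1) :
    ∃ S, QQ hF ≤ S ∧ pr 4 F 3 (ss * yy a ha) ∈ S ∧
      GoodK (ref hF a h) (pr 4 F 3 d) (pr 4 F 3 (yy a ha)) S :=
  good_ref ha hF h (n := 1) (by
    show pr 4 F 3 (ss * yy a ha) ^ 2 = 1
    rw [pow_two, ← map_mul, ssyy_sq, map_one]) (by
    rw [map_mul, mul_assoc, yy_d hF ha, ← mul_assoc, ss_d hF, mul_assoc]) (ref_a_ssyy ha hF h)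
    (fun c hc => del_ssyy ha hF hc) (fun c hc h1 => sq_neg_one ha (ref_ssyy ha hF hc h1))

end refl

/-! ### The involutions `diag(1, 1, 1, a) φ` -/

section sim

variable {a : F} (ha : a ^ 2 = -1)

/-- `diag(1, -1, -1, 1)` -/
def dq : SU 4 F 3 := suDiag 3 ![1, -1, -1, 1] (by simp [Fin.prod_univ_four]) (by
  intro i; fin_cases i <;> norm_num)

theorem m_dq : mat (dq : SU 4 F 3) = !![1, 0, 0, 0; 0, -1, 0, 0; 0, 0, -1, 0; 0, 0, 0, 1] := by
  ext i j; fin_cases i <;> fin_cases j <;> rfl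

/-- the transposition of the first two coordinates -/
def wq : SU 4 F 3 := mkSU !![0, 1, 0, 0; 1, 0, 0, 0; 0, 0, -1, 0; 0, 0, 0, 1]
  (by simp [det_succ_row_zero, Fin.sum_univ_succ, Fin.succAbove]) (by
    intro u v
    simp only [hermForm_apply, Fin.sum_univ_four]
    simp [mulVec, dotProduct, Fin.sum_univ_four]
    ring)

theorem m_wq : mat (wq : SU 4 F 3) = !![0, 1, 0, 0; 1, 0, 0, 0; 0, 0, -1, 0; 0, 0, 0, 1] := rfl

include ha in
theorem un_gq : st !![1 + a, 1 + a, 0, 0; 1 + a, -(1 + a), 0, 0; 0, 0, 0, 1; 0, 0, -a, 0] *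
    !![1 + a, 1 + a, 0, 0; 1 + a, -(1 + a), 0, 0; 0, 0, 0, 1; 0, 0, -a, 0] = 1 := by
  have h3 : (3 : F) = 0 := three
  ext i j
  rw [mul_apply, Fin.sum_univ_four, st_apply, st_apply, st_apply, st_apply]
  fin_cases i <;> fin_cases j <;> simp
  · linear_combination (8 + 8 * a + 2 * (a ^ 2 + 1)) * ha - 3 * h3
  · ring
  · ring
  · linear_combination (8 + 8 * a + 2 * (a ^ 2 + 1)) * ha - 3 * h3
  · linear_combination (a ^ 2 - 1) * ha

include ha in
theorem det_gq : (!![1 + a, 1 + a, 0, 0; 1 + a, -(1 + a), 0, 0; 0, 0, 0, 1; 0, 0, -a, 0] : M4 F).det = 1 := by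
  have h3 : (3 : F) = 0 := three
  simp [det_succ_row_zero, Fin.sum_univ_succ, Fin.succAbove]
  linear_combination (-4 - 2 * a) * ha + h3

/-- an element with square `z` exchanging `dq z` and `wq` -/
def gq : SU 4 F 3 := mkSU !![1 + a, 1 + a, 0, 0; 1 + a, -(1 + a), 0, 0; 0, 0, 0, 1; 0, 0, -a, 0]
  (det_gq ha) (herm_of_st (un_gq ha))

theorem m_gq : mat (gq ha) = !![1 + a, 1 + a, 0, 0; 1 + a, -(1 + a), 0, 0; 0, 0, 0, 1; 0, 0, -a, 0] := rfl

/-- the matrix of the involution -/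
def aq (a : F) : M4 F := diagonal ![1, 1, 1, a]

include ha in
theorem un_aq : st (aq a) * aq a = 1 := un_diag (by
  have h4 := a_pow ha
  intro i; fin_cases i <;> simp [h4])

theorem det_aq (a : F) : (aq a).det = a := by
  unfold aq
  rw [det_diagonal, Fin.prod_univ_four]
  simp

/-- the involution `diag(1, 1, 1, a) φ` -/
noncomputable def sim (hF : Fintype.card F = 9) : MulAut (PSU 4 F 3) := sa hF (aq a) (un_aq ha) true

theorem sgn_sim (hF : Fintype.card F = 9) : sgn hF (sim ha hF) = -1 := sgn_sa _ _ _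

theorem sim_sq (hF : Fintype.card F = 9) : sim ha hF * sim ha hF = 1 := by
  unfold sim
  rw [sa_mul]
  refine sa_one hF _ (c := 1) ?_
  have h4 : a * a ^ 3 = 1 := by linear_combination a_pow ha
  rw [one_smul]
  ext i j
  rw [mul_apply, Fin.sum_univ_four]
  fin_cases i <;> fin_cases j <;> simp [aq, tw, h4]

theorem sim_dq (hF : Fintype.card F = 9) : sim ha hF (pr 4 F 3 dq) = pr 4 F 3 dq := by
  apply sa_of
  rw [m_dq]
  ext i j
  rw [mul_apply, mul_apply, Fin.sum_univ_four, Fin.sum_univ_four]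
  fin_cases i <;> fin_cases j <;> simp [aq, tw] <;> ring

theorem sim_wq (hF : Fintype.card F = 9) : sim ha hF (pr 4 F 3 wq) = pr 4 F 3 wq := by
  apply sa_of
  rw [m_wq]
  ext i j
  rw [mul_apply, mul_apply, Fin.sum_univ_four, Fin.sum_univ_four]
  fin_cases i <;> fin_cases j <;> simp [aq, tw] <;> ring

theorem sim_gq (hF : Fintype.card F = 9) : sim ha hF (pr 4 F 3 (gq ha)) = pr 4 F 3 (gq ha) := by
  refine (sa_iff hF _ _ _ _).2 ⟨-a, neg_pow4 (a_pow ha), ?_⟩
  have h3 : (3 : F) = 0 := three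
  rw [m_gq]
  ext i j
  rw [Matrix.smul_apply, mul_apply, mul_apply, Fin.sum_univ_four, Fin.sum_univ_four]
  fin_cases i <;> fin_cases j <;> simp [aq, tw]
  · linear_combination (a + 4) * ha + (a - 1) * h3
  · linear_combination (a + 4) * ha + (a - 1) * h3
  · linear_combination (a + 4) * ha + (a - 1) * h3
  · linear_combination -(a + 4) * ha - (a - 1) * h3
  · linear_combination ha
  · left; linear_combination -a * ha

theorem sim_i2 (hF : Fintype.card F = 9) :
    MulAut.conj (pr 4 F 3 (i2 a ha)) * sim ha hF =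
      sim ha hF * MulAut.conj (pr 4 F 3 d) * MulAut.conj (pr 4 F 3 (i2 a ha)) := by
  rw [conj_eq hF, conj_eq hF]
  unfold sim
  rw [sa_mul, sa_mul, sa_mul]
  refine (sa_smul hF _ _ true (c := 1) ?_).symm
  rw [tw_false, m_i2, m_d]
  ext i j
  rw [Matrix.smul_apply, mul_apply, mul_apply, Fin.sum_univ_four, Fin.sum_univ_four]
  fin_cases i <;> fin_cases j <;> simp [aq, tw, mul_apply, Fin.sum_univ_four]
  · linear_combination a * ha
  · linear_combination -a ^ 2 * ha

/-! relations between `dq`, `wq`, `gq` -/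

theorem dq_sq : (dq : SU 4 F 3) * dq = 1 := by
  apply mat_injective
  rw [mat_mul, mat_one, m_dq]
  ext i j
  rw [mul_apply, Fin.sum_univ_four]
  fin_cases i <;> fin_cases j <;> simp

theorem wq_sq : (wq : SU 4 F 3) * wq = 1 := by
  apply mat_injective
  rw [mat_mul, mat_one, m_wq]
  ext i j
  rw [mul_apply, Fin.sum_univ_four]
  fin_cases i <;> fin_cases j <;> simp

/-- `w q = z q w` -/
theorem wq_dq : pr 4 F 3 (wq : SU 4 F 3) * pr 4 F 3 dq = pr 4 F 3 dq * pr 4 F 3 d * pr 4 F 3 wq := by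
  rw [← map_mul, ← map_mul, ← map_mul]
  refine pr_eq_of_mat (c := -1) ?_
  rw [mat_mul, mat_mul, mat_mul, m_wq, m_dq, m_d]
  ext i j
  rw [Matrix.smul_apply, mul_apply, mul_apply, Fin.sum_univ_four, Fin.sum_univ_four]
  fin_cases i <;> fin_cases j <;> simp [mul_apply, Fin.sum_univ_four]

theorem dq_d : pr 4 F 3 (dq : SU 4 F 3) * pr 4 F 3 d = pr 4 F 3 d * pr 4 F 3 dq := by
  rw [← map_mul, ← map_mul]
  congr 1
  apply mat_injective
  rw [mat_mul, mat_mul, m_dq, m_d]
  ext i j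
  rw [mul_apply, mul_apply, Fin.sum_univ_four, Fin.sum_univ_four]
  fin_cases i <;> fin_cases j <;> simp

theorem wq_d : pr 4 F 3 (wq : SU 4 F 3) * pr 4 F 3 d = pr 4 F 3 d * pr 4 F 3 wq := by
  rw [← map_mul, ← map_mul]
  congr 1
  apply mat_injective
  rw [mat_mul, mat_mul, m_wq, m_d]
  ext i j
  rw [mul_apply, mul_apply, Fin.sum_univ_four, Fin.sum_univ_four]
  fin_cases i <;> fin_cases j <;> simp

theorem gq_d : pr 4 F 3 (gq ha) * pr 4 F 3 d = pr 4 F 3 d * pr 4 F 3 (gq ha) := by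
  rw [← map_mul, ← map_mul]
  congr 1
  apply mat_injective
  rw [mat_mul, mat_mul, m_gq, m_d]
  ext i j
  rw [mul_apply, mul_apply, Fin.sum_univ_four, Fin.sum_univ_four]
  fin_cases i <;> fin_cases j <;> simp

theorem gq_dq : pr 4 F 3 (gq ha) * pr 4 F 3 dq = pr 4 F 3 wq * pr 4 F 3 d * pr 4 F 3 (gq ha) := by
  rw [← map_mul, ← map_mul, ← map_mul]
  congr 1
  apply mat_injective
  rw [mat_mul, mat_mul, mat_mul, m_gq, m_dq, m_wq, m_d]
  ext i j
  rw [mul_apply, mul_apply, Fin.sum_univ_four, Fin.sum_univ_four]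
  fin_cases i <;> fin_cases j <;> simp [mul_apply, Fin.sum_univ_four]

theorem gq_wq : pr 4 F 3 (gq ha) * pr 4 F 3 wq = pr 4 F 3 dq * pr 4 F 3 d * pr 4 F 3 (gq ha) := by
  rw [← map_mul, ← map_mul, ← map_mul]
  congr 1
  apply mat_injective
  rw [mat_mul, mat_mul, mat_mul, m_gq, m_dq, m_wq, m_d]
  ext i j
  rw [mul_apply, mul_apply, Fin.sum_univ_four, Fin.sum_univ_four]
  fin_cases i <;> fin_cases j <;> simp [mul_apply, Fin.sum_univ_four]

theorem gq_sq : pr 4 F 3 (gq ha) * pr 4 F 3 (gq ha) = pr 4 F 3 d := by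
  rw [← map_mul]
  refine (pr_eq_of_mat (c := a) ?_).symm
  rw [mat_mul, m_gq, m_d]
  have h3 : (3 : F) = 0 := three
  ext i j
  rw [Matrix.smul_apply, mul_apply, Fin.sum_univ_four]
  fin_cases i <;> fin_cases j <;> simp
  · linear_combination 2 * ha + a * h3
  · ring
  · ring
  · linear_combination 2 * ha + a * h3

/-- the 2-group generated by `gq`, `wq`, `dq`, `z` -/
def S₀ : Subgroup (PSU 4 F 3) := Subgroup.zpowers (pr 4 F 3 (gq ha)) ⊔ (Subgroup.zpowers (pr 4 F 3 wq) ⊔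
  (Subgroup.zpowers (pr 4 F 3 dq) ⊔ Subgroup.zpowers (pr 4 F 3 d)))

theorem mem_S₀ : pr 4 F 3 (gq ha) ∈ S₀ ha ∧ pr 4 F 3 wq ∈ S₀ ha ∧ pr 4 F 3 dq ∈ S₀ ha ∧ pr 4 F 3 d ∈ S₀ ha := by
  refine ⟨(le_sup_left : Subgroup.zpowers _ ≤ _) (Subgroup.mem_zpowers _), ?_, ?_, ?_⟩
  · exact (le_sup_right : _ ≤ S₀ ha) ((le_sup_left : Subgroup.zpowers _ ≤ _) (Subgroup.mem_zpowers _))
  · exact (le_sup_right : _ ≤ S₀ ha) ((le_sup_right : _ ≤ Subgroup.zpowers (pr 4 F 3 wq) ⊔
      (Subgroup.zpowers (pr 4 F 3 dq) ⊔ Subgroup.zpowers (pr 4 F 3 d)))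
      ((le_sup_left : Subgroup.zpowers _ ≤ _) (Subgroup.mem_zpowers _)))
  · exact (le_sup_right : _ ≤ S₀ ha) ((le_sup_right : _ ≤ Subgroup.zpowers (pr 4 F 3 wq) ⊔
      (Subgroup.zpowers (pr 4 F 3 dq) ⊔ Subgroup.zpowers (pr 4 F 3 d)))
      ((le_sup_right : Subgroup.zpowers _ ≤ _) (Subgroup.mem_zpowers _)))

theorem conj_of_eq {x y w : PSU 4 F 3} (h : x * y = w * x) : x * y * x⁻¹ = w := by
  rw [h, mul_inv_cancel_right]

theorem isPGroup_S₀ : IsPGroup 2 (S₀ ha) := by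
  have hfin : Finite (PSU 4 F 3) := inferInstance
  have p0 : IsPGroup 2 (Subgroup.zpowers (pr 4 F 3 (d : SU 4 F 3))) := by
    have h1 : orderOf (pr 4 F 3 (d : SU 4 F 3)) ∣ 2 ^ 1 := by
      apply orderOf_dvd_of_pow_eq_one
      rw [pow_one, pow_two, d_sq]
    obtain ⟨m, -, hm⟩ := (Nat.dvd_prime_pow Nat.prime_two).1 h1
    exact IsPGroup.of_card (n := m) (by rw [Nat.card_zpowers, hm])
  have m0 : pr 4 F 3 (d : SU 4 F 3) ∈ Subgroup.zpowers (pr 4 F 3 (d : SU 4 F 3)) := Subgroup.mem_zpowers _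
  have cz : ∀ (x : PSU 4 F 3), x * pr 4 F 3 d = pr 4 F 3 d * x →
      (Subgroup.zpowers (pr 4 F 3 (d : SU 4 F 3))).map (MulAut.conj x).toMonoidHom ≤
        Subgroup.zpowers (pr 4 F 3 (d : SU 4 F 3)) := by
    intro x hx
    rw [MonoidHom.map_zpowers, Subgroup.zpowers_le]
    show x * pr 4 F 3 d * x⁻¹ ∈ _
    rw [conj_of_eq hx]
    exact m0
  have p1 : IsPGroup 2 (Subgroup.zpowers (pr 4 F 3 dq) ⊔ Subgroup.zpowers (pr 4 F 3 (d : SU 4 F 3)) :
      Subgroup (PSU 4 F 3)) :=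
    pg_step p0 (n := 1) (by
      show pr 4 F 3 dq ^ 2 = 1
      rw [pow_two, ← map_mul, dq_sq, map_one]) (fun h hh => cz _ dq_d ⟨h, hh, rfl⟩)
  have m1 : pr 4 F 3 (d : SU 4 F 3) ∈ (Subgroup.zpowers (pr 4 F 3 dq) ⊔
      Subgroup.zpowers (pr 4 F 3 (d : SU 4 F 3)) : Subgroup (PSU 4 F 3)) :=
    (le_sup_right : Subgroup.zpowers _ ≤ _) m0
  have m2 : pr 4 F 3 (dq : SU 4 F 3) ∈ (Subgroup.zpowers (pr 4 F 3 dq) ⊔
      Subgroup.zpowers (pr 4 F 3 (d : SU 4 F 3)) : Subgroup (PSU 4 F 3)) :=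
    (le_sup_left : Subgroup.zpowers _ ≤ _) (Subgroup.mem_zpowers _)
  have p2 : IsPGroup 2 (Subgroup.zpowers (pr 4 F 3 wq) ⊔ (Subgroup.zpowers (pr 4 F 3 dq) ⊔
      Subgroup.zpowers (pr 4 F 3 (d : SU 4 F 3))) : Subgroup (PSU 4 F 3)) := by
    refine pg_step p1 (n := 1) (by
      show pr 4 F 3 wq ^ 2 = 1
      rw [pow_two, ← map_mul, wq_sq, map_one]) ?_
    have hle : (Subgroup.zpowers (pr 4 F 3 dq) ⊔ Subgroup.zpowers (pr 4 F 3 (d : SU 4 F 3))).map
        (MulAut.conj (pr 4 F 3 (wq : SU 4 F 3))).toMonoidHom ≤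
        Subgroup.zpowers (pr 4 F 3 dq) ⊔ Subgroup.zpowers (pr 4 F 3 (d : SU 4 F 3)) := by
      rw [Subgroup.map_sup]
      refine sup_le ?_ ((cz _ wq_d).trans le_sup_right)
      rw [MonoidHom.map_zpowers, Subgroup.zpowers_le]
      show pr 4 F 3 wq * pr 4 F 3 dq * (pr 4 F 3 wq)⁻¹ ∈ _
      rw [conj_of_eq wq_dq]
      exact mul_mem m2 m1
    exact fun h hh => hle ⟨h, hh, rfl⟩
  refine pg_step p2 (n := 2) (by
    show pr 4 F 3 (gq ha) ^ 4 = 1
    have e : ∀ x : PSU 4 F 3, x ^ 4 = (x * x) * (x * x) := fun x => by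
      simp only [pow_succ, pow_zero, one_mul, mul_assoc]
    rw [e, gq_sq, d_sq]) ?_
  have n1 : pr 4 F 3 (d : SU 4 F 3) ∈ (Subgroup.zpowers (pr 4 F 3 wq) ⊔ (Subgroup.zpowers (pr 4 F 3 dq) ⊔
      Subgroup.zpowers (pr 4 F 3 (d : SU 4 F 3))) : Subgroup (PSU 4 F 3)) :=
    Subgroup.mem_sup_right m1
  have n2 : pr 4 F 3 (dq : SU 4 F 3) ∈ (Subgroup.zpowers (pr 4 F 3 wq) ⊔ (Subgroup.zpowers (pr 4 F 3 dq) ⊔
      Subgroup.zpowers (pr 4 F 3 (d : SU 4 F 3))) : Subgroup (PSU 4 F 3)) :=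
    Subgroup.mem_sup_right m2
  have n3 : pr 4 F 3 (wq : SU 4 F 3) ∈ (Subgroup.zpowers (pr 4 F 3 wq) ⊔ (Subgroup.zpowers (pr 4 F 3 dq) ⊔
      Subgroup.zpowers (pr 4 F 3 (d : SU 4 F 3))) : Subgroup (PSU 4 F 3)) :=
    Subgroup.mem_sup_left (Subgroup.mem_zpowers _)
  have hle : (Subgroup.zpowers (pr 4 F 3 wq) ⊔ (Subgroup.zpowers (pr 4 F 3 dq) ⊔
      Subgroup.zpowers (pr 4 F 3 (d : SU 4 F 3)))).map (MulAut.conj (pr 4 F 3 (gq ha))).toMonoidHom ≤
      Subgroup.zpowers (pr 4 F 3 wq) ⊔ (Subgroup.zpowers (pr 4 F 3 dq) ⊔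
      Subgroup.zpowers (pr 4 F 3 (d : SU 4 F 3))) := by
    rw [Subgroup.map_sup, Subgroup.map_sup]
    refine sup_le ?_ (sup_le ?_ (((cz _ (gq_d ha)).trans le_sup_right).trans le_sup_right))
    · rw [MonoidHom.map_zpowers, Subgroup.zpowers_le]
      show pr 4 F 3 (gq ha) * pr 4 F 3 wq * (pr 4 F 3 (gq ha))⁻¹ ∈ _
      rw [conj_of_eq (gq_wq ha)]
      exact mul_mem n2 n1
    · rw [MonoidHom.map_zpowers, Subgroup.zpowers_le]
      show pr 4 F 3 (gq ha) * pr 4 F 3 dq * (pr 4 F 3 (gq ha))⁻¹ ∈ _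
      rw [conj_of_eq (gq_dq ha)]
      exact mul_mem n3 n1
  exact fun h hh => hle ⟨h, hh, rfl⟩

theorem S₀_fix (hF : Fintype.card F = 9) : S₀ ha ≤ fixS (sim ha hF) := by
  have hz : sim ha hF (pr 4 F 3 d) = pr 4 F 3 d := by
    have h1 := gq_sq ha
    rw [← h1, map_mul, sim_gq]
  refine sup_le ?_ (sup_le ?_ (sup_le ?_ ?_)) <;> rw [Subgroup.zpowers_le]
  · exact sim_gq ha hF
  · exact sim_wq ha hF
  · exact sim_dq ha hF
  · exact hz

theorem sim_comm (hF : Fintype.card F = 9) : pr 4 F 3 d ∈ ⁅fixS (sim ha hF), fixS (sim ha hF)⁆ := by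
  have h1 : ⁅pr 4 F 3 (wq : SU 4 F 3), pr 4 F 3 dq⁆ = pr 4 F 3 d := by
    rw [commutatorElement_def, wq_dq, dq_d]
    group
  rw [← h1]
  exact Subgroup.commutator_mem_commutator (sim_wq ha hF) (sim_dq ha hF)

/-- the linear automorphisms fixing `dq`, `wq`, `gq` and commuting with `sim` -/
theorem sim_lin (hF : Fintype.card F = 9) {M : M4 F} (hM : st M * M = 1)
    (h1 : sa hF M hM false (pr 4 F 3 dq) = pr 4 F 3 dq) (h2 : sa hF M hM false (pr 4 F 3 wq) = pr 4 F 3 wq)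
    (h3 : sa hF M hM false (pr 4 F 3 (gq ha)) = pr 4 F 3 (gq ha))
    (h4 : sa hF M hM false * sim ha hF = sim ha hF * sa hF M hM false) :
    sa hF M hM false = 1 ∨ sa hF M hM false = MulAut.conj (pr 4 F 3 d) := by
  have t3 : (3 : F) = 0 := three
  have t : ∀ {x : F}, 2 * x = 0 → x = 0 := fun h => (mul_eq_zero.1 h).resolve_left two_ne
  obtain ⟨c1, hc1, g1⟩ := (sa_iff hF _ _ _ _).1 h1
  obtain ⟨c2, hc2, g2⟩ := (sa_iff hF _ _ _ _).1 h2
  obtain ⟨c3, hc3, g3⟩ := (sa_iff hF _ _ _ _).1 h3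
  rw [tw_false] at g1 g2 g3
  have hc20 : c2 ≠ 0 := by
    rintro rfl
    exact zero_ne_one (α := F) (by linear_combination hc2)
  have e1 : ∀ k l, M k l * (![1, -1, -1, 1] : Fin 4 → F) l =
      c1 * ((![1, -1, -1, 1] : Fin 4 → F) k * M k l) := by
    intro k l
    have h := congrFun (congrFun g1 k) l
    have e : mat (dq : SU 4 F 3) = diagonal ![1, -1, -1, 1] := rfl
    rwa [e, mul_diagonal, Matrix.smul_apply, diagonal_mul] at h
  have e2 : ∀ k l, (M * mat (wq : SU 4 F 3)) k l = c2 * (mat (wq : SU 4 F 3) * M) k l :=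
    fun k l => congrFun (congrFun g2 k) l
  have e3 : ∀ k l, (M * mat (gq ha)) k l = c3 * (mat (gq ha) * M) k l :=
    fun k l => congrFun (congrFun g3 k) l
  have hu : ∀ l, M 0 l ^ 3 * M 0 l + M 1 l ^ 3 * M 1 l + M 2 l ^ 3 * M 2 l + M 3 l ^ 3 * M 3 l = 1 := by
    intro l
    have h := congrFun (congrFun hM l) l
    rw [mul_apply, Fin.sum_univ_four, one_apply_eq] at h
    exact h
  -- the equation with `sim`
  obtain ⟨k, hk, g4⟩ : ∃ k : F, k ^ 4 = 1 ∧ aq a * tw true M = k • (M * aq a) := by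
    unfold sim at h4
    rw [sa_mul, sa_mul] at h4
    obtain ⟨-, k, hk, h5⟩ := sa_inj hF _ _ h4
    rw [tw_false] at h5
    exact ⟨k, hk, h5⟩
  have e4 : ∀ i j, (![1, 1, 1, a] : Fin 4 → F) i * M i j ^ 3 = k * (M i j * (![1, 1, 1, a] : Fin 4 → F) j) := by
    intro i j
    have h := congrFun (congrFun g4 i) j
    unfold aq at h
    rw [diagonal_mul, Matrix.smul_apply, mul_diagonal] at h
    exact h
  have hcc : c1 ^ 2 = 1 := by
    by_contra hne
    have hz : ∀ i j, M i j = 0 := by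
      intro i j
      have h5 : (c1 ^ 2 - 1) * M i j = 0 := by
        have h6 := e1 i j
        have vi : (![1, -1, -1, 1] : Fin 4 → F) i ^ 2 = 1 := by fin_cases i <;> simp
        have vj : (![1, -1, -1, 1] : Fin 4 → F) j ^ 2 = 1 := by fin_cases j <;> simp
        linear_combination (-(![1, -1, -1, 1] : Fin 4 → F) j - c1 * (![1, -1, -1, 1] : Fin 4 → F) i) * h6 +
          M i j * vj - c1 ^ 2 * M i j * vi
      exact (mul_eq_zero.1 h5).resolve_left (fun h => hne (by linear_combination h))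
    have := hu 0
    rw [hz 0 0, hz 1 0, hz 2 0, hz 3 0] at this
    simp at this
  rcases sq_one hcc with rfl | rfl
  · have z01 : M 0 1 = 0 := t (by have h := e1 0 1; simp at h; linear_combination -h)
    have z02 : M 0 2 = 0 := t (by have h := e1 0 2; simp at h; linear_combination -h)
    have z10 : M 1 0 = 0 := t (by have h := e1 1 0; simp at h; linear_combination h)
    have z13 : M 1 3 = 0 := t (by have h := e1 1 3; simp at h; linear_combination h)
    have z20 : M 2 0 = 0 := t (by have h := e1 2 0; simp at h; linear_combination h)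
    have z23 : M 2 3 = 0 := t (by have h := e1 2 3; simp at h; linear_combination h)
    have z31 : M 3 1 = 0 := t (by have h := e1 3 1; simp at h; linear_combination -h)
    have z32 : M 3 2 = 0 := t (by have h := e1 3 2; simp at h; linear_combination -h)
    have z03 : M 0 3 = 0 := by
      have h := e2 0 3
      rw [m_wq, mul_apply, mul_apply, Fin.sum_univ_four, Fin.sum_univ_four] at h
      simpa [z13] using h
    have z30 : M 3 0 = 0 := by
      have h := e2 3 0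
      rw [m_wq, mul_apply, mul_apply, Fin.sum_univ_four, Fin.sum_univ_four] at h
      simpa [z31, hc20] using h
    have z12 : M 1 2 = 0 := by
      have h := e2 1 2
      rw [m_wq, mul_apply, mul_apply, Fin.sum_univ_four, Fin.sum_univ_four] at h
      simpa [z02] using h
    have z21 : M 2 1 = 0 := by
      have h := e2 2 1
      rw [m_wq, mul_apply, mul_apply, Fin.sum_univ_four, Fin.sum_univ_four] at h
      simpa [z20, hc20] using h
    have u0 : M 0 0 ^ 3 * M 0 0 = 1 := by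
      have h := hu 0
      rw [z10, z20, z30] at h
      linear_combination h
    have u2 : M 2 2 ^ 3 * M 2 2 = 1 := by
      have h := hu 2
      rw [z02, z12, z32] at h
      linear_combination h
    have u3 : M 3 3 ^ 3 * M 3 3 = 1 := by
      have h := hu 3
      rw [z03, z13, z23] at h
      linear_combination h
    have d2 : c2 = 1 := by
      have h := e2 3 3
      rw [m_wq, mul_apply, mul_apply, Fin.sum_univ_four, Fin.sum_univ_four] at h
      simp at h
      linear_combination (c2 - 1) * (-u3) - M 3 3 ^ 3 * h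
    have f01 : M 0 0 = M 1 1 := by
      have h := e2 0 1
      rw [m_wq, mul_apply, mul_apply, Fin.sum_univ_four, Fin.sum_univ_four] at h
      simpa [d2] using h
    have d3 : c3 = 1 := by
      have h := e3 0 0
      rw [m_gq, mul_apply, mul_apply, Fin.sum_univ_four, Fin.sum_univ_four] at h
      simp [z01, z02, z10] at h
      have h5 : 2 * (c3 - 1) = 0 := by
        linear_combination (c3 - 1) * ha - (c3 - 1) * (1 - a ^ 2) * u0 - (1 - a) * M 0 0 ^ 3 * h
      linear_combination t h5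
    have f23 : M 2 2 = M 3 3 := by
      have h := e3 2 3
      rw [m_gq, mul_apply, mul_apply, Fin.sum_univ_four, Fin.sum_univ_four] at h
      simpa [d3] using h
    have hb : M 2 2 ^ 2 = M 0 0 ^ 2 := by
      have k0 := e4 0 0
      have k2 := e4 2 2
      simp at k0 k2
      linear_combination -M 2 2 ^ 2 * (u0 - M 0 0 * k0) + M 0 0 ^ 2 * (u2 - M 2 2 * k2)
    have hb4 : (M 0 0 ^ 3 * M 2 2) ^ 4 = 1 :=
      p4 (p34 (by linear_combination u0)) (by linear_combination u2)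
    have he : sa hF M hM false = del hF (M 0 0 ^ 3 * M 2 2) hb4 := by
      refine (sa_smul hF (un_dd hb4) hM false (c := M 0 0) ?_).symm
      ext i j
      rw [Matrix.smul_apply, smul_eq_mul]
      fin_cases i <;> fin_cases j <;>
        simp [dd, z01, z10, z02, z03, z12, z13, z20, z21, z30, z31, z23, z32]
      · exact f01.symm
      · linear_combination -M 2 2 * u0
      · rw [← f23]; linear_combination -M 2 2 * u0
    rw [he]
    apply del_sq
    linear_combination M 0 0 ^ 6 * hb + (M 0 0 ^ 4 + 1) * u0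
  · exfalso
    have z00 : M 0 0 = 0 := t (by have h := e1 0 0; simp at h; linear_combination h)
    have z03 : M 0 3 = 0 := t (by have h := e1 0 3; simp at h; linear_combination h)
    have z11 : M 1 1 = 0 := t (by have h := e1 1 1; simp at h; linear_combination -h)
    have z12 : M 1 2 = 0 := t (by have h := e1 1 2; simp at h; linear_combination -h)
    have z21 : M 2 1 = 0 := t (by have h := e1 2 1; simp at h; linear_combination -h)
    have z22 : M 2 2 = 0 := t (by have h := e1 2 2; simp at h; linear_combination -h)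
    have z30 : M 3 0 = 0 := t (by have h := e1 3 0; simp at h; linear_combination h)
    have z33 : M 3 3 = 0 := t (by have h := e1 3 3; simp at h; linear_combination h)
    have z02 : M 0 2 = 0 := by
      have h := e2 0 2
      rw [m_wq, mul_apply, mul_apply, Fin.sum_univ_four, Fin.sum_univ_four] at h
      simpa [z12] using h
    have z13 : M 1 3 = 0 := by
      have h := e2 1 3
      rw [m_wq, mul_apply, mul_apply, Fin.sum_univ_four, Fin.sum_univ_four] at h
      simpa [z03] using h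
    have z31 : M 3 1 = 0 := by
      have h := e2 3 1
      rw [m_wq, mul_apply, mul_apply, Fin.sum_univ_four, Fin.sum_univ_four] at h
      simpa [z30, hc20] using h
    have z20 : M 2 0 = 0 := by
      have h := e2 2 0
      rw [m_wq, mul_apply, mul_apply, Fin.sum_univ_four, Fin.sum_univ_four] at h
      simpa [z21, hc20] using h
    have u1 : M 0 1 ^ 3 * M 0 1 = 1 := by
      have h := hu 1
      rw [z11, z21, z31] at h
      linear_combination h
    have u3 : M 2 3 ^ 3 * M 2 3 = 1 := by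
      have h := hu 3
      rw [z03, z13, z33] at h
      linear_combination h
    have k0 := e4 0 1
    have k2 := e4 2 3
    simp at k0 k2
    have k1 : k * M 0 1 ^ 2 = 1 := by linear_combination u1 - M 0 1 * k0
    have k3 : k * (a * M 2 3 ^ 2) = 1 := by linear_combination u3 - M 2 3 * k2
    have kk : k ^ 2 = 1 := by
      linear_combination (k * M 0 1 ^ 2 + 1) * k1 - k ^ 2 * u1
    apply two_ne (F := F)
    linear_combination -(k * (a * M 2 3 ^ 2) + 1) * k3 + a ^ 2 * M 2 3 ^ 4 * kk + a ^ 2 * u3 + ha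

/-- the cosets of determinant `± a` -/
theorem good_sim (hF : Fintype.card F = 9) :
    ∃ S, S₀ ha ≤ S ∧ GoodK (sim ha hF) (pr 4 F 3 d) (pr 4 F 3 (i2 a ha)) S := by
  have hfin : Finite (PSU 4 F 3) := inferInstance
  obtain ⟨m1, m2, m3, m4⟩ := mem_S₀ ha
  have hz : sim ha hF (pr 4 F 3 d) = pr 4 F 3 d := S₀_fix ha hF m4
  have hi : pr 4 F 3 (i2 a ha) * pr 4 F 3 d = pr 4 F 3 d * pr 4 F 3 (i2 a ha) := by
    have P := plus hF ha
    refine P.large.comm_z _ ?_
    rw [gen hF ha]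
    exact Subgroup.subset_closure (by simp)
  refine good_of (fun x y h => conj_inj hF h) (fun x => not_inner hF (sgn_sim ha hF) x) (sim_sq ha hF) d_sq
    (d_ne hF) (sim_comm ha hF) (sim_i2 ha hF) hi (fun x hx => S₀_fix ha hF hx) (isPGroup_S₀ ha) m4 ?_
  have key : ∀ β : MulAut (PSU 4 F 3), sgn hF β = 1 → β * sim ha hF = sim ha hF * β →
      (∀ s ∈ S₀ ha, β s = s) → β = 1 ∨ β = MulAut.conj (pr 4 F 3 d) := by
    intro β hs hc hβ
    obtain ⟨M, hM, ε, rfl⟩ := exists_sa hF β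
    rw [sgn_sa] at hs
    cases ε
    · exact sim_lin ha hF hM (hβ _ m3) (hβ _ m2) (hβ _ m1) hc
    · exact absurd hs (by decide)
  intro β hc hβ
  rcases Int.units_eq_one_or (sgn hF β) with hs | hs
  · rcases key β hs hc hβ with h | h
    · exact Or.inl h
    · exact Or.inr (Or.inl h)
  · have e1 : sgn hF (β * sim ha hF) = 1 := by rw [map_mul, hs, sgn_sim]; rfl
    have e2 : β * sim ha hF * sim ha hF = sim ha hF * (β * sim ha hF) := by rw [hc]; simp only [mul_assoc]; rw [hc]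
    have e3 : β = β * sim ha hF * sim ha hF := by rw [mul_assoc, sim_sq, mul_one]
    rcases key (β * sim ha hF) e1 e2 (fun s hs => by
      rw [MulAut.mul_apply, show sim ha hF s = s from S₀_fix ha hF hs, hβ s hs]) with h | h
    · right; right; left
      rw [e3, h, one_mul]
    · right; right; right
      rw [e3, h]
      ext x
      rw [MulAut.mul_apply, MulAut.mul_apply, MulAut.conj_apply, MulAut.conj_apply, map_mul, map_mul, map_inv, hz]

end sim

/-- **(K2)**: every coset of semilinear automorphisms contains an involution with the property `GoodK` -/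
theorem exists_good (hF : Fintype.card F = 9) (β : MulAut (PSU 4 F 3)) (hβ : sgn hF β = -1) :
    ∃ (k v p : PSU 4 F 3) (S : Subgroup (PSU 4 F 3)), GoodK (MulAut.conj k * β) v p S ∧ v = pr 4 F 3 d := by
  obtain ⟨a, ha⟩ := exists_a hF
  obtain ⟨M, hM, rfl⟩ := of_sgn hF hβ
  have ha' : (-a) ^ 2 = -1 := by rw [neg_sq, ha]
  rcases four_cases ha (det_pow hM) with h | h | h | h
  · have h1 : (1 : F) ^ 4 = 1 := one_pow 4
    obtain ⟨k, hk⟩ := exists_conj_mul hF hM (un_rr h1) true (by rw [det_rr, h]; ring)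
    obtain ⟨S, -, -, hS⟩ := good_one ha hF h1
    refine ⟨k, _, pr 4 F 3 (yy a ha), S, ?_, rfl⟩
    rw [hk]
    exact hS
  · obtain ⟨k, hk⟩ := exists_conj_mul hF hM (un_rr (a_pow ha)) true (by rw [det_rr, h, ha])
    obtain ⟨S, -, -, hS⟩ := good_a ha hF (a_pow ha)
    refine ⟨k, _, pr 4 F 3 (yy a ha), S, ?_, rfl⟩
    rw [hk]
    exact hS
  · obtain ⟨k, hk⟩ := exists_conj_mul hF hM (un_aq ha) true (by rw [det_aq, h])
    obtain ⟨S, -, hS⟩ := good_sim ha hF
    refine ⟨k, _, pr 4 F 3 (i2 a ha), S, ?_, rfl⟩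
    rw [hk]
    exact hS
  · obtain ⟨k, hk⟩ := exists_conj_mul hF hM (un_aq ha') true (by rw [det_aq, h])
    obtain ⟨S, -, hS⟩ := good_sim ha' hF
    refine ⟨k, _, pr 4 F 3 (i2 (-a) ha'), S, ?_, rfl⟩
    rw [hk]
    exact hS


end Cfsg.Agent.OddHalf.D6.QThree.U43AutGood
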