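import Cfsg.Agent.OddHalf.Small.U43Good

/-!
# ODD half, D6, `q = 3`: `U₄(3)`, explicit elements of `C(z)` (helper577)

`i = I ⊕ 1`, `j = J ⊕ 1`, `k = 1 ⊕ I`, `l = 1 ⊕ J`, `x₁ = X ⊕ 1`, `x₂ = 1 ⊕ X` with `I = diag(a, -a)`,
`J = (0, 1; -1, 0)`, `X = 1 + I + J + I J`, `a² = -1`; relations modulo scalars.
-/

set_option autoImplicit false
set_option linter.unusedSectionVars false
set_option linter.unreachableTactic false
set_option linter.unusedTactic false

namespace Cfsg.Agent.OddHalf.D6.QThree.U43Elt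

open Matrix Cfsg Cfsg.Agent.OddHalf.Small.U43Mat Cfsg.Agent.OddHalf.Small.U43Good
open Cfsg.Agent.LieClassical.HermSiegel Cfsg.Agent.LieClassical.SUBasic
open Cfsg.Agent.ClassicalGeometry.UnitAutBasic (pr pr_surjective)

variable {F : Type*} [Field F] [CharP F 3]

theorem three : (3 : F) = 0 := by exact_mod_cast CharP.cast_eq_zero F 3

/-- `X ⊕ 1` -/
def xx1 (a : F) (ha : a ^ 2 = -1) : SU 4 F 3 := mkSU !![1 + a, 1 + a, 0, 0; a - 1, 1 - a, 0, 0; 0, 0, 1, 0; 0, 0, 0, 1]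
  (by
    have h3 : (3 : F) = 0 := three
    simp [det_succ_row_zero, Fin.sum_univ_succ, Fin.succAbove]
    linear_combination (-2) * ha + h3) (by
    have h3 : (3 : F) = 0 := three
    intro u v
    simp only [hermForm_apply, Fin.sum_univ_four]
    simp [mulVec, dotProduct, Fin.sum_univ_four]
    have e1 : ∀ x y : F, (x + y) ^ 3 = x ^ 3 + y ^ 3 := fun x y => add_pow_char x y 3
    have e2 : ∀ x y : F, (x - y) ^ 3 = x ^ 3 - y ^ 3 := fun x y => sub_pow_char x y
    have e3 : a ^ 3 = -a := by linear_combination a * ha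
    simp only [e1, e2, mul_pow, e3, one_pow]
    linear_combination (-2 * (u 0 * v 0 ^ 3) - 2 * (u 1 * v 1 ^ 3)) * ha + (u 0 * v 0 ^ 3 + u 1 * v 1 ^ 3) * h3)

/-- `1 ⊕ X` -/
def xx2 (a : F) (ha : a ^ 2 = -1) : SU 4 F 3 := mkSU !![1, 0, 0, 0; 0, 1, 0, 0; 0, 0, 1 + a, 1 + a; 0, 0, a - 1, 1 - a]
  (by
    have h3 : (3 : F) = 0 := three
    simp [det_succ_row_zero, Fin.sum_univ_succ, Fin.succAbove]
    linear_combination (-2) * ha + h3) (by
    have h3 : (3 : F) = 0 := three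
    intro u v
    simp only [hermForm_apply, Fin.sum_univ_four]
    simp [mulVec, dotProduct, Fin.sum_univ_four]
    have e1 : ∀ x y : F, (x + y) ^ 3 = x ^ 3 + y ^ 3 := fun x y => add_pow_char x y 3
    have e2 : ∀ x y : F, (x - y) ^ 3 = x ^ 3 - y ^ 3 := fun x y => sub_pow_char x y
    have e3 : a ^ 3 = -a := by linear_combination a * ha
    simp only [e1, e2, mul_pow, e3, one_pow]
    linear_combination (-2 * (u 2 * v 2 ^ 3) - 2 * (u 3 * v 3 ^ 3)) * ha + (u 2 * v 2 ^ 3 + u 3 * v 3 ^ 3) * h3)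

/-! ### matrices -/

section mats

variable {a : F} (ha : a ^ 2 = -1)

theorem m_i1 : mat (i1 a ha) = !![a, 0, 0, 0; 0, -a, 0, 0; 0, 0, 1, 0; 0, 0, 0, 1] := by
  ext i j; fin_cases i <;> fin_cases j <;> rfl

theorem m_i2 : mat (i2 a ha) = !![1, 0, 0, 0; 0, 1, 0, 0; 0, 0, a, 0; 0, 0, 0, -a] := by
  ext i j; fin_cases i <;> fin_cases j <;> rfl

theorem m_j1 : mat (j1 : SU 4 F 3) = !![0, 1, 0, 0; -1, 0, 0, 0; 0, 0, 1, 0; 0, 0, 0, 1] := rfl

theorem m_j2 : mat (j2 : SU 4 F 3) = !![1, 0, 0, 0; 0, 1, 0, 0; 0, 0, 0, 1; 0, 0, -1, 0] := rfl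

theorem m_x1 : mat (xx1 a ha) = !![1 + a, 1 + a, 0, 0; a - 1, 1 - a, 0, 0; 0, 0, 1, 0; 0, 0, 0, 1] := rfl

theorem m_x2 : mat (xx2 a ha) = !![1, 0, 0, 0; 0, 1, 0, 0; 0, 0, 1 + a, 1 + a; 0, 0, a - 1, 1 - a] := rfl

theorem m_d : mat (d : SU 4 F 3) = !![1, 0, 0, 0; 0, 1, 0, 0; 0, 0, -1, 0; 0, 0, 0, -1] := by
  ext i j; fin_cases i <;> fin_cases j <;> rfl

theorem e_ii : mat (d : SU 4 F 3) = (-1 : F) • mat (i1 a ha * i1 a ha) := by
  rw [mat_mul, m_i1, m_d]
  ext i j
  fin_cases i <;> fin_cases j <;> simp <;> linear_combination ha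

theorem e_jj : mat (d : SU 4 F 3) = (-1 : F) • mat (j1 * j1) := by
  rw [mat_mul, m_j1, m_d]
  ext i j
  fin_cases i <;> fin_cases j <;> simp

theorem e_kk : i2 a ha * i2 a ha = d := by
  apply mat_injective
  rw [mat_mul, m_i2, m_d]
  ext i j
  fin_cases i <;> fin_cases j <;> simp <;> linear_combination ha

theorem e_ll : (j2 : SU 4 F 3) * j2 = d := by
  apply mat_injective
  rw [mat_mul, m_j2, m_d]
  ext i j
  fin_cases i <;> fin_cases j <;> simp

theorem e_ji : mat (i1 a ha * j1 * d) = (-1 : F) • mat (j1 * i1 a ha) := by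
  rw [mat_mul, mat_mul, mat_mul, m_i1, m_j1, m_d]
  ext i j
  fin_cases i <;> fin_cases j <;> simp

theorem e_lk : j2 * i2 a ha = i2 a ha * j2 * d := by
  apply mat_injective
  rw [mat_mul, mat_mul, mat_mul, m_i2, m_j2, m_d]
  ext i j
  fin_cases i <;> fin_cases j <;> simp

theorem e_ki : i2 a ha * i1 a ha = i1 a ha * i2 a ha := by
  apply mat_injective
  rw [mat_mul, mat_mul, m_i2, m_i1]
  ext i j
  fin_cases i <;> fin_cases j <;> simp

theorem e_li : j2 * i1 a ha = i1 a ha * j2 := by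
  apply mat_injective
  rw [mat_mul, mat_mul, m_j2, m_i1]
  ext i j
  fin_cases i <;> fin_cases j <;> simp

theorem e_kj : i2 a ha * j1 = j1 * i2 a ha := by
  apply mat_injective
  rw [mat_mul, mat_mul, m_j1, m_i2]
  ext i j
  fin_cases i <;> fin_cases j <;> simp

theorem e_lj : (j2 : SU 4 F 3) * j1 = j1 * j2 := by
  apply mat_injective
  rw [mat_mul, mat_mul, m_j1, m_j2]
  ext i j
  fin_cases i <;> fin_cases j <;> simp

theorem e_dd : (d : SU 4 F 3) * d = 1 := by
  apply mat_injective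
  rw [mat_mul, m_d, mat_one]
  ext i j
  fin_cases i <;> fin_cases j <;> simp

theorem e_x1d : xx1 a ha * d = d * xx1 a ha := by
  apply mat_injective
  rw [mat_mul, mat_mul, m_d, m_x1]
  ext i j
  fin_cases i <;> fin_cases j <;> simp

theorem e_x2d : xx2 a ha * d = d * xx2 a ha := by
  apply mat_injective
  rw [mat_mul, mat_mul, m_d, m_x2]
  ext i j
  fin_cases i <;> fin_cases j <;> simp <;> ring

theorem e_x1i : xx1 a ha * i1 a ha = j1 * xx1 a ha := by
  apply mat_injective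
  rw [mat_mul, mat_mul, m_i1, m_x1, m_j1]
  ext i j
  fin_cases i <;> fin_cases j <;> simp <;> first | linear_combination ha | linear_combination -ha

theorem e_x1j : xx1 a ha * j1 = i1 a ha * j1 * xx1 a ha := by
  apply mat_injective
  rw [mat_mul, mat_mul, mat_mul, m_i1, m_x1, m_j1]
  ext i j
  fin_cases i <;> fin_cases j <;> simp <;> first | linear_combination ha | linear_combination -ha

theorem e_x1k : xx1 a ha * i2 a ha = i2 a ha * xx1 a ha := by
  apply mat_injective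
  rw [mat_mul, mat_mul, m_i2, m_x1]
  ext i j
  fin_cases i <;> fin_cases j <;> simp

theorem e_x1l : xx1 a ha * j2 = j2 * xx1 a ha := by
  apply mat_injective
  rw [mat_mul, mat_mul, m_j2, m_x1]
  ext i j
  fin_cases i <;> fin_cases j <;> simp

theorem e_x2k : xx2 a ha * i2 a ha = j2 * xx2 a ha := by
  apply mat_injective
  rw [mat_mul, mat_mul, m_i2, m_x2, m_j2]
  ext i j
  fin_cases i <;> fin_cases j <;> simp <;> first | linear_combination ha | linear_combination -ha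

theorem e_x2l : xx2 a ha * j2 = i2 a ha * j2 * xx2 a ha := by
  apply mat_injective
  rw [mat_mul, mat_mul, mat_mul, m_i2, m_x2, m_j2]
  ext i j
  fin_cases i <;> fin_cases j <;> simp <;> first | linear_combination ha | linear_combination -ha

theorem e_x2i : xx2 a ha * i1 a ha = i1 a ha * xx2 a ha := by
  apply mat_injective
  rw [mat_mul, mat_mul, m_i1, m_x2]
  ext i j
  fin_cases i <;> fin_cases j <;> simp

theorem e_x2j : xx2 a ha * j1 = j1 * xx2 a ha := by
  apply mat_injective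
  rw [mat_mul, mat_mul, m_j1, m_x2]
  ext i j
  fin_cases i <;> fin_cases j <;> simp

end mats

end Cfsg.Agent.OddHalf.D6.QThree.U43Elt
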