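import Cfsg.Agent.OddHalf.Small.U43
import Cfsg.Agent.OddHalf.D6.QThree.U43Elt
import Cfsg.Agent.OddHalf.D6.QThree.PlusOf
import Cfsg.Agent.LargeExtra.W2.Lift

/-!
# ODD half, D6, `q = 3`: `U₄(3)`, coordinates of `O₂(C(z))` (helper577)
-/

set_option autoImplicit false
set_option linter.unusedSectionVars false
set_option linter.unreachableTactic false
set_option linter.unusedTactic false

namespace Cfsg.Agent.OddHalf.D6.QThree.U43Plus

open Matrix Cfsg Cfsg.Agent.OddHalf.Small.U43Mat Cfsg.Agent.OddHalf.Small.U43Good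
open Cfsg.Agent.LieClassical.HermSiegel Cfsg.Agent.LieClassical.SUBasic
open Cfsg.Agent.ClassicalGeometry.UnitAutBasic (pr pr_surjective)
open Cfsg.Agent.OddHalf.D6.QThree.U43Elt Cfsg.Agent.OddHalf.D6.QThree.PlusOf
open Cfsg.Agent.LargeExtra.W2 Cfsg.Agent.LargeExtra.W2.Hom Cfsg.Agent.LargeExtra.W2.Lift

variable {F : Type*} [Field F] [CharP F 3]

/-! ### The elements of the quaternion group -/

/-- `g = A ⊕ 1` -/
def Bl1 (A : M2 F) (g : SU 4 F 3) : Prop :=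
  b11 (mat g) = A ∧ b12 (mat g) = 0 ∧ b21 (mat g) = 0 ∧ b22 (mat g) = 1

/-- `g = 1 ⊕ A` -/
def Bl2 (A : M2 F) (g : SU 4 F 3) : Prop :=
  b11 (mat g) = 1 ∧ b12 (mat g) = 0 ∧ b21 (mat g) = 0 ∧ b22 (mat g) = A

theorem Bl1.mul {A B : M2 F} {g h : SU 4 F 3} (h1 : Bl1 A g) (h2 : Bl1 B h) : Bl1 (A * B) (g * h) := by
  obtain ⟨a1, a2, a3, a4⟩ := h1
  obtain ⟨b1, b2, b3, b4⟩ := h2
  refine ⟨?_, ?_, ?_, ?_⟩ <;> rw [mat_mul]
  · rw [b11_mul, a1, a2, b1, zero_mul, add_zero]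
  · rw [b12_mul, a2, b2, mul_zero, zero_mul, add_zero]
  · rw [b21_mul, a3, b3, mul_zero, zero_mul, add_zero]
  · rw [b22_mul, a3, a4, b4, zero_mul, zero_add, mul_one]

theorem Bl2.mul {A B : M2 F} {g h : SU 4 F 3} (h1 : Bl2 A g) (h2 : Bl2 B h) : Bl2 (A * B) (g * h) := by
  obtain ⟨a1, a2, a3, a4⟩ := h1
  obtain ⟨b1, b2, b3, b4⟩ := h2
  refine ⟨?_, ?_, ?_, ?_⟩ <;> rw [mat_mul]
  · rw [b11_mul, a1, a2, b1, zero_mul, add_zero, mul_one]
  · rw [b12_mul, a2, b2, mul_zero, zero_mul, add_zero]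
  · rw [b21_mul, a3, b3, mul_zero, zero_mul, add_zero]
  · rw [b22_mul, a3, a4, b4, zero_mul, zero_add]

/-- `diag(a, -a)` -/
def I2 (a : F) : M2 F := diagonal ![a, -a]

theorem bl1_i (a : F) (ha : a ^ 2 = -1) : Bl1 (I2 a) (i1 a ha) := by
  refine ⟨?_, ?_, ?_, ?_⟩ <;> ext i j <;> fin_cases i <;> fin_cases j <;> rfl

theorem bl2_i (a : F) (ha : a ^ 2 = -1) : Bl2 (I2 a) (i2 a ha) := by
  refine ⟨?_, ?_, ?_, ?_⟩ <;> ext i j <;> fin_cases i <;> fin_cases j <;> rfl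

theorem bl1_j : Bl1 (J2 F) j1 := by
  refine ⟨?_, ?_, ?_, ?_⟩ <;> ext i j <;> fin_cases i <;> fin_cases j <;> rfl

theorem bl2_j : Bl2 (J2 F) j2 := by
  refine ⟨?_, ?_, ?_, ?_⟩ <;> ext i j <;> fin_cases i <;> fin_cases j <;> rfl

theorem bl1_one : Bl1 (1 : M2 F) (1 : SU 4 F 3) := by
  refine ⟨?_, ?_, ?_, ?_⟩ <;> rw [mat_one]
  · exact b11_one
  · exact b12_one
  · exact b21_one
  · exact b22_one

theorem bl2_one : Bl2 (1 : M2 F) (1 : SU 4 F 3) := bl1_one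

theorem mu4 {a x : F} (ha : a ^ 2 = -1) (h : x ^ 4 = 1) : x = 1 ∨ x = -1 ∨ x = a ∨ x = -a := by
  have h1 : (x ^ 2 - 1) * (x ^ 2 + 1) = 0 := by linear_combination h
  rcases mul_eq_zero.1 h1 with h2 | h2
  · have h3 : (x - 1) * (x + 1) = 0 := by linear_combination h2
    rcases mul_eq_zero.1 h3 with h4 | h4
    · left; linear_combination h4
    · right; left; linear_combination h4
  · have h3 : (x - a) * (x + a) = 0 := by linear_combination h2 - ha
    rcases mul_eq_zero.1 h3 with h4 | h4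
    · right; right; left; linear_combination h4
    · right; right; right; linear_combination h4

/-- the eight elements -/
theorem isQ_words {a : F} (ha : a ^ 2 = -1) {A : M2 F} (hA : IsQ A) :
    A = 1 ∨ A = I2 a * I2 a ∨ A = I2 a ∨ A = I2 a * (I2 a * I2 a) ∨
      A = J2 F ∨ A = J2 F * (J2 F * J2 F) ∨ A = I2 a * J2 F ∨ A = J2 F * I2 a := by
  obtain ⟨h1, h2, h3⟩ := entries hA.1 hA.2.1
  rcases hA.off with ⟨a1, a2⟩ | ⟨a1, a2⟩
  · rw [a1] at h3
    have h4 : A 1 0 ^ 4 = 1 := by linear_combination h3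
    rcases mu4 ha h4 with h5 | h5 | h5 | h5 <;> rw [h5] at h2
    · iterate 5 right
      left
      ext i j
      fin_cases i <;> fin_cases j <;> simp [J2, a1, a2, h2, h5]
    · iterate 4 right
      left
      ext i j
      fin_cases i <;> fin_cases j <;> simp [J2, a1, a2, h2, h5] <;> ring
    · iterate 6 right
      left
      ext i j
      fin_cases i <;> fin_cases j <;> simp [J2, I2, a1, a2, h2, h5]
      linear_combination -a * ha
    · iterate 7 right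
      ext i j
      fin_cases i <;> fin_cases j <;> simp [J2, I2, a1, a2, h2, h5]
      linear_combination -a * ha
  · rw [a1] at h3
    have h4 : A 0 0 ^ 4 = 1 := by linear_combination h3
    rcases mu4 ha h4 with h5 | h5 | h5 | h5 <;> rw [h5] at h1
    · left
      ext i j
      fin_cases i <;> fin_cases j <;> simp [a1, a2, h1, h5]
    · right; left
      ext i j
      fin_cases i <;> fin_cases j <;> simp [I2, a1, a2, h1, h5] <;> linear_combination -ha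
    · right; right; left
      ext i j
      fin_cases i <;> fin_cases j <;> simp [I2, a1, a2, h1, h5]
      linear_combination a * ha
    · right; right; right; left
      ext i j
      fin_cases i <;> fin_cases j <;> simp [I2, a1, a2, h1, h5]
      · linear_combination -a * ha
      · ring

theorem exists_bl1 {a : F} (ha : a ^ 2 = -1) {A : M2 F} (hA : IsQ A) :
    ∃ g ∈ Subgroup.closure {i1 a ha, j1, i2 a ha, j2}, Bl1 A g := by
  have mi : i1 a ha ∈ Subgroup.closure {i1 a ha, j1, i2 a ha, j2} := Subgroup.subset_closure (by simp)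
  have mj : j1 ∈ Subgroup.closure {i1 a ha, j1, i2 a ha, j2} := Subgroup.subset_closure (by simp)
  have bi := bl1_i a ha
  have bj : Bl1 (J2 F) j1 := bl1_j
  rcases isQ_words ha hA with h | h | h | h | h | h | h | h <;> rw [h]
  · exact ⟨1, one_mem _, bl1_one⟩
  · exact ⟨_, mul_mem mi mi, bi.mul bi⟩
  · exact ⟨_, mi, bi⟩
  · exact ⟨_, mul_mem mi (mul_mem mi mi), bi.mul (bi.mul bi)⟩
  · exact ⟨_, mj, bj⟩
  · exact ⟨_, mul_mem mj (mul_mem mj mj), bj.mul (bj.mul bj)⟩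
  · exact ⟨_, mul_mem mi mj, bi.mul bj⟩
  · exact ⟨_, mul_mem mj mi, bj.mul bi⟩

theorem exists_bl2 {a : F} (ha : a ^ 2 = -1) {A : M2 F} (hA : IsQ A) :
    ∃ g ∈ Subgroup.closure {i1 a ha, j1, i2 a ha, j2}, Bl2 A g := by
  have mi : i2 a ha ∈ Subgroup.closure {i1 a ha, j1, i2 a ha, j2} := Subgroup.subset_closure (by simp)
  have mj : j2 ∈ Subgroup.closure {i1 a ha, j1, i2 a ha, j2} := Subgroup.subset_closure (by simp)
  have bi := bl2_i a ha
  have bj : Bl2 (J2 F) j2 := bl2_j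
  rcases isQ_words ha hA with h | h | h | h | h | h | h | h <;> rw [h]
  · exact ⟨1, one_mem _, bl2_one⟩
  · exact ⟨_, mul_mem mi mi, bi.mul bi⟩
  · exact ⟨_, mi, bi⟩
  · exact ⟨_, mul_mem mi (mul_mem mi mi), bi.mul (bi.mul bi)⟩
  · exact ⟨_, mj, bj⟩
  · exact ⟨_, mul_mem mj (mul_mem mj mj), bj.mul (bj.mul bj)⟩
  · exact ⟨_, mul_mem mi mj, bi.mul bj⟩
  · exact ⟨_, mul_mem mj mi, bj.mul bi⟩

theorem isQ_I {a : F} (ha : a ^ 2 = -1) : IsQ (I2 a) := isQ_diag ha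

theorem Bl1.mem {h9 : ∀ x : F, x ^ 9 = x} {A : M2 F} (hA : IsQ A) {g : SU 4 F 3} (h : Bl1 A g) : g ∈ Q0 h9 := by
  obtain ⟨h1, h2, h3, h4⟩ := h
  exact mem_Q0.2 ⟨h2, h3, h1 ▸ hA, h4 ▸ IsQ.one⟩

theorem Bl2.mem {h9 : ∀ x : F, x ^ 9 = x} {A : M2 F} (hA : IsQ A) {g : SU 4 F 3} (h : Bl2 A g) : g ∈ Q0 h9 := by
  obtain ⟨h1, h2, h3, h4⟩ := h
  exact mem_Q0.2 ⟨h2, h3, h1 ▸ IsQ.one, h4 ▸ hA⟩

theorem closure_eq (h9 : ∀ x : F, x ^ 9 = x) {a : F} (ha : a ^ 2 = -1) :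
    Q0 h9 = Subgroup.closure {i1 a ha, j1, i2 a ha, j2} := by
  apply le_antisymm
  · intro x hx
    obtain ⟨x1, x2, x3, x4⟩ := mem_Q0.1 hx
    obtain ⟨g, hg, g1, g2, g3, g4⟩ := exists_bl1 ha x3
    obtain ⟨g', hg', g1', g2', g3', g4'⟩ := exists_bl2 ha x4
    have : x = g * g' := by
      apply mat_injective
      rw [mat_mul]
      refine ext4 ?_ ?_ ?_ ?_
      · rw [b11_mul, g1, g2, g1', zero_mul, add_zero, mul_one]
      · rw [b12_mul, g2, g2', mul_zero, zero_mul, add_zero, x1]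
      · rw [b21_mul, g3, g3', mul_zero, zero_mul, add_zero, x2]
      · rw [b22_mul, g3, g4, g4', zero_mul, zero_add, one_mul]
    rw [this]
    exact mul_mem hg hg'
  · rw [Subgroup.closure_le]
    intro x hx
    have hx' : x = i1 a ha ∨ x = j1 ∨ x = i2 a ha ∨ x = j2 := by simpa using hx
    rcases hx' with rfl | rfl | rfl | rfl
    · exact Bl1.mem (isQ_I ha) (bl1_i a ha)
    · exact Bl1.mem isQ_J bl1_j
    · exact Bl2.mem (isQ_I ha) (bl2_i a ha)
    · exact Bl2.mem isQ_J bl2_j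

/-! ### `Plus` -/

section main

variable [Fintype F]

theorem qrel (hF : Fintype.card F = 9) {a : F} (ha : a ^ 2 = -1) :
    QRel (pr 4 F 3 d) (pr 4 F 3 (i1 a ha)) (pr 4 F 3 j1) (pr 4 F 3 (i2 a ha)) (pr 4 F 3 j2) := by
  have zi : pr 4 F 3 (i1 a ha) * pr 4 F 3 (i1 a ha) = pr 4 F 3 d := by
    rw [← map_mul]; exact pr_eq_of_mat (e_ii ha)
  have zj : pr 4 F 3 j1 * pr 4 F 3 j1 = pr 4 F 3 d := by
    rw [← map_mul]; exact pr_eq_of_mat e_jj
  have zk : pr 4 F 3 (i2 a ha) * pr 4 F 3 (i2 a ha) = pr 4 F 3 d := by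
    rw [← map_mul, e_kk]
  have zl : pr 4 F 3 j2 * pr 4 F 3 j2 = pr 4 F 3 d := by
    rw [← map_mul, e_ll]
  refine ⟨?_, ?_, ?_, ?_, ?_, ?_, zi, zj, zk, zl, ?_, ?_, ?_, ?_, ?_, ?_⟩
  · rw [← map_mul, e_dd, map_one]
  · intro h
    have h1 := Cfsg.Agent.OddHalf.Small.U43.orderOf_d (F := F) hF
    rw [h, orderOf_one] at h1
    exact absurd h1 (by norm_num)
  · rw [← zi]; group
  · rw [← zj]; group
  · rw [← zk]; group
  · rw [← zl]; group
  · rw [← map_mul, ← map_mul, ← map_mul]; exact pr_eq_of_mat (e_ji ha)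
  · rw [← map_mul, ← map_mul, ← map_mul, e_lk]
  · rw [← map_mul, ← map_mul, e_ki]
  · rw [← map_mul, ← map_mul, e_li]
  · rw [← map_mul, ← map_mul, e_kj]
  · rw [← map_mul, ← map_mul, e_lj]

theorem h9 (hF : Fintype.card F = 9) (x : F) : x ^ 9 = x := by
  rw [← hF]; exact FiniteField.pow_card x

/-- `O₂(C(z))` -/
def QQ (hF : Fintype.card F = 9) : Subgroup (PSU 4 F 3) := (Q0 (h9 hF)).map (pr 4 F 3)

theorem gen (hF : Fintype.card F = 9) {a : F} (ha : a ^ 2 = -1) :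
    QQ hF = Subgroup.closure {pr 4 F 3 (i1 a ha), pr 4 F 3 j1, pr 4 F 3 (i2 a ha), pr 4 F 3 j2} := by
  rw [QQ, closure_eq (h9 hF) ha, MonoidHom.map_closure]
  congr 1
  simp only [Set.image_insert_eq, Set.image_singleton]

theorem conj (hF : Fintype.card F = 9) (g : PSU 4 F 3) (hg : g * pr 4 F 3 d = pr 4 F 3 d * g)
    (y : PSU 4 F 3) (hy : y ∈ QQ hF) : g * y * g⁻¹ ∈ QQ hF := by
  obtain ⟨g, rfl⟩ := pr_surjective g
  obtain ⟨x, hx, rfl⟩ := hy
  rw [← map_mul, ← map_mul] at hg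
  obtain ⟨c, -, hc⟩ := mat_of_pr_eq hF hg.symm
  rw [mat_mul, mat_mul, mat_d] at hc
  rw [← map_inv, ← map_mul, ← map_mul]
  exact Subgroup.mem_map_of_mem _ (conj_mem hc hx)

theorem self (hF : Fintype.card F = 9) {a : F} (ha : a ^ 2 = -1) (g : PSU 4 F 3)
    (hg : g * pr 4 F 3 d = pr 4 F 3 d * g) (hQ : ∀ y ∈ QQ hF, g * y = y * g) : g ∈ QQ hF := by
  obtain ⟨x, rfl⟩ := pr_surjective g
  rw [← map_mul, ← map_mul] at hg
  obtain ⟨c, -, hc⟩ := mat_of_pr_eq hF hg.symm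
  rw [mat_mul, mat_mul, mat_d] at hc
  have hux := st_mat x
  have k : ∀ z ∈ Q0 (h9 hF), pr 4 F 3 x * pr 4 F 3 z = pr 4 F 3 z * pr 4 F 3 x :=
    fun z hz => hQ _ (Subgroup.mem_map_of_mem _ hz)
  have m1 := bl1_i a ha
  have m2 := bl2_i a ha
  have m3 : Bl1 (J2 F) j1 := bl1_j
  have m4 : Bl2 (J2 F) j2 := bl2_j
  rcases blk_or hc with ⟨x1, x2⟩ | ⟨x1, x2⟩
  · have s1 : b11 (mat x) = b11 (mat x) 0 0 • (1 : M2 F) := by
      refine scalar_of_comm ha ?_ ?_
      · have := comm11 hF x1 x2 m1.2.1 m1.2.2.1 m1.2.2.2 (k _ (m1.mem (isQ_I ha)))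
        rw [m1.1] at this
        exact this
      · have := comm11 hF x1 x2 m3.2.1 m3.2.2.1 m3.2.2.2 (k _ (m3.mem isQ_J))
        rw [m3.1] at this
        exact this
    have s2 : b22 (mat x) = b22 (mat x) 0 0 • (1 : M2 F) := by
      refine scalar_of_comm ha ?_ ?_
      · have := comm22 hF x1 x2 m2.2.1 m2.2.2.1 m2.1 (k _ (m2.mem (isQ_I ha)))
        rw [m2.2.2.2] at this
        exact this
      · have := comm22 hF x1 x2 m4.2.1 m4.2.2.1 m4.1 (k _ (m4.mem isQ_J))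
        rw [m4.2.2.2] at this
        exact this
    obtain ⟨α, hα⟩ : ∃ α, b11 (mat x) 0 0 = α := ⟨_, rfl⟩
    obtain ⟨β, hβ⟩ : ∃ β, b22 (mat x) 0 0 = β := ⟨_, rfl⟩
    rw [hα] at s1
    rw [hβ] at s2
    have h1 : α ^ 4 = 1 := by
      have h2 := scalar_pow (u11 hux x2) s1
      rw [s1, smul_pow, one_pow] at h2
      have h3 := congrFun (congrFun h2 0) 0
      simpa using h3
    have hd := det_mat x
    rw [Cfsg.Agent.OddHalf.Small.U43.det_blk x2, s1, s2, det_smul, det_smul, det_one, Fintype.card_fin,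
      mul_one, mul_one] at hd
    have h5 : (β - α) * (β + α) = 0 := by linear_combination α ^ 2 * hd - β ^ 2 * h1
    rcases mul_eq_zero.1 h5 with h6 | h6
    · have h7 : β = α := by linear_combination h6
      have h8 : mat x = α • mat (1 : SU 4 F 3) := by
        rw [mat_one]
        refine ext4 ?_ ?_ ?_ ?_
        · rw [s1, b11_smul, b11_one]
        · rw [x1]; ext i j; fin_cases i <;> fin_cases j <;> simp [b12]
        · rw [x2]; ext i j; fin_cases i <;> fin_cases j <;> simp [b21]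
        · rw [s2, h7]
          show α • (1 : M2 F) = α • b22 (1 : M4 F)
          rw [b22_one]
      rw [← pr_eq_of_mat h8, map_one]
      exact one_mem _
    · have h7 : β = -α := by linear_combination h6
      have h8 : mat x = α • mat (d : SU 4 F 3) := by
        rw [mat_d]
        refine ext4 ?_ ?_ ?_ ?_
        · rw [s1, b11_smul, b11_D]
        · rw [x1]
          show 0 = α • b12 (D4 F)
          rw [b12_D, smul_zero]
        · rw [x2]
          show 0 = α • b21 (D4 F)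
          rw [b21_D, smul_zero]
        · rw [s2, h7]
          show -α • (1 : M2 F) = α • b22 (D4 F)
          rw [b22_D, smul_neg, neg_smul]
      rw [← pr_eq_of_mat h8]
      have h10 := (qrel hF ha).ii
      have h11 : pr 4 F 3 (i1 a ha) ∈ QQ hF := Subgroup.mem_map_of_mem _ (m1.mem (isQ_I ha))
      rw [← h10]
      exact mul_mem h11 h11
  · exfalso
    have h1 := k _ (m1.mem (isQ_I ha))
    rw [← map_mul, ← map_mul] at h1
    obtain ⟨c, -, hc⟩ := mat_of_pr_eq hF h1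
    have h2 := congrArg b12 hc
    have e : b12 (c • mat (x * i1 a ha)) = c • b12 (mat (x * i1 a ha)) := rfl
    rw [e, mat_mul, mat_mul, b12_mul, b12_mul, m1.1, m1.2.1, m1.2.2.2, x1, x2, mul_zero, add_zero,
      zero_add, mul_one] at h2
    -- `I * B = c • B` with `B` invertible
    have hB := u12 hux x2
    have hB' := mul_st hB
    have h3 : I2 a = c • (1 : M2 F) := by
      calc I2 a = I2 a * (b12 (mat x) * st (b12 (mat x))) := by rw [hB', mul_one]
        _ = (I2 a * b12 (mat x)) * st (b12 (mat x)) := by rw [mul_assoc]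
        _ = c • (1 : M2 F) := by rw [h2, Matrix.smul_mul, hB']
    have h4 := congrFun (congrFun h3 0) 0
    have h5 := congrFun (congrFun h3 1) 1
    simp [I2] at h4 h5
    have h6 : (2 : F) * a = 0 := by linear_combination h4 - h5
    have h7 := (mul_eq_zero.1 h6).resolve_left two_ne
    rw [h7] at ha
    have h8 : (1 : F) = 0 := by linear_combination ha
    exact one_ne_zero h8

theorem plus (hF : Fintype.card F = 9) {a : F} (ha : a ^ 2 = -1) :
    Plus (QQ hF) (pr 4 F 3 d) (pr 4 F 3 (i1 a ha)) (pr 4 F 3 j1) (pr 4 F 3 (i2 a ha)) (pr 4 F 3 j2) :=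
  plus_of (qrel hF ha) (gen hF ha) (conj hF) (self hF ha)

theorem act_of {G : Type*} [Group G] {c x y : G} (h : c * x = y * c) : c * x * c⁻¹ = y := by
  rw [h, mul_inv_cancel_right]

theorem act1 {a : F} (ha : a ^ 2 = -1) : Act (pr 4 F 3 d) (pr 4 F 3 (i1 a ha)) (pr 4 F 3 j1)
    (pr 4 F 3 (i2 a ha)) (pr 4 F 3 j2) (pr 4 F 3 (xx1 a ha)) (pr 4 F 3 j1)
    (pr 4 F 3 (i1 a ha) * pr 4 F 3 j1) (pr 4 F 3 (i2 a ha)) (pr 4 F 3 j2) := by
  refine ⟨?_, ?_, ?_, ?_, ?_⟩ <;> apply act_of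
  · rw [← map_mul, ← map_mul, e_x1d]
  · rw [← map_mul, ← map_mul, e_x1i]
  · rw [← map_mul, ← map_mul, ← map_mul, e_x1j]
  · rw [← map_mul, ← map_mul, e_x1k]
  · rw [← map_mul, ← map_mul, e_x1l]

theorem act2 {a : F} (ha : a ^ 2 = -1) : Act (pr 4 F 3 d) (pr 4 F 3 (i1 a ha)) (pr 4 F 3 j1)
    (pr 4 F 3 (i2 a ha)) (pr 4 F 3 j2) (pr 4 F 3 (xx2 a ha)) (pr 4 F 3 (i1 a ha)) (pr 4 F 3 j1)
    (pr 4 F 3 j2) (pr 4 F 3 (i2 a ha) * pr 4 F 3 j2) := by
  refine ⟨?_, ?_, ?_, ?_, ?_⟩ <;> apply act_of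
  · rw [← map_mul, ← map_mul, e_x2d]
  · rw [← map_mul, ← map_mul, e_x2i]
  · rw [← map_mul, ← map_mul, e_x2j]
  · rw [← map_mul, ← map_mul, e_x2k]
  · rw [← map_mul, ← map_mul, ← map_mul, e_x2l]

end main

end Cfsg.Agent.OddHalf.D6.QThree.U43Plus
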