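import Cfsg.Agent.OddHalf.D6.QThree.U43Aut
import Cfsg.Agent.OddHalf.D6.QThree.U43Plus

/-!
# ODD half, D6, `q = 3`: `U₄(3)`, the automorphisms centralising `O₂(C(z))` (helper218)

`del b = diag(1, 1, b, b)`, `ref b = (J ⊕ b J) φ`, `b⁴ = 1`.
-/

set_option autoImplicit false
set_option linter.unusedSectionVars false
set_option linter.unusedTactic false
set_option linter.unreachableTactic false

namespace Cfsg.Agent.OddHalf.D6.QThree.U43AutRef

open Matrix Cfsg.Agent.OddHalf.D6.QThree.U43Aut Cfsg Cfsg.Agent.OddHalf.Small.U43Mat Cfsg.Agent.OddHalf.Small.U43Good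
open Cfsg.Agent.LieClassical.HermSiegel Cfsg.Agent.LieClassical.SUBasic
open Cfsg.Agent.ClassicalGeometry.UnitAutBasic (pr pr_surjective)
open Cfsg.Agent.ClassicalGeometry.PSUAutCount Cfsg.Agent.ClassicalGeometry.PSUAutMain
open Cfsg.Agent.OddHalf.D6.QThree.U43Elt Cfsg.Agent.OddHalf.D6.QThree.U43Plus

variable {F : Type*} [Field F] [CharP F 3]

/-- `diag(1, 1, b, b)` -/
def dd (b : F) : M4 F := diagonal ![1, 1, b, b]

/-- `J ⊕ b J` -/
def rr (b : F) : M4 F := !![0, 1, 0, 0; -1, 0, 0, 0; 0, 0, 0, b; 0, 0, -b, 0]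

/-- diagonal unitary matrices -/
theorem un_diag {v : Fin 4 → F} (h : ∀ i, v i ^ 4 = 1) :
    st (diagonal v : M4 F) * (diagonal v : M4 F) = 1 := by
  ext i j
  rw [mul_diagonal, st_apply, one_apply, diagonal_apply]
  by_cases hij : j = i
  · subst hij
    rw [if_pos rfl, if_pos rfl]
    linear_combination h j
  · rw [if_neg hij, if_neg (fun h => hij h.symm)]
    ring

theorem un_dd {b : F} (hb : b ^ 4 = 1) : st (dd b) * dd b = 1 := un_diag (by
  intro i; fin_cases i <;> simp [hb])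

theorem un_rr {b : F} (hb : b ^ 4 = 1) : st (rr b) * rr b = 1 := by
  have hb' : b ^ 3 * b = 1 := by linear_combination hb
  have h3 : (-b) ^ 3 * -b = 1 := by linear_combination hb
  ext i j
  rw [mul_apply, Fin.sum_univ_four, st_apply, st_apply, st_apply, st_apply]
  fin_cases i <;> fin_cases j <;> simp [rr, hb', h3] <;> ring

variable [Fintype F]

/-- the automorphism `diag(1, 1, b, b)` -/
noncomputable def del (hF : Fintype.card F = 9) (b : F) (hb : b ^ 4 = 1) : MulAut (PSU 4 F 3) :=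
  sa hF (dd b) (un_dd hb) false

/-- the automorphism `(J ⊕ b J) φ` -/
noncomputable def ref (hF : Fintype.card F = 9) (b : F) (hb : b ^ 4 = 1) : MulAut (PSU 4 F 3) :=
  sa hF (rr b) (un_rr hb) true

theorem sgn_del (hF : Fintype.card F = 9) (b : F) (hb : b ^ 4 = 1) : sgn hF (del hF b hb) = 1 := sgn_sa _ _ _

theorem sgn_ref (hF : Fintype.card F = 9) (b : F) (hb : b ^ 4 = 1) : sgn hF (ref hF b hb) = -1 := sgn_sa _ _ _

theorem dd_one : dd (1 : F) = 1 := by
  ext i j; fin_cases i <;> fin_cases j <;> simp [dd]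

theorem dd_neg : dd (-1 : F) = mat (d : SU 4 F 3) := by
  rw [m_d]
  ext i j; fin_cases i <;> fin_cases j <;> simp [dd]

theorem dd_mul (b c : F) : dd b * dd c = dd (b * c) := by
  unfold dd
  rw [diagonal_mul_diagonal]
  congr 1
  funext i
  fin_cases i <;> simp

theorem det_dd (b : F) : (dd b).det = b ^ 2 := by
  unfold dd
  rw [det_diagonal, Fin.prod_univ_four]
  simp
  ring

theorem det_rr (b : F) : (rr b).det = b ^ 2 := by
  unfold rr
  simp [det_succ_row_zero, Fin.sum_univ_succ, Fin.succAbove]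
  ring

theorem tw_dd (b : F) : tw true (dd b) = dd (b ^ 3) := by
  ext i j; fin_cases i <;> fin_cases j <;> simp [dd, tw]

theorem tw_rr (b : F) : tw true (rr b) = rr (b ^ 3) := by
  ext i j
  fin_cases i <;> fin_cases j <;> simp [rr, tw] <;> ring

theorem rr_mul_rr (b c : F) : rr b * rr c = -dd (b * c) := by
  ext i j
  rw [mul_apply, Fin.sum_univ_four]
  fin_cases i <;> fin_cases j <;> simp [rr, dd]

theorem dd_mul_rr (b c : F) : dd b * rr c = rr (b * c) := by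
  ext i j
  rw [mul_apply, Fin.sum_univ_four]
  fin_cases i <;> fin_cases j <;> simp [rr, dd]

theorem rr_mul_dd (b c : F) : rr b * dd c = rr (b * c) := by
  ext i j
  rw [mul_apply, Fin.sum_univ_four]
  fin_cases i <;> fin_cases j <;> simp [rr, dd]

theorem del_one (hF : Fintype.card F = 9) (h : (1 : F) ^ 4 = 1) : del hF 1 h = 1 :=
  sa_one hF _ (c := 1) (by rw [one_smul, dd_one])

theorem del_neg (hF : Fintype.card F = 9) (h : (-1 : F) ^ 4 = 1) :
    del hF (-1) h = MulAut.conj (pr 4 F 3 d) := by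
  rw [conj_eq hF]
  exact sa_congr hF _ _ false dd_neg.symm

theorem p4 {b c : F} (hb : b ^ 4 = 1) (hc : c ^ 4 = 1) : (b * c) ^ 4 = 1 := by
  rw [mul_pow, hb, hc, one_mul]

theorem p34 {b : F} (hb : b ^ 4 = 1) : (b ^ 3) ^ 4 = 1 := by
  rw [← pow_mul, mul_comm, pow_mul, hb, one_pow]

theorem del_mul (hF : Fintype.card F = 9) {b c : F} (hb : b ^ 4 = 1) (hc : c ^ 4 = 1) :
    del hF b hb * del hF c hc = del hF (b * c) (p4 hb hc) := by
  unfold del
  rw [sa_mul]
  exact sa_congr hF _ _ _ (by rw [tw_false, dd_mul])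

theorem del_mul_ref (hF : Fintype.card F = 9) {b c : F} (hb : b ^ 4 = 1) (hc : c ^ 4 = 1) :
    del hF b hb * ref hF c hc = ref hF (b * c) (p4 hb hc) := by
  unfold del ref
  rw [sa_mul]
  exact sa_congr hF _ _ _ (by rw [tw_false, dd_mul_rr])

theorem ref_mul_del (hF : Fintype.card F = 9) {b c : F} (hb : b ^ 4 = 1) (hc : c ^ 4 = 1) :
    ref hF b hb * del hF c hc = ref hF (b * c ^ 3) (p4 hb (p34 hc)) := by
  unfold del ref
  rw [sa_mul]
  exact sa_congr hF _ _ _ (by rw [tw_dd, rr_mul_dd])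

theorem ref_mul_ref (hF : Fintype.card F = 9) {b c : F} (hb : b ^ 4 = 1) (hc : c ^ 4 = 1) :
    ref hF b hb * ref hF c hc = del hF (b * c ^ 3) (p4 hb (p34 hc)) := by
  unfold del ref
  rw [sa_mul]
  refine (sa_smul hF (un_dd (p4 hb (p34 hc))) _ false (c := -1) ?_).symm
  rw [tw_rr, rr_mul_rr, neg_smul, one_smul]

theorem ref_sq (hF : Fintype.card F = 9) {b : F} (hb : b ^ 4 = 1) : ref hF b hb * ref hF b hb = 1 := by
  rw [ref_mul_ref]
  have e : b * b ^ 3 = 1 := by linear_combination hb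
  rw [← del_one hF (one_pow 4)]
  exact sa_congr hF _ _ _ (by rw [e])

/-! ### The centralizer of `Q₈ * Q₈` -/

/-- an automorphism fixing `pr g`, `g` with trace `2`: the scalar is `1` -/
theorem fix_of_trace (hF : Fintype.card F = 9) {M : M4 F} (hM : st M * M = 1) (ε : Bool) {g : SU 4 F 3}
    (ht : (mat g).trace = 2) (h : sa hF M hM ε (pr 4 F 3 g) = pr 4 F 3 g) :
    M * tw ε (mat g) = mat g * M := by
  obtain ⟨c, hc4, hc⟩ := (sa_iff hF hM ε g g).1 h
  have h1 : M * tw ε (mat g) * st M = c • mat g := by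
    rw [hc, Matrix.smul_mul, mul_assoc, mul_st hM, mul_one]
  have h2 := congrArg Matrix.trace h1
  rw [trace_mul_comm, ← mul_assoc, hM, one_mul, trace_smul, trace_tw, ht, smul_eq_mul] at h2
  have h3 : (3 : F) = 0 := three
  have h4 : c = 1 := by
    have h5 : (2 : F) = c * 2 := by
      cases ε
      · exact h2
      · simp only [cond_true] at h2
        linear_combination h2 - 2 * h3
    have h6 : (2 : F) * (c - 1) = 0 := by linear_combination -h5
    linear_combination (mul_eq_zero.1 h6).resolve_left two_ne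
  rw [hc, h4, one_smul]

section cent

variable {a : F} (ha : a ^ 2 = -1)

theorem tr_i1 : (mat (i1 a ha)).trace = 2 := by
  rw [m_i1]; simp [trace, Fin.sum_univ_four]; ring

theorem tr_i2 : (mat (i2 a ha)).trace = 2 := by
  rw [m_i2]; simp [trace, Fin.sum_univ_four]; ring

theorem tr_j1 : (mat (j1 : SU 4 F 3)).trace = 2 := by
  rw [m_j1]; simp [trace, Fin.sum_univ_four]; ring

theorem tr_j2 : (mat (j2 : SU 4 F 3)).trace = 2 := by
  rw [m_j2]; simp [trace, Fin.sum_univ_four]; ring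

/-- the linear automorphisms -/
theorem cent_lin (hF : Fintype.card F = 9) {M : M4 F} (hM : st M * M = 1)
    (h1 : M * mat (i1 a ha) = mat (i1 a ha) * M) (h2 : M * mat (i2 a ha) = mat (i2 a ha) * M)
    (h3 : M * mat (j1 : SU 4 F 3) = mat (j1 : SU 4 F 3) * M)
    (h4 : M * mat (j2 : SU 4 F 3) = mat (j2 : SU 4 F 3) * M) :
    ∃ (b : F) (hb : b ^ 4 = 1), sa hF M hM false = del hF b hb := by
  have e1 : ∀ k l, M k l * (![a, -a, 1, 1] : Fin 4 → F) l = (![a, -a, 1, 1] : Fin 4 → F) k * M k l := by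
    intro k l
    have h := congrFun (congrFun h1 k) l
    have e : mat (i1 a ha) = diagonal ![a, -a, 1, 1] := rfl
    rwa [e, mul_diagonal, diagonal_mul] at h
  have e2 : ∀ k l, M k l * (![1, 1, a, -a] : Fin 4 → F) l = (![1, 1, a, -a] : Fin 4 → F) k * M k l := by
    intro k l
    have h := congrFun (congrFun h2 k) l
    have e : mat (i2 a ha) = diagonal ![1, 1, a, -a] := rfl
    rwa [e, mul_diagonal, diagonal_mul] at h
  have t : ∀ {x : F}, 2 * x = 0 → x = 0 := fun h => (mul_eq_zero.1 h).resolve_left two_ne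
  have z01 : M 0 1 = 0 := t (by have h := e1 0 1; simp at h; linear_combination a * h + 2 * M 0 1 * ha)
  have z10 : M 1 0 = 0 := t (by have h := e1 1 0; simp at h; linear_combination -a * h + 2 * M 1 0 * ha)
  have z02 : M 0 2 = 0 := t (by have h := e1 0 2; simp at h; linear_combination (1 + a) * h + M 0 2 * ha)
  have z03 : M 0 3 = 0 := t (by have h := e1 0 3; simp at h; linear_combination (1 + a) * h + M 0 3 * ha)
  have z12 : M 1 2 = 0 := t (by have h := e1 1 2; simp at h; linear_combination (1 - a) * h + M 1 2 * ha)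
  have z13 : M 1 3 = 0 := t (by have h := e1 1 3; simp at h; linear_combination (1 - a) * h + M 1 3 * ha)
  have z20 : M 2 0 = 0 := t (by have h := e1 2 0; simp at h; linear_combination -(1 + a) * h + M 2 0 * ha)
  have z21 : M 2 1 = 0 := t (by have h := e1 2 1; simp at h; linear_combination -(1 - a) * h + M 2 1 * ha)
  have z30 : M 3 0 = 0 := t (by have h := e1 3 0; simp at h; linear_combination -(1 + a) * h + M 3 0 * ha)
  have z31 : M 3 1 = 0 := t (by have h := e1 3 1; simp at h; linear_combination -(1 - a) * h + M 3 1 * ha)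
  have z23 : M 2 3 = 0 := t (by have h := e2 2 3; simp at h; linear_combination a * h + 2 * M 2 3 * ha)
  have z32 : M 3 2 = 0 := t (by have h := e2 3 2; simp at h; linear_combination -a * h + 2 * M 3 2 * ha)
  have d01 : M 0 0 = M 1 1 := by
    have h := congrFun (congrFun h3 0) 1
    rw [m_j1, mul_apply, mul_apply, Fin.sum_univ_four, Fin.sum_univ_four] at h
    simpa using h
  have d23 : M 2 2 = M 3 3 := by
    have h := congrFun (congrFun h4 2) 3
    rw [m_j2, mul_apply, mul_apply, Fin.sum_univ_four, Fin.sum_univ_four] at h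
    simpa using h
  have u0 : M 0 0 ^ 3 * M 0 0 = 1 := by
    have h := congrFun (congrFun hM 0) 0
    rw [mul_apply, Fin.sum_univ_four, st_apply, st_apply, st_apply, st_apply, z10, z20, z30] at h
    simpa using h
  have u2 : M 2 2 ^ 3 * M 2 2 = 1 := by
    have h := congrFun (congrFun hM 2) 2
    rw [mul_apply, Fin.sum_univ_four, st_apply, st_apply, st_apply, st_apply, z02, z12, z32] at h
    simpa using h
  have hb : (M 0 0 ^ 3 * M 2 2) ^ 4 = 1 := by
    apply p4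
    · exact p34 (by linear_combination u0)
    · linear_combination u2
  refine ⟨_, hb, ?_⟩
  refine (sa_smul hF (un_dd hb) hM false (c := M 0 0) ?_).symm
  ext i j
  rw [Matrix.smul_apply, smul_eq_mul]
  fin_cases i <;> fin_cases j <;> simp [dd, z01, z10, z02, z03, z12, z13, z20, z21, z30, z31, z23, z32]
  · exact d01.symm
  · linear_combination -M 2 2 * u0
  · rw [← d23]; linear_combination -M 2 2 * u0

/-- `ref b` fixes the elements of `SU₂ × SU₂` -/
theorem ref_fix (hF : Fintype.card F = 9) {b : F} (hb : b ^ 4 = 1) {g : SU 4 F 3}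
    (h12 : b12 (mat g) = 0) (h21 : b21 (mat g) = 0) (h1 : (b11 (mat g)).det = 1)
    (h2 : (b22 (mat g)).det = 1) : ref hF b hb (pr 4 F 3 g) = pr 4 F 3 g := by
  obtain ⟨p1, p2, p3⟩ := entries (u11 (st_mat g) h21) h1
  obtain ⟨q1, q2, q3⟩ := entries (u22 (st_mat g) h12) h2
  have f0 : mat g 1 1 = mat g 0 0 ^ 3 := p1
  have f1 : mat g 0 1 = - mat g 1 0 ^ 3 := p2
  have f2 : mat g 3 3 = mat g 2 2 ^ 3 := q1
  have f3 : mat g 2 3 = - mat g 3 2 ^ 3 := q2
  have z02 : mat g 0 2 = 0 := congrFun (congrFun h12 0) 0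
  have z03 : mat g 0 3 = 0 := congrFun (congrFun h12 0) 1
  have z12 : mat g 1 2 = 0 := congrFun (congrFun h12 1) 0
  have z13 : mat g 1 3 = 0 := congrFun (congrFun h12 1) 1
  have z20 : mat g 2 0 = 0 := congrFun (congrFun h21 0) 0
  have z21 : mat g 2 1 = 0 := congrFun (congrFun h21 0) 1
  have z30 : mat g 3 0 = 0 := congrFun (congrFun h21 1) 0
  have z31 : mat g 3 1 = 0 := congrFun (congrFun h21 1) 1
  have h9 := h9 hF
  have n9 : ∀ x : F, (x ^ 3) ^ 3 = x := fun x => by rw [← pow_mul, h9]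
  have n9' : ∀ x : F, (-x ^ 3) ^ 3 = -x := fun x => by
    rw [show (-x ^ 3) ^ 3 = -((x ^ 3) ^ 3) by ring, n9]
  apply sa_of
  ext i j
  rw [mul_apply, mul_apply, Fin.sum_univ_four, Fin.sum_univ_four]
  fin_cases i <;> fin_cases j <;>
    simp [rr, tw, z02, z03, z12, z13, z20, z21, z30, z31, f0, f1, f2, f3, n9, n9'] <;> ring

/-- `del b` fixes the block diagonal elements -/
theorem del_fix (hF : Fintype.card F = 9) {b : F} (hb : b ^ 4 = 1) {g : SU 4 F 3}
    (h12 : b12 (mat g) = 0) (h21 : b21 (mat g) = 0) : del hF b hb (pr 4 F 3 g) = pr 4 F 3 g := by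
  have z02 : mat g 0 2 = 0 := congrFun (congrFun h12 0) 0
  have z03 : mat g 0 3 = 0 := congrFun (congrFun h12 0) 1
  have z12 : mat g 1 2 = 0 := congrFun (congrFun h12 1) 0
  have z13 : mat g 1 3 = 0 := congrFun (congrFun h12 1) 1
  have z20 : mat g 2 0 = 0 := congrFun (congrFun h21 0) 0
  have z21 : mat g 2 1 = 0 := congrFun (congrFun h21 0) 1
  have z30 : mat g 3 0 = 0 := congrFun (congrFun h21 1) 0
  have z31 : mat g 3 1 = 0 := congrFun (congrFun h21 1) 1
  apply sa_of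
  rw [tw_false]
  ext i j
  rw [mul_apply, mul_apply, Fin.sum_univ_four, Fin.sum_univ_four]
  fin_cases i <;> fin_cases j <;>
    simp [dd, z02, z03, z12, z13, z20, z21, z30, z31] <;> ring

theorem ref_fix_Q (hF : Fintype.card F = 9) {b : F} (hb : b ^ 4 = 1) {x : PSU 4 F 3} (hx : x ∈ QQ hF) :
    ref hF b hb x = x := by
  obtain ⟨g, hg, rfl⟩ := hx
  obtain ⟨h1, h2, h3, h4⟩ := mem_Q0.1 hg
  exact ref_fix hF hb h1 h2 h3.2.1 h4.2.1

theorem del_fix_Q (hF : Fintype.card F = 9) {b : F} (hb : b ^ 4 = 1) {x : PSU 4 F 3} (hx : x ∈ QQ hF) :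
    del hF b hb x = x := by
  obtain ⟨g, hg, rfl⟩ := hx
  obtain ⟨h1, h2, h3, h4⟩ := mem_Q0.1 hg
  exact del_fix hF hb h1 h2

/-- **the centralizer of `O₂(C(z))` in `Aut(K)`** -/
theorem cent_Q (hF : Fintype.card F = 9) (α : MulAut (PSU 4 F 3)) (h : ∀ x ∈ QQ hF, α x = x) :
    ∃ (b : F) (hb : b ^ 4 = 1), α = del hF b hb ∨ α = ref hF b hb := by
  obtain ⟨a, ha⟩ := exists_a hF
  have hm : ∀ x ∈ ({pr 4 F 3 (i1 a ha), pr 4 F 3 j1, pr 4 F 3 (i2 a ha), pr 4 F 3 j2} : Set (PSU 4 F 3)),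
      x ∈ QQ hF := by
    intro x hx
    rw [gen hF ha]
    exact Subgroup.subset_closure hx
  have key : ∀ β : MulAut (PSU 4 F 3), sgn hF β = 1 → (∀ x ∈ QQ hF, β x = x) →
      ∃ (b : F) (hb : b ^ 4 = 1), β = del hF b hb := by
    intro β hs hβ
    obtain ⟨M, hM, ε, rfl⟩ := exists_sa hF β
    rw [sgn_sa] at hs
    cases ε
    · have k : ∀ g : SU 4 F 3, (mat g).trace = 2 → pr 4 F 3 g ∈ QQ hF → M * mat g = mat g * M := by
        intro g hg hq
        have := fix_of_trace hF hM false hg (hβ _ hq)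
        rwa [tw_false] at this
      exact cent_lin ha hF hM (k _ (tr_i1 ha) (hm _ (by simp))) (k _ (tr_i2 ha) (hm _ (by simp)))
        (k _ tr_j1 (hm _ (by simp))) (k _ tr_j2 (hm _ (by simp)))
    · exact absurd hs (by decide)
  obtain ⟨M, hM, ε, hα⟩ := exists_sa hF α
  cases ε
  · obtain ⟨b, hb, h1⟩ := key α (by rw [hα, sgn_sa]; rfl) h
    exact ⟨b, hb, Or.inl h1⟩
  · have h1 : (1 : F) ^ 4 = 1 := one_pow 4
    obtain ⟨b, hb, h2⟩ := key (α * ref hF 1 h1) (by
      rw [map_mul, hα, sgn_sa, sgn_ref]; rfl) (by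
      intro x hx
      rw [MulAut.mul_apply, ref_fix_Q hF h1 hx, h x hx])
    refine ⟨b * 1, p4 hb h1, Or.inr ?_⟩
    rw [← del_mul_ref hF hb h1, ← h2, mul_assoc, ref_sq, mul_one]

/-- the swap of the two planes -/
def ss : SU 4 F 3 := mkSU !![0, 0, 1, 0; 0, 0, 0, 1; 1, 0, 0, 0; 0, 1, 0, 0]
  (by simp [det_succ_row_zero, Fin.sum_univ_succ, Fin.succAbove]) (by
    intro u v
    simp only [hermForm_apply, Fin.sum_univ_four]
    simp [mulVec, dotProduct, Fin.sum_univ_four]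
    ring)

theorem m_ss : mat (ss : SU 4 F 3) = !![0, 0, 1, 0; 0, 0, 0, 1; 1, 0, 0, 0; 0, 1, 0, 0] := rfl

/-- `diag(1, a, 1, -a)` -/
def yy (a : F) (ha : a ^ 2 = -1) : SU 4 F 3 := suDiag 3 ![1, a, 1, -a]
  (by simp [Fin.prod_univ_four]; linear_combination -ha) (by
  have h4 : a ^ 4 = 1 := by linear_combination (a ^ 2 - 1) * ha
  intro i; fin_cases i <;> simp [h4, Even.neg_pow (show Even 4 by decide)])

theorem m_yy : mat (yy a ha) = !![1, 0, 0, 0; 0, a, 0, 0; 0, 0, 1, 0; 0, 0, 0, -a] := by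
  ext i j; fin_cases i <;> fin_cases j <;> rfl

theorem a_pow (ha : a ^ 2 = -1) : a ^ 4 = 1 := by linear_combination (a ^ 2 - 1) * ha

theorem a_cube (ha : a ^ 2 = -1) : a ^ 3 = -a := by linear_combination a * ha

theorem neg_pow4 {b : F} (hb : b ^ 4 = 1) : (-b) ^ 4 = 1 := by rw [Even.neg_pow (by decide), hb]

/-- `del b` and `ss` -/
theorem del_ss (hF : Fintype.card F = 9) {b : F} (hb : b ^ 4 = 1)
    (h : del hF b hb (pr 4 F 3 ss) = pr 4 F 3 ss) : b ^ 2 = 1 := by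
  obtain ⟨c, hc4, hc⟩ := (sa_iff hF _ _ _ _).1 h
  rw [tw_false, m_ss] at hc
  have e1 := congrFun (congrFun hc 0) 2
  have e2 := congrFun (congrFun hc 2) 0
  rw [mul_apply, Matrix.smul_apply, mul_apply, Fin.sum_univ_four, Fin.sum_univ_four] at e1 e2
  simp [dd] at e1 e2
  linear_combination b * e2 - e1

theorem m_ssyy : mat (ss * yy a ha) = !![0, 0, 1, 0; 0, 0, 0, -a; 1, 0, 0, 0; 0, a, 0, 0] := by
  rw [mat_mul, m_ss, m_yy]
  ext i j
  rw [mul_apply, Fin.sum_univ_four]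
  fin_cases i <;> fin_cases j <;> simp

theorem del_ssyy (hF : Fintype.card F = 9) {b : F} (hb : b ^ 4 = 1)
    (h : del hF b hb (pr 4 F 3 (ss * yy a ha)) = pr 4 F 3 (ss * yy a ha)) : b ^ 2 = 1 := by
  obtain ⟨c, hc4, hc⟩ := (sa_iff hF _ _ _ _).1 h
  rw [tw_false, m_ssyy] at hc
  have e1 := congrFun (congrFun hc 0) 2
  have e2 := congrFun (congrFun hc 2) 0
  rw [mul_apply, Matrix.smul_apply, mul_apply, Fin.sum_univ_four, Fin.sum_univ_four] at e1 e2
  simp [dd] at e1 e2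
  linear_combination b * e2 - e1

theorem ref_ss (hF : Fintype.card F = 9) {b : F} (hb : b ^ 4 = 1)
    (h : ref hF b hb (pr 4 F 3 ss) = pr 4 F 3 ss) : b ^ 2 = 1 := by
  obtain ⟨c, hc4, hc⟩ := (sa_iff hF _ _ _ _).1 h
  rw [m_ss] at hc
  have e1 := congrFun (congrFun hc 0) 3
  have e2 := congrFun (congrFun hc 2) 1
  rw [mul_apply, Matrix.smul_apply, mul_apply, Fin.sum_univ_four, Fin.sum_univ_four] at e1 e2
  simp [rr, tw] at e1 e2
  linear_combination b * e2 - e1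

theorem ref_yy (hF : Fintype.card F = 9) {b : F} (hb : b ^ 4 = 1)
    (h : ref hF b hb (pr 4 F 3 (yy a ha)) = pr 4 F 3 (yy a ha)) : False := by
  obtain ⟨c, hc4, hc⟩ := (sa_iff hF _ _ _ _).1 h
  rw [m_yy] at hc
  have e1 := congrFun (congrFun hc 0) 1
  have e2 := congrFun (congrFun hc 2) 3
  rw [mul_apply, Matrix.smul_apply, mul_apply, Fin.sum_univ_four, Fin.sum_univ_four] at e1 e2
  simp [rr, tw] at e1 e2
  have h2 : 2 * (b * c) = 0 := by linear_combination -e2 - b * e1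
  exact two_ne (F := F) (by linear_combination b ^ 3 * c ^ 3 * h2 - 2 * c ^ 4 * hb - 2 * hc4)

theorem ref_ssyy (hF : Fintype.card F = 9) {b : F} (hb : b ^ 4 = 1)
    (h : ref hF b hb (pr 4 F 3 (ss * yy a ha)) = pr 4 F 3 (ss * yy a ha)) : b ^ 2 = -1 := by
  obtain ⟨c, hc4, hc⟩ := (sa_iff hF _ _ _ _).1 h
  rw [m_ssyy] at hc
  have e1 := congrFun (congrFun hc 0) 3
  have e2 := congrFun (congrFun hc 2) 1
  rw [mul_apply, Matrix.smul_apply, mul_apply, Fin.sum_univ_four, Fin.sum_univ_four] at e1 e2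
  simp [rr, tw] at e1 e2
  linear_combination a * (-e1 + b * e2) - (a ^ 2 - 1) * (1 + b ^ 2) * ha

theorem sq_one {b : F} (h : b ^ 2 = 1) : b = 1 ∨ b = -1 := by
  have h1 : (b - 1) * (b + 1) = 0 := by linear_combination h
  rcases mul_eq_zero.1 h1 with h2 | h2
  · left; linear_combination h2
  · right; linear_combination h2

theorem sq_neg_one (ha : a ^ 2 = -1) {b : F} (h : b ^ 2 = -1) : b = a ∨ b = -a := by
  have h1 : (b - a) * (b + a) = 0 := by linear_combination h - ha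
  rcases mul_eq_zero.1 h1 with h2 | h2
  · left; linear_combination h2
  · right; linear_combination h2

theorem del_sq (hF : Fintype.card F = 9) {b : F} (hb : b ^ 4 = 1) (h : b ^ 2 = 1) :
    del hF b hb = 1 ∨ del hF b hb = MulAut.conj (pr 4 F 3 d) := by
  rcases sq_one h with rfl | rfl
  · left; exact del_one hF hb
  · right; exact del_neg hF hb

/-- **(K1)** for the 2-group generated by `Q`, `ss`, `yy` -/
theorem kone (hF : Fintype.card F = 9) (α : MulAut (PSU 4 F 3)) (h : ∀ x ∈ QQ hF, α x = x)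
    (h1 : α (pr 4 F 3 ss) = pr 4 F 3 ss) (h2 : α (pr 4 F 3 (yy a ha)) = pr 4 F 3 (yy a ha)) :
    α = 1 ∨ α = MulAut.conj (pr 4 F 3 d) := by
  obtain ⟨b, hb, rfl | rfl⟩ := cent_Q hF α h
  · exact del_sq hF hb (del_ss hF hb h1)
  · exact (ref_yy ha hF hb h2).elim

end cent

/-! ### 2-groups -/

section pg

variable {G : Type*} [Group G] [Finite G]

theorem mem_norm {H : Subgroup G} {x : G} (hn : ∀ h ∈ H, x * h * x⁻¹ ∈ H) :
    x ∈ Subgroup.normalizer (H : Set G) := by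
  rw [Subgroup.mem_normalizer_iff]
  have h1 : H.map (MulAut.conj x).toMonoidHom ≤ H := by
    rintro _ ⟨h, hh, rfl⟩
    exact hn h hh
  have h2 : H.map (MulAut.conj x).toMonoidHom = H :=
    Subgroup.eq_of_le_of_card_ge h1 (Subgroup.card_map_of_injective (MulAut.conj x).injective).ge
  intro h
  constructor
  · exact hn h
  · intro h3
    rw [← h2] at h3
    obtain ⟨k, hk, hk'⟩ := h3
    have h4 : k = h := (MulAut.conj x).injective hk'
    rwa [← h4]

theorem pg_step {H : Subgroup G} (hH : IsPGroup 2 H) {x : G} {n : ℕ} (hx : x ^ 2 ^ n = 1)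
    (hn : ∀ h ∈ H, x * h * x⁻¹ ∈ H) : IsPGroup 2 (Subgroup.zpowers x ⊔ H : Subgroup G) := by
  refine IsPGroup.to_sup_of_normal_right' ?_ hH (by rw [Subgroup.zpowers_le]; exact mem_norm hn)
  obtain ⟨m, -, hm⟩ := (Nat.dvd_prime_pow Nat.prime_two).1 (orderOf_dvd_of_pow_eq_one hx)
  exact IsPGroup.of_card (n := m) (by rw [Nat.card_zpowers, hm])

end pg

theorem isPGroup_QQ (hF : Fintype.card F = 9) : IsPGroup 2 (QQ hF) := (isPGroup_Q0 (h9 hF)).map _

theorem pr_comm_d (hF : Fintype.card F = 9) {g : SU 4 F 3} {c : F}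
    (h : mat g * D4 F = c • (D4 F * mat g)) : pr 4 F 3 g * pr 4 F 3 d = pr 4 F 3 d * pr 4 F 3 g := by
  rw [← map_mul, ← map_mul]
  refine (pr_eq_of_mat (c := c) ?_).symm
  rw [mat_mul, mat_mul, mat_d, h]

theorem ss_d (hF : Fintype.card F = 9) : pr 4 F 3 (ss : SU 4 F 3) * pr 4 F 3 d = pr 4 F 3 d * pr 4 F 3 ss := by
  refine pr_comm_d hF (c := -1) ?_
  rw [m_ss]
  ext i j
  rw [Matrix.smul_apply, mul_apply, mul_apply, Fin.sum_univ_four, Fin.sum_univ_four]
  fin_cases i <;> fin_cases j <;> simp [D4]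

theorem yy_d (hF : Fintype.card F = 9) {a : F} (ha : a ^ 2 = -1) :
    pr 4 F 3 (yy a ha) * pr 4 F 3 d = pr 4 F 3 d * pr 4 F 3 (yy a ha) := by
  refine pr_comm_d hF (c := 1) ?_
  rw [m_yy]
  ext i j
  rw [Matrix.smul_apply, mul_apply, mul_apply, Fin.sum_univ_four, Fin.sum_univ_four]
  fin_cases i <;> fin_cases j <;> simp [D4]

theorem ss_sq : (ss : SU 4 F 3) * ss = 1 := by
  apply mat_injective
  rw [mat_mul, mat_one, m_ss]
  ext i j
  rw [mul_apply, Fin.sum_univ_four]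
  fin_cases i <;> fin_cases j <;> simp

theorem yy_pow {a : F} (ha : a ^ 2 = -1) : (yy a ha) ^ 4 = 1 := by
  apply mat_injective
  rw [mat_pow, mat_one]
  have e : mat (yy a ha) = diagonal ![1, a, 1, -a] := rfl
  rw [e, diagonal_pow]
  have h4 := a_pow ha
  ext i j
  fin_cases i <;> fin_cases j <;> simp [h4, Even.neg_pow (show Even 4 by decide)]

/-- `ss yy ss⁻¹ = yy i₁²`-type relation: `ss yy ss⁻¹ yy⁻¹ ∈ Q` -/
theorem ss_yy (hF : Fintype.card F = 9) {a : F} (ha : a ^ 2 = -1) :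
    ∃ q ∈ QQ hF, pr 4 F 3 ss * pr 4 F 3 (yy a ha) * (pr 4 F 3 ss)⁻¹ = q * pr 4 F 3 (yy a ha) := by
  have e : pr 4 F 3 (i1 a ha) ∈ QQ hF ∧ pr 4 F 3 (i2 a ha) ∈ QQ hF := by
    rw [gen hF ha]
    exact ⟨Subgroup.subset_closure (by simp), Subgroup.subset_closure (by simp)⟩
  refine ⟨_, mul_mem e.1 e.2, ?_⟩
  rw [mul_inv_eq_iff_eq_mul, ← map_mul, ← map_mul, ← map_mul, ← map_mul]
  refine pr_eq_of_mat (c := a) ?_
  rw [mat_mul, mat_mul, mat_mul, mat_mul, m_i1, m_i2, m_yy, m_ss]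
  ext i j
  rw [Matrix.smul_apply, mul_apply, mul_apply, Fin.sum_univ_four, Fin.sum_univ_four]
  fin_cases i <;> fin_cases j <;> simp [mul_apply, Fin.sum_univ_four] <;> linear_combination (1 : F) * ha



/-- a Sylow 2-subgroup of `K` -/
def SK (hF : Fintype.card F = 9) {a : F} (ha : a ^ 2 = -1) : Subgroup (PSU 4 F 3) :=
  Subgroup.zpowers (pr 4 F 3 ss) ⊔ (Subgroup.zpowers (pr 4 F 3 (yy a ha)) ⊔ QQ hF)

theorem isPGroup_SK (hF : Fintype.card F = 9) {a : F} (ha : a ^ 2 = -1) : IsPGroup 2 (SK hF ha) := by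
  have hfin : Finite (PSU 4 F 3) := inferInstance
  have h1 : IsPGroup 2 (Subgroup.zpowers (pr 4 F 3 (yy a ha)) ⊔ QQ hF : Subgroup (PSU 4 F 3)) :=
    pg_step (isPGroup_QQ hF) (n := 2) (by
      show pr 4 F 3 (yy a ha) ^ 4 = 1
      rw [← map_pow, yy_pow, map_one]) (fun h hh => conj hF _ (yy_d hF ha) h hh)
  refine pg_step h1 (n := 1) (by
    show pr 4 F 3 ss ^ 2 = 1
    rw [pow_two, ← map_mul, ss_sq, map_one]) ?_
  intro h hh
  have h2 : (Subgroup.zpowers (pr 4 F 3 (yy a ha)) ⊔ QQ hF).map (MulAut.conj (pr 4 F 3 ss)).toMonoidHom ≤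
      Subgroup.zpowers (pr 4 F 3 (yy a ha)) ⊔ QQ hF := by
    rw [Subgroup.map_sup, MonoidHom.map_zpowers]
    refine sup_le ?_ ?_
    · rw [Subgroup.zpowers_le]
      obtain ⟨q, hq, he⟩ := ss_yy hF ha
      show pr 4 F 3 ss * pr 4 F 3 (yy a ha) * (pr 4 F 3 ss)⁻¹ ∈ _
      rw [he]
      exact mul_mem ((le_sup_right : QQ hF ≤ _) hq)
        ((le_sup_left : Subgroup.zpowers (pr 4 F 3 (yy a ha)) ≤ _) (Subgroup.mem_zpowers _))
    · rintro _ ⟨x, hx, rfl⟩
      exact (le_sup_right : QQ hF ≤ _) (conj hF _ (ss_d hF) x hx)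
  exact h2 ⟨h, hh, rfl⟩

theorem mem_SK (hF : Fintype.card F = 9) {a : F} (ha : a ^ 2 = -1) :
    pr 4 F 3 ss ∈ SK hF ha ∧ pr 4 F 3 (yy a ha) ∈ SK hF ha ∧ ∀ x ∈ QQ hF, x ∈ SK hF ha :=
  ⟨(le_sup_left : Subgroup.zpowers (pr 4 F 3 ss) ≤ _) (Subgroup.mem_zpowers _),
    (le_sup_right : _ ≤ SK hF ha) ((le_sup_left : Subgroup.zpowers (pr 4 F 3 (yy a ha)) ≤ _)
      (Subgroup.mem_zpowers _)),
    fun _ hx => (le_sup_right : _ ≤ SK hF ha) ((le_sup_right : QQ hF ≤ _) hx)⟩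

theorem d_mem (hF : Fintype.card F = 9) : pr 4 F 3 d ∈ QQ hF := by
  obtain ⟨a, ha⟩ := exists_a hF
  have h1 : pr 4 F 3 j2 ∈ QQ hF := by
    rw [gen hF ha]
    exact Subgroup.subset_closure (by simp)
  have h2 := mul_mem h1 h1
  rwa [← map_mul, e_ll] at h2

theorem d_sq : pr 4 F 3 (d : SU 4 F 3) * pr 4 F 3 d = 1 := by
  rw [← map_mul, e_dd, map_one]

theorem d_ne (hF : Fintype.card F = 9) : pr 4 F 3 (d : SU 4 F 3) ≠ 1 := by
  intro h
  rw [← map_one (pr 4 F 3)] at h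
  obtain ⟨c, -, hc⟩ := mat_of_pr_eq hF h.symm
  rw [mat_one, m_d] at hc
  have e1 := congrFun (congrFun hc 0) 0
  have e2 := congrFun (congrFun hc 2) 2
  simp at e1 e2
  rw [← e1] at e2
  exact two_ne (F := F) (by linear_combination -e2)

theorem conj_inj (hF : Fintype.card F = 9) {x y : PSU 4 F 3} (h : MulAut.conj x = MulAut.conj y) : x = y := by
  obtain ⟨g, rfl⟩ := pr_surjective x
  obtain ⟨k, rfl⟩ := pr_surjective y
  rw [conj_eq hF, conj_eq hF] at h
  obtain ⟨-, c, -, hc⟩ := sa_inj hF _ _ h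
  exact pr_eq_of_mat hc

theorem conj_one (hF : Fintype.card F = 9) {x : PSU 4 F 3} (h : ∀ y, x * y = y * x) : x = 1 := by
  apply conj_inj hF
  rw [map_one]
  ext y
  rw [MulAut.conj_apply, h, mul_inv_cancel_right]
  rfl

/-- **(K1)**: the centralizer in `Aut(K)` of a Sylow 2-subgroup of `K` has order two -/
theorem kone_sylow (hF : Fintype.card F = 9) (S : Sylow 2 (PSU 4 F 3)) :
    ∃ z ∈ (S : Subgroup (PSU 4 F 3)), z * z = 1 ∧ z ≠ 1 ∧
      (∀ x ∈ (S : Subgroup (PSU 4 F 3)), x * z = z * x) ∧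
      ∀ α : MulAut (PSU 4 F 3), (∀ x ∈ (S : Subgroup (PSU 4 F 3)), α x = x) →
        α = 1 ∨ α = MulAut.conj z := by
  obtain ⟨a, ha⟩ := exists_a hF
  have hfin : Finite (PSU 4 F 3) := inferInstance
  obtain ⟨S₀, hS₀⟩ := (isPGroup_SK hF ha).exists_le_sylow
  obtain ⟨m1, m2, m3⟩ := mem_SK hF ha
  have key : ∀ α : MulAut (PSU 4 F 3), (∀ x ∈ (S₀ : Subgroup (PSU 4 F 3)), α x = x) →
        α = 1 ∨ α = MulAut.conj (pr 4 F 3 d) := fun α h =>
    kone ha hF α (fun x hx => h x (hS₀ (m3 x hx))) (h _ (hS₀ m1)) (h _ (hS₀ m2))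
  have hfp : Fact (Nat.Prime 2) := ⟨Nat.prime_two⟩
  obtain ⟨g, hg⟩ := MulAction.exists_smul_eq (PSU 4 F 3) S₀ S
  -- `z` is central in `S₀`
  have hz₀ : ∀ x ∈ (S₀ : Subgroup (PSU 4 F 3)), x * pr 4 F 3 d = pr 4 F 3 d * x := by
    have hnt : Nontrivial (S₀ : Subgroup (PSU 4 F 3)) := by
      refine ⟨⟨⟨_, hS₀ (m3 _ (d_mem hF))⟩, 1, fun h => d_ne hF (congrArg Subtype.val h)⟩⟩
    have hc := S₀.isPGroup'.center_nontrivial
    obtain ⟨w, hw⟩ := exists_ne (1 : Subgroup.center (S₀ : Subgroup (PSU 4 F 3)))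
    have hw1 : ((w : (S₀ : Subgroup (PSU 4 F 3))) : PSU 4 F 3) ≠ 1 := fun h =>
      hw (Subtype.ext (Subtype.ext h))
    have hwc : ∀ x ∈ (S₀ : Subgroup (PSU 4 F 3)),
        x * ((w : (S₀ : Subgroup (PSU 4 F 3))) : PSU 4 F 3) = (w : (S₀ : Subgroup (PSU 4 F 3))) * x := by
      intro x hx
      have h1 := Subgroup.mem_center_iff.1 w.2 ⟨x, hx⟩
      exact congrArg Subtype.val h1
    rcases key (MulAut.conj ((w : (S₀ : Subgroup (PSU 4 F 3))) : PSU 4 F 3)) (by
      intro x hx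
      rw [MulAut.conj_apply, ← hwc x hx, mul_inv_cancel_right]) with h1 | h1
    · exact (hw1 (conj_inj hF (h1.trans (map_one _).symm))).elim
    · rw [conj_inj hF h1] at hwc
      exact hwc
  have hmem : ∀ x, x ∈ (S₀ : Subgroup (PSU 4 F 3)) → g * x * g⁻¹ ∈ (S : Subgroup (PSU 4 F 3)) := by
    intro x hx
    rw [← hg]
    exact Subgroup.smul_mem_pointwise_smul x (MulAut.conj g) _ hx
  have hmem' : ∀ x, x ∈ (S : Subgroup (PSU 4 F 3)) → g⁻¹ * x * g ∈ (S₀ : Subgroup (PSU 4 F 3)) := by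
    intro x hx
    rw [← hg] at hx
    obtain ⟨y, hy, rfl⟩ := hx
    have e : g⁻¹ * (g * y * g⁻¹) * g = y := by group
    show g⁻¹ * (g * y * g⁻¹) * g ∈ _
    rw [e]
    exact hy
  refine ⟨g * pr 4 F 3 d * g⁻¹, hmem _ (hS₀ (m3 _ (d_mem hF))), ?_, ?_, ?_, ?_⟩
  · rw [show g * pr 4 F 3 d * g⁻¹ * (g * pr 4 F 3 d * g⁻¹) = g * (pr 4 F 3 d * pr 4 F 3 d) * g⁻¹ by group,
      d_sq, mul_one, mul_inv_cancel]
  · intro h
    apply d_ne hF
    rw [mul_inv_eq_one] at h
    exact mul_eq_left.1 h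
  · intro x hx
    have h1 := hz₀ _ (hmem' x hx)
    calc x * (g * pr 4 F 3 d * g⁻¹) = g * (g⁻¹ * x * g * pr 4 F 3 d) * g⁻¹ := by group
      _ = g * pr 4 F 3 d * g⁻¹ * x := by rw [h1]; group
  · intro α hα
    have h1 : ∀ x ∈ (S₀ : Subgroup (PSU 4 F 3)), ((MulAut.conj g)⁻¹ * α * MulAut.conj g) x = x := by
      intro x hx
      rw [MulAut.mul_apply, MulAut.mul_apply, MulAut.conj_apply, hα _ (hmem x hx), MulAut.conj_inv_apply]
      group
    rcases key _ h1 with h2 | h2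
    · left
      have h3 : α = MulAut.conj g * ((MulAut.conj g)⁻¹ * α * MulAut.conj g) * (MulAut.conj g)⁻¹ := by group
      rw [h3, h2]
      group
    · right
      have h3 : α = MulAut.conj g * ((MulAut.conj g)⁻¹ * α * MulAut.conj g) * (MulAut.conj g)⁻¹ := by group
      rw [h3, h2, map_mul, map_mul, map_inv]

end Cfsg.Agent.OddHalf.D6.QThree.U43AutRef
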