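import Cfsg.Agent.OddHalf.D6.QThree.U43AutGood
import Cfsg.Agent.LieClassical.SympCenter
import Cfsg.Agent.LieClassical.FieldTransfer
import Cfsg.Agent.Lib.FieldThree

/-!
# ODD half, D6, `q = 3`: `U₄(3)`, the centralizer of a reflection is `PSp₄(3)` (helper218)

`ref_iso`: `C_K(ref b) ≃* PSp 2 F'`, `|F'| = 3`.
-/

set_option autoImplicit false
set_option linter.unusedSectionVars false
set_option linter.unusedTactic false
set_option linter.unreachableTactic false

namespace Cfsg.Agent.OddHalf.D6.QThree.U43AutSp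

open Matrix Cfsg.Agent.OddHalf.D6.QThree.U43Aut Cfsg.Agent.OddHalf.D6.QThree.U43AutRef
open Cfsg.Agent.OddHalf.D6.QThree.U43AutGood
open Cfsg Cfsg.Agent.OddHalf.Small.U43Mat Cfsg.Agent.OddHalf.Small.U43Good
open Cfsg.Agent.LieClassical.HermSiegel Cfsg.Agent.LieClassical.SUBasic
open Cfsg.Agent.ClassicalGeometry.UnitAutBasic (pr pr_surjective)
open Cfsg.Agent.ClassicalGeometry.PSUAutCount Cfsg.Agent.ClassicalGeometry.PSUAutMain
open Cfsg.Agent.OddHalf.D6.QThree.U43Elt Cfsg.Agent.OddHalf.D6.QThree.U43Plus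

variable {F : Type*} [Field F] [CharP F 3]

/-- the index change `Fin 2 ⊕ Fin 2 ≃ Fin 4` -/
def ix : Fin 2 ⊕ Fin 2 ≃ Fin 4 where
  toFun := Sum.elim ![1, 3] ![0, 2]
  invFun := ![Sum.inr 0, Sum.inl 0, Sum.inr 1, Sum.inl 1]
  left_inv := by decide
  right_inv := by decide

/-- the prime field in `F` -/
def io (F : Type*) [Field F] [CharP F 3] : ZMod 3 →+* F := ZMod.castHom (dvd_refl 3) F

/-- the matrix over `F` -/
def rx (A : Matrix (Fin 2 ⊕ Fin 2) (Fin 2 ⊕ Fin 2) (ZMod 3)) : M4 F := Matrix.reindex ix ix (A.map (io F))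

theorem rx_mul (A B : Matrix (Fin 2 ⊕ Fin 2) (Fin 2 ⊕ Fin 2) (ZMod 3)) :
    (rx (A * B) : M4 F) = rx A * rx B := by
  unfold rx
  rw [Matrix.map_mul, Matrix.reindex_apply, Matrix.reindex_apply, Matrix.reindex_apply,
    Matrix.submatrix_mul_equiv]

theorem rx_one : (rx 1 : M4 F) = 1 := by
  unfold rx
  rw [Matrix.map_one _ (map_zero _) (map_one _), Matrix.reindex_apply, Matrix.submatrix_one_equiv]

theorem rx_J : (rx (Matrix.J (Fin 2) (ZMod 3)) : M4 F) = rr 1 := by
  ext i j
  show io F (Matrix.J (Fin 2) (ZMod 3) (ix.symm i) (ix.symm j)) = rr 1 i j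
  fin_cases i <;> fin_cases j <;> simp [ix, Matrix.J, rr]

theorem rx_transpose (A : Matrix (Fin 2 ⊕ Fin 2) (Fin 2 ⊕ Fin 2) (ZMod 3)) :
    (rx Aᵀ : M4 F) = (rx A)ᵀ := rfl

theorem cube_io (x : ZMod 3) : (io F x) ^ 3 = io F x := by
  rw [← map_pow]
  congr 1
  revert x
  decide

theorem tw_rx (ε : Bool) (A : Matrix (Fin 2 ⊕ Fin 2) (Fin 2 ⊕ Fin 2) (ZMod 3)) :
    tw ε (rx A : M4 F) = rx A := by
  cases ε
  · exact tw_false _
  · ext i j
    exact cube_io _

theorem st_rx (A : Matrix (Fin 2 ⊕ Fin 2) (Fin 2 ⊕ Fin 2) (ZMod 3)) :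
    st (rx A : M4 F) = (rx A)ᵀ := by
  ext i j
  exact cube_io _

theorem det_rx (A : Matrix (Fin 2 ⊕ Fin 2) (Fin 2 ⊕ Fin 2) (ZMod 3)) :
    (rx A : M4 F).det = io F A.det := by
  unfold rx
  rw [Matrix.det_reindex_self, ← RingHom.mapMatrix_apply, ← RingHom.map_det]

theorem rx_inj {A B : Matrix (Fin 2 ⊕ Fin 2) (Fin 2 ⊕ Fin 2) (ZMod 3)} (h : (rx A : M4 F) = rx B) : A = B := by
  have h1 := (Matrix.reindex ix ix).injective h
  ext i j
  exact (io F).injective (congrFun (congrFun h1 i) j)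

/-- the columns: a basis of the fixed points of `λ J φ`, `λ = 1 + a` -/
def TT (a : F) : M4 F := !![1, a, 0, 0; -1 - a, a - 1, 0, 0; 0, 0, 1, a; 0, 0, -1 - a, a - 1]

/-- the inverse of `TT` -/
def TI (a : F) : M4 F := !![-1, a - 1, 0, 0; a, -a - 1, 0, 0; 0, 0, -1, a - 1; 0, 0, a, -a - 1]

section T

variable {a : F} (ha : a ^ 2 = -1)

include ha

theorem TT_TI : TT a * TI a = 1 := by
  have h3 : (3 : F) = 0 := three
  ext i j
  rw [mul_apply, Fin.sum_univ_four]
  fin_cases i <;> fin_cases j <;> simp [TT, TI]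
  · linear_combination ((1)) * ha + ((-1)) * h3
  · linear_combination ((-1)) * ha + (0) * h3
  · linear_combination ((1)) * ha + (0) * h3
  · linear_combination ((-2)) * ha + ((1)) * h3
  · linear_combination ((1)) * ha + ((-1)) * h3
  · linear_combination ((-1)) * ha + (0) * h3
  · linear_combination ((1)) * ha + (0) * h3
  · linear_combination ((-2)) * ha + ((1)) * h3

theorem st_TT : st (TT a) * TT a = (-a) • rr 1 := by
  have h3 : (3 : F) = 0 := three
  ext i j
  rw [mul_apply, Fin.sum_univ_four, st_apply, st_apply, st_apply, st_apply, Matrix.smul_apply]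
  fin_cases i <;> fin_cases j <;> simp [TT, rr]
  · linear_combination ((5) + (4) * a + (1) * a ^ 2) * ha + ((-1)) * h3
  · linear_combination ((1) + (-2) * a + (-1) * a ^ 2) * ha + ((2) * a) * h3
  · linear_combination ((1) + (3) * a + (-1) * a ^ 2) * ha + ((-2) * a) * h3
  · linear_combination ((4) + (-4) * a + (2) * a ^ 2) * ha + ((-1)) * h3
  · linear_combination ((5) + (4) * a + (1) * a ^ 2) * ha + ((-1)) * h3
  · linear_combination ((1) + (-2) * a + (-1) * a ^ 2) * ha + ((2) * a) * h3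
  · linear_combination ((1) + (3) * a + (-1) * a ^ 2) * ha + ((-2) * a) * h3
  · linear_combination ((4) + (-4) * a + (2) * a ^ 2) * ha + ((-1)) * h3

theorem J_TT : rr 1 * tw true (TT a) = (a - 1) • TT a := by
  have h3 : (3 : F) = 0 := three
  ext i j
  rw [mul_apply, Fin.sum_univ_four, Matrix.smul_apply]
  fin_cases i <;> fin_cases j <;> simp [TT, rr, tw]
  · linear_combination ((-3) + (-1) * a) * ha + ((1) + (-1) * a) * h3
  · linear_combination ((-4) + (1) * a) * ha + ((1) + (1) * a) * h3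
  · linear_combination ((1)) * ha + ((-1)) * h3
  · linear_combination ((-1) + (-1) * a) * ha + ((1) * a) * h3
  · linear_combination ((-3) + (-1) * a) * ha + ((1) + (-1) * a) * h3
  · linear_combination ((-4) + (1) * a) * ha + ((1) + (1) * a) * h3
  · linear_combination ((1)) * ha + ((-1)) * h3
  · linear_combination ((-1) + (-1) * a) * ha + ((1) * a) * h3

theorem TI_TT : TI a * TT a = 1 := mul_eq_one_comm.1 (TT_TI ha)

/-- unitary: the matrices `T A T⁻¹` -/
theorem un_rx {A : Matrix (Fin 2 ⊕ Fin 2) (Fin 2 ⊕ Fin 2) (ZMod 3)} (hA : A ∈ symplecticGroup (Fin 2) (ZMod 3)) :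
    st (TT a * rx A * TI a) * (TT a * rx A * TI a) = 1 := by
  have h1 : (rx A : M4 F)ᵀ * rr 1 * rx A = rr 1 := by
    have h2 := SymplecticGroup.mem_iff.1 (SymplecticGroup.transpose_mem hA)
    rw [transpose_transpose] at h2
    have h3 := congrArg (rx (F := F)) h2
    rw [rx_mul, rx_mul, rx_J, rx_transpose] at h3
    exact h3
  rw [st_mul, st_mul, st_rx]
  calc st (TI a) * ((rx A : M4 F)ᵀ * st (TT a)) * (TT a * rx A * TI a) =
      st (TI a) * ((rx A : M4 F)ᵀ * (st (TT a) * TT a) * rx A) * TI a := by simp only [mul_assoc]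
    _ = st (TI a) * ((-a) • rr 1) * TI a := by
        rw [st_TT ha, Matrix.mul_smul, Matrix.smul_mul, h1]
    _ = st (TI a) * (st (TT a) * TT a) * TI a := by rw [st_TT ha]
    _ = st (TT a * TI a) * (TT a * TI a) := by rw [st_mul]; simp only [mul_assoc]
    _ = 1 := by rw [TT_TI ha, st_one, one_mul]

theorem det_T {A : Matrix (Fin 2 ⊕ Fin 2) (Fin 2 ⊕ Fin 2) (ZMod 3)} (hA : A ∈ symplecticGroup (Fin 2) (ZMod 3)) :
    (TT a * rx A * TI a).det = 1 := by
  have h1 : (TT a).det * (TI a).det = 1 := by rw [← det_mul, TT_TI ha, det_one]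
  rw [det_mul, det_mul, det_rx, SymplecticGroup.det_eq_one hA, map_one, mul_one, h1]

/-- `Sp₄(3) → SU₄(3)` -/
def sp : symplecticGroup (Fin 2) (ZMod 3) →* SU 4 F 3 where
  toFun A := mkSU (TT a * rx A.1 * TI a) (det_T ha A.2) (herm_of_st (un_rx ha A.2))
  map_one' := by
    apply mat_injective
    rw [mat_mkSU, mat_one]
    show TT a * rx 1 * TI a = 1
    rw [rx_one, mul_one, TT_TI ha]
  map_mul' A B := by
    apply mat_injective
    rw [mat_mkSU, mat_mul, mat_mkSU, mat_mkSU]
    show TT a * rx (A.1 * B.1) * TI a = _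
    rw [rx_mul]
    calc TT a * (rx A.1 * rx B.1) * TI a = TT a * rx A.1 * (TI a * TT a) * rx B.1 * TI a := by
          rw [TI_TT ha, mul_one]; simp only [mul_assoc]
      _ = _ := by simp only [mul_assoc]

theorem mat_sp (A : symplecticGroup (Fin 2) (ZMod 3)) : mat (sp ha A : SU 4 F 3) = TT a * rx A.1 * TI a := rfl

/-- the elements of `Sp₄(3)` commute with `J φ` -/
theorem sp_comm (A : symplecticGroup (Fin 2) (ZMod 3)) :
    rr 1 * tw true (mat (sp ha A : SU 4 F 3)) = mat (sp ha A : SU 4 F 3) * rr 1 := by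
  have h1 := J_TT ha
  have h2 : tw true (TT a) * tw true (TI a) = 1 := by rw [← tw_mul, TT_TI ha, tw_one]
  -- `J tw(T) = c T`, so `tw(T)⁻¹ = c⁻¹ ...`
  have h3 : TI a * rr 1 = (a - 1) • tw true (TI a) := by
    calc TI a * rr 1 = TI a * (rr 1 * (tw true (TT a) * tw true (TI a))) := by rw [h2, mul_one]
      _ = TI a * (rr 1 * tw true (TT a)) * tw true (TI a) := by simp only [mul_assoc]
      _ = (a - 1) • tw true (TI a) := by
          rw [h1, Matrix.mul_smul, TI_TT ha, Matrix.smul_mul, one_mul]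
  rw [mat_sp, tw_mul, tw_mul, tw_rx]
  calc rr 1 * (tw true (TT a) * rx A.1 * tw true (TI a)) = (rr 1 * tw true (TT a)) * rx A.1 * tw true (TI a) := by
        simp only [mul_assoc]
    _ = TT a * rx A.1 * ((a - 1) • tw true (TI a)) := by
        rw [h1, Matrix.smul_mul, Matrix.smul_mul, Matrix.mul_smul]
    _ = TT a * rx A.1 * TI a * rr 1 := by rw [← h3]; simp only [mul_assoc]

omit ha in
/-- the Pfaffian of `g J gᵀ` -/
theorem pf_id (g m : M4 F) (hm : m = g * rr 1 * gᵀ) :
    m 0 1 * m 2 3 - m 0 2 * m 1 3 + m 0 3 * m 1 2 = g.det := by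
  have e : ∀ i j, m i j = g i 0 * g j 1 - g i 1 * g j 0 + (g i 2 * g j 3 - g i 3 * g j 2) := by
    intro i j
    rw [hm, mul_apply, Fin.sum_univ_four]
    simp only [mul_apply, Fin.sum_univ_four, transpose_apply]
    simp [rr]
    ring
  rw [e, e, e, e, e, e]
  simp [det_succ_row_zero, Fin.sum_univ_succ, Fin.succAbove]
  ring

omit ha in
theorem rr_sq : (rr 1 : M4 F) * rr 1 = -1 := by
  ext i j
  rw [mul_apply, Fin.sum_univ_four]
  fin_cases i <;> fin_cases j <;> simp [rr]

omit ha in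
theorem c_sq {g : M4 F} (hg : st g * g = 1) (hd : g.det = 1) {c : F} (hc : c ^ 4 = 1)
    (h : rr 1 * tw true g = c • (g * rr 1)) : c ^ 2 = 1 := by
  have h1 : tw true g * gᵀ = 1 := by
    have h2 : (tw true g)ᵀ * g = 1 := hg
    have h3 := congrArg transpose (mul_eq_one_comm.1 h2)
    rwa [transpose_mul, transpose_transpose, transpose_one] at h3
  have h2 : (rr 1 : M4 F) = c • (g * rr 1 * gᵀ) := by
    calc (rr 1 : M4 F) = rr 1 * (tw true g * gᵀ) := by rw [h1, mul_one]
      _ = (rr 1 * tw true g) * gᵀ := by rw [mul_assoc]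
      _ = c • (g * rr 1 * gᵀ) := by rw [h, Matrix.smul_mul]
  have h3 : c ^ 3 • (rr 1 : M4 F) = g * rr 1 * gᵀ := by
    conv_lhs => rw [h2]
    rw [smul_smul, ← pow_succ, hc, one_smul]
  have h4 := pf_id g _ h3
  rw [hd] at h4
  simp [rr] at h4
  linear_combination h4 - c ^ 2 * hc

omit ha in
theorem exists_io {x : F} (hx : x ^ 3 = x) : ∃ y : ZMod 3, io F y = x := by
  have h1 : x * ((x - 1) * (x + 1)) = 0 := by linear_combination hx
  rcases mul_eq_zero.1 h1 with h | h
  · exact ⟨0, by rw [map_zero, h]⟩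
  rcases mul_eq_zero.1 h with h | h
  · exact ⟨1, by rw [map_one]; linear_combination -h⟩
  · exact ⟨-1, by rw [map_neg, map_one]; linear_combination -h⟩

/-- the fixed points of `J φ` in `SU₄(3)` -/
theorem exists_sp {g : SU 4 F 3} (h : rr 1 * tw true (mat g) = mat g * rr 1) : ∃ A, sp ha A = g := by
  have h1 := J_TT ha
  have hg := st_mat g
  have hmu : (a - 1) ≠ 0 := by
    intro h0
    exact two_ne (F := F) (by linear_combination ha - (a + 1) * h0)
  have ha0 : -a ≠ 0 := by
    intro h0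
    exact one_ne_zero (α := F) (by linear_combination ha + a * h0)
  have h2 : tw true (TT a) * tw true (TI a) = 1 := by rw [← tw_mul, TT_TI ha, tw_one]
  have h3 : TI a * rr 1 = (a - 1) • tw true (TI a) := by
    calc TI a * rr 1 = TI a * (rr 1 * (tw true (TT a) * tw true (TI a))) := by rw [h2, mul_one]
      _ = TI a * (rr 1 * tw true (TT a)) * tw true (TI a) := by simp only [mul_assoc]
      _ = (a - 1) • tw true (TI a) := by
          rw [h1, Matrix.mul_smul, TI_TT ha, Matrix.smul_mul, one_mul]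
  obtain ⟨B, hB⟩ : ∃ B : M4 F, B = TI a * mat g * TT a := ⟨_, rfl⟩
  have hgB : mat g * TT a = TT a * B := by
    calc mat g * TT a = (TT a * TI a) * mat g * TT a := by rw [TT_TI ha, one_mul]
      _ = TT a * B := by rw [hB]; simp only [mul_assoc]
  have htw : tw true B = B := by
    have h4 : (a - 1) • tw true B = (a - 1) • B := by
      calc (a - 1) • tw true B = ((a - 1) • tw true (TI a)) * tw true (mat g) * tw true (TT a) := by
            rw [hB, tw_mul, tw_mul, Matrix.smul_mul, Matrix.smul_mul]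
        _ = TI a * (rr 1 * tw true (mat g)) * tw true (TT a) := by rw [← h3]; simp only [mul_assoc]
        _ = TI a * mat g * (rr 1 * tw true (TT a)) := by rw [h]; simp only [mul_assoc]
        _ = (a - 1) • B := by rw [h1, Matrix.mul_smul, hB]
    exact smul_right_injective _ hmu h4
  have hent : ∀ i j, ∃ y : ZMod 3, io F y = B i j := fun i j => exists_io (congrFun (congrFun htw i) j)
  choose y hy using hent
  obtain ⟨A, hA⟩ : ∃ A : Matrix (Fin 2 ⊕ Fin 2) (Fin 2 ⊕ Fin 2) (ZMod 3), rx A = B := by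
    refine ⟨fun i j => y (ix i) (ix j), ?_⟩
    ext i j
    show io F (y (ix (ix.symm i)) (ix (ix.symm j))) = B i j
    rw [Equiv.apply_symm_apply, Equiv.apply_symm_apply, hy]
  have hBJ : Bᵀ * rr 1 * B = rr 1 := by
    have h5 : st B * ((-a) • rr 1) * B = (-a) • rr 1 := by
      calc st B * ((-a) • rr 1) * B = st B * (st (TT a) * TT a) * B := by rw [st_TT ha]
        _ = st (TT a * B) * (TT a * B) := by rw [st_mul]; simp only [mul_assoc]
        _ = st (mat g * TT a) * (mat g * TT a) := by rw [hgB]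
        _ = st (TT a) * (st (mat g) * mat g) * TT a := by rw [st_mul]; simp only [mul_assoc]
        _ = (-a) • rr 1 := by rw [hg, mul_one, st_TT ha]
    have h6 : st B = Bᵀ := congrArg transpose htw
    rw [h6, Matrix.mul_smul, Matrix.smul_mul] at h5
    exact smul_right_injective _ ha0 h5
  have hAs : A ∈ symplecticGroup (Fin 2) (ZMod 3) := by
    rw [← transpose_transpose A]
    apply SymplecticGroup.transpose_mem
    rw [SymplecticGroup.mem_iff, transpose_transpose]
    apply rx_inj (F := F)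
    rw [rx_mul, rx_mul, rx_J, rx_transpose, hA, hBJ]
  refine ⟨⟨A, hAs⟩, ?_⟩
  apply mat_injective
  rw [mat_sp]
  show TT a * rx A * TI a = mat g
  rw [hA, ← hgB, mul_assoc, TT_TI ha, mul_one]

variable [Fintype F]

/-- `Sp₄(3) → U₄(3)` -/
def spK : symplecticGroup (Fin 2) (ZMod 3) →* PSU 4 F 3 := (pr 4 F 3).comp (sp ha)

theorem spK_range (hF : Fintype.card F = 9) (h1 : (1 : F) ^ 4 = 1) :
    (spK ha).range = fixS (ref hF 1 h1) := by
  apply le_antisymm
  · rintro _ ⟨A, rfl⟩
    exact sa_of hF _ _ (sp_comm ha A)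
  · intro x hx
    obtain ⟨g, rfl⟩ := pr_surjective x
    obtain ⟨c, hc, h⟩ := (sa_iff hF _ _ _ _).1 (mem_fixS.1 hx)
    rcases sq_one (c_sq (st_mat g) (det_mat g) hc h) with rfl | rfl
    · rw [one_smul] at h
      obtain ⟨A, hA⟩ := exists_sp ha h
      exact ⟨A, congrArg _ hA⟩
    · have ha4 := a_pow ha
      have hm : mat (suScalar 3 a ha4 ha4 * g) = a • mat g := by
        rw [mat_mul, mat_def, coe_suScalar]
        ext i j
        rw [diagonal_mul, Matrix.smul_apply, smul_eq_mul]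
      obtain ⟨A, hA⟩ := exists_sp ha (g := suScalar 3 a ha4 ha4 * g) (by
        rw [hm, tw_smul, Matrix.mul_smul, h, smul_smul, Matrix.smul_mul]
        congr 1
        simp only [cond_true]
        linear_combination -a * ha)
      refine ⟨A, ?_⟩
      show pr 4 F 3 (sp ha A) = pr 4 F 3 g
      rw [hA]
      exact (pr_eq_of_mat hm).symm

theorem spK_ker (hF : Fintype.card F = 9) :
    (spK ha).ker = Subgroup.center (symplecticGroup (Fin 2) (ZMod 3)) := by
  ext A
  rw [MonoidHom.mem_ker, LieClassical.SympCenter.mem_center_iff]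
  show pr 4 F 3 (sp ha A) = 1 ↔ _
  have key : ∀ c : F, mat (sp ha A : SU 4 F 3) = c • 1 ↔ (rx A.1 : M4 F) = c • 1 := by
    intro c
    rw [mat_sp]
    constructor
    · intro h
      calc (rx A.1 : M4 F) = TI a * (TT a * rx A.1 * TI a) * TT a := by
            rw [← mul_assoc, ← mul_assoc, TI_TT ha, one_mul, mul_assoc, TI_TT ha, mul_one]
        _ = c • 1 := by rw [h, Matrix.mul_smul, Matrix.smul_mul, mul_one, TI_TT ha]
    · intro h
      rw [h, Matrix.mul_smul, Matrix.smul_mul, mul_one, TT_TI ha]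
  have hs : ∀ x : ZMod 3, (rx (x • 1) : M4 F) = io F x • 1 := by
    intro x
    ext i j
    show io F ((x • (1 : Matrix (Fin 2 ⊕ Fin 2) (Fin 2 ⊕ Fin 2) (ZMod 3))) (ix.symm i) (ix.symm j)) = _
    rw [Matrix.smul_apply, Matrix.smul_apply, smul_eq_mul, smul_eq_mul, map_mul, one_apply, one_apply]
    by_cases hij : i = j
    · rw [if_pos hij, if_pos (by rw [hij]), map_one]
    · rw [if_neg hij, if_neg (fun h => hij (ix.symm.injective h)), map_zero]
  constructor
  · intro h
    rw [← map_one (pr 4 F 3)] at h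
    obtain ⟨c, -, hc⟩ := mat_of_pr_eq hF h.symm
    rw [mat_one, key] at hc
    have h1 : io F (A.1 (Sum.inr 0) (Sum.inr 0)) = c := by
      have := congrFun (congrFun hc 0) 0
      rw [Matrix.smul_apply, one_apply_eq, smul_eq_mul, mul_one] at this
      exact this
    refine ⟨A.1 (Sum.inr 0) (Sum.inr 0), ?_⟩
    apply rx_inj (F := F)
    rw [hc, hs, h1]
  · rintro ⟨x, hx⟩
    rw [← map_one (pr 4 F 3)]
    refine (pr_eq_of_mat (c := io F x) ?_).symm
    rw [mat_one, key, hx, hs]

omit ha in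
/-- `C_K(ref 1) = PSp₄(3)` -/
theorem iso_one (hF : Fintype.card F = 9) (h1 : (1 : F) ^ 4 = 1) :
    Nonempty (fixS (ref hF 1 h1) ≃* PSp 2 (ZMod 3)) := by
  obtain ⟨a, ha⟩ := exists_a hF
  have e1 := QuotientGroup.quotientKerEquivRange (spK ha)
  have e2 : PSp 2 (ZMod 3) ≃* symplecticGroup (Fin 2) (ZMod 3) ⧸ (spK ha).ker :=
    QuotientGroup.quotientMulEquivOfEq (spK_ker ha hF).symm
  have e3 := MulEquiv.subgroupCongr (spK_range ha hF h1)
  exact ⟨((e2.trans e1).trans e3).symm⟩

end T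


/-- conjugate automorphisms have isomorphic fixed points -/
def fixS_conj {K : Type*} [Group K] (α η : MulAut K) : fixS α ≃* fixS (η * α * η⁻¹) where
  toFun x := ⟨η x, by
    show (η * α * η⁻¹) (η x) = η x
    rw [MulAut.mul_apply, MulAut.mul_apply, MulAut.inv_apply_self]
    exact congrArg η x.2⟩
  invFun y := ⟨η⁻¹ y, by
    have h : (η * α * η⁻¹) (y : K) = y := y.2
    rw [MulAut.mul_apply, MulAut.mul_apply] at h
    show α (η⁻¹ y) = η⁻¹ y
    apply η.injective
    rw [h, MulAut.apply_inv_self]⟩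
  left_inv x := Subtype.ext (MulAut.inv_apply_self K η x)
  right_inv y := Subtype.ext (MulAut.apply_inv_self K η y)
  map_mul' x y := Subtype.ext (map_mul η _ _)

section fin

variable [Fintype F]

theorem un_aqb {b : F} (hb : b ^ 4 = 1) : st (aq b) * aq b = 1 := un_diag (by
  intro i; fin_cases i <;> simp [hb])

/-- `ref b` is conjugate to `ref 1` by `diag(1, 1, 1, b)` -/
theorem ref_conj (hF : Fintype.card F = 9) {b : F} (hb : b ^ 4 = 1) (h1 : (1 : F) ^ 4 = 1) :
    sa hF (aq b) (un_aqb hb) false * ref hF 1 h1 * (sa hF (aq b) (un_aqb hb) false)⁻¹ = ref hF b hb := by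
  rw [mul_inv_eq_iff_eq_mul]
  unfold ref
  rw [sa_mul, sa_mul]
  refine (sa_congr hF _ _ _ ?_)
  have hb' : b * b ^ 3 = 1 := by linear_combination hb
  ext i j
  rw [mul_apply, mul_apply, Fin.sum_univ_four, Fin.sum_univ_four]
  fin_cases i <;> fin_cases j <;> simp [rr, tw, aq, hb']

/-- **`C_K(ref b) = PSp₄(3)`** -/
theorem ref_iso (hF : Fintype.card F = 9) {b : F} (hb : b ^ 4 = 1) {F' : Type*} [Field F'] [Fintype F']
    (hF' : Fintype.card F' = 3) : Nonempty (fixS (ref hF b hb) ≃* PSp 2 F') := by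
  have h1 : (1 : F) ^ 4 = 1 := one_pow 4
  obtain ⟨e⟩ := iso_one hF h1
  have e0 := fixS_conj (ref hF 1 h1) (sa hF (aq b) (un_aqb hb) false)
  have e1 : fixS (sa hF (aq b) (un_aqb hb) false * ref hF 1 h1 * (sa hF (aq b) (un_aqb hb) false)⁻¹) ≃*
      fixS (ref hF b hb) := MulEquiv.subgroupCongr (by rw [ref_conj hF hb h1])
  have e2 := Cfsg.Agent.LieClassical.FieldTransfer.pspCongr 2 (Cfsg.Agent.Lib.FieldThree.equivOfCard hF')
  have e3 := Cfsg.Agent.LieClassical.FieldTransfer.pspCongr 2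
    (Cfsg.Agent.Lib.FieldThree.equivOfCard (F := ZMod 3) (ZMod.card 3))
  exact ⟨((e0.trans e1).symm.trans e).trans (e3.trans e2.symm)⟩

end fin

end Cfsg.Agent.OddHalf.D6.QThree.U43AutSp
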